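import Groth.Agent.Lib.CI2.Smooth
import Mathlib

/-!
Syntomic ring maps: invariance, localisation on source and target, and the resulting
`HasRingHomProperty` description of syntomic morphisms of schemes.
-/

set_option autoImplicit false
set_option linter.style.haveILetI false
universe u

open TensorProduct

namespace Groth.Agent.CI2

section Field

variable {k k' : Type u} [Field k] [Field k'] {S T : Type u} [CommRing S] [Algebra k S] [CommRing T] [Algebra k' T]

theorem isGlobalCI_congr_semilinear (σ : k ≃+* k') (e : S ≃+* T)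
    (he : ∀ a, e (algebraMap k S a) = algebraMap k' T (σ a)) (h : Synt.IsGlobalCI k S) :
    Synt.IsGlobalCI k' T := by
  rcases h with h | ⟨n, c, hcn, φ, r, hφ, hker, hdim⟩
  · exact Or.inl e.symm.toEquiv.subsingleton
  let m : MvPolynomial (Fin n) k ≃+* MvPolynomial (Fin n) k' := MvPolynomial.mapEquiv (Fin n) σ
  let φ' : MvPolynomial (Fin n) k' →ₐ[k'] T :=
    { toRingHom := (e.toRingHom.comp φ.toRingHom).comp m.symm.toRingHom
      commutes' := fun b => by
        show e (φ (MvPolynomial.map σ.symm.toRingHom (MvPolynomial.C b))) = algebraMap k' T b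
        rw [MvPolynomial.map_C]
        exact (congrArg e (φ.commutes (σ.symm b))).trans ((he _).trans (by rw [RingEquiv.apply_symm_apply])) }
  refine Or.inr ⟨n, c, hcn, φ', fun i => m (r i), e.surjective.comp (hφ.comp m.symm.surjective), ?_, ?_⟩
  · rw [show (fun i => m (r i)) = m ∘ r from rfl, Set.range_comp, ← Ideal.map_span, ← hker]
    ext x
    rw [show (Ideal.map m (RingHom.ker φ.toRingHom)) = (RingHom.ker φ.toRingHom).comap m.symm.toRingHom from
      Ideal.map_comap_of_equiv m]
    exact map_eq_zero_iff e e.injective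
  · rw [← ringKrullDim_eq_of_ringEquiv e, hdim]

theorem isLCIOver_congr_semilinear (σ : k ≃+* k') (e : S ≃+* T)
    (he : ∀ a, e (algebraMap k S a) = algebraMap k' T (σ a)) (h : Synt.IsLCIOver k S) :
    Synt.IsLCIOver k' T := by
  refine ⟨?_, fun p => ?_⟩
  · have h1 : (algebraMap k' T).comp σ.toRingHom = e.toRingHom.comp (algebraMap k S) :=
      RingHom.ext fun a => (he a).symm
    have h2 : ((algebraMap k' T).comp σ.toRingHom).FiniteType := by
      rw [h1]
      exact (RingHom.FiniteType.of_surjective e.toRingHom e.surjective).comp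
        ((RingHom.finiteType_algebraMap).mpr h.1)
    exact RingHom.finiteType_algebraMap.mp (RingHom.FiniteType.of_comp_finiteType h2)
  let q : Ideal S := p.asIdeal.comap e.toRingHom
  haveI : q.IsPrime := Ideal.IsPrime.comap _
  obtain ⟨g, hg, hci⟩ := h.2 ⟨q, inferInstance⟩
  refine ⟨e g, hg, ?_⟩
  let eg : Localization.Away g ≃+* Localization.Away (e g) :=
    IsLocalization.ringEquivOfRingEquiv (M := Submonoid.powers g) (T := Submonoid.powers (e g))
      (Localization.Away g) (Localization.Away (e g)) e (by simp [Submonoid.map_powers])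
  refine isGlobalCI_congr_semilinear σ eg (fun a => ?_) hci
  rw [IsScalarTower.algebraMap_apply k S (Localization.Away g), IsScalarTower.algebraMap_apply k' T (Localization.Away (e g)),
    ← he]
  exact IsLocalization.ringEquivOfRingEquiv_eq _ _

theorem isLCIOver_congr {S' : Type u} [CommRing S'] [Algebra k S'] (e : S ≃ₐ[k] S') (h : Synt.IsLCIOver k S) :
    Synt.IsLCIOver k S' :=
  isLCIOver_congr_semilinear (RingEquiv.refl k) e.toRingEquiv (fun a => e.commutes a) h

theorem isLCIOver_away (h : Synt.IsLCIOver k S) (g : S) : Synt.IsLCIOver k (Localization.Away g) := by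
  haveI := h.1
  refine ⟨?_, fun P => ?_⟩
  · haveI : Algebra.FiniteType S (Localization.Away g) := IsLocalization.finiteType_of_monoid_fg (Submonoid.powers g) _
    exact Algebra.FiniteType.trans (R := k) (S := S) inferInstance inferInstance
  let p := P.asIdeal.comap (algebraMap S (Localization.Away g))
  haveI : p.IsPrime := Ideal.IsPrime.comap _
  obtain ⟨f, hf, hci⟩ := h.2 ⟨p, inferInstance⟩
  refine ⟨algebraMap S _ f, hf, ?_⟩
  let T1 := Localization.Away (algebraMap S (Localization.Away g) f)
  let T2 := Localization.Away (algebraMap S (Localization.Away f) g)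
  haveI : IsLocalization.Away (g * f) T1 := IsLocalization.Away.mul' (Localization.Away g) T1 g f
  haveI : IsLocalization.Away (g * f) T2 := IsLocalization.Away.mul (Localization.Away f) T2 f g
  have e : T2 ≃ₐ[S] T1 := IsLocalization.algEquiv (Submonoid.powers (g * f)) T2 T1
  exact isGlobalCI_congr (e.restrictScalars k) (isGlobalCI_away hci _)

/-- Being a local complete intersection is local on the spectrum. -/
theorem isLCIOver_of_cover [Algebra.FiniteType k S]
    (h : ∀ p : PrimeSpectrum S, ∃ g : S, g ∉ p.asIdeal ∧ Synt.IsLCIOver k (Localization.Away g)) :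
    Synt.IsLCIOver k S := by
  refine ⟨inferInstance, fun p => ?_⟩
  obtain ⟨g, hg, hl⟩ := h p
  let Sg := Localization.Away g
  have hd : Disjoint (Submonoid.powers g : Set S) (p.asIdeal : Set S) := Set.disjoint_left.2 fun x ⟨i, hi⟩ hx =>
    hg (p.2.mem_of_pow_mem i (show g ^ i ∈ p.asIdeal by rw [show g ^ i = x from hi]; exact hx))
  let P := p.asIdeal.map (algebraMap S Sg)
  haveI : P.IsPrime := IsLocalization.isPrime_of_isPrime_disjoint (Submonoid.powers g) Sg p.asIdeal p.2 hd
  obtain ⟨x, hx, hci⟩ := hl.2 ⟨P, inferInstance⟩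
  obtain ⟨⟨a, s⟩, hs⟩ := IsLocalization.surj (Submonoid.powers g) x
  have hu : IsUnit (algebraMap S Sg s) := IsLocalization.map_units Sg s
  have ha : a ∉ p.asIdeal := fun h' => hx (by
    have hm : algebraMap S Sg a ∈ P := Ideal.mem_map_of_mem _ h'
    rw [← show x * algebraMap S Sg s = algebraMap S Sg a from hs] at hm
    exact ((Ideal.IsPrime.mem_or_mem ‹P.IsPrime› hm).resolve_right fun h'' =>
      Ideal.IsPrime.ne_top ‹P.IsPrime› (Ideal.eq_top_of_isUnit_mem P h'' hu)))
  refine ⟨g * a, fun h' => (p.2.mem_or_mem h').elim hg ha, ?_⟩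
  let T1 := Localization.Away x
  haveI : IsLocalization.Away (algebraMap S Sg a) T1 :=
    IsLocalization.Away.of_associated (r := x) (by
      exact ⟨hu.unit, by rw [IsUnit.unit_spec]; exact hs⟩)
  haveI : IsLocalization.Away (g * a) T1 := IsLocalization.Away.mul' Sg T1 g a
  exact isGlobalCI_congr ((IsLocalization.algEquiv (Submonoid.powers (g * a)) T1 _).restrictScalars k) hci

end Field

section Relative

variable {R : Type u} [CommRing R] {S : Type u} [CommRing S] [Algebra R S]

theorem isSyntomic_congr {T : Type u} [CommRing T] [Algebra R T] (e : S ≃ₐ[R] T) (h : Synt.IsSyntomic R S) :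
    Synt.IsSyntomic R T :=
  ⟨haveI := h.1; Module.Flat.of_linearEquiv e.symm.toLinearEquiv,
    haveI := h.2.1; Algebra.FinitePresentation.equiv e,
    fun p => isLCIOver_congr (Algebra.TensorProduct.congr AlgEquiv.refl e) (h.2.2 p)⟩

theorem isSyntomic_away (h : Synt.IsSyntomic R S) (g : S) (T : Type u) [CommRing T] [Algebra R T] [Algebra S T]
    [IsScalarTower R S T] [IsLocalization.Away g T] : Synt.IsSyntomic R T := by
  haveI := h.1
  haveI := h.2.1
  haveI : Module.Flat S T := IsLocalization.flat T (Submonoid.powers g)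
  haveI : Algebra.FinitePresentation S T := IsLocalization.Away.finitePresentation g
  refine ⟨Module.Flat.trans R S T, Algebra.FinitePresentation.trans R S T, fun p => ?_⟩
  exact isLCIOver_congr (IsLocalization.Away.tensorProductEquivTMulRight R p.asIdeal.ResidueField g T).symm
    (isLCIOver_away (h.2.2 p) _)

/-- Being syntomic is local on the source. -/
theorem isSyntomic_of_span (s : Set S) (hs : Ideal.span s = ⊤)
    (h : ∀ g ∈ s, Synt.IsSyntomic R (Localization.Away g)) : Synt.IsSyntomic R S := by
  haveI hfp : Algebra.FinitePresentation R S := Algebra.FinitePresentation.of_span_eq_top_target s hs fun g hg => (h g hg).2.1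
  refine ⟨?_, hfp, fun p => ?_⟩
  · refine RingHom.flat_algebraMap_iff.mp (RingHom.Flat.ofLocalizationSpanTarget _ s hs fun g => ?_)
    rw [← IsScalarTower.algebraMap_eq]
    exact RingHom.flat_algebraMap_iff.mpr (h g.1 g.2).1
  refine isLCIOver_of_cover fun P => ?_
  have : ∃ g ∈ s, (1 : p.asIdeal.ResidueField) ⊗ₜ[R] g ∉ P.asIdeal := by
    by_contra hne
    push Not at hne
    have hle : Ideal.span s ≤ P.asIdeal.comap
        (Algebra.TensorProduct.includeRight : S →ₐ[R] p.asIdeal.Fiber S).toRingHom :=
      Ideal.span_le.mpr hne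
    rw [hs, top_le_iff, Ideal.comap_eq_top_iff] at hle
    exact P.2.ne_top hle
  obtain ⟨g, hg, hP⟩ := this
  exact ⟨_, hP, isLCIOver_congr
    (IsLocalization.Away.tensorProductEquivTMulRight R p.asIdeal.ResidueField g (Localization.Away g)) ((h g hg).2.2 p)⟩

variable (r : R) (R' : Type u) [CommRing R'] [Algebra R R'] [IsLocalization.Away r R']
  (T : Type u) [CommRing T] [Algebra R T] [Algebra R' T] [IsScalarTower R R' T]

include r in
theorem fibre_base_equiv (q : Ideal R') [q.IsPrime] :
    ∃ (σ : (q.comap (algebraMap R R')).ResidueField ≃+* q.ResidueField)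
      (e : (q.comap (algebraMap R R')).Fiber T ≃+* q.Fiber T), ∀ a, e (algebraMap _ _ a) = algebraMap _ _ (σ a) := by
  let p := q.comap (algebraMap R R')
  have hb := (RingHom.surjectiveOnStalks_of_isLocalization (Submonoid.powers r) R').residueFieldMap_bijective p q rfl
  let σ₀ : p.ResidueField →ₐ[R] q.ResidueField :=
    Ideal.ResidueField.mapₐ p q (Algebra.ofId R R') rfl
  let σ : p.ResidueField ≃ₐ[R] q.ResidueField := AlgEquiv.ofBijective σ₀ hb
  haveI : CompatibleSMul R R' q.ResidueField T :=
    IsLocalization.tensorProduct_compatibleSMul (Submonoid.powers r) R' _ _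
  let e₁ : p.Fiber T ≃ₐ[R] q.ResidueField ⊗[R] T := Algebra.TensorProduct.congr σ AlgEquiv.refl
  let e₂ : q.ResidueField ⊗[R] T ≃ₐ[R] q.Fiber T :=
    Algebra.TensorProduct.equivOfCompatibleSMul R' R R q.ResidueField T
  refine ⟨σ.toRingEquiv, (e₁.trans e₂).toRingEquiv, fun a => ?_⟩
  simp [e₁, e₂, Algebra.TensorProduct.algebraMap_apply]
  rfl

include r in
theorem isSyntomic_base_iff : Synt.IsSyntomic R T ↔ Synt.IsSyntomic R' T := by
  haveI : Algebra.FinitePresentation R R' := IsLocalization.Away.finitePresentation r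
  haveI : Module.Flat R R' := IsLocalization.flat R' (Submonoid.powers r)
  constructor
  · intro h
    refine ⟨(Module.flat_iff_of_isLocalization R' (Submonoid.powers r) T).mpr h.1,
      haveI := h.2.1; Algebra.FinitePresentation.of_restrict_scalars_finitePresentation R R' T, fun q => ?_⟩
    obtain ⟨σ, e, he⟩ := fibre_base_equiv r R' T q.asIdeal
    exact isLCIOver_congr_semilinear σ e he (h.2.2 ⟨q.asIdeal.comap (algebraMap R R'), Ideal.IsPrime.comap _⟩)
  · intro h
    haveI := h.1
    haveI := h.2.1
    haveI hfp : Algebra.FinitePresentation R T := Algebra.FinitePresentation.trans R R' T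
    refine ⟨Module.Flat.trans R R' T, hfp, fun p => ?_⟩
    by_cases hr : r ∈ p.asIdeal
    · refine isLCIOver_of_isGlobalCI (k := p.asIdeal.ResidueField) (S := p.asIdeal.Fiber T) (Or.inl ?_)
      apply subsingleton_of_zero_eq_one
      have hu : IsUnit (algebraMap R T r) := by
        rw [IsScalarTower.algebraMap_apply R R' T]
        exact (IsLocalization.Away.algebraMap_isUnit r).map _
      have h1 : IsUnit (algebraMap R (p.asIdeal.Fiber T) r) := by
        have := hu.map (Algebra.TensorProduct.includeRight : T →ₐ[R] p.asIdeal.Fiber T)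
        rwa [AlgHom.commutes] at this
      rw [IsScalarTower.algebraMap_apply R p.asIdeal.ResidueField (p.asIdeal.Fiber T),
        Ideal.algebraMap_residueField_eq_zero.mpr hr, map_zero] at h1
      exact (isUnit_zero_iff.mp h1)
    have hd : Disjoint (Submonoid.powers r : Set R) (p.asIdeal : Set R) := Set.disjoint_left.2 fun x ⟨i, hi⟩ hx =>
      hr (p.2.mem_of_pow_mem i (show r ^ i ∈ p.asIdeal by rw [show r ^ i = x from hi]; exact hx))
    let q := p.asIdeal.map (algebraMap R R')
    haveI : q.IsPrime := IsLocalization.isPrime_of_isPrime_disjoint (Submonoid.powers r) R' p.asIdeal p.2 hd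
    have hc : q.comap (algebraMap R R') = p.asIdeal :=
      IsLocalization.under_map_of_isPrime_disjoint (Submonoid.powers r) _ p.2 hd
    obtain ⟨σ, e, he⟩ := fibre_base_equiv r R' T q
    have : Synt.IsLCIOver (q.comap (algebraMap R R')).ResidueField ((q.comap (algebraMap R R')).Fiber T) :=
      isLCIOver_congr_semilinear σ.symm e.symm (fun b => by
        apply e.injective
        rw [RingEquiv.apply_symm_apply, he, RingEquiv.apply_symm_apply]) (h.2.2 ⟨q, inferInstance⟩)
    have key : ∀ p' : PrimeSpectrum R, p' = p → Synt.IsLCIOver p'.asIdeal.ResidueField (p'.asIdeal.Fiber T) →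
        Synt.IsLCIOver p.asIdeal.ResidueField (p.asIdeal.Fiber T) := by
      rintro p' rfl h'
      exact h'
    exact key ⟨q.comap (algebraMap R R'), inferInstance⟩ (PrimeSpectrum.ext hc) this

end Relative

section RingHom

/-- Syntomic as a property of ring maps. -/
def SyntHom : ∀ {R S : Type u} [CommRing R] [CommRing S], (R →+* S) → Prop :=
  fun {R S} _ _ f => letI := f.toAlgebra; Synt.IsSyntomic R S

theorem syntHom_algebraMap {R S : Type u} [CommRing R] [CommRing S] [Algebra R S] :
    SyntHom (algebraMap R S) ↔ Synt.IsSyntomic R S := by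
  unfold SyntHom
  rw [show (algebraMap R S).toAlgebra = ‹Algebra R S› from Algebra.algebra_ext _ _ fun _ => rfl]

theorem syntHom_propertyIsLocal : RingHom.PropertyIsLocal @SyntHom.{u} := by
  have htgt : RingHom.StableUnderCompositionWithLocalizationAwayTarget @SyntHom.{u} := by
    intro R S T _ _ _ _ s _ f hf
    algebraize [f, (algebraMap S T).comp f]
    exact syntHom_algebraMap.mpr (isSyntomic_away (syntHom_algebraMap.mp hf) s T)
  have hspan : RingHom.OfLocalizationSpanTarget @SyntHom.{u} := by
    intro R S _ _ f s hs H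
    algebraize [f]
    refine syntHom_algebraMap.mpr (isSyntomic_of_span s hs fun g hg => syntHom_algebraMap.mp ?_)
    rw [IsScalarTower.algebraMap_eq R S (Localization.Away g)]
    exact H ⟨g, hg⟩
  have hsrc : RingHom.StableUnderCompositionWithLocalizationAwaySource @SyntHom.{u} := by
    intro R S T _ _ _ _ r _ f hf
    algebraize [f, f.comp (algebraMap R S)]
    exact syntHom_algebraMap.mpr ((isSyntomic_base_iff r S T).mpr (syntHom_algebraMap.mp hf))
  refine ⟨?_, hspan, hspan.ofLocalizationSpan hsrc, htgt⟩
  intro R S _ _ f r R' S' _ _ _ _ _ _ hf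
  have h1 : SyntHom ((algebraMap S S').comp f) := htgt S' (f r) f hf
  have h2 : (IsLocalization.Away.map R' S' f r).comp (algebraMap R R') = (algebraMap S S').comp f := by
    unfold IsLocalization.Away.map
    exact IsLocalization.map_comp _
  rw [← h2] at h1
  algebraize [IsLocalization.Away.map R' S' f r, (IsLocalization.Away.map R' S' f r).comp (algebraMap R R')]
  exact syntHom_algebraMap.mpr ((isSyntomic_base_iff r R' S').mp (syntHom_algebraMap.mp h1))

open AlgebraicGeometry CategoryTheory

theorem isSyntomicMor_iff_appLE {X Y : Scheme.{u}} (f : X ⟶ Y) :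
    Synt.IsSyntomicMor f ↔ ∀ (U : Y.affineOpens) (V : X.affineOpens) (e : V.1 ≤ f ⁻¹ᵁ U.1),
      SyntHom (f.appLE U.1 V.1 e).hom := by
  haveI : HasRingHomProperty (affineLocally @SyntHom.{u}) @SyntHom.{u} := ⟨syntHom_propertyIsLocal, rfl⟩
  rw [← HasRingHomProperty.iff_appLE (P := affineLocally @SyntHom.{u}) (Q := @SyntHom.{u}),
    HasRingHomProperty.iff_exists_appLE (P := affineLocally @SyntHom.{u}) (Q := @SyntHom.{u})]
  · exact ⟨fun h x => let ⟨U, V, e, hx, h⟩ := h x; ⟨V, U, hx, e, h⟩,
      fun h x => let ⟨V, U, hx, e, h⟩ := h x; ⟨U, V, e, hx, h⟩⟩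
  · intro R S T _ _ _ _ r _ f hf
    algebraize [f, f.comp (algebraMap R S)]
    exact syntHom_algebraMap.mpr ((isSyntomic_base_iff r S T).mpr (syntHom_algebraMap.mp hf))

end RingHom

end Groth.Agent.CI2
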