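import Groth.Agent.Lib.CI2.RelNhd
import Groth.Agent.Lib.CI2.Synt
import Mathlib

/-!
Syntomic neighbourhoods are relative global complete intersection neighbourhoods.
-/

set_option autoImplicit false
set_option linter.style.haveILetI false
universe u

open TensorProduct

namespace Groth.Agent.CI2

theorem nonempty_atPrime_localization {k A T : Type u} [CommRing k] [CommRing A] [CommRing T] [Algebra k A]
    [Algebra k T] [Algebra A T] [IsScalarTower k A T] (M : Submonoid A) [IsLocalization M T]
    (P : Ideal T) [P.IsPrime] :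
    Nonempty (Localization.AtPrime (P.comap (algebraMap A T)) ≃ₐ[k] Localization.AtPrime P) := by
  haveI : IsLocalization.AtPrime (Localization.AtPrime P) (P.comap (algebraMap A T)) :=
    IsLocalization.isLocalization_isLocalization_atPrime_isLocalization M _ P
  exact ⟨(IsLocalization.algEquiv (P.comap (algebraMap A T)).primeCompl
    (Localization.AtPrime (P.comap (algebraMap A T))) (Localization.AtPrime P)).restrictScalars k⟩

theorem exists_prime_over {A T : Type u} [CommRing A] [CommRing T] [Algebra A T] (g : A) [IsLocalization.Away g T]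
    (q : Ideal A) [q.IsPrime] (hg : g ∉ q) : ∃ P : Ideal T, P.IsPrime ∧ P.comap (algebraMap A T) = q := by
  have : (⟨q, inferInstance⟩ : PrimeSpectrum A) ∈ Set.range (PrimeSpectrum.comap (algebraMap A T)) := by
    rw [PrimeSpectrum.localization_away_comap_range T g]; exact hg
  obtain ⟨P, hP⟩ := this
  exact ⟨P.asIdeal, P.2, congrArg PrimeSpectrum.asIdeal hP⟩

variable {R S : Type u} [CommRing R] [CommRing S] [Algebra R S] (p : Ideal R) [p.IsPrime]

/-- Passing the local hypotheses to a basic open neighbourhood. -/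
theorem exists_away_data (q : Ideal S) [q.IsPrime] [q.LiesOver p] (Q : Ideal (p.Fiber S)) [Q.IsPrime]
    (hQ : Q.comap (Algebra.TensorProduct.includeRight.toRingHom) = q) (g : S) (hg : g ∉ q) :
    ∃ (qT : Ideal (Localization.Away g)) (_ : qT.IsPrime) (_ : qT.LiesOver p)
      (QT : Ideal (p.Fiber (Localization.Away g))) (_ : QT.IsPrime),
      qT.comap (algebraMap S (Localization.Away g)) = q ∧
      QT.comap (Algebra.TensorProduct.includeRight.toRingHom) = qT ∧
      Nonempty (Localization.AtPrime q ≃ₐ[R] Localization.AtPrime qT) ∧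
      Nonempty (Localization.AtPrime Q ≃ₐ[p.ResidueField] Localization.AtPrime QT) := by
  let T := Localization.Away g
  let κ := p.ResidueField
  let t : p.Fiber S := (1 : κ) ⊗ₜ[R] g
  let E := IsLocalization.Away.tensorProductEquivTMulRight R κ g T
  have hE : ∀ s : S, E ((1 : κ) ⊗ₜ[R] algebraMap S T s) = algebraMap (p.Fiber S) (Localization.Away t) (1 ⊗ₜ[R] s) :=
    fun s => by simp [E, t]; rfl
  obtain ⟨qT, hqT, hqTc⟩ := exists_prime_over (T := T) g q hg
  have htQ : t ∉ Q := fun h => hg (hQ ▸ h)
  obtain ⟨Qa, hQa, hQac⟩ := exists_prime_over (T := Localization.Away t) t Q htQ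
  haveI : qT.LiesOver p := ⟨by
    rw [Ideal.LiesOver.over (P := q) (p := p), ← hqTc, Ideal.under_def, Ideal.under_def, Ideal.comap_comap,
      ← IsScalarTower.algebraMap_eq]⟩
  let QT := Qa.comap E.toRingEquiv.toRingHom
  haveI : QT.IsPrime := Ideal.comap_isPrime _ _
  have hQT : QT.comap (Algebra.TensorProduct.includeRight.toRingHom) = qT := by
    refine congrArg PrimeSpectrum.asIdeal (PrimeSpectrum.localization_comap_injective T (Submonoid.powers g)
      (a₁ := ⟨_, Ideal.comap_isPrime _ QT⟩) (a₂ := ⟨qT, hqT⟩) (PrimeSpectrum.ext ?_))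
    show (QT.comap _).comap (algebraMap S T) = qT.comap (algebraMap S T)
    rw [hqTc, ← hQ, ← hQac]
    ext s
    show E ((1 : κ) ⊗ₜ[R] algebraMap S T s) ∈ Qa ↔ algebraMap (p.Fiber S) (Localization.Away t) (1 ⊗ₜ[R] s) ∈ Qa
    rw [hE]
  refine ⟨qT, hqT, inferInstance, QT, inferInstance, hqTc, hQT, ?_, ?_⟩
  · subst hqTc
    exact nonempty_atPrime_localization (Submonoid.powers g) qT
  · obtain ⟨e₁⟩ := nonempty_atPrime_localization (k := κ) (Submonoid.powers t) Qa
    subst hQac
    have hmap : Submonoid.map E.toRingEquiv.toMonoidHom QT.primeCompl = Qa.primeCompl := by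
      ext y
      refine ⟨fun ⟨x, hx, e⟩ => e ▸ hx, fun hy => ⟨E.symm y, ?_, E.apply_symm_apply y⟩⟩
      show E (E.symm y) ∉ Qa
      rwa [E.apply_symm_apply]
    exact ⟨e₁.trans (IsLocalization.algEquivOfAlgEquiv (Localization.AtPrime QT) (Localization.AtPrime Qa) E hmap).symm⟩

theorem exists_relGCI_nhd_of_fp (q : Ideal S) [q.IsPrime] [q.LiesOver p] (Q : Ideal (p.Fiber S)) [Q.IsPrime]
    (hQ : Q.comap (Algebra.TensorProduct.includeRight.toRingHom) = q) (g : S) (hg : g ∉ q)
    (hfp : Algebra.FinitePresentation R (Localization.Away g))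
    (hflat : Module.Flat R (Localization.AtPrime q))
    (hci : Synt.IsCIOver p.ResidueField (Localization.AtPrime Q)) :
    ∃ g' : S, g' ∉ q ∧ ∃ (n c : ℕ) (F : Fin c → MvPolynomial (Fin n) R), Synt.IsRelGCI R n c F ∧
      Nonempty (Localization.Away g' ≃ₐ[R] Synt.RelGCIRing R n c F) := by
  obtain ⟨qT, _, _, QT, _, hqT, hQT, ⟨e₁⟩, ⟨e₂⟩⟩ := exists_away_data p q Q hQ g hg
  obtain ⟨g₁, hg₁, n, c, F, hF, ⟨e⟩⟩ := exists_relGCI_nhd p qT QT hQT (Module.Flat.of_linearEquiv e₁.symm.toLinearEquiv)
    (isCIOver_congr e₂ hci)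
  obtain ⟨⟨a, s⟩, ha⟩ := IsLocalization.surj (Submonoid.powers g) g₁
  have hu : IsUnit (algebraMap S (Localization.Away g) s) := IsLocalization.map_units _ s
  have has : Associated g₁ (algebraMap S (Localization.Away g) a) := ⟨hu.unit, ha⟩
  refine ⟨a * g, fun h => ?_, n, c, F, hF, ?_⟩
  · rcases (inferInstance : q.IsPrime).mem_or_mem h with h | h
    · exact hg₁ ((qT.mem_iff_of_associated has).2 (by rw [← hqT] at h; exact h))
    · exact hg h
  · let T' := Localization.Away (algebraMap S (Localization.Away g) a)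
    haveI : IsLocalization.Away (a * g) T' := by
      rw [mul_comm]; exact IsLocalization.Away.mul' (Localization.Away g) T' g a
    haveI : IsLocalization.Away (algebraMap S (Localization.Away g) a) (Localization.Away g₁) :=
      IsLocalization.Away.of_associated has
    exact ⟨(((IsLocalization.algEquiv (Submonoid.powers (a * g)) (Localization.Away (a * g)) T').restrictScalars R).trans
      ((IsLocalization.algEquiv (Submonoid.powers (algebraMap S (Localization.Away g) a)) T'
        (Localization.Away g₁)).restrictScalars R)).trans e⟩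

theorem conditions_of_syntomic_away (q : Ideal S) [q.IsPrime] [q.LiesOver p] (Q : Ideal (p.Fiber S)) [Q.IsPrime]
    (hQ : Q.comap (Algebra.TensorProduct.includeRight.toRingHom) = q) (g : S) (hg : g ∉ q)
    (h : Synt.IsSyntomic R (Localization.Away g)) :
    Algebra.FinitePresentation R (Localization.Away g) ∧ Module.Flat R (Localization.AtPrime q) ∧
      Synt.IsCIOver p.ResidueField (Localization.AtPrime Q) := by
  obtain ⟨qT, _, _, QT, _, hqT, hQT, ⟨e₁⟩, ⟨e₂⟩⟩ := exists_away_data p q Q hQ g hg
  obtain ⟨hfl, hfp, hfib⟩ := h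
  haveI := hfl
  haveI : Module.Flat R (Localization.AtPrime qT) :=
    flat_localized_of_flat (A := R) (C := Localization.Away g) qT
  exact ⟨hfp, Module.Flat.of_linearEquiv e₁.toLinearEquiv,
    isCIOver_congr e₂.symm (isCIOver_atPrime_of_isLCIOver (hfib ⟨p, inferInstance⟩) QT)⟩

theorem syntomic_away_of_relGCI (g : S) {n c : ℕ} {F : Fin c → MvPolynomial (Fin n) R} (hF : Synt.IsRelGCI R n c F)
    (e : Localization.Away g ≃ₐ[R] Synt.RelGCIRing R n c F) : Synt.IsSyntomic R (Localization.Away g) :=
  isSyntomic_congr e.symm (isSyntomic_of_isRelGCI hF)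

end Groth.Agent.CI2
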