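import Groth.Agent.Lib.CI2.KRLocal
import Groth.Prelude.Def_LCI2
import Mathlib

/-!
Koszul regularity descends along faithfully flat ring maps.
-/

set_option autoImplicit false
set_option linter.style.haveILetI false
universe u

open scoped TensorProduct
open Groth.Agent.CanElt (KObj kd)

namespace Groth.Agent.CI2

section LocalRing

variable {L : Type u} [CommRing L]

theorem ofList_eq_range (k : List L) : Ideal.ofList k = Ideal.span (Set.range k.get) := by
  rw [Ideal.ofList, show {y | y ∈ k} = Set.range k.get from (Set.range_list_get k).symm]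

theorem mem_ofList_eraseIdx (k : List L) {i j : Fin k.length} (hj : j ≠ i) :
    k.get j ∈ Ideal.ofList (k.eraseIdx i) :=
  Ideal.subset_span (List.mem_eraseIdx_iff_getElem.2 ⟨j, j.2, fun h => hj (Fin.ext h), rfl⟩)

theorem ofList_eraseIdx (k : List L) (i : Fin k.length) (h : k.get i ∈ Ideal.ofList (k.eraseIdx i)) :
    Ideal.ofList (k.eraseIdx i) = Ideal.ofList k := by
  refine le_antisymm (Ideal.span_mono fun x hx => List.mem_of_mem_eraseIdx hx) ?_
  rw [ofList_eq_range k, Ideal.span_le]
  rintro _ ⟨j, rfl⟩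
  by_cases hj : j = i
  · exact hj ▸ h
  · exact mem_ofList_eraseIdx k hj

theorem exists_redundant [IsLocalRing L] {k l : List L} (h : Ideal.ofList k = Ideal.ofList l)
    (hlt : l.length < k.length) : ∃ i : Fin k.length, k.get i ∈ Ideal.ofList (k.eraseIdx i) := by
  classical
  have hk : ∀ i, ∃ c : Fin l.length → L, ∑ j, c j * l.get j = k.get i := fun i =>
    Ideal.mem_span_range_iff_exists_fun.1 (by rw [← ofList_eq_range, ← h]; exact Ideal.subset_span (k.get_mem i))
  have hl : ∀ j, ∃ c : Fin k.length → L, ∑ i, c i * k.get i = l.get j := fun j =>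
    Ideal.mem_span_range_iff_exists_fun.1 (by rw [← ofList_eq_range, h]; exact Ideal.subset_span (l.get_mem j))
  choose P hP using hk
  choose Q hQ using hl
  let PM : Matrix (Fin k.length) (Fin l.length) L := Matrix.of P
  let QM : Matrix (Fin l.length) (Fin k.length) L := Matrix.of Q
  let π := IsLocalRing.residue L
  have hne : PM.map π * QM.map π ≠ 1 := fun he => by
    have h1 := (Matrix.rank_mul_le_left (PM.map π) (QM.map π)).trans (Matrix.rank_le_width _)
    rw [he, Matrix.rank_one, Fintype.card_fin] at h1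
    omega
  let E : Matrix (Fin k.length) (Fin k.length) L := 1 - PM * QM
  obtain ⟨i, i', hii⟩ : ∃ i i', IsUnit (E i i') := by
    by_contra hall
    push Not at hall
    refine hne ?_
    rw [← Matrix.map_mul]
    ext i i'
    have h2 : π (E i i') = 0 := (IsLocalRing.residue_eq_zero_iff _).2 ((IsLocalRing.mem_maximalIdeal _).2 (hall i i'))
    simp only [E, Matrix.sub_apply, map_sub, sub_eq_zero] at h2
    rw [Matrix.map_apply, ← h2]
    simp only [Matrix.one_apply]
    split_ifs <;> simp
  refine ⟨i', ?_⟩
  have hsum : ∑ j, E i j * k.get j = 0 := by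
    have h3 : ∑ j, (PM * QM) i j * k.get j = k.get i := by
      simp only [Matrix.mul_apply, Finset.sum_mul, PM, QM, Matrix.of_apply]
      rw [Finset.sum_comm]
      simp only [mul_assoc, ← Finset.mul_sum, hQ, hP]
    simp only [E, Matrix.sub_apply, sub_mul, Finset.sum_sub_distrib, h3, Matrix.one_apply, ite_mul, one_mul, zero_mul,
      Finset.sum_ite_eq, Finset.mem_univ, if_true, sub_self]
  rw [← Finset.sum_erase_add _ _ (Finset.mem_univ i')] at hsum
  refine ((Ideal.ofList (k.eraseIdx i')).unit_mul_mem_iff_mem hii).1 ?_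
  rw [eq_neg_of_add_eq_zero_right hsum]
  exact neg_mem (Ideal.sum_mem _ fun j hj => Ideal.mul_mem_left _ _ (mem_ofList_eraseIdx k (Finset.ne_of_mem_erase hj)))

variable {M : Type u} [CommRing M] [Algebra L M] [Module.FaithfullyFlat L M]

theorem ex_of_faithfullyFlat {k : List L} (h : Ex M M (k.map (algebraMap L M))) : Ex L L k := by
  have hM : Ex L M k := Ex.of_map_bijective (σ := algebraMap L M)
    { toFun := id
      map_add' := fun _ _ => rfl
      map_smul' := fun a b => Algebra.smul_def a b }
    Function.bijective_id h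
  intro n z hz
  have hcomp : ∀ m x, tEquiv M k m ((kd L L k m).rTensor M x) = kd L M k m (tEquiv M k (m + 1) x) := fun m x =>
    LinearMap.congr_fun (show (tEquiv M k m).toLinearMap ∘ₗ (kd L L k m).rTensor M =
      kd L M k m ∘ₗ (tEquiv M k (m + 1)).toLinearMap from TensorProduct.ext' fun a b => tEquiv_kd M k m a b) x
  have hex : Function.Exact ((kd L L k (n + 1)).rTensor M) ((kd L L k n).rTensor M) := by
    intro x
    refine ⟨fun hx => ?_, ?_⟩
    · obtain ⟨w, hw⟩ := hM n (tEquiv M k (n + 1) x) (by rw [← hcomp, hx, map_zero])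
      refine ⟨(tEquiv M k (n + 2)).symm w, (tEquiv M k (n + 1)).injective ?_⟩
      rw [hcomp, LinearEquiv.apply_symm_apply, hw]
    · rintro ⟨w, rfl⟩
      refine (tEquiv M k n).injective ?_
      rw [hcomp, hcomp, CanElt.kd_kd, map_zero]
  exact ((Module.FaithfullyFlat.rTensor_exact_iff_exact L M _ _).1 hex z).1 hz

theorem ff_key [IsLocalRing L] [IsLocalRing M] {J : Ideal L} {k : List L} (hk : Ideal.ofList k = J)
    (hmin : ∀ k' : List L, Ideal.ofList k' = J → k.length ≤ k'.length) (hne : J ≠ ⊤) {l : List M} (hl : Ex M M l)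
    (hJl : J.map (algebraMap L M) = Ideal.ofList l) : l.length = k.length ∧ Ex L L k := by
  have hkM : Ideal.ofList (k.map (algebraMap L M)) = Ideal.ofList l := by rw [← Ideal.map_ofList, hk, hJl]
  have hneM : Ideal.ofList l ≠ ⊤ := fun he => hne (by
    rw [← J.comap_map_eq_self_of_faithfullyFlat (B := M), hJl, he, Ideal.comap_top])
  have hle : l.length ≤ k.length := by simpa using length_le_of_ofList_eq hl hneM hkM
  have hge : k.length ≤ l.length := by
    by_contra hlt
    obtain ⟨i, hi⟩ := exists_redundant hkM (by simpa using (not_le.1 hlt))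
    let j : Fin k.length := Fin.cast (List.length_map _) i
    have hi' : algebraMap L M (k.get j) ∈ (Ideal.ofList (k.eraseIdx j)).map (algebraMap L M) := by
      rw [Ideal.map_ofList]
      simpa [List.eraseIdx_map, j] using hi
    rw [← Ideal.mem_comap, Ideal.comap_map_eq_self_of_faithfullyFlat] at hi'
    have h3 := hmin (k.eraseIdx j) ((ofList_eraseIdx k j hi').trans hk)
    rw [List.length_eraseIdx_of_lt j.2] at h3
    have := j.2
    omega
  exact ⟨le_antisymm hle hge, ex_of_faithfullyFlat (ex_of_ofList_eq hl hkM (by simp; omega))⟩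

end LocalRing

section Descent

variable {A B : Type u} [CommRing A] [CommRing B] [Algebra A B] [Module.FaithfullyFlat A B]

/-- The least number of generators of the localised ideal. -/
noncomputable def minGen (I : Ideal A) (p : PrimeSpectrum A) : ℕ :=
  sInf {n | ∃ k : List (Localization.AtPrime p.asIdeal), k.length = n ∧
    Ideal.ofList k = I.map (algebraMap A (Localization.AtPrime p.asIdeal))}

theorem exists_minGen {I : Ideal A} (hI : I.FG) (p : PrimeSpectrum A) :
    ∃ k : List (Localization.AtPrime p.asIdeal), k.length = minGen I p ∧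
      Ideal.ofList k = I.map (algebraMap A (Localization.AtPrime p.asIdeal)) := by
  obtain ⟨s, hs⟩ := hI
  exact Nat.sInf_mem (s := {n | ∃ k : List (Localization.AtPrime p.asIdeal), k.length = n ∧
    Ideal.ofList k = I.map (algebraMap A (Localization.AtPrime p.asIdeal))})
    ⟨_, s.toList.map (algebraMap A _), rfl, by rw [← Ideal.map_ofList, ← hs]; simp [Ideal.ofList]⟩

theorem minGen_key {I : Ideal A} (hI : I.FG) (q : PrimeSpectrum B) (hq : I.map (algebraMap A B) ≤ q.asIdeal)
    {h : B} (hh : h ∉ q.asIdeal) {l : List (Localization.Away h)}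
    (hl : Ex (Localization.Away h) (Localization.Away h) l)
    (hspan : (I.map (algebraMap A B)).map (algebraMap B (Localization.Away h)) = Ideal.ofList l)
    (p : PrimeSpectrum A) (hp : p = PrimeSpectrum.comap (algebraMap A B) q) :
    l.length = minGen I p ∧
      ∀ k : List (Localization.AtPrime p.asIdeal), k.length = minGen I p →
        Ideal.ofList k = I.map (algebraMap A (Localization.AtPrime p.asIdeal)) →
          Ex (Localization.AtPrime p.asIdeal) (Localization.AtPrime p.asIdeal) k := by
  haveI : q.asIdeal.LiesOver p.asIdeal := ⟨by rw [hp]; rfl⟩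
  let L := Localization.AtPrime p.asIdeal
  let M := Localization.AtPrime q.asIdeal
  letI := Localization.AtPrime.algebraOfLiesOver p.asIdeal q.asIdeal
  haveI : IsLocalHom (algebraMap L M) := by
    rw [RingHom.algebraMap_toAlgebra]
    exact Localization.isLocalHom_localRingHom p.asIdeal q.asIdeal (algebraMap A B) Ideal.LiesOver.over
  haveI : Module.FaithfullyFlat L M := Module.FaithfullyFlat.of_flat_of_isLocalHom
  have hu : IsUnit (algebraMap B M h) := IsLocalization.map_units M (⟨h, hh⟩ : q.asIdeal.primeCompl)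
  let ρ : Localization.Away h →+* M := IsLocalization.Away.lift h hu
  have hρ : ρ.comp (algebraMap B (Localization.Away h)) = algebraMap B M := IsLocalization.Away.lift_comp h hu
  letI : Algebra (Localization.Away h) M := ρ.toAlgebra
  haveI : IsScalarTower B (Localization.Away h) M := IsScalarTower.of_algebraMap_eq' hρ.symm
  let S : Submonoid (Localization.Away h) := q.asIdeal.primeCompl.map (algebraMap B (Localization.Away h))
  haveI : IsLocalization S M := IsLocalization.isLocalization_of_submonoid_le (Localization.Away h) M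
    (Submonoid.powers h) q.asIdeal.primeCompl (Submonoid.powers_le.2 hh)
  have hl' := Ex.localization (B := M) S hl
  have hJ : (I.map (algebraMap A L)).map (algebraMap L M) = Ideal.ofList (l.map (algebraMap (Localization.Away h) M)) := by
    rw [← Ideal.map_ofList, ← hspan, Ideal.map_map, Ideal.map_map, Ideal.map_map,
      ← IsScalarTower.algebraMap_eq A L M, ← IsScalarTower.algebraMap_eq B (Localization.Away h) M,
      ← IsScalarTower.algebraMap_eq A B M]
  have hne : I.map (algebraMap A L) ≠ ⊤ := fun he => by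
    have h1 : I.map (algebraMap A L) ≤ IsLocalRing.maximalIdeal L := by
      rw [← Localization.AtPrime.map_eq_maximalIdeal]
      exact Ideal.map_mono (by rw [hp]; exact Ideal.map_le_iff_le_comap.1 hq)
    rw [he] at h1
    exact (IsLocalRing.maximalIdeal.isMaximal L).ne_top (top_le_iff.1 h1)
  have hkey : ∀ k : List L, k.length = minGen I p → Ideal.ofList k = I.map (algebraMap A L) →
      l.length = minGen I p ∧ Ex L L k := fun k hk hk' => by
    have := ff_key hk' (fun k' hk'' => hk ▸ Nat.sInf_le ⟨k', rfl, hk''⟩) hne hl' hJ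
    rwa [List.length_map, hk] at this
  obtain ⟨k, hk, hk'⟩ := exists_minGen hI p
  exact ⟨(hkey k hk hk').1, fun k hk hk' => (hkey k hk hk').2⟩

theorem fg_of_isKR_map {I : Ideal A} (h : LCI.IsKoszulRegularIdeal (I.map (algebraMap A B))) : I.FG := by
  classical
  have hB : (I.map (algebraMap A B)).FG := by
    let t : Set B := {g | ((I.map (algebraMap A B)).map (algebraMap B (Localization.Away g))).FG}
    refine Ideal.fg_of_localizationSpan t ?_ fun g => g.2
    by_contra ht
    obtain ⟨m, hm, htm⟩ := Ideal.exists_le_maximal _ ht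
    rw [Ideal.span_le] at htm
    by_cases hIm : I.map (algebraMap A B) ≤ m
    · obtain ⟨g, hg, l, -, hspan⟩ := h ⟨m, hm.isPrime⟩ hIm
      exact hg (htm (show g ∈ t from ⟨l.toFinset, by rw [hspan]; simp⟩))
    · obtain ⟨g, hgI, hgm⟩ := Set.not_subset.1 hIm
      refine hgm (htm (show g ∈ t from ⟨{1}, ?_⟩))
      rw [Finset.coe_singleton, Ideal.span_singleton_one, eq_comm, Ideal.eq_top_iff_one]
      exact (Ideal.unit_mul_mem_iff_mem _ (IsLocalization.Away.algebraMap_isUnit g)).1
        (by rw [mul_one]; exact Ideal.mem_map_of_mem _ hgI)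
  obtain ⟨s, hs, hspan⟩ := (Submodule.fg_span_iff_fg_span_finset_subset _).1 hB
  obtain ⟨s', hs', hss⟩ := Finset.subset_set_image_iff.1 hs
  refine ⟨s', ?_⟩
  rw [← I.comap_map_eq_self_of_faithfullyFlat (B := B)]
  rw [show I.map (algebraMap A B) = (Ideal.span (s' : Set A)).map (algebraMap A B) by
    rw [Ideal.map_span, ← Finset.coe_image, hss]; exact hspan]
  exact (Ideal.comap_map_eq_self_of_faithfullyFlat _).symm

theorem exists_lift_gens {I : Ideal A} (hI : I.FG) (p : PrimeSpectrum A) :
    ∃ k : List A, k.length = minGen I p ∧ ∃ g ∉ p.asIdeal,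
      I.map (algebraMap A (Localization.Away g)) = Ideal.ofList (k.map (algebraMap A (Localization.Away g))) := by
  classical
  let L := Localization.AtPrime p.asIdeal
  obtain ⟨k', hk', hspan⟩ := exists_minGen hI p
  have hlift : ∀ i : Fin k'.length, ∃ a ∈ I, ∃ w : Lˣ, algebraMap A L a = w * k'.get i := by
    intro i
    obtain ⟨⟨⟨a, ha⟩, s⟩, he⟩ := (IsLocalization.mem_map_algebraMap_iff p.asIdeal.primeCompl L).mp
      (hspan.le (Ideal.subset_span (k'.get_mem i)))
    exact ⟨a, ha, (IsLocalization.map_units L s).unit, by rw [IsUnit.unit_spec, mul_comm]; exact he.symm⟩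
  choose a ha w hw using hlift
  refine ⟨List.ofFn a, by simp [hk'], ?_⟩
  have hsub : Ideal.ofList (List.ofFn a) ≤ I := Ideal.span_le.2 fun x hx => by
    obtain ⟨i, rfl⟩ := List.mem_ofFn.mp hx; exact ha i
  have hge : I.map (algebraMap A L) ≤ (Ideal.ofList (List.ofFn a)).map (algebraMap A L) := by
    rw [← hspan]
    refine Ideal.span_le.2 fun x hx => ?_
    obtain ⟨i, rfl⟩ := List.mem_iff_get.mp hx
    have h2 := Ideal.mul_mem_left _ ((w i)⁻¹ : Lˣ).1 (Ideal.mem_map_of_mem (algebraMap A L)
      (Ideal.subset_span (List.mem_ofFn.mpr ⟨i, rfl⟩) : a i ∈ Ideal.ofList (List.ofFn a)))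
    rwa [hw, Units.inv_mul_cancel_left] at h2
  obtain ⟨s, hs⟩ := hI
  have hc : ∀ x ∈ s, ∃ c, c ∉ p.asIdeal ∧ c * x ∈ Ideal.ofList (List.ofFn a) := fun x hx => by
    have := hge (Ideal.mem_map_of_mem _ (hs ▸ Ideal.subset_span hx : x ∈ I))
    rwa [IsLocalization.algebraMap_mem_map_algebraMap_iff p.asIdeal.primeCompl] at this
  choose c hc hcx using hc
  refine ⟨∏ x ∈ s.attach, c x.1 x.2, fun hm => ?_, le_antisymm (Ideal.map_le_iff_le_comap.2 ?_) ?_⟩
  · obtain ⟨x, -, hx⟩ := (p.2.prod_mem_iff).1 hm
    exact hc x.1 x.2 hx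
  · rw [← hs]
    refine Ideal.span_le.2 fun x hx => ?_
    rw [SetLike.mem_coe, Ideal.mem_comap]
    refine (Ideal.unit_mul_mem_iff_mem _ (IsLocalization.Away.algebraMap_isUnit
      (S := Localization.Away (∏ x ∈ s.attach, c x.1 x.2)) (∏ x ∈ s.attach, c x.1 x.2))).1 ?_
    rw [← map_mul, ← Ideal.map_ofList]
    refine Ideal.mem_map_of_mem _ ?_
    rw [← Finset.mul_prod_erase _ _ (Finset.mem_attach s ⟨x, hx⟩), mul_right_comm]
    exact Ideal.mul_mem_right _ _ (hcx x hx)
  · rw [← Ideal.map_ofList]; exact Ideal.map_mono hsub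

theorem isKR_of_faithfullyFlat (I : Ideal A) (h : LCI.IsKoszulRegularIdeal (I.map (algebraMap A B))) :
    LCI.IsKoszulRegularIdeal I := by
  classical
  have hfg := fg_of_isKR_map h
  rw [isKR_iff] at h ⊢
  intro p hp
  obtain ⟨k, hk, g1, hg1, hspan⟩ := exists_lift_gens hfg p
  let π := PrimeSpectrum.comap (algebraMap A B)
  have hsurj : Function.Surjective π := PrimeSpectrum.comap_surjective_of_faithfullyFlat
  let W : Set (PrimeSpectrum A) := {p' | ¬ I ≤ p'.asIdeal ∨ minGen I p' = k.length}
  have hW : IsOpen W := by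
    rw [← (PrimeSpectrum.isQuotientMap_of_generalizingMap hsurj
      (RingHom.Flat.generalizingMap_comap (RingHom.flat_algebraMap_iff.2 inferInstance))).isOpen_preimage]
    refine isOpen_iff_forall_mem_open.2 fun q hq => ?_
    by_cases hqI : I ≤ (π q).asIdeal
    · obtain ⟨b, hb, l, hl, hlspan⟩ := h q (Ideal.map_le_iff_le_comap.2 hqI)
      refine ⟨PrimeSpectrum.basicOpen b, fun q' hq' => ?_, (PrimeSpectrum.basicOpen b).2, hb⟩
      by_cases hq'I : I ≤ (π q').asIdeal
      · refine Or.inr ?_
        rw [← (minGen_key hfg q' (Ideal.map_le_iff_le_comap.2 hq'I) hq' hl hlspan (π q') rfl).1,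
          (minGen_key hfg q (Ideal.map_le_iff_le_comap.2 hqI) hb hl hlspan (π q) rfl).1]
        exact hq.resolve_left (fun hn => hn hqI)
      · exact Or.inl hq'I
    · obtain ⟨x, hxI, hx⟩ := Set.not_subset.1 hqI
      exact ⟨π ⁻¹' PrimeSpectrum.basicOpen x, fun q' hq' => Or.inl fun hle => hq' (hle hxI),
        (PrimeSpectrum.basicOpen x).2.preimage (PrimeSpectrum.continuous_comap _), hx⟩
  obtain ⟨_, ⟨g2, rfl⟩, hpg2, hg2W⟩ := PrimeSpectrum.isTopologicalBasis_basic_opens.exists_subset_of_mem_open
    (show p ∈ W from Or.inr hk.symm) hW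
  let g := g1 * g2
  let G := Localization.Away g
  refine ⟨g, fun hm => (p.2.mem_or_mem hm).elim hg1 hpg2, k.map (algebraMap A G), ?_, ?_⟩
  swap
  · have hu : IsUnit (algebraMap A G g1) := isUnit_of_dvd_unit (map_dvd _ (Dvd.intro g2 rfl))
      (IsLocalization.Away.algebraMap_isUnit g)
    have h2 := congrArg (Ideal.map (IsLocalization.Away.lift (S := Localization.Away g1) g1 hu)) hspan
    rwa [Ideal.map_map, Ideal.map_ofList, List.map_map, ← RingHom.coe_comp, IsLocalization.Away.lift_comp] at h2
  refine ex_of_local fun m _ => ?_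
  let p' : PrimeSpectrum A := ⟨m.comap (algebraMap A G), inferInstance⟩
  have hgp' : g ∉ p'.asIdeal := fun hm =>
    (inferInstance : m.IsPrime).ne_top (m.eq_top_of_isUnit_mem hm (IsLocalization.Away.algebraMap_isUnit g))
  let L := Localization.AtPrime p'.asIdeal
  haveI : IsLocalization.AtPrime (Localization.AtPrime m) p'.asIdeal :=
    IsLocalization.isLocalization_atPrime_localization_atPrime _ m
  let e : L ≃ₐ[A] Localization.AtPrime m :=
    IsLocalization.algEquiv p'.asIdeal.primeCompl L (Localization.AtPrime m)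
  have hmap : (k.map (algebraMap A L)).map e.toRingEquiv =
      (k.map (algebraMap A G)).map (algebraMap G (Localization.AtPrime m)) := by
    rw [List.map_map, List.map_map]
    exact List.map_congr_left fun x _ => (e.commutes x).trans (IsScalarTower.algebraMap_apply A G _ x)
  rw [← hmap]
  refine ex_map_equiv e.toRingEquiv ?_
  have hu : IsUnit (algebraMap A L g1) :=
    IsLocalization.map_units L (⟨g1, fun hm => hgp' (Ideal.mul_mem_right _ _ hm)⟩ : p'.asIdeal.primeCompl)
  have hL := congrArg (Ideal.map (IsLocalization.Away.lift (S := Localization.Away g1) g1 hu)) hspan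
  rw [Ideal.map_map, Ideal.map_ofList, List.map_map, ← RingHom.coe_comp, IsLocalization.Away.lift_comp] at hL
  by_cases hI' : I ≤ p'.asIdeal
  · obtain ⟨q, hq⟩ := hsurj p'
    have hqI : I.map (algebraMap A B) ≤ q.asIdeal := Ideal.map_le_iff_le_comap.2 (by rw [← hq] at hI'; exact hI')
    obtain ⟨b, hb, l, hl, hlspan⟩ := h q hqI
    have hmin : minGen I p' = k.length := by
      refine (hg2W ?_).resolve_left (fun hn => hn hI')
      exact fun hm => hgp' (Ideal.mul_mem_left _ _ hm)
    exact (minGen_key hfg q hqI hb hl hlspan p' hq.symm).2 _ (by simp [hmin]) hL.symm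
  · refine (ex_of_unit_mem _ ?_).1
    obtain ⟨x, hxI, hx⟩ := Set.not_subset.1 hI'
    by_contra hall
    push Not at hall
    have h3 : algebraMap A L x ∈ IsLocalRing.maximalIdeal L :=
      (Ideal.span_le.2 fun y hy => (IsLocalRing.mem_maximalIdeal _).2 (hall y hy))
        (hL.le (Ideal.mem_map_of_mem _ hxI))
    exact (IsLocalRing.mem_maximalIdeal _).1 h3 (IsLocalization.map_units L (⟨x, hx⟩ : p'.asIdeal.primeCompl))

end Descent

end Groth.Agent.CI2
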