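import Groth.Agent.Lib.CI2.RImm
import Groth.Agent.Lib.CI2.KRDesc
import Groth.Prelude.Def_RegImm
import Mathlib

/-!
Koszul regular immersions: flat base change and faithfully flat quasi-compact descent.
-/

set_option autoImplicit false
set_option linter.style.haveILetI false
universe u

open CategoryTheory CategoryTheory.Limits AlgebraicGeometry

namespace Groth.Agent.CI2

theorem isKR_map_of_flat {A B : Type u} [CommRing A] [CommRing B] (φ : A →+* B) (hφ : φ.Flat) {I : Ideal A}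
    (h : LCI.IsKoszulRegularIdeal I) : LCI.IsKoszulRegularIdeal (I.map φ) := by
  algebraize [φ]
  rw [isKR_iff] at h ⊢
  intro q hq
  obtain ⟨g, hg, l, hl, hspan⟩ := h (PrimeSpectrum.comap φ q) (Ideal.map_le_iff_le_comap.1 hq)
  let G := Localization.Away g
  let D := Localization.Away (φ g)
  have hu : IsUnit (algebraMap A D g) := by
    rw [IsScalarTower.algebraMap_apply A B D]; exact IsLocalization.Away.algebraMap_isUnit (φ g)
  let ρ : G →+* D := IsLocalization.Away.lift g hu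
  have hρ : ρ.comp (algebraMap A G) = algebraMap A D := IsLocalization.Away.lift_comp g hu
  letI : Algebra G D := ρ.toAlgebra
  haveI : IsScalarTower A G D := IsScalarTower.of_algebraMap_eq' hρ.symm
  haveI : Module.Flat B D := IsLocalization.flat D (Submonoid.powers (φ g))
  haveI : Module.Flat A D := Module.Flat.trans A B D
  haveI : Module.Flat G D := (Module.flat_iff_of_isLocalization G (Submonoid.powers g) D).2 inferInstance
  refine ⟨φ g, hg, l.map (algebraMap G D), (hl.of_flat D).map_bijective (σ := algebraMap G D)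
    { toFun := id
      map_add' := fun _ _ => rfl
      map_smul' := fun a b => Algebra.smul_def a b } Function.bijective_id, ?_⟩
  rw [← Ideal.map_ofList, ← hspan, Ideal.map_map, Ideal.map_map, ← IsScalarTower.algebraMap_eq A G D]
  exact congrArg (fun ψ => Ideal.map ψ I) (IsScalarTower.algebraMap_eq A B D).symm

variable {X Y X' Y' : Scheme.{u}} (i : Y ⟶ X) (g : X' ⟶ X) (i' : Y' ⟶ X') (g' : Y' ⟶ Y)

theorem range_restrict {U : X.Opens} : Set.range (i ∣_ U) = U.ι ⁻¹' Set.range i := by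
  refine Set.ext fun x => ⟨?_, ?_⟩
  · rintro ⟨y, rfl⟩; exact ⟨y.1, (morphismRestrict_base_coe i U y).symm⟩
  · rintro ⟨y, hy⟩
    have hy' : y ∈ i ⁻¹ᵁ U := by show i y ∈ U; rw [hy]; exact x.2
    exact ⟨⟨y, hy'⟩, Subtype.ext ((morphismRestrict_base_coe i U ⟨y, hy'⟩).trans hy)⟩

theorem isClosedImmersion_restrict_of_range [IsImmersion i] {U : X.Opens}
    (h : IsClosed (U.ι ⁻¹' Set.range i)) : IsClosedImmersion (i ∣_ U) :=
  IsClosedImmersion.of_isPreimmersion (i ∣_ U) (by rw [range_restrict]; exact h)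

theorem exists_affine_closed [IsImmersion i] (z : Y) {V : X.Opens} (hz : i z ∈ V) :
    ∃ U : X.Opens, IsAffineOpen U ∧ i z ∈ U ∧ U ≤ V ∧ IsClosedImmersion (i ∣_ U) := by
  obtain ⟨_, ⟨U, hU, rfl⟩, hzU, hUW⟩ := X.isBasis_affineOpens.exists_subset_of_mem_open
    (show i z ∈ V ⊓ i.coborderRange from ⟨hz, subset_coborder (Set.mem_range_self z)⟩) (V ⊓ i.coborderRange).2
  refine ⟨U, hU, hzU, hUW.trans inf_le_left, isClosedImmersion_restrict_of_range i ?_⟩
  have h1 : IsClosed (i.coborderRange.ι ⁻¹' Set.range i) := isClosed_preimage_val_coborder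
  have hle : U ≤ i.coborderRange := hUW.trans inf_le_right
  have h2 := h1.preimage (X.homOfLE hle).continuous
  rwa [← Set.preimage_comp, ← TopCat.coe_comp, ← Scheme.Hom.comp_base, X.homOfLE_ι hle] at h2

theorem isClosedImmersion_restrict_of_isPullback [IsImmersion i] [IsImmersion i'] (hsq : IsPullback g' i' i g)
    {U : X.Opens} [IsClosedImmersion (i ∣_ U)] {V : X'.Opens} (hle : V ≤ g ⁻¹ᵁ U) :
    IsClosedImmersion (i' ∣_ V) := by
  refine isClosedImmersion_restrict_of_range i' ?_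
  have hr : Set.range i' = g ⁻¹' Set.range i := by
    rw [← Scheme.Pullback.range_snd, ← hsq.isoPullback_hom_snd, Scheme.Hom.comp_base, TopCat.coe_comp, Set.range_comp,
      Set.range_eq_univ.2 hsq.isoPullback.hom.surjective, Set.image_univ]
  have hc : IsClosed (U.ι ⁻¹' Set.range i) := by rw [← range_restrict]; exact (i ∣_ U).isClosedEmbedding.isClosed_range
  have h2 := hc.preimage (g.resLE U V hle).continuous
  rw [← Set.preimage_comp, ← TopCat.coe_comp, ← Scheme.Hom.comp_base, Scheme.Hom.resLE_comp_ι, Scheme.Hom.comp_base,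
    TopCat.coe_comp, Set.preimage_comp] at h2
  rw [hr]
  exact h2

theorem fromSpec_appLE_self {U : X.Opens} (hU : IsAffineOpen U) :
    hU.fromSpec.appLE U ⊤ (by rw [hU.fromSpec_preimage_self]) = (Scheme.ΓSpecIso Γ(X, U)).inv := by
  rw [Scheme.Hom.appLE, hU.fromSpec_app_self, Category.assoc, ← Functor.map_comp]
  convert Category.comp_id _
  exact (Spec Γ(X, U)).presheaf.map_id _

theorem ker_app_of_isPullback (hsq : IsPullback g' i' i g) {U : X.Opens} (hU : IsAffineOpen U)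
    [IsClosedImmersion (i ∣_ U)] {V : X'.Opens} (hV : IsAffineOpen V) (hle : V ≤ g ⁻¹ᵁ U) :
    RingHom.ker (i'.app V).hom = (RingHom.ker (i.app U).hom).map (g.appLE U V hle).hom := by
  obtain ⟨hW, hs⟩ := surjective_app_of_closed i hU
  refine le_antisymm (fun x hx => ?_) (Ideal.map_le_iff_le_comap.2 fun x hx => ?_)
  · let J := (RingHom.ker (i.app U).hom).map (g.appLE U V hle).hom
    let Q : CommRingCat.{u} := CommRingCat.of (Γ(X', V) ⧸ J)
    let π : Γ(X', V) ⟶ Q := CommRingCat.ofHom (Ideal.Quotient.mk J)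
    let φ₀ := (Ideal.Quotient.mk J).comp (g.appLE U V hle).hom
    have hφ₀ : RingHom.ker (i.app U).hom ≤ RingHom.ker φ₀ := fun a ha =>
      Ideal.Quotient.eq_zero_iff_mem.2 (Ideal.mem_map_of_mem _ ha)
    let φ : Γ(Y, i ⁻¹ᵁ U) ⟶ Q := CommRingCat.ofHom ((i.app U).hom.liftOfSurjective hs ⟨φ₀, hφ₀⟩)
    have hφ : i.appLE U (i ⁻¹ᵁ U) le_rfl ≫ φ = g.appLE U V hle ≫ π := by
      rw [← Scheme.Hom.app_eq_appLE]
      ext1
      exact (i.app U).hom.liftOfSurjective_comp hs ⟨φ₀, hφ₀⟩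
    let a : Spec Q ⟶ X' := Spec.map π ≫ hV.fromSpec
    let b : Spec Q ⟶ Y := Spec.map φ ≫ hW.fromSpec
    have hab : b ≫ i = a ≫ g := by
      simp only [a, b, Category.assoc, ← IsAffineOpen.SpecMap_appLE_fromSpec i hU hW le_rfl,
        ← IsAffineOpen.SpecMap_appLE_fromSpec g hU hV hle, ← Spec.map_comp_assoc, hφ]
    have hl : hsq.lift b a hab ≫ i' = a := hsq.lift_snd _ _ _
    have hle' : (⊤ : (Spec Q).Opens) ≤ a ⁻¹ᵁ V := by
      show _ ≤ Spec.map π ⁻¹ᵁ (hV.fromSpec ⁻¹ᵁ V)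
      rw [hV.fromSpec_preimage_self]; rfl
    have hle'' : (⊤ : (Spec Q).Opens) ≤ hsq.lift b a hab ⁻¹ᵁ (i' ⁻¹ᵁ V) := by
      show _ ≤ (hsq.lift b a hab ≫ i') ⁻¹ᵁ V
      rw [hl]; exact hle'
    have e : a.appLE V ⊤ hle' = i'.appLE V (i' ⁻¹ᵁ V) le_rfl ≫ (hsq.lift b a hab).appLE (i' ⁻¹ᵁ V) ⊤ hle'' := by
      rw [Scheme.Hom.appLE_comp_appLE]
      congr 1
      exact hl.symm
    have h2 : (a.appLE V ⊤ hle').hom x = 0 := by
      rw [e, CommRingCat.comp_apply, ← Scheme.Hom.app_eq_appLE, show (i'.app V).hom x = 0 from hx, map_zero]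
    have h3 : a.appLE V ⊤ hle' = π ≫ (Scheme.ΓSpecIso Q).inv := by
      rw [← Scheme.Hom.appLE_comp_appLE _ _ V ⊤ ⊤ (by rw [hV.fromSpec_preimage_self]) le_top, fromSpec_appLE_self hV,
        Scheme.ΓSpecIso_inv_naturality, Scheme.Hom.appTop, Scheme.Hom.app_eq_appLE]
      rfl
    rw [h3, CommRingCat.comp_apply] at h2
    exact Ideal.Quotient.eq_zero_iff_mem.1 ((map_eq_zero_iff _ (ConcreteCategory.bijective_of_isIso
      (Scheme.ΓSpecIso Q).inv).1).1 h2)
  · show (i'.app V).hom ((g.appLE U V hle).hom x) = 0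
    have hle2 : i' ⁻¹ᵁ V ≤ g' ⁻¹ᵁ (i ⁻¹ᵁ U) := fun y hy => by
      have := hle hy
      rwa [Scheme.Hom.mem_preimage, ← Scheme.Hom.comp_apply, ← hsq.w, Scheme.Hom.comp_apply] at this
    have h1 : g.appLE U V hle ≫ i'.app V = i.app U ≫ g'.appLE (i ⁻¹ᵁ U) (i' ⁻¹ᵁ V) hle2 := by
      rw [Scheme.Hom.app_eq_appLE, Scheme.Hom.app_eq_appLE, Scheme.Hom.appLE_comp_appLE, Scheme.Hom.appLE_comp_appLE]
      congr 1
      exact hsq.w.symm
    rw [← CommRingCat.comp_apply, h1, CommRingCat.comp_apply, show (i.app U).hom x = 0 from hx, map_zero]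

/-- Flat base change of Koszul regular immersions. -/
theorem isRegularImmersion_baseChange [Flat g] (hsq : IsPullback g' i' i g)
    (hi : RegImm.IsRegularImmersion .koszul i) : RegImm.IsRegularImmersion .koszul i' := by
  haveI := hi.1
  haveI : IsImmersion i' := MorphismProperty.of_isPullback hsq hi.1
  refine isRegularImmersion_of_forall_isKR i' fun z => ?_
  obtain ⟨U, hU, hzU, -, hcl⟩ := exists_affine_closed i (g' z) (V := ⊤) trivial
  haveI := hcl
  have hzg : i' z ∈ g ⁻¹ᵁ U := by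
    rw [Scheme.Hom.mem_preimage, ← Scheme.Hom.comp_apply, ← hsq.w, Scheme.Hom.comp_apply]; exact hzU
  obtain ⟨_, ⟨V, hV, rfl⟩, hzV, hVU⟩ := X'.isBasis_affineOpens.exists_subset_of_mem_open hzg (g ⁻¹ᵁ U).2
  refine ⟨V, hV, hzV, isClosedImmersion_restrict_of_isPullback i g i' g' hsq hVU, ?_⟩
  rw [ker_app_of_isPullback i g i' g' hsq hU hV hVU]
  exact isKR_map_of_flat _ (Scheme.Hom.flat_appLE g hU hV hVU) (isKR_of_isRegularImmersion i hi hU)

/-- Faithfully flat quasi-compact descent of Koszul regular immersions. -/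
theorem isRegularImmersion_descent [IsImmersion i] [Flat g] [Surjective g] [QuasiCompact g]
    (hsq : IsPullback g' i' i g) (hi' : RegImm.IsRegularImmersion .koszul i') :
    RegImm.IsRegularImmersion .koszul i := by
  refine isRegularImmersion_of_forall_isKR i fun z => ?_
  obtain ⟨U, hU, hzU, -, hcl⟩ := exists_affine_closed i z (V := ⊤) trivial
  haveI := hcl
  refine ⟨U, hU, hzU, hcl, ?_⟩
  haveI : CompactSpace (g ⁻¹ᵁ U).toScheme :=
    isCompact_iff_compactSpace.1 (QuasiCompact.isCompact_preimage (f := g) _ U.2 hU.isCompact)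
  let 𝒰 := (g ⁻¹ᵁ U).toScheme.affineCover.finiteSubcover
  let X'' : Scheme.{u} := ∐ fun j => 𝒰.X j
  let p : X'' ⟶ (g ⁻¹ᵁ U).toScheme := Sigma.desc 𝒰.f
  let m : X'' ⟶ X' := p ≫ (g ⁻¹ᵁ U).ι
  haveI := HasRingHomProperty.instIsZariskiLocalAtSource (P := @Flat.{u}) (Q := RingHom.Flat)
  haveI : Flat p := IsZariskiLocalAtSource.sigmaDesc (P := @Flat.{u}) fun j => inferInstance
  have hp : Function.Surjective p := fun x => by
    obtain ⟨y, hy⟩ := 𝒰.covers x
    exact ⟨Sigma.ι (fun j => 𝒰.X j) _ y, by rw [← Scheme.Hom.comp_apply]; simpa [p] using hy⟩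
  haveI : Flat m := inferInstanceAs (Flat (p ≫ _))
  haveI := hi'.1
  let i'' := pullback.snd i' m
  have hsq' : IsPullback (pullback.fst i' m ≫ g') i'' i (m ≫ g) :=
    (IsPullback.of_hasPullback i' m).paste_horiz hsq
  have hi'' : RegImm.IsRegularImmersion .koszul i'' :=
    isRegularImmersion_baseChange i' m i'' (pullback.fst i' m) (IsPullback.of_hasPullback i' m) hi'
  haveI : IsImmersion i'' := hi''.1
  have hle : (⊤ : X''.Opens) ≤ (m ≫ g) ⁻¹ᵁ U := fun x _ => by
    show g ((g ⁻¹ᵁ U).ι (p x)) ∈ U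
    exact (p x).2
  haveI : IsClosedImmersion (i'' ∣_ ⊤) := isClosedImmersion_restrict_of_isPullback i (m ≫ g) i'' _ hsq' hle
  have hKR := isKR_of_isRegularImmersion i'' hi'' (isAffineOpen_top X'')
  rw [ker_app_of_isPullback i (m ≫ g) i'' _ hsq' hU (isAffineOpen_top X'') hle] at hKR
  let φ := ((m ≫ g).appLE U ⊤ hle).hom
  letI : Algebra Γ(X, U) Γ(X'', ⊤) := φ.toAlgebra
  haveI : Module.Flat Γ(X, U) Γ(X'', ⊤) := Scheme.Hom.flat_appLE (m ≫ g) hU (isAffineOpen_top X'') hle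
  haveI : Module.FaithfullyFlat Γ(X, U) Γ(X'', ⊤) := Module.FaithfullyFlat.of_comap_surjective fun P => by
    have hxU : hU.fromSpec P ∈ U := by rw [← SetLike.mem_coe, ← hU.range_fromSpec]; exact Set.mem_range_self P
    obtain ⟨y, hy⟩ := g.surjective (hU.fromSpec P)
    obtain ⟨x, hx⟩ := hp ⟨y, by show g y ∈ U; rw [hy]; exact hxU⟩
    refine ⟨(isAffineOpen_top X'').primeIdealOf ⟨x, trivial⟩, ?_⟩
    have h1 := IsAffineOpen.comap_primeIdealOf_appLE (f := m ≫ g) U hU ⊤ (isAffineOpen_top X'') hle (x := x) trivial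
    refine h1.trans ?_
    apply hU.fromSpec.isOpenEmbedding.injective
    rw [hU.fromSpec_primeIdealOf]
    show g ((g ⁻¹ᵁ U).ι (p x)) = _
    rw [hx]
    exact hy
  exact isKR_of_faithfullyFlat _ hKR

end Groth.Agent.CI2
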