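import Groth.Agent.Lib.CI2.KRSmooth
import Groth.Agent.Lib.CI2.RImmBC
import Groth.Prelude.Def_RegImm
import Mathlib

/-!
Koszul regular immersions into smooth schemes.
-/

set_option autoImplicit false
set_option linter.style.haveILetI false
universe u

open CategoryTheory CategoryTheory.Limits AlgebraicGeometry

namespace Groth.Agent.CI2

variable {X V V' : Scheme.{u}} (i : X ⟶ V) (j : X ⟶ V') (p : V' ⟶ V)

theorem exists_smooth_chart [IsImmersion i] [IsImmersion j] [Smooth p] (h : j ≫ p = i) (z : X) :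
    ∃ (U : V.Opens) (W : V'.Opens), IsAffineOpen U ∧ IsAffineOpen W ∧ i z ∈ U ∧ j z ∈ W ∧
      IsClosedImmersion (i ∣_ U) ∧ IsClosedImmersion (j ∣_ W) ∧
        (LCI.IsKoszulRegularIdeal (RingHom.ker (i.app U).hom) ↔ LCI.IsKoszulRegularIdeal (RingHom.ker (j.app W).hom)) := by
  obtain ⟨U, hU, hzU, -, hcl⟩ := exists_affine_closed i z (V := ⊤) trivial
  haveI := hcl
  have hjU : j z ∈ p ⁻¹ᵁ U := by
    show p (j z) ∈ U
    rw [← Scheme.Hom.comp_apply, h]; exact hzU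
  obtain ⟨W, hW, hzW, hWU, hclW⟩ := exists_affine_closed j z hjU
  haveI := hclW
  obtain ⟨hXU, hs⟩ := surjective_app_of_closed i hU
  obtain ⟨f, hf1, hf2⟩ := hXU.exists_basicOpen_le (V := j ⁻¹ᵁ W) ⟨z, hzW⟩ hzU
  obtain ⟨g, rfl⟩ := hs f
  let D := V.basicOpen g
  let W' := V'.basicOpen (p.appLE U W hWU g)
  have hD : IsAffineOpen D := hU.basicOpen g
  have hW' : IsAffineOpen W' := hW.basicOpen _
  haveI : IsClosedImmersion (i ∣_ D) := isClosedImmersion_restrict_of_le i (V.basicOpen_le g)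
  haveI : IsClosedImmersion (j ∣_ W') := isClosedImmersion_restrict_of_le j (V'.basicOpen_le _)
  have hW'eq : W' = W ⊓ p ⁻¹ᵁ D := by
    show V'.basicOpen (p.appLE U W hWU g) = W ⊓ p ⁻¹ᵁ V.basicOpen g
    rw [Scheme.preimage_basicOpen, Scheme.Hom.appLE, CommRingCat.comp_apply, Scheme.basicOpen_res]
  have hpre : j ⁻¹ᵁ W' = i ⁻¹ᵁ D := by
    rw [hW'eq, ← h]
    show j ⁻¹ᵁ W ⊓ j ⁻¹ᵁ (p ⁻¹ᵁ D) = j ⁻¹ᵁ (p ⁻¹ᵁ D)
    refine inf_eq_right.2 fun x hx => hf1 ?_
    rw [← Scheme.preimage_basicOpen]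
    show x ∈ i ⁻¹ᵁ V.basicOpen g
    rw [← h]; exact hx
  have hzD : i z ∈ D := by
    have h1 : z ∈ i ⁻¹ᵁ D := by rw [Scheme.preimage_basicOpen]; exact hf2
    exact h1
  have hle : W' ≤ p ⁻¹ᵁ D := hW'eq ▸ inf_le_right
  refine ⟨D, W', hD, hW', hzD, ?_, inferInstance, inferInstance, ?_⟩
  · rw [hW'eq]
    exact ⟨hzW, show p (j z) ∈ D by rw [← Scheme.Hom.comp_apply, h]; exact hzD⟩
  have hle2 : j ⁻¹ᵁ W' ≤ i ⁻¹ᵁ D := hpre.le
  obtain ⟨-, hsD⟩ := surjective_app_of_closed i hD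
  have hbij : Function.Bijective (X.presheaf.map (homOfLE hle2).op).hom := by
    rw [Subsingleton.elim (homOfLE hle2) (eqToHom hpre)]
    exact ConcreteCategory.bijective_of_isIso (X.presheaf.map (eqToHom hpre).op)
  let α := (i.appLE D (j ⁻¹ᵁ W') hle2).hom
  have hα : α = (X.presheaf.map (homOfLE hle2).op).hom.comp (i.app D).hom := rfl
  have hαs : Function.Surjective α := by rw [hα]; exact hbij.2.comp hsD
  have hαk : RingHom.ker α = RingHom.ker (i.app D).hom := by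
    ext x
    rw [RingHom.mem_ker, RingHom.mem_ker, hα, RingHom.comp_apply]
    exact map_eq_zero_iff _ hbij.1
  letI : Algebra Γ(V, D) Γ(V', W') := (p.appLE D W' hle).hom.toAlgebra
  haveI : Algebra.Smooth Γ(V, D) Γ(V', W') := Scheme.Hom.smooth_appLE p hD hW' hle
  have hcomp : (j.app W').hom.comp (algebraMap Γ(V, D) Γ(V', W')) = α := by
    show (j.app W').hom.comp (p.appLE D W' hle).hom = _
    rw [← CommRingCat.hom_comp, Scheme.Hom.app_eq_appLE, Scheme.Hom.appLE_comp_appLE]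
    subst h
    rfl
  rw [← hαk]
  exact isKR_iff_of_smooth α hαs (j.app W').hom hcomp

theorem koszul_iff_of_smooth_comp [IsImmersion i] [IsImmersion j] [Smooth p] (h : j ≫ p = i) :
    RegImm.IsRegularImmersion .koszul i ↔ RegImm.IsRegularImmersion .koszul j := by
  refine ⟨fun hi => isRegularImmersion_of_forall_isKR j fun z => ?_,
    fun hj => isRegularImmersion_of_forall_isKR i fun z => ?_⟩
  · obtain ⟨U, W, hU, hW, hzU, hzW, hclU, hclW, hiff⟩ := exists_smooth_chart i j p h z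
    haveI := hclU
    haveI := hclW
    exact ⟨W, hW, hzW, hclW, hiff.1 (isKR_of_isRegularImmersion i hi hU)⟩
  · obtain ⟨U, W, hU, hW, hzU, hzW, hclU, hclW, hiff⟩ := exists_smooth_chart i j p h z
    haveI := hclU
    haveI := hclW
    exact ⟨U, hU, hzU, hclU, hiff.2 (isKR_of_isRegularImmersion j hj hW)⟩

/-- Koszul regularity of an immersion is local on the source. -/
theorem isRegularImmersion_of_source_cover [IsImmersion i]
    (h : ∀ z : X, ∃ O : X.Opens, z ∈ O ∧ RegImm.IsRegularImmersion .koszul (O.ι ≫ i)) :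
    RegImm.IsRegularImmersion .koszul i := by
  refine isRegularImmersion_of_forall_isKR i fun z => ?_
  obtain ⟨O, hzO, hO⟩ := h z
  obtain ⟨O', hO', hpre⟩ := i.isEmbedding.isInducing.isOpen_iff.1 O.2
  have hzO' : i z ∈ (⟨O', hO'⟩ : V.Opens) := by
    show z ∈ i ⁻¹' O'
    rw [hpre]; exact hzO
  obtain ⟨U, hU, hzU, hUO, hcl⟩ := exists_affine_closed i z hzO'
  haveI := hcl
  have hle : i ⁻¹ᵁ U ≤ O := fun x hx => by
    have : x ∈ i ⁻¹' O' := hUO hx
    rw [hpre] at this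
    exact this
  haveI := hO.1
  haveI : IsClosedImmersion ((O.ι ≫ i) ∣_ U) := by
    refine isClosedImmersion_restrict_of_range _ ?_
    have h1 : IsClosed (U.ι ⁻¹' Set.range i) := by rw [← range_restrict]; exact (i ∣_ U).isClosedEmbedding.isClosed_range
    convert h1 using 1
    ext x
    refine ⟨fun ⟨y, hy⟩ => ⟨O.ι y, hy⟩, fun ⟨y, hy⟩ => ?_⟩
    exact ⟨⟨y, hle (show i y ∈ U by rw [hy]; exact x.2)⟩, hy⟩
  refine ⟨U, hU, hzU, hcl, ?_⟩
  have hKR := isKR_of_isRegularImmersion _ hO hU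
  convert hKR using 1
  ext x
  rw [RingHom.mem_ker, RingHom.mem_ker, Scheme.Hom.comp_app]
  show _ ↔ (O.ι.app (i ⁻¹ᵁ U)).hom ((i.app U).hom x) = 0
  haveI : IsIso (O.ι.app (i ⁻¹ᵁ U)) := O.ι.isIso_app _ (by rw [Scheme.Opens.opensRange_ι]; exact hle)
  exact (map_eq_zero_iff _ (ConcreteCategory.bijective_of_isIso (O.ι.app (i ⁻¹ᵁ U))).1).symm

/-- An immersion of a Koszul morphism into a smooth scheme is Koszul regular. -/
theorem koszul_of_isKoszulAt {Y : Scheme.{u}} (f : X ⟶ Y) (hf : ∀ x : X, Synt.IsKoszulAt f x) (π : V ⟶ Y) [Smooth π]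
    [IsImmersion i] (h : i ≫ π = f) : RegImm.IsRegularImmersion .koszul i := by
  refine isRegularImmersion_of_source_cover i fun z => ?_
  obtain ⟨O, P, i₀, π₀, hzO, -, hi₀, hπ₀, hcomp⟩ := hf z
  refine ⟨O, hzO, ?_⟩
  haveI := hi₀.1
  haveI := hπ₀
  have hw : i₀ ≫ π₀ = (O.ι ≫ i) ≫ π := by rw [hcomp, Category.assoc, h]
  let k := pullback.lift i₀ (O.ι ≫ i) hw
  haveI : IsImmersion k := by
    haveI : IsImmersion (k ≫ pullback.fst π₀ π) := by rw [pullback.lift_fst]; infer_instance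
    exact IsImmersion.of_comp k (pullback.fst π₀ π)
  haveI : Smooth (pullback.fst π₀ π) := inferInstance
  haveI : Smooth (pullback.snd π₀ π) := inferInstance
  have hk := (koszul_iff_of_smooth_comp i₀ k (pullback.fst π₀ π) (pullback.lift_fst _ _ _)).1 hi₀
  exact (koszul_iff_of_smooth_comp (O.ι ≫ i) k (pullback.snd π₀ π) (pullback.lift_snd _ _ _)).2 hk

/-- Flat base change of Koszul morphisms. -/
theorem isKoszulAt_baseChange {Y X' Y' : Scheme.{u}} (f : X ⟶ Y) (g : Y' ⟶ Y) [Flat g]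
    (f' : X' ⟶ Y') (g' : X' ⟶ X) (hsq : IsPullback g' f' f g)
    (hf : ∀ x : X, Synt.IsKoszulAt f x) (x' : X') : Synt.IsKoszulAt f' x' := by
  obtain ⟨O, P, i₀, π₀, hxO, hft, hi₀, hπ₀, hcomp⟩ := hf (g' x')
  haveI := hπ₀
  haveI := hft
  have h1 : IsPullback (g' ∣_ O) ((g' ⁻¹ᵁ O).ι ≫ f') (O.ι ≫ f) g :=
    ((isPullback_morphismRestrict g' O).paste_vert hsq)
  let i' : (g' ⁻¹ᵁ O).toScheme ⟶ pullback π₀ g := pullback.lift ((g' ∣_ O) ≫ i₀) ((g' ⁻¹ᵁ O).ι ≫ f')
    (by rw [Category.assoc, hcomp, h1.w])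
  have h2 : IsPullback (g' ∣_ O) i' i₀ (pullback.fst π₀ g) := by
    refine IsPullback.of_bot ?_ (pullback.lift_fst _ _ _).symm (IsPullback.of_hasPullback π₀ g)
    rw [pullback.lift_snd, hcomp]
    exact h1
  haveI : Flat (pullback.fst π₀ g) := inferInstance
  haveI : Smooth (pullback.snd π₀ g) := inferInstance
  haveI : LocallyOfFiniteType ((g' ⁻¹ᵁ O).ι ≫ f') :=
    MorphismProperty.of_isPullback (P := @LocallyOfFiniteType) h1 hft
  exact ⟨g' ⁻¹ᵁ O, pullback π₀ g, i', pullback.snd π₀ g, hxO, inferInstance,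
    isRegularImmersion_baseChange i₀ (pullback.fst π₀ g) i' (g' ∣_ O) h2 hi₀, inferInstance,
    pullback.lift_snd _ _ _⟩

end Groth.Agent.CI2
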