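import Groth.Agent.Lib.CI2.KRLocal
import Groth.Prelude.Def_RegImm
import Mathlib

/-!
Koszul regular immersions are the immersions whose local ideals are Koszul regular ideals.
-/

set_option autoImplicit false
set_option linter.style.haveILetI false
universe u

open CategoryTheory AlgebraicGeometry

namespace Groth.Agent.CI2

/-- A witness of Koszul regularity on a localisation gives one on `Localization.Away`. -/
theorem exists_away_witness {A S : Type u} [CommRing A] [CommRing S] [Algebra A S] (g : A) [IsLocalization.Away g S]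
    {I : Ideal A} {l : List S} (hl : Ex S S l) (hspan : I.map (algebraMap A S) = Ideal.ofList l) :
    ∃ l' : List (Localization.Away g), Ex (Localization.Away g) (Localization.Away g) l' ∧
      I.map (algebraMap A (Localization.Away g)) = Ideal.ofList l' := by
  let e : S ≃ₐ[A] Localization.Away g := IsLocalization.algEquiv (Submonoid.powers g) S (Localization.Away g)
  refine ⟨l.map e.toRingEquiv, ex_map_equiv e.toRingEquiv hl, ?_⟩
  rw [show l.map e.toRingEquiv = l.map e.toRingEquiv.toRingHom from rfl, ← Ideal.map_ofList, ← hspan, Ideal.map_map]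
  exact congrArg (fun φ => Ideal.map φ I) (RingHom.ext fun a => (e.commutes a).symm)

variable {Z X : Scheme.{u}} (i : Z ⟶ X)

theorem isClosedImmersion_restrict_of_le {U V : X.Opens} (hVU : V ≤ U) [IsClosedImmersion (i ∣_ U)] :
    IsClosedImmersion (i ∣_ V) := by
  have h1 : IsClosedImmersion ((i ∣_ U) ∣_ (U.ι ⁻¹ᵁ V)) := inferInstance
  have h2 := (MorphismProperty.arrow_mk_iso_iff @IsClosedImmersion (morphismRestrictRestrict i U (U.ι ⁻¹ᵁ V))).1 h1
  have hV : U.ι ''ᵁ (U.ι ⁻¹ᵁ V) = V := by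
    rw [Scheme.Hom.image_preimage_eq_opensRange_inf, Scheme.Opens.opensRange_ι, inf_eq_right.2 hVU]
  exact (MorphismProperty.arrow_mk_iso_iff @IsClosedImmersion (morphismRestrictEq i hV)).1 h2

theorem surjective_app_of_closed {U : X.Opens} (hU : IsAffineOpen U) [IsClosedImmersion (i ∣_ U)] :
    IsAffineOpen (i ⁻¹ᵁ U) ∧ Function.Surjective (i.app U).hom := by
  haveI : IsAffine U.toScheme := hU
  obtain ⟨h1, h2⟩ := IsClosedImmersion.isAffine_surjective_of_isAffine (i ∣_ U)
  refine ⟨h1, ?_⟩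
  have key : ∀ V : X.Opens, V = U → Function.Surjective (i.app V).hom → Function.Surjective (i.app U).hom := by
    rintro V rfl h; exact h
  refine key _ (Scheme.Opens.ι_image_top U) fun y => ?_
  obtain ⟨x, hx⟩ := h2 ((Z.presheaf.map (eqToHom (image_morphismRestrict_preimage i U ⊤)).op).hom y)
  rw [morphismRestrict_appTop] at hx
  exact ⟨x, (ConcreteCategory.bijective_of_isIso
    (Z.presheaf.map (eqToHom (image_morphismRestrict_preimage i U ⊤)).op)).1 hx⟩

/-- The ideal of `i` on a basic open. -/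
theorem ker_app_basicOpen {U V : X.Opens} (hU : IsAffineOpen U) [IsClosedImmersion (i ∣_ U)] (g : Γ(X, U))
    (hV : V = X.basicOpen g) (hle : V ≤ U) :
    RingHom.ker (i.app V).hom = (RingHom.ker (i.app U).hom).map (X.presheaf.map (homOfLE hle).op).hom := by
  subst hV
  obtain ⟨hW, -⟩ := surjective_app_of_closed i hU
  haveI := hU.isLocalization_basicOpen g
  haveI := hW.isLocalization_basicOpen (i.app U g)
  have hmap : (Submonoid.powers g).map (i.app U).hom = Submonoid.powers ((i.app U).hom g) := Submonoid.map_powers _ _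
  have h1 := IsLocalization.ker_map (S := Γ(X, X.basicOpen g)) Γ(Z, Z.basicOpen (i.app U g)) (i.app U).hom hmap
  refine Eq.trans ?_ (h1.trans rfl)
  rw [hU.app_basicOpen_eq_away_map i hW g, CommRingCat.hom_comp]
  ext x
  simp only [RingHom.mem_ker, RingHom.comp_apply]
  exact map_eq_zero_iff _ (ConcreteCategory.bijective_of_isIso (Z.presheaf.map _)).1

theorem ker_le_primeIdealOf {U : X.Opens} (hU : IsAffineOpen U) [IsClosedImmersion (i ∣_ U)] {z : Z}
    (hz : i z ∈ U) : RingHom.ker (i.app U).hom ≤ (hU.primeIdealOf ⟨i z, hz⟩).asIdeal := by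
  obtain ⟨hW, -⟩ := surjective_app_of_closed i hU
  rw [← IsAffineOpen.comap_primeIdealOf_appLE U hU (i ⁻¹ᵁ U) hW le_rfl hz, ← Scheme.Hom.app_eq_appLE]
  exact Ideal.comap_mono bot_le

theorem exists_point_of_ker_le {U : X.Opens} (hU : IsAffineOpen U) [IsClosedImmersion (i ∣_ U)]
    (p : PrimeSpectrum Γ(X, U)) (hp : RingHom.ker (i.app U).hom ≤ p.asIdeal) :
    ∃ z : Z, i z = hU.fromSpec p := by
  obtain ⟨hW, hs⟩ := surjective_app_of_closed i hU
  haveI := Ideal.map_isPrime_of_surjective hs hp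
  let q : PrimeSpectrum Γ(Z, i ⁻¹ᵁ U) := ⟨p.asIdeal.map (i.app U).hom, inferInstance⟩
  let qS : Spec Γ(Z, i ⁻¹ᵁ U) := q
  have hq : PrimeSpectrum.comap (i.appLE U (i ⁻¹ᵁ U) le_rfl).hom q = p := by
    refine PrimeSpectrum.ext ?_
    rw [PrimeSpectrum.comap_asIdeal, ← Scheme.Hom.app_eq_appLE]
    show (p.asIdeal.map (i.app U).hom).comap (i.app U).hom = p.asIdeal
    rw [Ideal.comap_map_of_surjective _ hs, ← RingHom.ker_eq_comap_bot, sup_eq_left.2 hp]
  have h3 := Scheme.Hom.comp_apply hW.fromSpec i qS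
  have h4 := Scheme.Hom.comp_apply (Spec.map (i.appLE U (i ⁻¹ᵁ U) le_rfl)) hU.fromSpec qS
  rw [IsAffineOpen.SpecMap_appLE_fromSpec i hU hW le_rfl] at h4
  refine ⟨hW.fromSpec qS, ?_⟩
  have h5 : Spec.map (i.appLE U (i ⁻¹ᵁ U) le_rfl) qS = p := hq
  rw [h5] at h4
  exact h3.symm.trans h4

/-- From a Koszul regular local ideal to a Koszul regular immersion at a point. -/
theorem isRegularImmersionAt_of_isKR {U : X.Opens} (hU : IsAffineOpen U) [IsClosedImmersion (i ∣_ U)] {z : Z}
    (hz : i z ∈ U) (h : LCI.IsKoszulRegularIdeal (RingHom.ker (i.app U).hom)) :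
    RegImm.IsRegularImmersionAt .koszul i z := by
  obtain ⟨g, hg, l, hl, hspan⟩ := (isKR_iff _).1 h _ (ker_le_primeIdealOf i hU hz)
  haveI := hU.isLocalization_basicOpen g
  let e : Localization.Away g ≃ₐ[Γ(X, U)] Γ(X, X.basicOpen g) :=
    IsLocalization.algEquiv (Submonoid.powers g) _ _
  refine ⟨⟨X.basicOpen g, hU.basicOpen g⟩, ?_, isClosedImmersion_restrict_of_le i (X.basicOpen_le g),
    l.map e.toRingEquiv, ?_, ?_⟩
  · have h1 := hU.fromSpec_preimage_basicOpen g
    have h2 : hU.primeIdealOf ⟨i z, hz⟩ ∈ hU.fromSpec ⁻¹ᵁ X.basicOpen g := by rw [h1]; exact hg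
    have h3 : hU.fromSpec (hU.primeIdealOf ⟨i z, hz⟩) ∈ X.basicOpen g := h2
    rwa [hU.fromSpec_primeIdealOf] at h3
  · exact (isKoszulRegularSeq_iff_ex _).2 (ex_map_equiv e.toRingEquiv hl)
  · refine (ker_app_basicOpen i hU g rfl (X.basicOpen_le g)).trans ?_
    rw [show l.map e.toRingEquiv = l.map e.toRingEquiv.toRingHom from rfl, ← Ideal.map_ofList, ← hspan, Ideal.map_map]
    exact congrArg (fun φ => Ideal.map φ _) (RingHom.ext fun a => (e.commutes a).symm)

/-- The local ideals of a Koszul regular immersion are Koszul regular. -/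
theorem isKR_of_isRegularImmersion (hi : RegImm.IsRegularImmersion .koszul i) {U : X.Opens} (hU : IsAffineOpen U)
    [IsClosedImmersion (i ∣_ U)] : LCI.IsKoszulRegularIdeal (RingHom.ker (i.app U).hom) := by
  rw [isKR_iff]
  intro p hp
  obtain ⟨z, hz⟩ := exists_point_of_ker_le i hU p hp
  have hxU : hU.fromSpec p ∈ U := by rw [← SetLike.mem_coe, ← hU.range_fromSpec]; exact Set.mem_range_self p
  obtain ⟨⟨U', hU'⟩, hzU', hcl, rs, hrs, hker⟩ := hi.2 z
  haveI := hcl
  obtain ⟨f, g, hfg, hxf⟩ := exists_basicOpen_le_affine_inter hU hU' (hU.fromSpec p) ⟨hxU, hz ▸ hzU'⟩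
  haveI := hU.isLocalization_basicOpen f
  have hle : X.basicOpen f ≤ U' := hfg ▸ X.basicOpen_le g
  letI : Algebra Γ(X, U') Γ(X, X.basicOpen f) := (X.presheaf.map (homOfLE hle).op).hom.toAlgebra
  haveI : IsLocalization.Away g Γ(X, X.basicOpen f) := hU'.isLocalization_of_eq_basicOpen g (homOfLE hle) hfg
  refine ⟨f, fun hfp => ?_, exists_away_witness f
    (Ex.localization (B := Γ(X, X.basicOpen f)) (Submonoid.powers g) ((isKoszulRegularSeq_iff_ex rs).1 hrs)) ?_⟩
  · have h2 : p ∈ hU.fromSpec ⁻¹ᵁ X.basicOpen f := hxf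
    rw [hU.fromSpec_preimage_basicOpen] at h2
    exact h2 hfp
  · refine Eq.trans (ker_app_basicOpen i hU f rfl (X.basicOpen_le f)).symm ?_
    rw [ker_app_basicOpen i hU' g hfg hle, hker, Ideal.map_ofList]
    rfl

/-- Koszul regular immersions, checked on an affine neighbourhood of each point. -/
theorem isRegularImmersion_of_forall_isKR [IsImmersion i]
    (h : ∀ z : Z, ∃ (U : X.Opens), IsAffineOpen U ∧ i z ∈ U ∧ IsClosedImmersion (i ∣_ U) ∧
      LCI.IsKoszulRegularIdeal (RingHom.ker (i.app U).hom)) :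
    RegImm.IsRegularImmersion .koszul i := by
  refine ⟨inferInstance, fun z => ?_⟩
  obtain ⟨U, hU, hz, hcl, hKR⟩ := h z
  haveI := hcl
  exact isRegularImmersionAt_of_isKR i hU hz hKR

end Groth.Agent.CI2
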