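import Groth.Agent.Lib.CI2.Ops
import Mathlib

/-!
Degree zero homology of the Koszul complex and the conormal module of a Koszul regular sequence.
-/

set_option autoImplicit false
set_option linter.style.haveILetI false
universe u

open CategoryTheory
open Groth.Agent.CanElt (KObj kd k0)

namespace Groth.Agent.CI2

variable (A : Type u) [CommRing A]

/-- The zeroth Koszul homology is the quotient by the ideal of the sequence. -/
theorem homology_zero (l : List A) :
    Nonempty ((Koszul.koszul A l).homology 0 ≅ ModuleCat.of A (A ⧸ Ideal.ofList l)) := by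
  let K := Koszul.koszul A l
  let S := K.sc' (-1) 0 1
  let φ : K.X 0 →ₗ[A] A ⧸ Ideal.ofList l :=
    (Ideal.ofList l).mkQ ∘ₗ (k0 A A l).toLinearMap ∘ₗ (kEquiv A l 0 0 (by simp)).toLinearMap
  have hker : ∀ x, φ x = 0 ↔ ∃ y, (K.d (-1) 0).hom y = x := by
    intro x
    have hmem : φ x = 0 ↔ kEquiv A l 0 0 (by simp) x ∈ LinearMap.range (kd A A l 0) := by
      rw [CanElt.mem_range_kd_zero, smul_eq_mul, Ideal.mul_top]
      exact Submodule.Quotient.mk_eq_zero _
    rw [hmem]
    constructor
    · rintro ⟨w, hw⟩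
      refine ⟨(kEquiv A l 1 (-1) (by simp)).symm w, (kEquiv A l 0 0 (by simp)).injective ?_⟩
      exact (kEquiv_d A l 0 (-1) (by simp) _).trans (by rw [LinearEquiv.apply_symm_apply, hw])
    · rintro ⟨y, rfl⟩
      exact ⟨kEquiv A l 1 (-1) (by simp) y, (kEquiv_d A l 0 (-1) (by simp) y).symm⟩
  haveI : Subsingleton S.X₃ := ModuleCat.subsingleton_of_isZero (isZero_X_of_pos A l 1 one_pos)
  let ψ : LinearMap.ker S.g.hom →ₗ[A] A ⧸ Ideal.ofList l := φ ∘ₗ (LinearMap.ker S.g.hom).subtype
  have hψ : Function.Surjective ψ := fun q => by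
    obtain ⟨a, rfl⟩ := Submodule.mkQ_surjective _ q
    exact ⟨⟨(kEquiv A l 0 0 (by simp)).symm ((k0 A A l).symm a), Subsingleton.elim _ _⟩, by
      show (Ideal.ofList l).mkQ (k0 A A l (kEquiv A l 0 0 _ ((kEquiv A l 0 0 _).symm _))) = _
      rw [LinearEquiv.apply_symm_apply, LinearEquiv.apply_symm_apply]⟩
  have hψk : LinearMap.range S.moduleCatToCycles = LinearMap.ker ψ := by
    ext x
    constructor
    · rintro ⟨y, rfl⟩
      exact (hker _).mpr ⟨y, rfl⟩
    · intro hx
      obtain ⟨y, hy⟩ := (hker _).mp hx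
      exact ⟨y, Subtype.ext hy⟩
  refine ⟨K.homologyIsoSc' (-1) 0 1 (by simp) (by simp) ≪≫ S.moduleCatHomologyIso ≪≫ LinearEquiv.toModuleIso ?_⟩
  exact Submodule.quotEquivOfEq _ _ hψk ≪≫ₗ LinearMap.quotKerEquivOfSurjective ψ hψ

variable {A}

/-- A list of coefficients as an element of degree one. -/
noncomputable def deg1 : ∀ l : List A, (Fin l.length → A) →ₗ[A] KObj A A l 1
  | [] => 0
  | _ :: l => (deg1 l ∘ₗ LinearMap.funLeft A A Fin.succ).prod ((k0 A A l).symm.toLinearMap ∘ₗ LinearMap.proj 0)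

theorem k0_kd_deg1 : ∀ (l : List A) (r : Fin l.length → A),
    k0 A A l (kd A A l 0 (deg1 l r)) = ∑ i, r i * l.get i
  | [], r => by
    rw [show deg1 [] r = 0 from rfl, map_zero, map_zero]
    exact Finset.univ_eq_empty (α := Fin 0) ▸ rfl
  | f :: l, r => by
    change k0 A A l (kd A A l 0 (deg1 l (fun i => r i.succ)) + f • (k0 A A l).symm (r 0)) = _
    rw [map_add, map_smul, LinearEquiv.apply_symm_apply, k0_kd_deg1 l, smul_eq_mul]
    rw [show (∑ i : Fin (f :: l).length, r i * (f :: l).get i) = r 0 * f + ∑ i : Fin l.length, r i.succ * l.get i from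
      Fin.sum_univ_succ (fun i : Fin (l.length + 1) => r i * (f :: l).get i)]
    ring

theorem map_mem_smul_top {X Y : Type u} [AddCommGroup X] [Module A X] [AddCommGroup Y] [Module A Y] (I : Ideal A)
    (φ : X →ₗ[A] Y) {x : X} (hx : x ∈ I • (⊤ : Submodule A X)) : φ x ∈ I • (⊤ : Submodule A Y) := by
  have h := Submodule.mem_map_of_mem (f := φ) hx
  rw [Submodule.map_smul''] at h
  exact Submodule.smul_mono le_rfl le_top h

theorem mem_of_deg1_mem (I : Ideal A) : ∀ (l : List A) (r : Fin l.length → A),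
    deg1 l r ∈ I • (⊤ : Submodule A (KObj A A l 1)) → ∀ i, r i ∈ I
  | [], _, _, i => i.elim0
  | f :: l, r, h, i => by
    have h1 := map_mem_smul_top I (LinearMap.fst A (KObj A A l 1) (KObj A A l 0)) h
    have h2 := map_mem_smul_top I ((k0 A A l).toLinearMap ∘ₗ LinearMap.snd A (KObj A A l 1) (KObj A A l 0)) h
    refine Fin.cases ?_ (fun j => ?_) i
    · have h3 : k0 A A l ((k0 A A l).symm (r 0)) ∈ I • (⊤ : Submodule A A) := h2
      rw [LinearEquiv.apply_symm_apply, smul_eq_mul, Ideal.mul_top] at h3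
      exact h3
    · exact mem_of_deg1_mem I l (fun j => r j.succ) h1 j

/-- The coefficients of a relation of a Koszul regular sequence lie in its ideal. -/
theorem mem_of_relation {l : List A} (h : Ex A A l) (r : Fin l.length → A)
    (hr : ∑ i, r i * l.get i = 0) (i : Fin l.length) : r i ∈ Ideal.ofList l := by
  refine mem_of_deg1_mem _ l r ?_ i
  obtain ⟨w, hw⟩ := h 0 (deg1 l r) ((k0 A A l).injective (by rw [k0_kd_deg1, hr, map_zero]))
  exact CanElt.range_kd_le A A l 1 ⟨w, hw⟩

theorem mem_of_sq_relation {n : ℕ} {f : Fin n → A} (h : Ex A A (List.ofFn f)) (r : Fin n → A)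
    (hr : ∑ i, r i * f i ∈ Ideal.span (Set.range f) ^ 2) (i : Fin n) : r i ∈ Ideal.span (Set.range f) := by
  have hofList : Ideal.ofList (List.ofFn f) = Ideal.span (Set.range f) :=
    congrArg Ideal.span (Set.ext fun x => by simp [List.mem_ofFn'])
  rw [pow_two, ← smul_eq_mul] at hr
  change _ ∈ Ideal.span (Set.range f) • Submodule.span A (Set.range f) at hr
  rw [Submodule.mem_ideal_smul_span_iff_exists_sum] at hr
  obtain ⟨b, hb, hbsum⟩ := hr
  have key := mem_of_relation h (fun j => r (j.cast List.length_ofFn) - b (j.cast List.length_ofFn)) ?_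
    (i.cast List.length_ofFn.symm)
  · rw [hofList] at key
    have := add_mem key (hb i)
    simpa using this
  · rw [← Fintype.sum_equiv (finCongr (List.length_ofFn (f := f)).symm) (fun j => (r j - b j) * f j) _ (fun j => by simp)]
    simp only [sub_mul, Finset.sum_sub_distrib]
    rw [Finsupp.sum_fintype _ _ (fun j => by simp)] at hbsum
    simp only [smul_eq_mul] at hbsum
    rw [hbsum, sub_self]

end Groth.Agent.CI2
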