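import Groth.Agent.Lib.CI2.KRStep
import Groth.Prelude.Def_LCI2
import Mathlib

/-!
Koszul regularity of the kernel of a presentation does not depend on the presentation.
-/

set_option autoImplicit false
universe u

open Polynomial in
theorem Groth.Agent.CI2.isKR_comap_evalRingHom {P : Type u} [CommRing P] (p : P) (I : Ideal P) :
    LCI.IsKoszulRegularIdeal (I.comap (evalRingHom p)) ↔ LCI.IsKoszulRegularIdeal I := by
  have hσ : Function.Surjective (evalRingHom p) := fun x => ⟨C x, eval_C⟩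
  have hf : ∀ a : P[X], (X - C p) * a = 0 → a = 0 := fun a h => (monic_X_sub_C p).mul_right_eq_zero_iff.1 h
  refine ⟨Groth.Agent.CI2.isKR_of_isKR_comap _ hσ _ (ker_evalRingHom p) hf (fun a => derivative a) (fun a b => map_add _ a b)
      (fun a b => ?_) (fun q hq _ h => ?_),
    Groth.Agent.CI2.isKR_comap_of_isKR _ hσ _ (ker_evalRingHom p) hf⟩
  · rw [derivative_mul]; ring
  · have h1 : (1 : P[X]) ∈ q := by simpa using h
    exact hq.ne_top ((Ideal.eq_top_iff_one q).2 h1)

namespace Groth.Agent.CI2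

open MvPolynomial

theorem isKR_ker_comp_equiv {Q P S : Type u} [CommRing Q] [CommRing P] [CommRing S] (φ : P →+* S) (e : Q ≃+* P) :
    LCI.IsKoszulRegularIdeal (RingHom.ker (φ.comp e.toRingHom)) ↔ LCI.IsKoszulRegularIdeal (RingHom.ker φ) := by
  rw [← RingHom.comap_ker]
  have h : (RingHom.ker φ).comap e.toRingHom = (RingHom.ker φ).map e.symm.toRingHom := (Ideal.map_symm e).symm
  rw [h, isKR_map_equiv_iff]

theorem isKR_eval₂Hom (τ : Type) [Fintype τ] : ∀ (P S : Type u) [CommRing P] [CommRing S] (α : P →+* S),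
    Function.Surjective α → ∀ b : τ → S,
      (LCI.IsKoszulRegularIdeal (RingHom.ker (eval₂Hom α b)) ↔ LCI.IsKoszulRegularIdeal (RingHom.ker α)) := by
  refine Fintype.induction_empty_option (P := fun (τ : Type) _ => ∀ (P S : Type u) [CommRing P] [CommRing S] (α : P →+* S),
    Function.Surjective α → ∀ b : τ → S,
      (LCI.IsKoszulRegularIdeal (RingHom.ker (eval₂Hom α b)) ↔ LCI.IsKoszulRegularIdeal (RingHom.ker α))) ?_ ?_ ?_ τ
  · intro τ τ' _ e ih
    intro P S _ _ α hα b
    rw [← ih P S α hα (b ∘ e), ← isKR_ker_comp_equiv (eval₂Hom α b) (renameEquiv P e).toRingEquiv]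
    refine Iff.of_eq (congrArg (fun φ => LCI.IsKoszulRegularIdeal (RingHom.ker φ)) (MvPolynomial.ringHom_ext (fun r => ?_) fun i => ?_))
    · simp
    · simp
  ·
    intro P S _ _ α hα b
    rw [← isKR_ker_comp_equiv α (MvPolynomial.isEmptyRingEquiv P PEmpty.{1})]
    refine Iff.of_eq (congrArg (fun φ => LCI.IsKoszulRegularIdeal (RingHom.ker φ)) ?_)
    refine MvPolynomial.ringHom_ext (fun r => ?_) fun i => i.elim
    show _ = α (MvPolynomial.isEmptyRingEquiv P PEmpty.{1} (C r))
    rw [← MvPolynomial.isEmptyRingEquiv_symm_apply, RingEquiv.apply_symm_apply, MvPolynomial.isEmptyRingEquiv_symm_apply, eval₂Hom_C]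
  · intro τ _ ih
    intro P S _ _ α hα b
    let α' := eval₂Hom α (b ∘ some)
    have hα' : Function.Surjective α' := fun s => by
      obtain ⟨r, rfl⟩ := hα s
      exact ⟨C r, eval₂Hom_C _ _ _⟩
    obtain ⟨p, hp⟩ := hα' (b none)
    have h : eval₂Hom α b = (α'.comp (Polynomial.evalRingHom p)).comp (optionEquivLeft P τ).toRingEquiv.toRingHom := by
      refine MvPolynomial.ringHom_ext (fun r => ?_) fun i => ?_
      · simp [α']
      · cases i with
        | none => simpa using hp.symm
        | some i => simp [α']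
    rw [h, isKR_ker_comp_equiv, ← RingHom.comap_ker, isKR_comap_evalRingHom]
    exact ih P S α hα (b ∘ some)

/-- Adding variables does not affect Koszul regularity of the kernel of a presentation. -/
theorem isKR_aeval_sumElim {A B : Type u} [CommRing A] [CommRing B] [Algebra A B] {τ₁ τ₂ : Type} [Fintype τ₁]
    (a : τ₁ → B) (b : τ₂ → B) (hb : Function.Surjective (aeval (R := A) b)) :
    LCI.IsKoszulRegularIdeal (RingHom.ker (aeval (R := A) (Sum.elim a b)).toRingHom) ↔
      LCI.IsKoszulRegularIdeal (RingHom.ker (aeval (R := A) b).toRingHom) := by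
  rw [← isKR_eval₂Hom τ₁ _ B (aeval (R := A) b).toRingHom hb a,
    ← isKR_ker_comp_equiv (eval₂Hom (aeval (R := A) b).toRingHom a) (sumRingEquiv A τ₁ τ₂)]
  refine Iff.of_eq (congrArg (fun φ => LCI.IsKoszulRegularIdeal (RingHom.ker φ)) (MvPolynomial.ringHom_ext (fun r => ?_) fun i => ?_))
  · simp
  · cases i <;> simp

/-- Independence of the presentation. -/
theorem isKR_ker_of_isKR_ker {A B : Type u} [CommRing A] [CommRing B] [Algebra A B] {τ₁ τ₂ : Type} [Fintype τ₁]
    [Fintype τ₂] (α : MvPolynomial τ₁ A →ₐ[A] B) (hα : Function.Surjective α)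
    (β : MvPolynomial τ₂ A →ₐ[A] B) (hβ : Function.Surjective β)
    (h : LCI.IsKoszulRegularIdeal (RingHom.ker α.toRingHom)) :
    LCI.IsKoszulRegularIdeal (RingHom.ker β.toRingHom) := by
  rw [aeval_unique α] at h hα
  rw [aeval_unique β] at hβ ⊢
  rw [← isKR_aeval_sumElim (β ∘ X) (α ∘ X) hα,
    ← isKR_ker_comp_equiv _ (renameEquiv A (Equiv.sumComm τ₁ τ₂)).toRingEquiv] at h
  rw [← isKR_aeval_sumElim (α ∘ X) (β ∘ X) hβ]
  refine (Iff.of_eq (congrArg (fun φ => LCI.IsKoszulRegularIdeal (RingHom.ker φ)) (MvPolynomial.ringHom_ext (fun r => ?_) fun i => ?_))).1 h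
  · simp
  · cases i <;> simp

end Groth.Agent.CI2
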