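import Groth.Agent.Lib.CI2.Synt
import Mathlib

/-!
Syntomic morphisms: the `HasRingHomProperty` instance, and the fibrewise criterion.
-/

set_option autoImplicit false
set_option linter.style.haveILetI false
universe u

open CategoryTheory Limits AlgebraicGeometry

namespace Groth.Agent.CI2

/-- A syntomic algebra over a field is a local complete intersection. -/
theorem isLCIOver_of_isSyntomic_field {k F : Type u} [Field k] [CommRing F] [Algebra k F]
    (h : Synt.IsSyntomic k F) : Synt.IsLCIOver k F := by
  let p : PrimeSpectrum k := ⊥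
  let σ : k ≃ₐ[k] p.asIdeal.ResidueField := AlgEquiv.ofBijective (Algebra.ofId k _)
    ⟨(algebraMap k p.asIdeal.ResidueField).injective, p.asIdeal.algebraMap_residueField_surjective⟩
  let e : F ≃ₐ[k] p.asIdeal.Fiber F :=
    (Algebra.TensorProduct.lid k F).symm.trans (Algebra.TensorProduct.congr σ AlgEquiv.refl)
  refine isLCIOver_congr_semilinear σ.toRingEquiv.symm e.toRingEquiv.symm (fun a => ?_) (h.2.2 p)
  apply e.injective
  show e (e.symm _) = _
  rw [AlgEquiv.apply_symm_apply, AlgEquiv.commutes, IsScalarTower.algebraMap_apply k p.asIdeal.ResidueField (p.asIdeal.Fiber F)]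
  exact congrArg _ (σ.apply_symm_apply a).symm

/-- Syntomic morphisms as a morphism property. -/
def syntMor : MorphismProperty Scheme.{u} := fun _ _ f => Synt.IsSyntomicMor f

instance : HasRingHomProperty syntMor.{u} @SyntHom.{u} where
  isLocal_ringHomProperty := syntHom_propertyIsLocal
  eq_affineLocally' := by
    haveI : HasRingHomProperty (affineLocally @SyntHom.{u}) @SyntHom.{u} := ⟨syntHom_propertyIsLocal, rfl⟩
    ext X Y f
    rw [HasRingHomProperty.iff_appLE (P := affineLocally @SyntHom.{u}) (Q := @SyntHom.{u})]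
    exact isSyntomicMor_iff_appLE f

theorem syntHom_of_smooth {R S : Type u} [CommRing R] [CommRing S] [Algebra R S] [Algebra.Smooth R S] :
    Synt.IsSyntomic R S :=
  ⟨inferInstance, inferInstance, fun _ => isLCIOver_of_smooth⟩

theorem syntMor_of_smooth {X Y : Scheme.{u}} (f : X ⟶ Y) [Smooth f] : Synt.IsSyntomicMor f := by
  refine (isSyntomicMor_iff_appLE f).mpr fun U V e => ?_
  have h : (f.appLE U.1 V.1 e).hom.Smooth := HasRingHomProperty.appLE @Smooth f ‹_› U V e
  algebraize [(f.appLE U.1 V.1 e).hom]
  exact syntHom_algebraMap.mpr syntHom_of_smooth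

theorem syntMor_of_isPullback_iso {P X Y Z : Scheme.{u}} {fst : P ⟶ X} {snd : P ⟶ Y} {f : X ⟶ Z} {g : Y ⟶ Z}
    (h : IsPullback fst snd f g) [IsIso g] (hf : syntMor f) : syntMor snd := by
  haveI := h.isIso_fst_of_isIso
  exact (MorphismProperty.arrow_mk_iso_iff syntMor (Arrow.isoMk (asIso fst) (asIso g) h.w)).mpr hf

set_option backward.isDefEq.respectTransparency false in
/-- Flat, locally of finite presentation, with syntomic fibres implies syntomic. -/
theorem syntMor_of_fibres {X Y : Scheme.{u}} (f : X ⟶ Y) [LocallyOfFinitePresentation f] [Flat f]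
    (hfib : ∀ y, syntMor (f.fiberToSpecResidueField y)) : syntMor f := by
  wlog h : ∃ R, Y = Spec R
  · rw [IsZariskiLocalAtTarget.iff_of_openCover (P := syntMor) Y.affineCover]
    intro i
    dsimp [Scheme.Cover.pullbackHom]
    refine this _ (fun y ↦ ?_) ⟨_, rfl⟩
    have hp := isPullback_fiberToSpecResidueField_of_isPullback (IsPullback.of_hasPullback f (Y.affineCover.f i)) y
    exact syntMor_of_isPullback_iso hp (hfib _)
  obtain ⟨R, rfl⟩ := h
  wlog h : ∃ S, X = Spec S generalizing f X
  · rw [IsZariskiLocalAtSource.iff_of_openCover (P := syntMor) X.affineCover]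
    intro i
    refine this _ (fun y ↦ ?_) ⟨_, rfl⟩
    rw [Scheme.Hom.fiberToSpecResidueField, ← pullbackRightPullbackFstIso_inv_snd_snd]
    exact (MorphismProperty.cancel_left_of_respectsIso syntMor _ _).mpr
      (IsZariskiLocalAtSource.comp (P := syntMor) (hfib y) _)
  obtain ⟨S, rfl⟩ := h
  obtain ⟨φ, rfl⟩ := Spec.map_surjective f
  rw [HasRingHomProperty.Spec_iff (P := syntMor)]
  have hflat : φ.hom.Flat := HasRingHomProperty.Spec_iff.mp ‹Flat (Spec.map φ)›
  have hfp : φ.hom.FinitePresentation := HasRingHomProperty.Spec_iff.mp ‹LocallyOfFinitePresentation (Spec.map φ)›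
  algebraize [φ.hom]
  refine syntHom_algebraMap.mpr ⟨inferInstance, inferInstance, fun p => ?_⟩
  have h1 := (MorphismProperty.arrow_mk_iso_iff syntMor (Spec.fiberToSpecResidueFieldIso R S p)).mp (hfib p)
  rw [HasRingHomProperty.Spec_iff (P := syntMor), CommRingCat.hom_ofHom, syntHom_algebraMap] at h1
  exact isLCIOver_of_isSyntomic_field h1

end Groth.Agent.CI2
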