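import Groth.Agent.Lib.CI2.Local
import Groth.Agent.Lib.CI2.SyntScheme
import Groth.Agent.Lib.SmoothReg17.Basic
import Mathlib

/-!
A flat map between smooth algebras is syntomic.
-/

set_option autoImplicit false
set_option linter.style.haveILetI false
universe u

open TensorProduct RingTheory.Sequence

namespace Groth.Agent.CI2

section Field

variable {K : Type u} [Field K] {A B F : Type u} [CommRing A] [CommRing B] [CommRing F]
  [Algebra K A] [Algebra K B] [Algebra K F]

theorem isRegularIdeal_maximal_comap [Algebra.Smooth K A] [Algebra.Smooth K B] (f : A →ₐ[K] B)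
    (hf : f.toRingHom.Flat) (m : Ideal A) [m.IsMaximal] (P : Ideal B) [P.IsPrime] (hP : m.map f.toRingHom ≤ P) :
    CInt.IsRegularIdeal ((m.map f.toRingHom).map (algebraMap B (Localization.AtPrime P))) := by
  have hm : m = P.comap f.toRingHom :=
    ‹m.IsMaximal›.eq_of_le (Ideal.comap_ne_top _ (Ideal.IsPrime.ne_top ‹_›)) (Ideal.map_le_iff_le_comap.mp hP)
  haveI : IsRegularLocalRing (Localization.AtPrime m) :=
    SmoothReg17.isRegularLocalRing_of_smooth (algebraMap K A) (RingHom.smooth_algebraMap.mpr ‹_›) m
  let g : Localization.AtPrime m →+* Localization.AtPrime P := Localization.localRingHom m P f.toRingHom hm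
  have hg : g.Flat := by
    subst hm
    exact hf.localRingHom P (P.comap f.toRingHom) rfl
  obtain ⟨rs, hrs, hrsm⟩ := CIReg6.isRegularIdeal_maximalIdeal (A := Localization.AtPrime m)
  letI := g.toAlgebra
  haveI : Module.Flat (Localization.AtPrime m) (Localization.AtPrime P) := hg
  have hmap : (Ideal.ofList rs).map g = (m.map f.toRingHom).map (algebraMap B (Localization.AtPrime P)) := by
    rw [hrsm, ← IsLocalization.AtPrime.map_eq_maximalIdeal m (Localization.AtPrime m), Ideal.map_map, Ideal.map_map]
    congr 1
    exact RingHom.ext fun a => Localization.localRingHom_to_map m P f.toRingHom hm a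
  have hne : (m.map f.toRingHom).map (algebraMap B (Localization.AtPrime P)) ≤
      IsLocalRing.maximalIdeal (Localization.AtPrime P) :=
    Ideal.map_le_iff_le_comap.mpr fun x hx =>
      (IsLocalization.AtPrime.to_map_mem_maximal_iff _ P x).mpr (hP hx)
  refine ⟨rs.map g, DepthLib.isRegular_of_isWeaklyRegular (I := IsLocalRing.maximalIdeal _)
    (IsWeaklyRegular.of_flat hrs.toIsWeaklyRegular) (fun x hx => hne (hmap ▸ ?_))
    (by rw [smul_eq_mul, Ideal.mul_top]; exact (IsLocalRing.maximalIdeal.isMaximal _).ne_top), ?_⟩
  · rw [Ideal.map_ofList]; exact Ideal.subset_span hx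
  · rw [← Ideal.map_ofList, hmap]

/-- The fibre of a flat map of smooth algebras over a rational point is a local complete intersection. -/
theorem isLCIOver_rational_fibre [Algebra.Smooth K A] [Algebra.Smooth K B] (f : A →ₐ[K] B) (hf : f.toRingHom.Flat)
    (ε : A →ₐ[K] K) (π : B →ₐ[K] F) (hπ : Function.Surjective π)
    (hker : RingHom.ker π.toRingHom = (RingHom.ker ε.toRingHom).map f.toRingHom) : Synt.IsLCIOver K F := by
  haveI : (RingHom.ker ε.toRingHom).IsMaximal :=
    RingHom.ker_isMaximal_of_surjective _ fun a => ⟨algebraMap K A a, ε.commutes a⟩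
  haveI : Algebra.FiniteType K F := Algebra.FiniteType.of_surjective π hπ
  refine isLCIOver_of_forall_maximal fun M _ => ?_
  let P := M.comap π.toRingHom
  haveI : P.IsPrime := Ideal.IsPrime.comap _
  have hmP : (RingHom.ker ε.toRingHom).map f.toRingHom ≤ P := hker ▸ Ideal.comap_mono bot_le
  have hreg := isRegularIdeal_maximal_comap f hf _ P hmP
  haveI : IsRegularLocalRing (Localization.AtPrime P) :=
    SmoothReg17.isRegularLocalRing_of_smooth (algebraMap K B) (RingHom.smooth_algebraMap.mpr ‹_›) P
  haveI : Algebra.EssFiniteType B (Localization.AtPrime P) := Algebra.EssFiniteType.of_isLocalization _ P.primeCompl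
  haveI : Algebra.EssFiniteType K (Localization.AtPrime P) := Algebra.EssFiniteType.comp K B _
  have hmap : P.primeCompl.map π.toRingHom = M.primeCompl := by
    ext y
    refine ⟨fun ⟨x, hx, e⟩ => e ▸ hx, fun hy => ?_⟩
    obtain ⟨x, rfl⟩ := hπ y
    exact ⟨x, hy, rfl⟩
  haveI : IsLocalization (P.primeCompl.map π.toRingHom) (Localization.AtPrime M) := by rw [hmap]; infer_instance
  let ψ₀ := Localization.localRingHom P M π.toRingHom rfl
  let ψ : Localization.AtPrime P →ₐ[K] Localization.AtPrime M :=
    { toRingHom := ψ₀
      commutes' := fun a => by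
        show ψ₀ (algebraMap K _ a) = _
        rw [IsScalarTower.algebraMap_apply K B (Localization.AtPrime P),
          Localization.localRingHom_to_map, IsScalarTower.algebraMap_apply K F (Localization.AtPrime M)]
        exact congrArg _ (π.commutes a) }
  refine isCIOver_of_surjection ψ (IsLocalization.map_surjective_of_surjective (M := P.primeCompl) (g := π.toRingHom)
    (S := Localization.AtPrime P) (Q := Localization.AtPrime M) hπ) ?_
  rw [show RingHom.ker ψ.toRingHom = (RingHom.ker π.toRingHom).map (algebraMap B (Localization.AtPrime P)) from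
    IsLocalization.ker_map (S := Localization.AtPrime P) (Localization.AtPrime M) π.toRingHom hmap, hker]
  exact hreg

end Field

variable {R A B : Type u} [CommRing R] [CommRing A] [CommRing B] [Algebra R A] [Algebra R B] [Algebra A B]
  [IsScalarTower R A B]

variable (R) in
/-- A flat map between smooth algebras is syntomic. -/
theorem isSyntomic_of_flat_of_smooth [Algebra.Smooth R A] [Algebra.Smooth R B] [Module.Flat A B] :
    Synt.IsSyntomic A B := by
  refine ⟨inferInstance, Algebra.FinitePresentation.of_restrict_scalars_finitePresentation R A B, fun q => ?_⟩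
  let K := q.asIdeal.ResidueField
  let F := q.asIdeal.Fiber B
  let f : K ⊗[R] A →ₐ[K] K ⊗[R] B :=
    Algebra.TensorProduct.map (AlgHom.id K K) (IsScalarTower.toAlgHom R A B)
  have hf : f.toRingHom.Flat :=
    RingHom.Flat.tensorProductMap (f := AlgHom.id K K) (g := IsScalarTower.toAlgHom R A B)
      (RingHom.Flat.id K) (RingHom.flat_algebraMap_iff.mpr ‹_›)
  let ε : K ⊗[R] A →ₐ[K] K :=
    Algebra.TensorProduct.lift (AlgHom.id K K) (IsScalarTower.toAlgHom R A K) fun _ _ => Commute.all _ _
  let π : K ⊗[R] B →ₐ[K] F :=
    Algebra.TensorProduct.lift (Algebra.ofId K F)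
      ((Algebra.TensorProduct.includeRight : B →ₐ[A] F).restrictScalars R) fun _ _ => Commute.all _ _
  have hπt : ∀ k b, π (k ⊗ₜ b) = k ⊗ₜ[A] b := fun k b => by
    rw [Algebra.TensorProduct.lift_tmul]
    show algebraMap K F k * ((1 : K) ⊗ₜ[A] b) = _
    rw [Algebra.TensorProduct.algebraMap_apply, Algebra.algebraMap_self, RingHom.id_apply,
      Algebra.TensorProduct.tmul_mul_tmul, mul_one, one_mul]
  have hπ : Function.Surjective π := fun z => by
    induction z using TensorProduct.induction_on with
    | zero => exact ⟨0, map_zero _⟩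
    | tmul k b => exact ⟨k ⊗ₜ b, hπt k b⟩
    | add x y hx hy =>
      obtain ⟨a, ha⟩ := hx
      obtain ⟨b, hb⟩ := hy
      exact ⟨a + b, by rw [map_add, ha, hb]⟩
  let J := (RingHom.ker ε.toRingHom).map f.toRingHom
  have hker : RingHom.ker π.toRingHom = J := by
    apply le_antisymm
    · let u : B →ₐ[A] (K ⊗[R] B ⧸ J) :=
        { toRingHom := (Ideal.Quotient.mk J).comp (Algebra.TensorProduct.includeRight : B →ₐ[R] K ⊗[R] B).toRingHom
          commutes' := fun a => by
            show Ideal.Quotient.mk J (1 ⊗ₜ algebraMap A B a) = Ideal.Quotient.mk J ((algebraMap A K a) ⊗ₜ 1)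
            refine (Ideal.Quotient.eq.mpr ?_).symm
            have hz : ε ((algebraMap A K a) ⊗ₜ 1 - 1 ⊗ₜ a) = 0 := by simp [ε]
            have := Ideal.mem_map_of_mem f.toRingHom (RingHom.mem_ker.mpr hz : _ ∈ RingHom.ker ε.toRingHom)
            have e : f.toRingHom ((algebraMap A K a) ⊗ₜ 1 - 1 ⊗ₜ a) =
                (algebraMap A K a) ⊗ₜ 1 - 1 ⊗ₜ algebraMap A B a := by simp [f]
            rw [e] at this
            exact this }
      let v : K →ₐ[A] (K ⊗[R] B ⧸ J) :=
        { toRingHom := (Ideal.Quotient.mk J).comp (Algebra.TensorProduct.includeLeftRingHom : K →+* K ⊗[R] B)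
          commutes' := fun a => rfl }
      let w : F →ₐ[A] (K ⊗[R] B ⧸ J) := Algebra.TensorProduct.lift v u fun _ _ => Commute.all _ _
      have hw : w.toRingHom.comp π.toRingHom = Ideal.Quotient.mk J := by
        refine RingHom.ext fun z => ?_
        induction z using TensorProduct.induction_on with
        | zero => simp
        | tmul k b =>
          show w (π (k ⊗ₜ b)) = _
          rw [hπt]
          refine (Algebra.TensorProduct.lift_tmul v u _ k b).trans ?_
          show Ideal.Quotient.mk J (k ⊗ₜ 1) * Ideal.Quotient.mk J (1 ⊗ₜ b) = _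
          rw [← map_mul, Algebra.TensorProduct.tmul_mul_tmul, mul_one, one_mul]
        | add x y hx hy => rw [map_add, hx, hy, map_add]
      intro z hz
      rw [← Ideal.Quotient.eq_zero_iff_mem, ← hw, RingHom.comp_apply, RingHom.mem_ker.mp hz, map_zero]
    · have hc : ∀ z, π (f z) = algebraMap K F (ε z) := by
        intro z
        induction z using TensorProduct.induction_on with
        | zero => simp
        | tmul k a =>
          show π (k ⊗ₜ algebraMap A B a) = _
          rw [hπt, Algebra.TensorProduct.algebraMap_apply, Algebra.algebraMap_self, RingHom.id_apply]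
          show _ = (k * algebraMap A K a) ⊗ₜ[A] (1 : B)
          rw [mul_comm k, ← Algebra.smul_def, TensorProduct.smul_tmul, Algebra.smul_def, mul_one]
        | add x y hx hy => simp only [map_add, hx, hy]
      rw [Ideal.map_le_iff_le_comap]
      intro z hz
      show π (f z) = 0
      rw [hc, show ε z = 0 from hz, map_zero]
  exact isLCIOver_rational_fibre f hf ε π hπ hker

end Groth.Agent.CI2
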