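import Groth.Agent.Lib.CI2.Gci
import Groth.Agent.Lib.SMT.CMBasic
import Mathlib

/-!
Global complete intersections over a field: recognition by an upper bound on the dimension,
localisation, smooth algebras, Cohen–Macaulayness.
-/

set_option autoImplicit false
set_option linter.style.haveILetI false
universe u

open RingTheory.Sequence

namespace Groth.Agent.CI2

variable {k : Type u} [Field k] {S : Type u} [CommRing S] [Algebra k S]

theorem height_maximal_mvPolynomial {n : ℕ} (M : Ideal (MvPolynomial (Fin n) k)) [M.IsMaximal] :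
    M.height = n := by
  let P : PrimeSpectrum (MvPolynomial (Fin n) k) := ⟨M, inferInstance⟩
  have h0 : Order.coheight P = 0 := Order.coheight_eq_zero.mpr fun Q hQ =>
    (le_of_eq (PrimeSpectrum.ext ((‹M.IsMaximal›).eq_of_le Q.2.ne_top hQ)).symm : Q ≤ P)
  have h := VarDim.height_add_coheight_mvPolynomial k n P
  rw [h0, add_zero] at h
  rw [← h]
  exact PrimeSpectrum.height_eq_orderHeight P

theorem le_height_maximal {n c : ℕ} (φ : MvPolynomial (Fin n) k →ₐ[k] S) (hφ : Function.Surjective φ)
    (r : Fin c → MvPolynomial (Fin n) k) (hker : RingHom.ker φ.toRingHom = Ideal.span (Set.range r))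
    (m : Ideal S) [m.IsMaximal] : ((n - c : ℕ) : ℕ∞) ≤ m.height := by
  classical
  let I := Ideal.span (Set.range r)
  let e : (MvPolynomial (Fin n) k ⧸ I) ≃+* S :=
    (Ideal.quotientEquiv _ _ (RingEquiv.refl _) (by simp only [RingEquiv.coe_ringHom_refl, Ideal.map_id]; exact hker)).trans (RingHom.quotientKerEquivOfSurjective (f := φ.toRingHom) hφ)
  let m' : Ideal (MvPolynomial (Fin n) k ⧸ I) := m.comap (e : _ →+* S)
  haveI : m'.IsMaximal := Ideal.comap_isMaximal_of_surjective _ e.surjective
  let M := m'.comap (Ideal.Quotient.mk I)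
  haveI : M.IsMaximal := Ideal.comap_isMaximal_of_surjective _ Ideal.Quotient.mk_surjective
  have hIM : I ≤ M := fun x hx => by
    show Ideal.Quotient.mk I x ∈ m'
    rw [Ideal.Quotient.eq_zero_iff_mem.mpr hx]; exact zero_mem _
  have h1 := Ideal.height_le_height_add_spanFinrank_of_le hIM
  rw [height_maximal_mvPolynomial, Ideal.map_comap_of_surjective _ Ideal.Quotient.mk_surjective] at h1
  have h2 : I.spanFinrank ≤ c := by
    refine le_trans (Submodule.spanFinrank_span_le_ncard_of_finite (Set.finite_range r)) ?_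
    rw [← Set.image_univ]
    exact (Set.ncard_image_le Set.finite_univ).trans_eq (by simp)
  have h3 : m'.height = m.height := e.height_comap m
  rw [h3] at h1
  cases hh : m.height with
  | top => simp
  | coe a =>
    rw [hh] at h1
    have : n ≤ a + c := by
      have h4 : (n : ℕ∞) ≤ (a : ℕ∞) + (c : ℕ∞) := h1.trans (add_le_add le_rfl (by exact_mod_cast h2))
      exact_mod_cast h4
    exact_mod_cast (by omega : n - c ≤ a)

/-- An algebra with a presentation of small enough dimension is a global complete intersection. -/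
theorem isGlobalCI_of_le {n c : ℕ} (hcn : c ≤ n) (φ : MvPolynomial (Fin n) k →ₐ[k] S) (hφ : Function.Surjective φ)
    (r : Fin c → MvPolynomial (Fin n) k) (hker : RingHom.ker φ.toRingHom = Ideal.span (Set.range r))
    (hdim : ringKrullDim S ≤ ((n - c : ℕ) : WithBot ℕ∞)) : Synt.IsGlobalCI k S := by
  rcases subsingleton_or_nontrivial S with h | h
  · exact Or.inl h
  obtain ⟨m, hm⟩ := Ideal.exists_maximal S
  refine Or.inr ⟨n, c, hcn, φ, r, hφ, hker, le_antisymm hdim ?_⟩
  exact le_trans (WithBot.coe_le_coe.mpr (le_height_maximal φ hφ r hker m)) (Ideal.height_le_ringKrullDim_of_ne_top hm.ne_top)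

theorem isGlobalCI_of_presentation {ι σ : Type} [Finite ι] [Finite σ] (P : Algebra.Presentation k S ι σ)
    (hcard : Nat.card σ ≤ Nat.card ι) (hdim : ringKrullDim S ≤ ((Nat.card ι - Nat.card σ : ℕ) : WithBot ℕ∞)) :
    Synt.IsGlobalCI k S := by
  let Q := P.reindex (Finite.equivFin ι).symm (Finite.equivFin σ).symm
  refine isGlobalCI_of_le hcard (MvPolynomial.aeval Q.val) (fun s => ⟨Q.σ s, Q.aeval_val_σ s⟩) Q.relation ?_ hdim
  rw [Q.span_range_relation_eq_ker, Q.ker_eq_ker_aeval_val]
  rfl

/-- Localisation at an element preserves global complete intersections. -/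
theorem isGlobalCI_away (h : Synt.IsGlobalCI k S) (g : S) : Synt.IsGlobalCI k (Localization.Away g) := by
  rcases h with h | ⟨n, c, hcn, φ, r, hφ, hker, hdim⟩
  · exact Or.inl (haveI := h; Module.subsingleton S (Localization.Away g))
  let P₀ : Algebra.Presentation k S (Fin n) (Fin c) :=
    { __ := Algebra.Generators.ofSurjective (fun x => φ (.X x)) (by convert! hφ; ext; simp)
      relation := r
      span_range_relation_eq_ker := hker.symm.trans (by congr; ext; simp) }
  let Q : Algebra.Presentation k (Localization.Away g) (Unit ⊕ Fin n) (Unit ⊕ Fin c) :=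
    (Algebra.Presentation.localizationAway (Localization.Away g) g).comp P₀
  refine isGlobalCI_of_presentation Q (by simpa using hcn) ?_
  refine (ringKrullDim_le_of_isLocalization (Submonoid.powers g) (Localization.Away g)).trans (le_of_eq ?_)
  rw [hdim, show Nat.card (Unit ⊕ Fin n) - Nat.card (Unit ⊕ Fin c) = n - c by simp [Nat.card_sum]; omega]
where
  ringKrullDim_le_of_isLocalization {R : Type u} [CommRing R] (M : Submonoid R) (T : Type u) [CommRing T] [Algebra R T]
      [IsLocalization M T] : ringKrullDim T ≤ ringKrullDim R :=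
    Order.krullDim_le_of_strictMono (PrimeSpectrum.comap (algebraMap R T))
      ((Monotone.strictMono_of_injective (f := PrimeSpectrum.comap (algebraMap R T))
        (fun _ _ h => Ideal.comap_mono h) (PrimeSpectrum.localization_comap_injective T M)))

/-- A standard smooth algebra over a field is a global complete intersection. -/
theorem isGlobalCI_of_isStandardSmooth [Algebra.IsStandardSmooth k S] : Synt.IsGlobalCI k S := by
  obtain ⟨ι, σ, _, _, ⟨P⟩⟩ := ‹Algebra.IsStandardSmooth k S›
  haveI : Algebra.IsStandardSmoothOfRelativeDimension P.dimension k S :=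
    P.isStandardSmoothOfRelativeDimension rfl
  have hcard : Nat.card σ ≤ Nat.card ι := Nat.card_le_card_of_injective P.map P.map_inj
  refine isGlobalCI_of_presentation P.toPresentation hcard ?_
  obtain ⟨g, hg⟩ := Algebra.IsStandardSmoothOfRelativeDimension.exists_etale_mvPolynomial P.dimension k S
  letI := g.toRingHom.toAlgebra
  haveI : Algebra.Etale (MvPolynomial (Fin P.dimension) k) S := hg
  have hmono : StrictMono (PrimeSpectrum.comap (algebraMap (MvPolynomial (Fin P.dimension) k) S)) := fun a b hab => by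
    refine lt_of_le_of_ne (Ideal.comap_mono hab.le) fun he => hab.ne (PrimeSpectrum.ext ?_)
    exact Algebra.QuasiFinite.eq_of_le_of_under_eq (R := MvPolynomial (Fin P.dimension) k) a.asIdeal b.asIdeal hab.le
      (congrArg PrimeSpectrum.asIdeal he)
  exact (Order.krullDim_le_of_strictMono _ hmono).trans_eq (VarDim.ringKrullDim_mvPolynomial k P.dimension)

theorem isLCIOver_of_smooth [Algebra.Smooth k S] : Synt.IsLCIOver k S := by
  refine ⟨inferInstance, fun p => ?_⟩
  have hs : (algebraMap k S).Smooth := RingHom.smooth_algebraMap.mpr inferInstance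
  obtain ⟨s, hspan, hloc⟩ := hs.locally_isStandardSmooth
  obtain ⟨g, hg, hgp⟩ : ∃ g ∈ s, g ∉ p.asIdeal := by
    by_contra h
    push Not at h
    exact p.isPrime.ne_top (top_le_iff.1 (hspan ▸ Ideal.span_le.2 h))
  haveI : Algebra.IsStandardSmooth k (Localization.Away g) := by
    rw [← RingHom.isStandardSmooth_algebraMap]
    have := hloc g hg
    rwa [← IsScalarTower.algebraMap_eq] at this
  exact ⟨g, hgp, isGlobalCI_of_isStandardSmooth⟩

section CM

/-- The quotient of a Cohen–Macaulay local ring by a regular sequence is Cohen–Macaulay. -/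
theorem isCM_quotient {L : Type u} [CommRing L] [LocCoh.IsCohenMacaulayLocalRing L] (rs : List L)
    (hmem : ∀ r ∈ rs, r ∈ IsLocalRing.maximalIdeal L) (hreg : IsWeaklyRegular L rs)
    (hdim : ringKrullDim (L ⧸ Ideal.ofList rs) + rs.length = ringKrullDim L) :
    LocCoh.IsCohenMacaulayLocalRing (L ⧸ Ideal.ofList rs) := by
  have hI : Ideal.ofList rs ≠ ⊤ :=
    ne_top_of_le_ne_top (IsLocalRing.maximalIdeal.isMaximal L).ne_top (Ideal.span_le.2 hmem)
  haveI : Nontrivial (L ⧸ Ideal.ofList rs) := Ideal.Quotient.nontrivial_iff.2 hI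
  haveI : IsLocalRing (L ⧸ Ideal.ofList rs) := IsLocalRing.of_surjective' _ Ideal.Quotient.mk_surjective
  refine ⟨?_⟩
  have hmap : (IsLocalRing.maximalIdeal L).map (algebraMap L (L ⧸ Ideal.ofList rs)) = IsLocalRing.maximalIdeal (L ⧸ Ideal.ofList rs) :=
    IsLocalRing.eq_maximalIdeal ((Ideal.map_eq_top_or_isMaximal_of_surjective _ Ideal.Quotient.mk_surjective inferInstance).resolve_left
      fun h => by
        have := congrArg (Ideal.comap (Ideal.Quotient.mk (Ideal.ofList rs))) h
        rw [Ideal.comap_map_of_surjective _ Ideal.Quotient.mk_surjective,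
          ← RingHom.ker_eq_comap_bot, Ideal.mk_ker, Ideal.comap_top,
          sup_eq_left.mpr (show Ideal.ofList rs ≤ IsLocalRing.maximalIdeal L from Ideal.span_le.2 hmem)] at this
        exact (IsLocalRing.maximalIdeal.isMaximal L).ne_top this)
  have hdepth : LocCoh.depth (L ⧸ Ideal.ofList rs) (L ⧸ Ideal.ofList rs) + rs.length = LocCoh.depth L L := by
    rw [LocCoh.depth, ← hmap, GorenLib.idealDepth_map_of_surjective Ideal.Quotient.mk_surjective, LocCoh.depth,
      ← DepthLib.idealDepth_quot_add_length hreg hmem]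
    congr 1
    exact DepthLib.idealDepth_congr (Submodule.quotEquivOfEq _ _ (by rw [smul_eq_mul, Ideal.mul_top]))
  obtain ⟨d, hd⟩ := DepthLib.exists_ringKrullDim_quotient_eq_natCast (R := L) (Ideal.ofList rs) hI
  have hL := LocCoh.IsCohenMacaulayLocalRing.supportDim_eq_depth (R := L)
  rw [Module.supportDim_self_eq_ringKrullDim, ← hdim, hd, ← hdepth] at hL
  rw [Module.supportDim_self_eq_ringKrullDim, hd]
  have h' : ((d + rs.length : ℕ) : ℕ∞) = LocCoh.depth (L ⧸ Ideal.ofList rs) (L ⧸ Ideal.ofList rs) + rs.length := by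
    exact_mod_cast hL
  cases hg : LocCoh.depth (L ⧸ Ideal.ofList rs) (L ⧸ Ideal.ofList rs) with
  | top => rw [hg] at h'; simp at h'
  | coe a =>
    rw [hg] at h'
    have : d + rs.length = a + rs.length := by exact_mod_cast h'
    rw [show d = a by omega]
    rfl

theorem isCM_atPrime_of_isGlobalCI (h : Synt.IsGlobalCI k S) (p : Ideal S) [p.IsPrime] :
    LocCoh.IsCohenMacaulayLocalRing (Localization.AtPrime p) := by
  rcases h with h | ⟨n, c, hcn, φ, r, hφ, hker, hdim⟩
  · exact absurd (Subsingleton.elim p ⊤) (Ideal.IsPrime.ne_top ‹_›)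
  let q := p.comap φ.toRingHom
  let I := Ideal.span (Set.range r)
  have hIq : I ≤ q := fun x hx => by
    rw [show I = RingHom.ker φ.toRingHom from hker.symm] at hx
    show φ.toRingHom x ∈ p
    rw [RingHom.mem_ker.mp hx]; exact zero_mem _
  let fs := List.ofFn r
  have hofList : Ideal.ofList fs = I := ofList_ofFn r
  let L := Localization.AtPrime q
  have hd : ringKrullDim (MvPolynomial (Fin n) k ⧸ Ideal.ofList fs) ≤ ((n - fs.length : ℕ) : WithBot ℕ∞) := by
    rw [hofList, List.length_ofFn, ← hdim]
    exact le_of_eq (ringKrullDim_eq_of_ringEquiv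
      ((Ideal.quotientEquiv _ _ (RingEquiv.refl _) (by simp only [RingEquiv.coe_ringHom_refl, Ideal.map_id]; exact hker)).trans (RingHom.quotientKerEquivOfSurjective (f := φ.toRingHom) hφ)))
  have hlen : fs.length ≤ n := by simpa [fs] using hcn
  have hle : Ideal.ofList fs ≤ q := hofList.le.trans hIq
  haveI : LocCoh.IsCohenMacaulayLocalRing L := DepthLib.isCohenMacaulayLocalRing_of_isRegularLocalRing
  have hCM := isCM_quotient (fs.map (algebraMap (MvPolynomial (Fin n) k) L)) (fun x hx => by
      obtain ⟨f, hf, rfl⟩ := List.mem_map.mp hx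
      exact (IsLocalization.AtPrime.to_map_mem_maximal_iff L q f).mpr (hle (Ideal.subset_span hf)))
    (isWeaklyRegular_localization k fs hlen hd q hle)
    (by rw [List.length_map]; exact ringKrullDim_localization_quotient k fs hlen hd q hle)
  rw [← Ideal.map_ofList, hofList] at hCM
  let mkL := Ideal.Quotient.mk (I.map (algebraMap (MvPolynomial (Fin n) k) L))
  let j : S →+* L ⧸ I.map (algebraMap (MvPolynomial (Fin n) k) L) :=
    RingHom.liftOfSurjective φ.toRingHom hφ ⟨mkL.comp (algebraMap _ L), fun x hx => by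
      rw [hker] at hx
      exact Ideal.Quotient.eq_zero_iff_mem.mpr (Ideal.mem_map_of_mem _ hx)⟩
  letI : Algebra S (L ⧸ I.map (algebraMap (MvPolynomial (Fin n) k) L)) :=
    @RingHom.toAlgebra _ _ _ (Ideal.Quotient.commRing _).toCommSemiring j
  haveI : IsLocalization (q.primeCompl.map φ.toRingHom) (L ⧸ I.map (algebraMap (MvPolynomial (Fin n) k) L)) := by
    refine IsLocalization.of_surjective q.primeCompl L φ.toRingHom hφ mkL Ideal.Quotient.mk_surjective ?_ ?_
    · refine RingHom.ext fun x => ?_
      show mkL (algebraMap _ L x) = j (φ.toRingHom x)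
      exact (RingHom.liftOfRightInverse_comp_apply φ.toRingHom (Function.surjInv hφ) (Function.rightInverse_surjInv hφ) ⟨mkL.comp (algebraMap _ L), fun x hx => by
        rw [hker] at hx
        exact Ideal.Quotient.eq_zero_iff_mem.mpr (Ideal.mem_map_of_mem _ hx)⟩ x).symm
    · rw [Ideal.mk_ker, hker]
  have hmap : q.primeCompl.map φ.toRingHom = p.primeCompl := by
    ext y
    refine ⟨fun ⟨x, hx, e⟩ => e ▸ hx, fun hy => ?_⟩
    obtain ⟨x, rfl⟩ := hφ y
    exact ⟨x, hy, rfl⟩
  haveI : IsLocalization p.primeCompl (L ⧸ I.map (algebraMap (MvPolynomial (Fin n) k) L)) := hmap ▸ ‹_›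
  exact SMT.isCM_of_ringEquiv (IsLocalization.algEquiv p.primeCompl (L ⧸ I.map (algebraMap (MvPolynomial (Fin n) k) L))
    (Localization.AtPrime p)).toRingEquiv hCM

theorem isCM_of_isLCIOver (h : Synt.IsLCIOver k S) : LocCoh.IsCohenMacaulayRing S := by
  haveI := h.1
  haveI : IsNoetherianRing S := Algebra.FiniteType.isNoetherianRing k S
  refine ⟨fun p _ => ?_⟩
  obtain ⟨g, hg, hci⟩ := h.2 ⟨p, inferInstance⟩
  let Sg := Localization.Away g
  have hd : Disjoint (Submonoid.powers g : Set S) (p : Set S) := Set.disjoint_left.2 fun x ⟨i, hi⟩ hx =>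
    hg (Ideal.IsPrime.mem_of_pow_mem ‹p.IsPrime› i (show g ^ i ∈ p by rw [show g ^ i = x from hi]; exact hx))
  let P := p.map (algebraMap S Sg)
  haveI : P.IsPrime := IsLocalization.isPrime_of_isPrime_disjoint (Submonoid.powers g) Sg p inferInstance hd
  have hc : P.comap (algebraMap S Sg) = p := IsLocalization.under_map_of_isPrime_disjoint (Submonoid.powers g) _ inferInstance hd
  haveI : IsLocalization p.primeCompl (Localization.AtPrime P) := by
    have := IsLocalization.isLocalization_isLocalization_atPrime_isLocalization (Submonoid.powers g)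
      (T := Localization.AtPrime P) P
    convert this using 2
    exact hc.symm
  exact SMT.isCM_of_ringEquiv (IsLocalization.algEquiv p.primeCompl (Localization.AtPrime P) (Localization.AtPrime p)).toRingEquiv
    (isCM_atPrime_of_isGlobalCI hci P)

end CM

end Groth.Agent.CI2
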