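import Groth.Agent.Lib.CI2.Gci
import Groth.Agent.Lib.CI2.Smooth
import Groth.Agent.Lib.FibDim14.Semicont
import Groth.Agent.Lib.TopDimLib.Basic
import Mathlib

/-!
Relative global complete intersections near a fibre of the expected dimension.
-/

set_option autoImplicit false
set_option linter.style.haveILetI false
universe u

open AlgebraicGeometry CategoryTheory TensorProduct

namespace Groth.Agent.CI2

section Fibre

variable (R S : Type u) [CommRing R] [CommRing S] [Algebra R S]

/-- The local dimension of a fibre ring is the fibre dimension. -/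
theorem localDim_fibre_eq (p : PrimeSpectrum R) (w : PrimeSpectrum (p.asIdeal.Fiber S)) :
    FlatMor.localDim (PrimeSpectrum (p.asIdeal.Fiber S)) w =
      FlatMor.fibreDimAt (Spec.map (CommRingCat.ofHom (algebraMap R S)))
        (PrimeSpectrum.comap (Algebra.TensorProduct.includeRight : S →ₐ[R] p.asIdeal.Fiber S).toRingHom w) := by
  let e := PrimeSpectrum.preimageHomeomorphFiber R S p
  obtain ⟨⟨z, hz⟩, rfl⟩ := e.surjective w
  have he : PrimeSpectrum.comap (Algebra.TensorProduct.includeRight : S →ₐ[R] p.asIdeal.Fiber S).toRingHom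
      (e ⟨z, hz⟩) = z := congrArg Subtype.val (e.symm_apply_apply ⟨z, hz⟩)
  rw [he]
  refine Eq.trans ?_ (FibDim14.fibreDimAt_eq_localDim_preimage (Spec.map (CommRingCat.ofHom (algebraMap R S))) z).symm
  have hz' : PrimeSpectrum.comap (algebraMap R S) z = p := hz
  subst hz'
  exact (FibDim14.localDim_of_isOpenEmbedding e.isOpenEmbedding ⟨z, rfl⟩).symm

/-- The points of bad fibre dimension form a closed set. -/
theorem isClosed_bad [Algebra.FiniteType R S] (d : ℕ) (P : Prop) :
    IsClosed {z : PrimeSpectrum S | ¬ (P ∧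
      FlatMor.fibreDimAt (Spec.map (CommRingCat.ofHom (algebraMap R S))) z ≤ (d : WithBot ℕ∞))} := by
  haveI : LocallyOfFiniteType (Spec.map (CommRingCat.ofHom (algebraMap R S))) :=
    (HasRingHomProperty.Spec_iff (P := @LocallyOfFiniteType)).2 (RingHom.finiteType_algebraMap.2 inferInstance)
  by_cases hP : P
  · simp only [hP, true_and]
    exact (FibDim14.isOpen_fibreDimAt_le (Spec.map (CommRingCat.ofHom (algebraMap R S))) d).isClosed_compl
  · simp only [hP, false_and, not_false_eq_true, Set.setOf_true]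
    exact isClosed_univ

theorem exists_one_tmul_eq_of_map_eq_top (p : Ideal R) [p.IsPrime] (J : Ideal S)
    (hJ : J.map (Algebra.TensorProduct.includeRight : S →ₐ[R] p.Fiber S).toRingHom = ⊤) :
    ∃ j ∈ J, IsUnit ((1 : p.ResidueField) ⊗ₜ[R] j : p.Fiber S) := by
  have key : ∀ z ∈ J.map (Algebra.TensorProduct.includeRight : S →ₐ[R] p.Fiber S).toRingHom,
      ∃ r ∉ p, ∃ j ∈ J, r • z = (1 : p.ResidueField) ⊗ₜ[R] j := by
    intro z hz
    induction hz using Submodule.span_induction with
    | mem z hz =>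
      obtain ⟨j, hj, rfl⟩ := hz
      exact ⟨1, p.ne_top_iff_one.mp (Ideal.IsPrime.ne_top ‹_›), j, hj, by rw [one_smul]; rfl⟩
    | zero => exact ⟨1, p.ne_top_iff_one.mp (Ideal.IsPrime.ne_top ‹_›), 0, zero_mem J, by simp⟩
    | add a b _ _ ha hb =>
      obtain ⟨r, hr, j, hj, e⟩ := ha
      obtain ⟨r', hr', j', hj', e'⟩ := hb
      refine ⟨r * r', fun h => (Ideal.IsPrime.mem_or_mem ‹_› h).elim hr hr', r' • j + r • j',
        add_mem (Submodule.smul_of_tower_mem J r' hj) (Submodule.smul_of_tower_mem J r hj'), ?_⟩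
      rw [tmul_add, tmul_smul, tmul_smul, ← e, ← e', smul_add, smul_smul, smul_smul, mul_comm r r']
    | smul a b _ hb =>
      obtain ⟨r, hr, j, hj, e⟩ := hb
      obtain ⟨r', hr', s, e'⟩ := Ideal.Fiber.exists_smul_eq_one_tmul p a
      refine ⟨r' * r, fun h => (Ideal.IsPrime.mem_or_mem ‹_› h).elim hr' hr, s * j, J.mul_mem_left _ hj, ?_⟩
      rw [smul_eq_mul, ← smul_mul_smul_comm, e', e, Algebra.TensorProduct.tmul_mul_tmul, mul_one]
  obtain ⟨r, hr, j, hj, e⟩ := key 1 (hJ ▸ Submodule.mem_top)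
  refine ⟨j, hj, ?_⟩
  rw [← e, ← Algebra.algebraMap_eq_smul_one, IsScalarTower.algebraMap_apply R p.ResidueField (p.Fiber S)]
  exact (IsUnit.mk0 _ (mt Ideal.algebraMap_residueField_eq_zero.mp hr)).map _

end Fibre

section Presentation

open MvPolynomial

variable {R : Type u} [CommRing R] {n c : ℕ} (F : Fin c → MvPolynomial (Fin n) R) (h : MvPolynomial (Fin n) R)

/-- The relations of `R[x]/(F)` localised at `h`. -/
noncomputable abbrev awayRel : Fin (c + 1) → MvPolynomial (Fin (n + 1)) R :=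
  Fin.snoc (fun i => rename Fin.castSucc (F i)) (rename Fin.castSucc h * X (Fin.last n) - 1)

theorem nonempty_awayEquiv :
    Nonempty (Localization.Away (Ideal.Quotient.mk (Ideal.span (Set.range F)) h) ≃ₐ[R]
      Synt.RelGCIRing R (n + 1) (c + 1) (awayRel F h)) := by
  let S := Synt.RelGCIRing R n c F
  let g : S := Ideal.Quotient.mk (Ideal.span (Set.range F)) h
  let T := Localization.Away g
  let Q := Synt.RelGCIRing R (n + 1) (c + 1) (awayRel F h)
  let m := Ideal.Quotient.mkₐ R (Ideal.span (Set.range (awayRel F h)))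
  let ψ : MvPolynomial (Fin (n + 1)) R →ₐ[R] T :=
    aeval (Fin.snoc (fun i => algebraMap S T (Ideal.Quotient.mk _ (X i))) (IsLocalization.Away.invSelf g) : Fin (n + 1) → T)
  have hψ : ∀ f, ψ (rename Fin.castSucc f) = algebraMap S T (Ideal.Quotient.mk _ f) := fun f => by
    have : ψ.comp (rename Fin.castSucc) =
        (IsScalarTower.toAlgHom R S T).comp (Ideal.Quotient.mkₐ R (Ideal.span (Set.range F))) :=
      algHom_ext fun i => by simp [ψ]; rfl
    exact DFunLike.congr_fun this f
  have hψX : ψ (X (Fin.last n)) = IsLocalization.Away.invSelf g := by simp [ψ]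
  have hψ0 : ∀ x ∈ Ideal.span (Set.range (awayRel F h)), ψ x = 0 := fun x hx => by
    have hle : Ideal.span (Set.range (awayRel F h)) ≤ RingHom.ker ψ.toRingHom := Ideal.span_le.2 (by
      rintro _ ⟨i, rfl⟩
      refine Fin.lastCases ?_ (fun i => ?_) i
      · show ψ (awayRel F h (Fin.last c)) = 0
        rw [awayRel, Fin.snoc_last, map_sub, map_mul, hψ, hψX, map_one, sub_eq_zero]
        exact IsLocalization.Away.mul_invSelf g
      · show ψ (awayRel F h i.castSucc) = 0
        rw [awayRel, Fin.snoc_castSucc, hψ, Ideal.Quotient.eq_zero_iff_mem.mpr (show F i ∈ Ideal.span (Set.range F) from Ideal.subset_span ⟨i, rfl⟩), map_zero])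
    exact hle hx
  let Ψ : Q →ₐ[R] T := Ideal.Quotient.liftₐ _ ψ hψ0
  have hF : ∀ x ∈ Ideal.span (Set.range F), (m.comp (rename Fin.castSucc)) x = 0 := fun x hx => by
    have hle : Ideal.span (Set.range F) ≤ RingHom.ker (m.comp (rename Fin.castSucc)).toRingHom := Ideal.span_le.2 (by
      rintro _ ⟨i, rfl⟩
      exact Ideal.Quotient.eq_zero_iff_mem.mpr (Ideal.subset_span ⟨i.castSucc, by simp [awayRel]⟩))
    exact hle hx
  let φ₀ : S →ₐ[R] Q := Ideal.Quotient.liftₐ _ (m.comp (rename Fin.castSucc)) hF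
  have hone : m (rename Fin.castSucc h) * m (X (Fin.last n)) = 1 := by
    rw [← map_mul, ← map_one m]
    exact Ideal.Quotient.eq.mpr (Ideal.subset_span ⟨Fin.last c, by simp [awayRel]⟩)
  have hu : IsUnit (φ₀ g) := IsUnit.of_mul_eq_one _ hone
  let Φ : T →ₐ[R] Q := IsLocalization.liftAlgHom (M := Submonoid.powers g) (f := φ₀) fun y => by
    obtain ⟨i, hi⟩ := y.2
    rw [← hi, map_pow]
    exact hu.pow i
  have hΦ : ∀ s, Φ (algebraMap S T s) = φ₀ s := fun s => IsLocalization.lift_eq _ s
  have h1 : Φ.comp Ψ = AlgHom.id R Q := Ideal.Quotient.algHom_ext R (algHom_ext fun i => by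
    refine Fin.lastCases ?_ (fun i => ?_) i
    · show Φ (ψ (X (Fin.last n))) = m (X (Fin.last n))
      rw [hψX]
      refine hu.mul_left_cancel ?_
      rw [show φ₀ g * Φ (IsLocalization.Away.invSelf g) = 1 by
        rw [← hΦ, ← map_mul, IsLocalization.Away.mul_invSelf, map_one]]
      exact hone.symm
    · show Φ (ψ (X i.castSucc)) = m (X i.castSucc)
      rw [← rename_X Fin.castSucc i, hψ, hΦ]
      rfl)
  have h2 : Ψ.comp Φ = AlgHom.id R T := IsLocalization.algHom_ext (Submonoid.powers g)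
    (Ideal.Quotient.algHom_ext R (algHom_ext fun i => by
      show Ψ (Φ (algebraMap S T (Ideal.Quotient.mk _ (X i)))) = algebraMap S T (Ideal.Quotient.mk _ (X i))
      rw [hΦ]
      exact (hψ (X i)).trans rfl))
  exact ⟨AlgEquiv.ofAlgHom Φ Ψ h1 h2⟩

/-- Localising away from the bad locus gives a relative global complete intersection. -/
theorem isRelGCI_away
    (hh : ∀ z : PrimeSpectrum (Synt.RelGCIRing R n c F), Ideal.Quotient.mk (Ideal.span (Set.range F)) h ∉ z.asIdeal →
      c ≤ n ∧ FlatMor.fibreDimAt (Spec.map (CommRingCat.ofHom (algebraMap R (Synt.RelGCIRing R n c F)))) z ≤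
        ((n - c : ℕ) : WithBot ℕ∞)) :
    Synt.IsRelGCI R (n + 1) (c + 1) (awayRel F h) := by
  intro p hp
  let S := Synt.RelGCIRing R n c F
  let g : S := Ideal.Quotient.mk (Ideal.span (Set.range F)) h
  obtain ⟨e⟩ := nonempty_awayEquiv F h
  let A := p.asIdeal.Fiber S
  let t : A := (1 : p.asIdeal.ResidueField) ⊗ₜ[R] g
  let At := Localization.Away t
  let E : p.asIdeal.Fiber (Synt.RelGCIRing R (n + 1) (c + 1) (awayRel F h)) ≃ₐ[p.asIdeal.ResidueField] At :=
    (Algebra.TensorProduct.congr AlgEquiv.refl e.symm).trans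
      (IsLocalization.Away.tensorProductEquivTMulRight R p.asIdeal.ResidueField g (Localization.Away g))
  haveI : Nontrivial At := E.symm.toEquiv.nontrivial
  have hval : ∀ w : PrimeSpectrum At, c ≤ n ∧
      FlatMor.localDim (PrimeSpectrum At) w ≤ ((n - c : ℕ) : WithBot ℕ∞) := by
    intro w
    let v : PrimeSpectrum A := PrimeSpectrum.comap (algebraMap A At) w
    have hv : t ∉ v.asIdeal := fun hm => w.2.ne_top
      (Ideal.eq_top_of_isUnit_mem _ hm (IsLocalization.Away.algebraMap_isUnit t))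
    obtain ⟨h1, h2⟩ := hh (PrimeSpectrum.comap (Algebra.TensorProduct.includeRight : S →ₐ[R] A).toRingHom v) hv
    refine ⟨h1, ?_⟩
    rw [FibDim14.localDim_of_isOpenEmbedding (PrimeSpectrum.localization_away_isOpenEmbedding At t) w,
      localDim_fibre_eq]
    exact h2
  obtain ⟨w₀⟩ := (inferInstance : Nonempty (PrimeSpectrum At))
  have hcn := (hval w₀).1
  haveI := hp
  refine ⟨Nat.add_le_add_right hcn 1, ?_⟩
  rw [show n + 1 - (c + 1) = n - c by omega]
  have hle : ringKrullDim (p.asIdeal.Fiber (Synt.RelGCIRing R (n + 1) (c + 1) (awayRel F h))) ≤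
      ((n - c : ℕ) : WithBot ℕ∞) := by
    rw [ringKrullDim_eq_of_ringEquiv E.toRingEquiv, ← PrimeSpectrum.topologicalKrullDim_eq_ringKrullDim,
      TopDimLib.dim_eq_iSup_localDim]
    exact iSup_le fun w => (hval w).2
  refine le_antisymm hle ?_
  let κ := p.asIdeal.ResidueField
  let I := Ideal.span (Set.range (awayRel F h))
  let ef := fibreEquiv p.asIdeal I
  rw [ringKrullDim_eq_of_ringEquiv ef]
  haveI : Nontrivial (MvPolynomial (Fin (n + 1)) κ ⧸ I.map (red p.asIdeal)) := ef.symm.toEquiv.nontrivial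
  obtain ⟨M, hM⟩ := Ideal.exists_maximal (MvPolynomial (Fin (n + 1)) κ ⧸ I.map (red p.asIdeal))
  have hmap : RingHom.ker (Ideal.Quotient.mkₐ κ (I.map (red p.asIdeal))).toRingHom =
      Ideal.span (Set.range fun i => red p.asIdeal (awayRel F h i)) := by
    refine Ideal.mk_ker.trans ?_
    rw [Ideal.map_span, ← Set.range_comp]
    rfl
  refine le_trans ?_ (Ideal.height_le_ringKrullDim_of_ne_top hM.ne_top)
  rw [show n - c = n + 1 - (c + 1) by omega]
  exact WithBot.coe_le_coe.mpr
    (le_height_maximal (Ideal.Quotient.mkₐ κ (I.map (red p.asIdeal))) Ideal.Quotient.mk_surjective _ hmap M)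

end Presentation

section Dim

open MvPolynomial

theorem fibreDimAt_le_ringKrullDim {R S : Type u} [CommRing R] [CommRing S] [Algebra R S] (z : PrimeSpectrum S)
    (p : PrimeSpectrum R) (hp : PrimeSpectrum.comap (algebraMap R S) z = p) :
    FlatMor.fibreDimAt (Spec.map (CommRingCat.ofHom (algebraMap R S))) z ≤ ringKrullDim (p.asIdeal.Fiber S) := by
  subst hp
  let e := PrimeSpectrum.preimageHomeomorphFiber R S (PrimeSpectrum.comap (algebraMap R S) z)
  have h := localDim_fibre_eq R S (PrimeSpectrum.comap (algebraMap R S) z) (e ⟨z, rfl⟩)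
  rw [show PrimeSpectrum.comap _ (e ⟨z, rfl⟩) = z from congrArg Subtype.val (e.symm_apply_apply ⟨z, rfl⟩)] at h
  rw [← h, ← PrimeSpectrum.topologicalKrullDim_eq_ringKrullDim, TopDimLib.dim_eq_iSup_localDim]
  exact le_iSup (fun w => FlatMor.localDim (PrimeSpectrum ((PrimeSpectrum.comap (algebraMap R S) z).asIdeal.Fiber S)) w) _

theorem nonempty_fibre {R S : Type u} [CommRing R] [CommRing S] [Algebra R S] (z : PrimeSpectrum S)
    (p : PrimeSpectrum R) (hp : PrimeSpectrum.comap (algebraMap R S) z = p) :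
    Nontrivial (p.asIdeal.Fiber S) :=
  PrimeSpectrum.nonempty_iff_nontrivial.1 ⟨PrimeSpectrum.preimageHomeomorphFiber R S p ⟨z, hp⟩⟩

theorem nonempty_fibreEquiv_quotient {R : Type u} [CommRing R] (n c : ℕ) (F : Fin c → MvPolynomial (Fin n) R)
    (I p : Ideal R) [p.IsPrime] (p' : Ideal (R ⧸ I)) [p'.IsPrime] (hc : p = p'.comap (Ideal.Quotient.mk I)) :
    Nonempty (p.Fiber (Synt.RelGCIRing R n c F) ≃+*
      p'.Fiber (Synt.RelGCIRing (R ⧸ I) n c (fun i => MvPolynomial.map (Ideal.Quotient.mk I) (F i)))) := by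
  let μ := Ideal.ResidueField.map p p' (Ideal.Quotient.mk I) hc
  have hμ : Function.Bijective μ :=
    (RingHom.surjectiveOnStalks_of_surjective Ideal.Quotient.mk_surjective).residueFieldMap_bijective p p' hc
  let σ := MvPolynomial.mapEquiv (Fin n) (RingEquiv.ofBijective μ hμ)
  refine ⟨(fibreEquiv p _).trans ((Ideal.quotientEquiv _ _ σ ?_).trans (fibreEquiv p' _).symm)⟩
  rw [Ideal.map_span, Ideal.map_span, Ideal.map_span, ← Set.range_comp, ← Set.range_comp, ← Set.range_comp]
  congr 2
  funext i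
  show MvPolynomial.map (algebraMap (R ⧸ I) p'.ResidueField) (MvPolynomial.map (Ideal.Quotient.mk I) (F i)) =
    MvPolynomial.map μ (MvPolynomial.map (algebraMap R p.ResidueField) (F i))
  rw [MvPolynomial.map_map, MvPolynomial.map_map]
  congr 2
  exact RingHom.ext fun r => (Ideal.ResidueField.map_algebraMap p p' _ hc r).symm


end Dim

end Groth.Agent.CI2
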