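import Groth.Agent.Lib.CI2.Local
import Groth.Agent.Lib.CI2.NearFibre
import Mathlib

/-!
Relative global complete intersection neighbourhoods from flatness and the fibre condition.
-/

set_option autoImplicit false
set_option linter.style.haveILetI false
universe u

open RingTheory.Sequence TensorProduct MvPolynomial IsLocalRing

namespace Groth.Agent.CI2

section FieldLevel

variable {k : Type u} [Field k] {n : ℕ}

/-- At a complete intersection point, the ideal of a presentation is generated by a regular sequence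
taken from any set of generators of it, up to units. -/
theorem exists_regular_gens {F : Type u} [CommRing F] [Algebra k F] (φ : MvPolynomial (Fin n) k →ₐ[k] F)
    (hφ : Function.Surjective φ) (Q : Ideal F) [Q.IsPrime] (hci : Synt.IsCIOver k (Localization.AtPrime Q))
    (T : Set (MvPolynomial (Fin n) k))
    (hT : ∀ z ∈ RingHom.ker φ.toRingHom, ∃ a : k, a ≠ 0 ∧ a • z ∈ T)
    (hTker : T ⊆ RingHom.ker φ.toRingHom) :
    ∃ (c : ℕ) (f : Fin c → MvPolynomial (Fin n) k), (∀ i, f i ∈ T) ∧
      IsRegular (Localization.AtPrime (Q.comap φ.toRingHom))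
        ((List.ofFn f).map (algebraMap _ (Localization.AtPrime (Q.comap φ.toRingHom)))) ∧
      ∀ x ∈ RingHom.ker φ.toRingHom, ∃ s ∉ Q.comap φ.toRingHom, s * x ∈ Ideal.span (Set.range f) := by
  obtain ⟨π, hπ, hkπ⟩ := exists_presentation_atPrime φ hφ Q
  let A := MvPolynomial (Fin n) k
  let P := Q.comap φ.toRingHom
  let L := Localization.AtPrime P
  let I := RingHom.ker φ.toRingHom
  obtain ⟨rs, hrs, hrsI⟩ := isRegularIdeal_ker_of_isCIOver hci π hπ
  rw [hkπ] at hrsI
  have hIP : I ≤ P := Ideal.comap_mono bot_le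
  have hlift : ∀ i : Fin rs.length, ∃ f ∈ T, ∃ w : Lˣ, algebraMap A L f = w * rs.get i := by
    intro i
    obtain ⟨⟨⟨g, hg⟩, s⟩, he⟩ := (IsLocalization.mem_map_algebraMap_iff P.primeCompl L).mp
      (hrsI.le (Ideal.subset_span (rs.get_mem i)))
    obtain ⟨a, ha, haT⟩ := hT g hg
    have hu : IsUnit (algebraMap A L (C a * (s : A))) := by
      rw [map_mul]
      exact ((((IsUnit.mk0 a ha).map C).map (algebraMap A L))).mul (IsLocalization.map_units L s)
    refine ⟨a • g, haT, hu.unit, ?_⟩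
    rw [IsUnit.unit_spec, smul_eq_C_mul, map_mul, map_mul, mul_assoc, mul_comm _ (rs.get i)]
    exact congrArg _ he.symm
  choose f hfT w hw using hlift
  have hfI : ∀ i, f i ∈ I := fun i => hTker (hfT i)
  have hspan : (Ideal.span (Set.range f)).map (algebraMap A L) = I.map (algebraMap A L) := by
    refine le_antisymm (Ideal.map_mono (Ideal.span_le.2 (by rintro _ ⟨i, rfl⟩; exact hfI i))) ?_
    rw [← hrsI, Ideal.ofList, Ideal.span_le]
    intro x hx
    obtain ⟨i, rfl⟩ := List.mem_iff_get.mp hx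
    have h1 : algebraMap A L (f i) ∈ (Ideal.span (Set.range f)).map (algebraMap A L) :=
      Ideal.mem_map_of_mem _ (Ideal.subset_span ⟨i, rfl⟩)
    have h2 := Ideal.mul_mem_left _ ((w i)⁻¹ : Lˣ).1 h1
    rwa [hw, Units.inv_mul_cancel_left] at h2
  refine ⟨_, f, hfT, ?_, fun x hx => ?_⟩
  · have hmemL : ∀ x ∈ (List.ofFn f).map (algebraMap A L), x ∈ maximalIdeal L := by
      intro x hx
      obtain ⟨y, hy, rfl⟩ := List.mem_map.mp hx
      obtain ⟨i, rfl⟩ := List.mem_ofFn.mp hy
      exact (IsLocalization.AtPrime.to_map_mem_maximal_iff _ P _).mpr (hIP (hfI i))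
    haveI : LocCoh.IsCohenMacaulayLocalRing L := DepthLib.isCohenMacaulayLocalRing_of_isRegularLocalRing
    refine DepthLib.isRegular_of_isWeaklyRegular (I := maximalIdeal L) (EmbDef.isWeaklyRegular_of_dim _ hmemL ?_) hmemL
      (by rw [smul_eq_mul, Ideal.mul_top]; exact (maximalIdeal.isMaximal _).ne_top)
    rw [← Ideal.map_ofList, ofList_ofFn, hspan, ← hrsI, List.length_map, List.length_ofFn]
    exact ringKrullDim_add_length_eq_ringKrullDim_of_isRegular rs hrs
  · obtain ⟨s, hs, hsx⟩ := (IsLocalization.algebraMap_mem_map_algebraMap_iff P.primeCompl L _ x).mp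
      (hspan.ge (Ideal.mem_map_of_mem _ hx))
    exact ⟨s, hs, hsx⟩

/-- Krull dimension of a localisation whose components have height at least `c`. -/
theorem ringKrullDim_away_le {c : ℕ} (J : Ideal (MvPolynomial (Fin n) k)) (g : MvPolynomial (Fin n) k)
    (hht : ∀ Q ∈ J.minimalPrimes, g ∉ Q → Q.height = c) :
    ringKrullDim (Localization.Away (Ideal.Quotient.mk J g)) ≤ ((n - c : ℕ) : WithBot ℕ∞) := by
  let A := MvPolynomial (Fin n) k
  let gb : A ⧸ J := Ideal.Quotient.mk J g
  let T := Localization.Away gb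
  let κ : PrimeSpectrum T → PrimeSpectrum A := fun x =>
    PrimeSpectrum.comap ((algebraMap (A ⧸ J) T).comp (Ideal.Quotient.mk J)) x
  have hκ : StrictMono κ := fun a b hab => by
    refine Monotone.strictMono_of_injective (f := κ) (fun _ _ h => Ideal.comap_mono h) (fun x y hxy => ?_) hab
    refine PrimeSpectrum.localization_comap_injective T (Submonoid.powers gb) ?_
    exact PrimeSpectrum.comap_injective_of_surjective _ Ideal.Quotient.mk_surjective hxy
  have hco : ∀ x : PrimeSpectrum T, Order.coheight (κ x) ≤ ((n - c : ℕ) : ℕ∞) := by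
    intro x
    have hJx : J ≤ (κ x).asIdeal := fun a ha => by
      show algebraMap (A ⧸ J) T (Ideal.Quotient.mk J a) ∈ x.asIdeal
      rw [Ideal.Quotient.eq_zero_iff_mem.mpr ha, map_zero]
      exact zero_mem _
    obtain ⟨Q, hQ, hQx⟩ := Ideal.exists_minimalPrimes_le hJx
    haveI := hQ.1.1
    have hgQ : g ∉ Q := fun hg => x.2.ne_top (Ideal.eq_top_of_isUnit_mem _ (hQx hg)
      (IsLocalization.Away.algebraMap_isUnit gb))
    have h2 := VarDim.height_add_coheight_mvPolynomial k n (⟨Q, inferInstance⟩ : PrimeSpectrum A)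
    rw [← PrimeSpectrum.height_eq_orderHeight] at h2
    rw [show (⟨Q, inferInstance⟩ : PrimeSpectrum A).asIdeal.height = c from hht Q hQ hgQ] at h2
    have hle : Order.coheight (κ x) ≤ Order.coheight (⟨Q, inferInstance⟩ : PrimeSpectrum A) :=
      Order.coheight_anti hQx
    cases hc : Order.coheight (⟨Q, inferInstance⟩ : PrimeSpectrum A) with
    | top => rw [hc] at h2; simp at h2
    | coe a =>
      rw [hc] at h2 hle
      have : c + a = n := by exact_mod_cast h2
      exact hle.trans (by exact_mod_cast (by omega : a ≤ n - c))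
  rw [ringKrullDim, Order.krullDim_eq_iSup_coheight]
  exact iSup_le fun x => WithBot.coe_le_coe.mpr ((Order.coheight_le_coheight_apply_of_strictMono _ hκ x).trans (hco x))

/-- Near a point where the relations form a regular sequence the dimension is the expected one. -/
theorem exists_away_dim_le {c : ℕ} (f : Fin c → MvPolynomial (Fin n) k) (P : Ideal (MvPolynomial (Fin n) k))
    [P.IsPrime] (hfP : ∀ i, f i ∈ P)
    (hreg : IsRegular (Localization.AtPrime P) ((List.ofFn f).map (algebraMap _ (Localization.AtPrime P)))) :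
    c ≤ n ∧ ∃ g ∉ P, ringKrullDim (Localization.Away (Ideal.Quotient.mk (Ideal.span (Set.range f)) g)) ≤
      ((n - c : ℕ) : WithBot ℕ∞) := by
  classical
  let A := MvPolynomial (Fin n) k
  let J := Ideal.span (Set.range f)
  have hJ : Ideal.ofList (List.ofFn f) = J := ofList_ofFn f
  have hht : ∀ Q ∈ J.minimalPrimes, Q ≤ P → Q.height = c := fun Q hQ hQP => by
    rw [height_minimalPrime (List.ofFn f) P hreg Q (hJ ▸ hQ) hQP, List.length_ofFn]
  refine ⟨?_, ?_⟩
  · obtain ⟨Q, hQ, hQP⟩ := Ideal.exists_minimalPrimes_le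
      (show J ≤ P from Ideal.span_le.2 (by rintro _ ⟨i, rfl⟩; exact hfP i))
    haveI := hQ.1.1
    have h2 := VarDim.height_add_coheight_mvPolynomial k n (⟨Q, inferInstance⟩ : PrimeSpectrum A)
    rw [← PrimeSpectrum.height_eq_orderHeight] at h2
    rw [show (⟨Q, inferInstance⟩ : PrimeSpectrum A).asIdeal.height = c from hht Q hQ hQP] at h2
    exact_mod_cast le_self_add.trans h2.le
  · let MP := (J.finite_minimalPrimes_of_isNoetherianRing).toFinset
    have hch : ∀ Q : Ideal A, ¬ Q ≤ P → ∃ x ∈ Q, x ∉ P := fun Q hQ => Set.not_subset.mp hQ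
    choose! t htQ htP using hch
    refine ⟨∏ Q ∈ MP.filter (fun Q => ¬ Q ≤ P), t Q, fun hm => ?_, ringKrullDim_away_le J _ fun Q hQ hgQ => ?_⟩
    · obtain ⟨Q, hQ, hm⟩ := (inferInstance : P.IsPrime).prod_mem_iff.mp hm
      exact htP Q (Finset.mem_filter.mp hQ).2 hm
    · refine hht Q hQ ?_
      by_contra hQP
      refine hgQ ?_
      rw [← Finset.prod_erase_mul _ _ (Finset.mem_filter.mpr ⟨(Set.Finite.mem_toFinset _).mpr hQ, hQP⟩)]
      exact Ideal.mul_mem_left _ _ (htQ Q hQP)

end FieldLevel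

section Flat

variable {R P S : Type u} [CommRing R] [CommRing P] [CommRing S] [Algebra R P] [Algebra R S]

/-- Clearing denominators in the equational criterion of flatness at a prime. -/
theorem exists_relation_clear {ι : Type u} [Fintype ι] (q : Ideal S) [q.IsPrime] (Sq : Type u) [CommRing Sq]
    [Algebra S Sq] [Algebra R Sq] [IsScalarTower R S Sq] [IsLocalization q.primeCompl Sq]
    [Module.Flat R Sq] (r : ι → R) (x : ι → S) (h : ∑ j, r j • x j = 0) :
    ∃ b ∉ q, ∃ (k : ℕ) (a : ι → Fin k → R) (v : Fin k → S),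
      (∀ j, b * x j = ∑ i, a j i • v i) ∧ ∀ i, ∑ j, r j * a j i = 0 := by
  classical
  have hrel : ∑ j, r j • algebraMap S Sq (x j) = 0 := by
    have h' := congrArg (IsScalarTower.toAlgHom R S Sq) h
    simpa only [map_sum, map_smul, map_zero, IsScalarTower.coe_toAlgHom'] using h'
  obtain ⟨k, a, z, hx, ha⟩ := Module.Flat.isTrivialRelation_of_sum_smul_eq_zero (R := R) (M := Sq) (f := r)
    (x := fun j => algebraMap S Sq (x j)) hrel
  obtain ⟨b, hb⟩ := IsLocalization.exist_integer_multiples_of_finite q.primeCompl z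
  choose v hv using hb
  have hcl : ∀ j, ∃ t : q.primeCompl, (t : S) * ((b : S) * x j) = t * ∑ i, a j i • v i := by
    intro j
    refine IsLocalization.exists_of_eq (M := q.primeCompl) (S := Sq) ?_
    rw [map_mul, show algebraMap S Sq (x j) = _ from hx j, map_sum, Finset.mul_sum]
    refine Finset.sum_congr rfl fun i _ => ?_
    rw [← IsScalarTower.coe_toAlgHom' R S Sq, map_smul, IsScalarTower.coe_toAlgHom', hv, mul_smul_comm,
      Algebra.smul_def (b : S)]
  choose t ht using hcl
  refine ⟨(∏ j, (t j : S)) * b, fun hm => ?_, k, a, fun i => (∏ j, (t j : S)) * v i, fun j => ?_, ha⟩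
  · rcases (inferInstance : q.IsPrime).mem_or_mem hm with hm | hm
    · obtain ⟨j, -, hj⟩ := (inferInstance : q.IsPrime).prod_mem_iff.mp hm
      exact (t j).2 hj
    · exact b.2 hm
  · simp only [← mul_smul_comm, ← Finset.mul_sum]
    rw [← Finset.prod_erase_mul _ _ (Finset.mem_univ j), mul_assoc, mul_assoc, ht, mul_assoc]

/-- If the quotient is flat at `q`, the kernel meets `pP` in `p` times the kernel, near `q`. -/
theorem exists_mul_mem_smul_ker (φ : P →ₐ[R] S) (hφ : Function.Surjective φ) (p : Ideal R) (q : Ideal S) [q.IsPrime]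
    [Module.Flat R (Localization.AtPrime q)] {y : P} (hy : φ y = 0) (hyp : y ∈ p.map (algebraMap R P)) :
    ∃ s ∉ q.comap φ.toRingHom, s * y ∈ p.map (algebraMap R P) * RingHom.ker φ.toRingHom := by
  classical
  rw [Ideal.map, Finsupp.mem_span_iff_linearCombination] at hyp
  obtain ⟨l, hl⟩ := hyp
  rw [Finsupp.linearCombination_apply, Finsupp.sum] at hl
  have hmem : ∀ j : l.support, ∃ r ∈ p, algebraMap R P r = (j.1 : P) := fun j => j.1.2
  choose r hrp hr using hmem
  let w : l.support → P := fun j => l j.1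
  have hy' : y = ∑ j, algebraMap R P (r j) * w j := by
    rw [← hl, ← Finset.sum_coe_sort l.support]
    exact Finset.sum_congr rfl fun j _ => by rw [hr, smul_eq_mul, mul_comm]
  obtain ⟨b, hb, k, a, v, hv, ha⟩ := exists_relation_clear (R := R) q (Localization.AtPrime q) r (fun j => φ (w j)) (by
    rw [← hy, hy', map_sum]
    exact Finset.sum_congr rfl fun j _ => by rw [map_mul, φ.commutes, Algebra.smul_def])
  choose v' hv' using fun i => hφ (v i)
  obtain ⟨s, hs⟩ := hφ b
  refine ⟨s, fun hm => hb (hs ▸ hm), ?_⟩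
  have hzero : ∑ j, algebraMap R P (r j) * ∑ i, algebraMap R P (a j i) * v' i = 0 := by
    simp only [Finset.mul_sum, ← mul_assoc, ← map_mul]
    rw [Finset.sum_comm]
    refine Finset.sum_eq_zero fun i _ => ?_
    rw [← Finset.sum_mul, ← map_sum, ha, map_zero, zero_mul]
  have heq : s * y = ∑ j, algebraMap R P (r j) * (s * w j - ∑ i, algebraMap R P (a j i) * v' i) := by
    simp only [mul_sub, Finset.sum_sub_distrib]
    rw [hzero, sub_zero, hy', Finset.mul_sum]
    exact Finset.sum_congr rfl fun j _ => mul_left_comm _ _ _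
  rw [heq]
  refine Ideal.sum_mem _ fun j _ => Ideal.mul_mem_mul (Ideal.mem_map_of_mem _ (hrp j)) ?_
  rw [RingHom.mem_ker]
  show φ (s * w j - ∑ i, algebraMap R P (a j i) * v' i) = 0
  rw [map_sub, map_mul, map_sum, hs, sub_eq_zero, hv]
  exact Finset.sum_congr rfl fun i _ => by rw [map_mul, φ.commutes, hv', Algebra.smul_def]

/-- A finitely generated kernel which lies in `J + pP` near a point of flatness lies in `J` near it. -/
theorem exists_mul_mem_of_fibre (φ : P →ₐ[R] S) (hφ : Function.Surjective φ) (hfg : (RingHom.ker φ.toRingHom).FG)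
    (p : Ideal R) (q : Ideal S) [q.IsPrime] [q.LiesOver p] [Module.Flat R (Localization.AtPrime q)] (J : Ideal P)
    (hJ : J ≤ RingHom.ker φ.toRingHom)
    (h : ∀ x ∈ RingHom.ker φ.toRingHom, ∃ s ∉ q.comap φ.toRingHom, s * x ∈ J ⊔ p.map (algebraMap R P)) :
    ∃ g ∉ q.comap φ.toRingHom, ∀ x ∈ RingHom.ker φ.toRingHom, g * x ∈ J := by
  classical
  let Q := q.comap φ.toRingHom
  let L := Localization.AtPrime Q
  let I := RingHom.ker φ.toRingHom
  let pP := p.map (algebraMap R P)
  have hpQ : pP ≤ Q := Ideal.map_le_iff_le_comap.2 fun r hr => by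
    show φ (algebraMap R P r) ∈ q
    rw [φ.commutes]
    exact (Ideal.mem_of_liesOver q p r).1 hr
  have hle : I.map (algebraMap P L) ≤ J.map (algebraMap P L) := by
    refine Submodule.le_of_le_smul_of_le_jacobson_bot (I := pP.map (algebraMap P L)) (hfg.map _) ?_ ?_
    · exact ((Ideal.map_mono hpQ).trans (le_of_eq (IsLocalization.AtPrime.map_eq_maximalIdeal Q L))).trans
        (IsLocalRing.maximalIdeal_le_jacobson _)
    · rw [smul_eq_mul, ← Ideal.map_mul, ← Ideal.map_sup, Ideal.map_le_iff_le_comap]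
      intro x hx
      obtain ⟨s, hs, hsx⟩ := h x hx
      obtain ⟨j, hj, y, hy, hjy⟩ := Submodule.mem_sup.1 hsx
      have hy0 : φ y = 0 := by
        have h1 : y ∈ I := by
          rw [show y = s * x - j by rw [← hjy]; ring]
          exact I.sub_mem (I.mul_mem_left _ hx) (hJ hj)
        exact h1
      obtain ⟨s', hs', hsy⟩ := exists_mul_mem_smul_ker φ hφ p q hy0 hy
      rw [Ideal.mem_comap]
      refine (IsLocalization.algebraMap_mem_map_algebraMap_iff Q.primeCompl L _ x).mpr
        ⟨s' * s, fun hm => ((inferInstance : Q.IsPrime).mem_or_mem hm).elim hs' hs, ?_⟩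
      rw [mul_assoc, ← hjy, mul_add]
      exact Submodule.add_mem_sup (J.mul_mem_left _ hj) hsy
  have hclear : ∀ x ∈ I, ∃ s ∉ Q, s * x ∈ J := by
    intro x hx
    obtain ⟨s, hs, hsx⟩ := (IsLocalization.algebraMap_mem_map_algebraMap_iff Q.primeCompl L _ x).mp
      (hle (Ideal.mem_map_of_mem _ hx))
    exact ⟨s, hs, hsx⟩
  obtain ⟨G, hG⟩ := hfg
  have hGI : ∀ y ∈ G, y ∈ I := fun y hy => hG.le (Ideal.subset_span hy)
  choose! s hs hsx using hclear
  refine ⟨∏ x ∈ G, s x, fun hm => ?_, fun x hx => ?_⟩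
  · obtain ⟨x, hx, hxm⟩ := (inferInstance : Q.IsPrime).prod_mem_iff.mp hm
    exact hs x (hGI x hx) hxm
  · have hcol : I ≤ J.colon {∏ x ∈ G, s x} := by
      rw [show I = Submodule.span P (G : Set P) from hG.symm, Submodule.span_le]
      intro y hy
      rw [SetLike.mem_coe, Submodule.mem_colon_singleton, smul_eq_mul, mul_comm]
      rw [← Finset.prod_erase_mul _ _ hy, mul_assoc]
      exact Ideal.mul_mem_left _ _ (hsx y (hGI y hy))
    have := Submodule.mem_colon_singleton.mp (hcol hx)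
    rwa [smul_eq_mul, mul_comm] at this

end Flat

section AwayTransfer

theorem ringKrullDim_away_equiv {A B : Type u} [CommRing A] [CommRing B] (e : A ≃+* B) (b : B) :
    ringKrullDim (Localization.Away (e.symm b)) = ringKrullDim (Localization.Away b) :=
  ringKrullDim_eq_of_ringEquiv (IsLocalization.ringEquivOfRingEquiv (M := Submonoid.powers (e.symm b))
    (T := Submonoid.powers b) (Localization.Away (e.symm b)) (Localization.Away b) e
    (by rw [Submonoid.map_powers]; exact congrArg _ (e.apply_symm_apply b)))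

theorem localDim_le_of_equiv {A B : Type u} [CommRing A] [CommRing B] (e : A ≃+* B) (w : PrimeSpectrum A) (b : B)
    (hw : e.symm b ∉ w.asIdeal) :
    FlatMor.localDim (PrimeSpectrum A) w ≤ ringKrullDim (Localization.Away b) := by
  refine (TopDimLib.localDim_le_opens (U := PrimeSpectrum.basicOpen (e.symm b)) hw).trans ?_
  let eh := (PrimeSpectrum.localization_away_isOpenEmbedding (Localization.Away (e.symm b)) (e.symm b)).isEmbedding.toHomeomorph.trans
    (Homeomorph.setCongr (PrimeSpectrum.localization_away_comap_range (Localization.Away (e.symm b)) (e.symm b)))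
  rw [← IsHomeomorph.topologicalKrullDim_eq _ eh.isHomeomorph, PrimeSpectrum.topologicalKrullDim_eq_ringKrullDim]
  exact (ringKrullDim_away_equiv e b).le

theorem nonempty_away_equiv_of_surjective {R A B : Type u} [CommRing R] [CommRing A] [CommRing B] [Algebra R A]
    [Algebra R B] (ψ : A →ₐ[R] B) (hψ : Function.Surjective ψ) (g : A)
    (hker : ∀ a, ψ a = 0 → ∃ j : ℕ, g ^ j * a = 0) :
    Nonempty (Localization.Away (ψ g) ≃ₐ[R] Localization.Away g) := by
  refine ⟨(AlgEquiv.ofBijective (IsLocalization.Away.mapₐ (Localization.Away g) (Localization.Away (ψ g)) ψ g)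
    ⟨?_, IsLocalization.Away.mapₐ_surjective_of_surjective g hψ⟩).symm⟩
  rw [injective_iff_map_eq_zero]
  intro x hx
  obtain ⟨y, ⟨_, i, rfl⟩, rfl⟩ := IsLocalization.exists_mk'_eq (Submonoid.powers g) x
  rw [IsLocalization.Away.mapₐ_apply, IsLocalization.Away.map, IsLocalization.map_mk',
    IsLocalization.mk'_eq_zero_iff] at hx
  obtain ⟨⟨_, j, rfl⟩, hj⟩ := hx
  obtain ⟨l, hl⟩ := hker (g ^ j * y) (by rw [map_mul, map_pow]; exact hj)
  rw [IsLocalization.mk'_eq_zero_iff]
  refine ⟨⟨g ^ (l + j), l + j, rfl⟩, ?_⟩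
  show g ^ (l + j) * y = 0
  rw [pow_add, mul_assoc]
  exact hl

end AwayTransfer

section Nhd

variable {R : Type u} [CommRing R] (p : Ideal R) [p.IsPrime] {n : ℕ}

theorem fibreEquiv_tmul (I : Ideal (MvPolynomial (Fin n) R)) (a : p.ResidueField) (x : MvPolynomial (Fin n) R) :
    fibreEquiv p I (a ⊗ₜ[R] Ideal.Quotient.mk I x) = Ideal.Quotient.mk _ (a • red p x) := by
  simp only [fibreEquiv, RingEquiv.trans_apply, AlgEquiv.coe_ringEquiv]
  rw [show Algebra.TensorProduct.tensorQuotientEquiv (R := R) p.ResidueField (MvPolynomial (Fin n) R) p.ResidueField I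
      (a ⊗ₜ[R] Ideal.Quotient.mk I x) = Ideal.Quotient.mk _ (a ⊗ₜ[R] x) from rfl, Ideal.quotientEquiv_mk]
  exact congrArg _ (algebraTensorAlgEquiv_tmul R p.ResidueField a x)

theorem exists_fibre_presentation {S : Type u} [CommRing S] [Algebra R S]
    (φ : MvPolynomial (Fin n) R →ₐ[R] S) (hφ : Function.Surjective φ) :
    ∃ Ψ : MvPolynomial (Fin n) p.ResidueField →ₐ[p.ResidueField] p.Fiber S, Function.Surjective Ψ ∧
      RingHom.ker Ψ.toRingHom = (RingHom.ker φ.toRingHom).map (red p) ∧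
      ∀ x, Ψ (red p x) = (1 : p.ResidueField) ⊗ₜ[R] φ x := by
  let κ := p.ResidueField
  let I : Ideal (MvPolynomial (Fin n) R) := RingHom.ker φ.toRingHom
  let e₀ : (MvPolynomial (Fin n) R ⧸ I) ≃ₐ[R] S := Ideal.quotientKerAlgEquivOfSurjective hφ
  let E : p.Fiber S ≃+* MvPolynomial (Fin n) κ ⧸ I.map (red p) :=
    (Algebra.TensorProduct.congr (AlgEquiv.refl : κ ≃ₐ[κ] κ) e₀.symm).toRingEquiv.trans (fibreEquiv p I)
  have hE : ∀ a x, E (a ⊗ₜ[R] φ x) = Ideal.Quotient.mk _ (a • red p x) := fun a x => by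
    show fibreEquiv p I (a ⊗ₜ[R] e₀.symm (φ x)) = _
    rw [show e₀.symm (φ x) = Ideal.Quotient.mk I x from e₀.symm_apply_eq.2 rfl, fibreEquiv_tmul]
  let Ψ : MvPolynomial (Fin n) κ →ₐ[κ] p.Fiber S := aeval fun i => (1 : κ) ⊗ₜ[R] φ (X i)
  have hEΨ : ∀ z, E (Ψ z) = Ideal.Quotient.mk _ z := fun z => by
    have : E.toRingHom.comp Ψ.toRingHom = Ideal.Quotient.mk (I.map (red p)) := by
      refine MvPolynomial.ringHom_ext (fun a => ?_) fun i => ?_
      · show E (Ψ (C a)) = _
        rw [show Ψ (C a) = a ⊗ₜ[R] φ 1 by rw [map_one]; exact aeval_C _ a, hE, map_one, smul_eq_C_mul, mul_one]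
      · show E (Ψ (X i)) = _
        rw [show Ψ (X i) = 1 ⊗ₜ[R] φ (X i) from aeval_X _ i, hE, one_smul, map_X]
    exact RingHom.congr_fun this z
  have hker : RingHom.ker Ψ.toRingHom = I.map (red p) := by
    ext z
    rw [RingHom.mem_ker, ← map_eq_zero_iff E E.injective, ← Ideal.Quotient.eq_zero_iff_mem, ← hEΨ]
    rfl
  have hΨ : Function.Surjective Ψ := fun y => by
    obtain ⟨z, hz⟩ := Ideal.Quotient.mk_surjective (E y)
    exact ⟨z, E.injective ((hEΨ z).trans hz)⟩
  have hΨred : ∀ x, Ψ (red p x) = (1 : κ) ⊗ₜ[R] φ x := fun x =>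
    E.injective (by rw [hEΨ, hE, one_smul])
  exact ⟨Ψ, hΨ, hker, hΨred⟩

theorem exists_relations {S : Type u} [CommRing S] [Algebra R S]
    (φ : MvPolynomial (Fin n) R →ₐ[R] S) (hφ : Function.Surjective φ) (hfg : (RingHom.ker φ.toRingHom).FG)
    (q : Ideal S) [q.IsPrime] [q.LiesOver p] (Q : Ideal (p.Fiber S)) [Q.IsPrime]
    (hQ : Q.comap (Algebra.TensorProduct.includeRight.toRingHom) = q)
    (hflat : Module.Flat R (Localization.AtPrime q))
    (hci : Synt.IsCIOver p.ResidueField (Localization.AtPrime Q)) :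
    ∃ (c : ℕ) (F : Fin c → MvPolynomial (Fin n) R) (P : Ideal (MvPolynomial (Fin n) p.ResidueField))
      (_ : P.IsPrime) (g : MvPolynomial (Fin n) R),
      (∀ i, φ (F i) = 0) ∧ P.comap (red p) = q.comap φ.toRingHom ∧ (∀ i, red p (F i) ∈ P) ∧
      IsRegular (Localization.AtPrime P) ((List.ofFn fun i => red p (F i)).map (algebraMap _ (Localization.AtPrime P))) ∧
      φ g ∉ q ∧ ∀ x, φ x = 0 → g * x ∈ Ideal.span (Set.range F) := by
  let κ := p.ResidueField
  let I : Ideal (MvPolynomial (Fin n) R) := RingHom.ker φ.toRingHom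
  obtain ⟨Ψ, hΨ, hker, hΨred⟩ := exists_fibre_presentation p φ hφ
  let Q' := Q.comap Ψ.toRingHom
  have hQ' : Q'.comap (red p) = q.comap φ.toRingHom := by
    ext x
    show Ψ (red p x) ∈ Q ↔ φ x ∈ q
    rw [hΨred, ← hQ]
    rfl
  have hunit : ∀ a ∉ p, algebraMap R κ a ≠ 0 := fun a ha => mt Ideal.algebraMap_residueField_eq_zero.mp ha
  obtain ⟨c, fb, hfb, hreg, hclear⟩ := exists_regular_gens Ψ hΨ Q hci (red p '' I)
    (fun z hz => by
      obtain ⟨a, ha, w, hwI, hw⟩ := exists_clear_ideal p I (hker.le hz)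
      exact ⟨_, hunit a ha, w, hwI, hw⟩)
    (by rintro _ ⟨w, hw, rfl⟩; exact hker.ge (Ideal.mem_map_of_mem _ hw))
  choose F hF hFf using hfb
  let J := Ideal.span (Set.range F)
  have hJ : J ≤ I := Ideal.span_le.2 (by rintro _ ⟨i, rfl⟩; exact hF i)
  have hJmap : J.map (red p) = Ideal.span (Set.range fb) := by
    rw [Ideal.map_span, ← Set.range_comp]
    exact congrArg _ (congrArg Set.range (funext hFf))
  haveI := hflat
  obtain ⟨g0, hg0, hg0I⟩ := exists_mul_mem_of_fibre φ hφ hfg p q J hJ fun x hx => by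
    obtain ⟨sb, hsb, hsx⟩ := hclear (red p x) (hker.ge (Ideal.mem_map_of_mem _ hx))
    obtain ⟨a, ha, s, hs⟩ := exists_clear p sb
    have hsQ : s ∉ q.comap φ.toRingHom := by
      rw [← hQ']
      show red p s ∉ Q'
      rw [hs, smul_eq_C_mul]
      exact fun hm => hsb (((inferInstance : Q'.IsPrime).mem_or_mem hm).resolve_left
        (fun h => (inferInstance : Q'.IsPrime).ne_top (Ideal.eq_top_of_isUnit_mem _ h ((IsUnit.mk0 _ (hunit a ha)).map C))))
    have hmem : red p (s * x) ∈ J.map (red p) := by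
      rw [map_mul, hs, smul_mul_assoc, smul_eq_C_mul, hJmap]
      exact Ideal.mul_mem_left _ _ hsx
    obtain ⟨b, hb, w, hwJ, hw⟩ := exists_clear_ideal p J hmem
    refine ⟨C b * s, fun hm => ?_, ?_⟩
    · refine ((inferInstance : (q.comap φ.toRingHom).IsPrime).mem_or_mem hm).elim (fun h => hb ?_) hsQ
      exact (Ideal.mem_of_liesOver q p b).2 (by rw [← φ.commutes b]; exact h)
    · have hk : C b * s * x - w ∈ p.map (algebraMap R (MvPolynomial (Fin n) R)) := by
        refine red_eq_zero p ?_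
        rw [map_sub, mul_assoc, map_mul, map_C, hw, smul_eq_C_mul, sub_self]
      rw [show C b * s * x = w + (C b * s * x - w) by ring]
      exact Submodule.add_mem_sup hwJ hk
  have hfQ : ∀ i, fb i ∈ Q' := fun i => by
    rw [← hFf]
    show F i ∈ Q'.comap (red p)
    rw [hQ']
    show φ (F i) ∈ q
    rw [show φ (F i) = 0 from hF i]
    exact zero_mem q
  obtain rfl : (fun i => red p (F i)) = fb := funext hFf
  exact ⟨c, F, Q', inferInstance, g0, hF, hQ', hfQ, hreg, hg0, hg0I⟩

theorem exists_mk_mem_iff_good {c : ℕ} (F : Fin c → MvPolynomial (Fin n) R)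
    (P : Ideal (MvPolynomial (Fin n) p.ResidueField)) [P.IsPrime] (hfP : ∀ i, red p (F i) ∈ P)
    (hreg : IsRegular (Localization.AtPrime P)
      ((List.ofFn fun i => red p (F i)).map (algebraMap _ (Localization.AtPrime P)))) :
    ∃ z : PrimeSpectrum (Synt.RelGCIRing R n c F),
      (∀ x, Ideal.Quotient.mk (Ideal.span (Set.range F)) x ∈ z.asIdeal ↔ red p x ∈ P) ∧
      c ≤ n ∧ FlatMor.fibreDimAt (AlgebraicGeometry.Spec.map (CommRingCat.ofHom
        (algebraMap R (Synt.RelGCIRing R n c F)))) z ≤ ((n - c : ℕ) : WithBot ℕ∞) := by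
  let κ := p.ResidueField
  obtain ⟨hcn, gb, hgb, hdim⟩ := exists_away_dim_le (fun i => red p (F i)) P hfP hreg
  let J := Ideal.span (Set.range F)
  let Jb := Ideal.span (Set.range fun i => red p (F i))
  let S' := Synt.RelGCIRing R n c F
  have hJmap : J.map (red p) = Jb := by
    rw [Ideal.map_span, ← Set.range_comp]; rfl
  let E' : p.Fiber S' ≃+* MvPolynomial (Fin n) κ ⧸ Jb := (fibreEquiv p J).trans (Ideal.quotEquivOfEq hJmap)
  have hJP : Jb ≤ P := Ideal.span_le.2 (by rintro _ ⟨i, rfl⟩; exact hfP i)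
  haveI : (P.map (Ideal.Quotient.mk Jb)).IsPrime :=
    Ideal.map_isPrime_of_surjective Ideal.Quotient.mk_surjective (by rwa [Ideal.mk_ker])
  let w : PrimeSpectrum (p.Fiber S') := PrimeSpectrum.comap E'.toRingHom ⟨P.map (Ideal.Quotient.mk Jb), inferInstance⟩
  have hwmem : ∀ z, E'.symm (Ideal.Quotient.mk Jb z) ∈ w.asIdeal ↔ z ∈ P := fun z => by
    show E' (E'.symm _) ∈ P.map (Ideal.Quotient.mk Jb) ↔ _
    rw [E'.apply_symm_apply, ← Ideal.mem_comap, Ideal.comap_map_of_surjective _ Ideal.Quotient.mk_surjective,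
      ← RingHom.ker_eq_comap_bot, Ideal.mk_ker, sup_eq_left.2 hJP]
  refine ⟨PrimeSpectrum.comap (Algebra.TensorProduct.includeRight : S' →ₐ[R] p.Fiber S').toRingHom w,
    fun x => ?_, hcn, ?_⟩
  · show ((1 : κ) ⊗ₜ[R] Ideal.Quotient.mk J x : p.Fiber S') ∈ w.asIdeal ↔ _
    rw [← hwmem (red p x)]
    refine Iff.of_eq (congrArg (· ∈ w.asIdeal) (E'.eq_symm_apply.2 ?_))
    show Ideal.quotEquivOfEq hJmap (fibreEquiv p J _) = _
    rw [fibreEquiv_tmul, one_smul, Ideal.quotEquivOfEq_mk]
  · rw [← localDim_fibre_eq R S' ⟨p, inferInstance⟩ w]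
    have key := @localDim_le_of_equiv (p.Fiber S') (MvPolynomial (Fin n) κ ⧸ Jb) _ _ E' w (Ideal.Quotient.mk Jb gb)
    exact (key fun h => hgb ((hwmem gb).1 h)).trans hdim

theorem exists_relGCI_nhd {S : Type u} [CommRing S] [Algebra R S] [Algebra.FinitePresentation R S]
    (q : Ideal S) [q.IsPrime] [q.LiesOver p] (Q : Ideal (p.Fiber S)) [Q.IsPrime]
    (hQ : Q.comap (Algebra.TensorProduct.includeRight.toRingHom) = q)
    (hflat : Module.Flat R (Localization.AtPrime q))
    (hci : Synt.IsCIOver p.ResidueField (Localization.AtPrime Q)) :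
    ∃ g : S, g ∉ q ∧ ∃ (n c : ℕ) (F : Fin c → MvPolynomial (Fin n) R), Synt.IsRelGCI R n c F ∧
      Nonempty (Localization.Away g ≃ₐ[R] Synt.RelGCIRing R n c F) := by
  obtain ⟨n, φ, hφ, hfg⟩ := (inferInstance : Algebra.FinitePresentation R S).out
  obtain ⟨c, F, P, _, g0, hF, hP, hfP, hreg, hg0, hg0I⟩ := exists_relations p φ hφ hfg q Q hQ hflat hci
  obtain ⟨z0, hz0, hgood⟩ := exists_mk_mem_iff_good p F P hfP hreg
  have hz0mem : ∀ x, Ideal.Quotient.mk _ x ∈ z0.asIdeal ↔ φ x ∈ q := fun x => by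
    rw [hz0]
    show x ∈ P.comap (red p) ↔ _
    rw [hP]
    rfl
  let J := Ideal.span (Set.range F)
  have hJ : J ≤ RingHom.ker φ.toRingHom := Ideal.span_le.2 (by rintro _ ⟨i, rfl⟩; exact hF i)
  let S' := Synt.RelGCIRing R n c F
  haveI : Algebra.FiniteType R S' :=
    Algebra.FiniteType.of_surjective (Ideal.Quotient.mkₐ R _) Ideal.Quotient.mk_surjective
  let B : Set (PrimeSpectrum S') := {z | ¬ (c ≤ n ∧ FlatMor.fibreDimAt
      (AlgebraicGeometry.Spec.map (CommRingCat.ofHom (algebraMap R S'))) z ≤ ((n - c : ℕ) : WithBot ℕ∞))}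
  have hB : IsClosed B := isClosed_bad R S' (n - c) (c ≤ n)
  have hz0B : z0 ∉ B := not_not_intro hgood
  have hVz : ¬ (PrimeSpectrum.vanishingIdeal B ≤ z0.asIdeal) := fun h => hz0B (by
    rw [← hB.closure_eq, ← PrimeSpectrum.zeroLocus_vanishingIdeal_eq_closure]; exact h)
  obtain ⟨a, haB, haz⟩ := SetLike.not_le_iff_exists.1 hVz
  obtain ⟨h0, rfl⟩ := Ideal.Quotient.mk_surjective a
  let h := g0 * h0
  refine ⟨φ h, ?_, n + 1, c + 1, awayRel F h, isRelGCI_away F h fun z hz => ?_, ?_⟩
  · rw [map_mul]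
    exact fun hm => ((inferInstance : q.IsPrime).mem_or_mem hm).elim hg0 (fun h => haz ((hz0mem h0).2 h))
  · by_contra hzB
    refine hz ?_
    rw [map_mul]
    exact z.asIdeal.mul_mem_left _ ((PrimeSpectrum.mem_vanishingIdeal B _).1 haB z hzB)
  · obtain ⟨e'⟩ := nonempty_awayEquiv F h
    obtain ⟨eq'⟩ : Nonempty (Localization.Away (φ h) ≃ₐ[R] Localization.Away (Ideal.Quotient.mk J h)) := by
      let ψ : S' →ₐ[R] S := Ideal.Quotient.liftₐ J φ fun x hx => hJ hx
      have hψ : Function.Surjective ψ := fun y => by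
        obtain ⟨x, rfl⟩ := hφ y
        exact ⟨Ideal.Quotient.mk J x, rfl⟩
      refine nonempty_away_equiv_of_surjective ψ hψ (Ideal.Quotient.mk J h) fun a ha => ?_
      obtain ⟨y, rfl⟩ := Ideal.Quotient.mk_surjective a
      refine ⟨1, ?_⟩
      rw [pow_one, ← map_mul, Ideal.Quotient.eq_zero_iff_mem, show h * y = h0 * (g0 * y) by ring]
      exact J.mul_mem_left _ (hg0I _ ha)
    exact ⟨eq'.trans e'⟩

end Nhd

end Groth.Agent.CI2
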