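import Groth.Agent.Lib.CI2.Local
import Groth.Agent.Lib.CI2.RelNhd
import Groth.Agent.Lib.Goren15.LCIFibre
import Groth.Prelude.Def_LCI2
import Mathlib

/-!
Flat local complete intersections are syntomic.
-/

set_option autoImplicit false
set_option linter.style.haveILetI false
universe u

open IsLocalRing TensorProduct RingTheory.Sequence MvPolynomial
open Groth.Agent.CanElt (KObj kd k0)

namespace Groth.Agent.CI2

/-- In a Noetherian local ring vanishing first Koszul homology forces regularity, in reverse order. -/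
theorem isWeaklyRegular_reverse_of_exact {A : Type u} [CommRing A] [IsLocalRing A] [IsNoetherianRing A] :
    ∀ (l : List A), (∀ x ∈ l, x ∈ maximalIdeal A) →
      (∀ z, kd A A l 0 z = 0 → ∃ w, kd A A l 1 w = z) → IsWeaklyRegular A l.reverse
  | [], _, _ => IsWeaklyRegular.nil A A
  | f :: l, hm, h => by
    have hf : f ∈ maximalIdeal A := hm f List.mem_cons_self
    haveI := Goren15.finite_KObj A l 1
    have hl : ∀ z, kd A A l 0 z = 0 → ∃ w, kd A A l 1 w = z := by
      have hle : LinearMap.ker (kd A A l 0) ≤ LinearMap.range (kd A A l 1) := by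
        refine Submodule.le_of_le_smul_of_le_jacobson_bot (I := maximalIdeal A) (IsNoetherian.noetherian _)
          (IsLocalRing.jacobson_eq_maximalIdeal ⊥ bot_ne_top).ge ?_
        intro z hz
        obtain ⟨⟨w₁, w₂⟩, hw⟩ := h (z, 0) (by
          show kd A A l 0 z + f • (0 : KObj A A l 0) = 0
          rw [LinearMap.mem_ker.1 hz, smul_zero, add_zero])
        have h1 : kd A A l 1 w₁ + f • w₂ = z := congrArg Prod.fst hw
        have h2 : -(kd A A l 0 w₂) = 0 := congrArg Prod.snd hw
        rw [← h1]
        exact Submodule.add_mem_sup ⟨w₁, rfl⟩ (Submodule.smul_mem_smul hf (neg_eq_zero.1 h2))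
      exact fun z hz => hle hz
    have ih := isWeaklyRegular_reverse_of_exact l (fun x hx => hm x (List.mem_cons_of_mem f hx)) hl
    rw [EmbDef.isWeaklyRegular_self_iff] at ih ⊢
    intro i hi a ha
    simp only [List.reverse_cons] at hi ha ⊢
    rcases Nat.lt_or_ge i l.reverse.length with hlt | hge
    · rw [List.getElem_append_left hlt, List.take_append_of_le_length hlt.le] at ha
      rw [List.take_append_of_le_length hlt.le]
      exact ih i hlt a ha
    · obtain rfl : i = l.reverse.length := by
        simp only [List.length_append, List.length_singleton] at hi; omega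
      rw [List.getElem_append_right le_rfl] at ha
      simp only [Nat.sub_self, List.getElem_cons_zero] at ha
      rw [List.take_left] at ha ⊢
      have hrev : Ideal.ofList l.reverse = Ideal.ofList l := congrArg Ideal.span (Set.ext fun x => List.mem_reverse)
      rw [hrev, Goren15.mem_ofList_iff] at ha
      rw [hrev, Goren15.mem_ofList_iff]
      obtain ⟨z, hz⟩ := ha
      obtain ⟨⟨w₁, w₂⟩, hw⟩ := h (z, -((k0 A A l).symm a)) (by
        show kd A A l 0 z + f • -((k0 A A l).symm a) = 0
        apply (k0 A A l).injective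
        rw [map_add, map_smul, map_neg, LinearEquiv.apply_symm_apply, hz, map_zero, smul_eq_mul]
        ring)
      have h2 : -(kd A A l 0 w₂) = -((k0 A A l).symm a) := congrArg Prod.snd hw
      exact ⟨w₂, by rw [neg_inj.1 h2, LinearEquiv.apply_symm_apply]⟩

theorem flat_quotient_localization {R P : Type u} [CommRing R] [CommRing P] [Algebra R P]
    (q' : Ideal P) [q'.IsPrime] (I : Ideal P) [Module.Flat R (P ⧸ I)] :
    Module.Flat R (Localization.AtPrime q' ⧸ I.map (algebraMap P (Localization.AtPrime q'))) := by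
  haveI : Module.Flat R (LocalizedModule q'.primeCompl (P ⧸ I)) :=
    (FlatH4.flat_localized_iff q').mpr fun J x hx =>
      ⟨1, one_mem _, by rw [one_smul]; exact Module.Flat.lTensor_preserves_injective_linearMap J.subtype J.injective_subtype (hx.trans (map_zero _).symm)⟩
  let ρ : (P ⧸ I) →ₗ[P] Localization.AtPrime q' ⧸ I.map (algebraMap P (Localization.AtPrime q')) := quotLoc I
  haveI : IsLocalizedModule q'.primeCompl ρ := isLocalizedModule_quotLoc q'.primeCompl I
  exact Module.Flat.of_linearEquiv ((IsLocalizedModule.iso q'.primeCompl ρ).symm.restrictScalars R)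

theorem localRingHom_red {R : Type u} [CommRing R] (p : Ideal R) [p.IsPrime] {n : ℕ}
    (Q' : Ideal (MvPolynomial (Fin n) p.ResidueField)) [Q'.IsPrime] :
    Function.Surjective (Localization.localRingHom (Q'.comap (red p)) Q' (red p) rfl) ∧
      RingHom.ker (Localization.localRingHom (Q'.comap (red p)) Q' (red p) rfl) =
        p.map (algebraMap R (Localization.AtPrime (Q'.comap (red p)))) := by
  let P := MvPolynomial (Fin n) R
  let q' := Q'.comap (red p)
  let σ := Localization.localRingHom q' Q' (red p) rfl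
  have hunit : ∀ a ∉ p, IsUnit (algebraMap R p.ResidueField a) := fun a ha =>
    IsUnit.mk0 _ (mt Ideal.algebraMap_residueField_eq_zero.mp ha)
  refine ⟨fun y => ?_, ?_⟩
  · obtain ⟨z, ⟨s, hs⟩, rfl⟩ := IsLocalization.exists_mk'_eq Q'.primeCompl y
    obtain ⟨a, ha, w, hw⟩ := exists_clear p z
    obtain ⟨b, hb, v, hv⟩ := exists_clear p s
    have hv' : v ∈ q'.primeCompl := fun hm => by
      have h1 : red p v ∈ Q' := hm
      rw [hv, smul_eq_C_mul] at h1
      exact ((inferInstance : Q'.IsPrime).mem_or_mem h1).elim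
        (fun h => (inferInstance : Q'.IsPrime).ne_top (Ideal.eq_top_of_isUnit_mem _ h ((hunit b hb).map C))) hs
    have hca : MvPolynomial.C a ∉ q' := fun hm => by
      have h1 : red p (C a) ∈ Q' := hm
      rw [map_C] at h1
      exact (inferInstance : Q'.IsPrime).ne_top (Ideal.eq_top_of_isUnit_mem _ h1 ((hunit a ha).map C))
    refine ⟨IsLocalization.mk' (Localization.AtPrime q') (C b * w)
      (⟨C a * v, q'.primeCompl.mul_mem hca hv'⟩ : q'.primeCompl), ?_⟩
    rw [Localization.localRingHom_mk', IsLocalization.mk'_eq_iff_eq]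
    refine congrArg _ ?_
    show s * red p (C b * w) = red p (C a * v) * z
    rw [map_mul, map_mul, map_C, map_C, hw, hv, smul_eq_C_mul, smul_eq_C_mul]
    ring
  · refine le_antisymm (fun x hx => ?_) (Ideal.map_le_iff_le_comap.2 fun r hr => ?_)
    · obtain ⟨w, ⟨t, ht⟩, rfl⟩ := IsLocalization.exists_mk'_eq q'.primeCompl x
      rw [RingHom.mem_ker, Localization.localRingHom_mk', IsLocalization.mk'_eq_zero_iff] at hx
      obtain ⟨⟨u, hu⟩, huw⟩ := hx
      have hw0 : red p w = 0 := (mul_eq_zero.1 huw).resolve_left fun h => hu (by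
        show u ∈ Q'
        rw [show u = 0 from h]; exact zero_mem _)
      rw [IsLocalization.mk'_mem_iff, IsScalarTower.algebraMap_eq R P (Localization.AtPrime q'), ← Ideal.map_map]
      exact Ideal.mem_map_of_mem _ (red_eq_zero p hw0)
    · show σ (algebraMap R (Localization.AtPrime q') r) = 0
      rw [IsScalarTower.algebraMap_apply R P (Localization.AtPrime q'), Localization.localRingHom_to_map,
        show red p (algebraMap R P r) = C (algebraMap R p.ResidueField r) from map_C _ r,
        Ideal.algebraMap_residueField_eq_zero.mpr hr, map_zero, map_zero]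

theorem isCIOver_fibre_of_koszulRegular {R S : Type u} [CommRing R] [CommRing S] [Algebra R S] [Module.Flat R S]
    {n : ℕ} (φ : MvPolynomial (Fin n) R →ₐ[R] S) (hφ : Function.Surjective φ)
    (h : LCI.IsKoszulRegularIdeal (RingHom.ker φ.toRingHom))
    (p : Ideal R) [p.IsPrime] (Q : Ideal (p.Fiber S)) [Q.IsPrime] :
    Synt.IsCIOver p.ResidueField (Localization.AtPrime Q) := by
  obtain ⟨Ψ, hΨ, hker, hΨred⟩ := exists_fibre_presentation p φ hφ
  obtain ⟨π, hπ, hkπ⟩ := exists_presentation_atPrime Ψ hΨ Q
  let P := MvPolynomial (Fin n) R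
  let I : Ideal P := RingHom.ker φ.toRingHom
  let Q' := Q.comap Ψ.toRingHom
  let q' := Q'.comap (red p)
  have hIq : I ≤ q' := fun x hx => by
    show Ψ (red p x) ∈ Q
    rw [hΨred, show φ x = 0 from hx, tmul_zero]
    exact zero_mem _
  obtain ⟨g, hg, l, hl, hspan⟩ := h ⟨q', inferInstance⟩ hIq
  let G := Localization.Away g
  let L := Localization.AtPrime q'
  have hle : Submonoid.powers g ≤ q'.primeCompl := Submonoid.powers_le.2 hg
  letI : Algebra G L := (IsLocalization.map L (RingHom.id P) (M := Submonoid.powers g) (T := q'.primeCompl)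
    (show Submonoid.powers g ≤ q'.primeCompl.comap (RingHom.id P) from hle) : G →+* L).toAlgebra
  haveI : IsScalarTower P G L := IsScalarTower.of_algebraMap_eq fun x => by
    rw [RingHom.algebraMap_toAlgebra, IsLocalization.map_eq]; rfl
  haveI : IsLocalization (q'.primeCompl.map (algebraMap P G)) L :=
    IsLocalization.isLocalization_of_submonoid_le G L _ _ hle
  have hex := Ex.localization (B := L) (q'.primeCompl.map (algebraMap P G)) ((isKoszulRegularSeq_iff_ex l).1 hl)
  have hIL : I.map (algebraMap P L) = Ideal.ofList (l.map (algebraMap G L)) := by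
    rw [IsScalarTower.algebraMap_eq P G L, ← Ideal.map_map, hspan, ← Ideal.map_ofList]
  haveI : Module.Flat R (P ⧸ I) :=
    Module.Flat.of_linearEquiv (Ideal.quotientKerAlgEquivOfSurjective hφ).toLinearEquiv
  haveI : Module.Flat R (L ⧸ Ideal.ofList (l.map (algebraMap G L))) := by
    rw [← hIL]
    exact flat_quotient_localization q' I
  obtain ⟨hσ, hkσ⟩ := localRingHom_red p Q'
  let σ := Localization.localRingHom q' Q' (red p) rfl
  have hred := Goren15.exact_reduce p σ hσ hkσ (l.map (algebraMap G L)) (hex 0)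
  let l' := (l.map (algebraMap G L)).map σ
  have hofList : Ideal.ofList l' = RingHom.ker π.toRingHom := by
    rw [← Ideal.map_ofList, ← hIL, hkπ, hker, Ideal.map_map, Ideal.map_map]
    refine congrArg (fun ψ => Ideal.map ψ I) (RingHom.ext fun x => ?_)
    exact Localization.localRingHom_to_map q' Q' (red p) rfl x
  have hm : ∀ x ∈ l', x ∈ maximalIdeal (Localization.AtPrime Q') := fun x hx =>
    le_maximalIdeal (RingHom.ker_ne_top π.toRingHom) (hofList.le (Ideal.subset_span hx))
  refine isCIOver_of_surjection π hπ ⟨l'.reverse, ?_, ?_⟩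
  · refine DepthLib.isRegular_of_isWeaklyRegular (I := maximalIdeal (Localization.AtPrime Q'))
      (isWeaklyRegular_reverse_of_exact l' hm hred) (fun x hx => hm x (List.mem_reverse.mp hx))
      (by rw [smul_eq_mul, Ideal.mul_top]; exact (maximalIdeal.isMaximal _).ne_top)
  · rw [← hofList]
    exact congrArg Ideal.span (Set.ext fun x => List.mem_reverse)

theorem ker_fg_of_koszulRegular {P : Type u} [CommRing P] (I : Ideal P) (h : LCI.IsKoszulRegularIdeal I) : I.FG := by
  have key : ∀ p : PrimeSpectrum P, ∃ g : P, g ∉ p.asIdeal ∧ (I.map (algebraMap P (Localization.Away g))).FG := by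
    intro p
    by_cases hp : I ≤ p.asIdeal
    · obtain ⟨g, hg, l, -, hspan⟩ := h p hp
      exact ⟨g, hg, hspan ▸ Submodule.fg_def.2 ⟨_, l.finite_toSet, rfl⟩⟩
    · obtain ⟨g, hgI, hg⟩ := SetLike.not_le_iff_exists.1 hp
      refine ⟨g, hg, ?_⟩
      rw [Ideal.eq_top_of_isUnit_mem _ (Ideal.mem_map_of_mem _ hgI) (IsLocalization.Away.algebraMap_isUnit g)]
      exact ⟨{1}, by simp⟩
  choose g hg hfg using key
  refine Ideal.fg_of_localizationSpan (t := Set.range g) ?_ ?_
  · by_contra hne
    obtain ⟨m, hm, hle⟩ := Ideal.exists_le_maximal _ hne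
    exact hg ⟨m, hm.isPrime⟩ (hle (Ideal.subset_span ⟨_, rfl⟩))
  · rintro ⟨_, p, rfl⟩
    exact hfg p

theorem isSyntomic_of_flat_of_isLCI {R S : Type u} [CommRing R] [CommRing S] [Algebra R S] [Module.Flat R S]
    (h : LCI.IsLCI R S) : Synt.IsSyntomic R S := by
  obtain ⟨hft, n, φ, hφ, hI⟩ := h
  refine ⟨inferInstance, ⟨n, φ, hφ, ker_fg_of_koszulRegular _ hI⟩, fun p => ?_⟩
  haveI := hft
  exact isLCIOver_of_forall_maximal fun m _ => isCIOver_fibre_of_koszulRegular φ hφ hI p.asIdeal m

end Groth.Agent.CI2
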