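import Groth.Agent.Lib.CI2.Rel
import Groth.Agent.Lib.CI2.Conormal
import Groth.Prelude.Def_RegImm
import Mathlib

/-!
Relative global complete intersections: Koszul regularity and flatness; global complete intersections over a field.
-/

set_option autoImplicit false
set_option linter.style.haveILetI false
universe u

open RingTheory.Sequence TensorProduct
open Groth.Agent.CanElt (KObj kd k0)

namespace Groth.Agent.CI2

theorem ofList_ofFn {R : Type u} [CommRing R] {r : ℕ} (a : Fin r → R) :
    Ideal.ofList (List.ofFn a) = Ideal.span (Set.range a) :=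
  congrArg Ideal.span (Set.ext fun x => by simp [List.mem_ofFn'])

section Unit

variable {A : Type u} [CommRing A]

/-- A sequence containing a unit is Koszul regular, with surjective last differential. -/
theorem ex_of_unit_mem : ∀ (l : List A), (∃ x ∈ l, IsUnit x) → Ex A A l ∧ Function.Surjective (kd A A l 0)
  | [], h => absurd h (by simp)
  | f :: l, h => by
    have hsurj : Function.Surjective (kd A A (f :: l) 0) := fun x => by
      obtain ⟨y, hy, hu⟩ := h
      have : x ∈ LinearMap.range (kd A A (f :: l) 0) := by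
        rw [CanElt.mem_range_kd_zero, Ideal.eq_top_of_isUnit_mem (Ideal.ofList (f :: l)) (Ideal.subset_span hy) hu, Submodule.top_smul]
        trivial
      exact this
    refine ⟨?_, hsurj⟩
    by_cases hf : IsUnit f
    · obtain ⟨v, hv⟩ := hf.exists_left_inv
      intro n z hz
      obtain ⟨a, b⟩ := z
      refine ⟨(0, v • a), ?_⟩
      rw [CanElt.kd_succ_apply, map_zero, zero_add, smul_smul, mul_comm, hv, one_smul, map_smul]
      refine Prod.ext rfl ?_
      show -(v • kd A A l n a) = b
      have h0 : kd A A l n a + f • b = 0 := by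
        cases n with
        | zero => exact hz
        | succ n => exact congrArg Prod.fst hz
      rw [eq_neg_of_add_eq_zero_left h0, smul_neg, neg_neg, smul_smul, hv, one_smul]
    · obtain ⟨hl, hls⟩ := ex_of_unit_mem l (by
        obtain ⟨x, hx, hxu⟩ := h
        rcases List.mem_cons.mp hx with rfl | hx
        · exact absurd hxu hf
        · exact ⟨x, hx, hxu⟩)
      intro n z hz
      obtain ⟨a, b⟩ := z
      have h0 : kd A A l n a + f • b = 0 := by
        cases n with
        | zero => exact hz
        | succ n => exact congrArg Prod.fst hz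
      obtain ⟨c, hc⟩ : ∃ c, kd A A l n c = -b := by
        cases n with
        | zero => exact hls _
        | succ n =>
          have hb : -kd A A l n b = 0 := congrArg Prod.snd hz
          exact hl n (-b) (by rw [map_neg, hb])
      obtain ⟨w, hw⟩ := hl n (a - f • c) (by rw [map_sub, map_smul, hc, smul_neg, sub_neg_eq_add, h0])
      refine ⟨(w, c), ?_⟩
      rw [CanElt.kd_succ_apply, hw, hc, neg_neg, sub_add_cancel]

end Unit

section GCI

variable {R : Type u} [CommRing R] {n c : ℕ} {F : Fin c → MvPolynomial (Fin n) R}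

/-- The bound on the fibre provided by a relative global complete intersection. -/
theorem fibre_bound (h : Synt.IsRelGCI R n c F) (q' : Ideal (MvPolynomial (Fin n) R)) [q'.IsPrime]
    (hq' : Ideal.span (Set.range F) ≤ q') :
    (List.ofFn F).length ≤ n ∧
      ringKrullDim (MvPolynomial (Fin n) (q'.comap (algebraMap R _)).ResidueField ⧸
        Ideal.ofList ((List.ofFn F).map (red (q'.comap (algebraMap R _))))) ≤
        ((n - (List.ofFn F).length : ℕ) : WithBot ℕ∞) := by
  let p := q'.comap (algebraMap R (MvPolynomial (Fin n) R))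
  have e := fibreEquiv p (Ideal.span (Set.range F))
  rw [← ofList_ofFn F, Ideal.map_ofList] at e
  obtain ⟨Qk, hQk, hQkq⟩ := exists_fibre_prime p q' rfl
  have hle : Ideal.ofList ((List.ofFn F).map (red p)) ≤ Qk := by
    rw [← Ideal.map_ofList, Ideal.map_le_iff_le_comap, hQkq, ofList_ofFn]; exact hq'
  haveI : Nontrivial (MvPolynomial (Fin n) p.ResidueField ⧸ Ideal.ofList ((List.ofFn F).map (red p))) :=
    Ideal.Quotient.nontrivial_iff.mpr (ne_top_of_le_ne_top hQk.ne_top hle)
  obtain ⟨hcn, hdim⟩ := h ⟨p, inferInstance⟩ (by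
    have := e.toEquiv.nontrivial
    rw [ofList_ofFn] at this
    exact this)
  rw [List.length_ofFn]
  refine ⟨hcn, le_of_eq ?_⟩
  rw [← ringKrullDim_eq_of_ringEquiv e, ofList_ofFn]
  exact hdim

theorem ex_of_isRelGCI (h : Synt.IsRelGCI R n c F) : Ex (MvPolynomial (Fin n) R) (MvPolynomial (Fin n) R) (List.ofFn F) := by
  refine ex_of_local fun m _ => ?_
  by_cases hm : Ideal.span (Set.range F) ≤ m
  · obtain ⟨hc, hd⟩ := fibre_bound h m hm
    exact ex_of_isWeaklyRegular _ _ (rel_isWeaklyRegular (List.ofFn F) m (by rwa [ofList_ofFn]) hc hd)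
  · rw [Ideal.span_le, Set.not_subset] at hm
    obtain ⟨_, ⟨i, rfl⟩, hi⟩ := hm
    exact (ex_of_unit_mem _ ⟨_, List.mem_map.mpr ⟨F i, by simp [List.mem_ofFn'], rfl⟩,
      IsLocalization.map_units (Localization.AtPrime m) (⟨F i, hi⟩ : m.primeCompl)⟩).1

theorem flat_of_isRelGCI (h : Synt.IsRelGCI R n c F) : Module.Flat R (Synt.RelGCIRing R n c F) := by
  refine FlatH4.flat_of_localized_maximal_algebra (S := Synt.RelGCIRing R n c F) fun Q _ => ?_
  let mk := Ideal.Quotient.mk (Ideal.span (Set.range F))
  let q' := Q.comap mk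
  haveI : q'.IsPrime := Ideal.IsPrime.comap _
  have hq' : Ideal.span (Set.range F) ≤ q' := fun x hx => by
    show mk x ∈ Q
    rw [Ideal.Quotient.eq_zero_iff_mem.mpr hx]; exact zero_mem _
  obtain ⟨hc, hd⟩ := fibre_bound h q' hq'
  have key := (rel_local (List.ofFn F) q' (by rwa [ofList_ofFn]) hc hd (List.ofFn F).length le_rfl).2
  rw [List.take_length, ofList_ofFn] at key
  refine (FlatH4.flat_localized_iff Q).mpr fun J x hx => ?_
  obtain ⟨s, hs, hsx⟩ := key J x hx
  refine ⟨mk s, hs, ?_⟩
  exact (algebraMap_smul (Synt.RelGCIRing R n c F) s x).trans hsx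

end GCI

section FieldCI

variable {k : Type u} [Field k] {S T : Type u} [CommRing S] [Algebra k S] [CommRing T] [Algebra k T]

theorem isGlobalCI_congr (e : S ≃ₐ[k] T) (h : Synt.IsGlobalCI k S) : Synt.IsGlobalCI k T := by
  rcases h with h | ⟨n, c, hcn, φ, r, hφ, hker, hdim⟩
  · exact Or.inl e.symm.toEquiv.subsingleton
  · refine Or.inr ⟨n, c, hcn, e.toAlgHom.comp φ, r, e.surjective.comp hφ, ?_, ?_⟩
    · rw [← hker]
      ext x
      exact (map_eq_zero_iff e e.injective)
    · rw [← ringKrullDim_eq_of_ringEquiv e.toRingEquiv, hdim]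

theorem isLCIOver_of_isGlobalCI [Algebra.FiniteType k S] (h : Synt.IsGlobalCI k S) : Synt.IsLCIOver k S :=
  ⟨inferInstance, fun p => ⟨1, p.asIdeal.ne_top_iff_one.mp p.isPrime.ne_top,
    isGlobalCI_congr ((IsLocalization.atOne S (Localization.Away (1 : S))).restrictScalars k) h⟩⟩

/-- The fibres of a relative global complete intersection are complete intersections. -/
theorem isGlobalCI_fibre {R : Type u} [CommRing R] {n c : ℕ} {F : Fin c → MvPolynomial (Fin n) R}
    (h : Synt.IsRelGCI R n c F) (p : PrimeSpectrum R) :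
    Synt.IsGlobalCI p.asIdeal.ResidueField (p.asIdeal.Fiber (Synt.RelGCIRing R n c F)) := by
  rcases subsingleton_or_nontrivial (p.asIdeal.Fiber (Synt.RelGCIRing R n c F)) with hs | hn
  · exact Or.inl hs
  obtain ⟨hcn, hdim⟩ := h p hn
  let κ := p.asIdeal.ResidueField
  let e := fibreEquiv p.asIdeal (Ideal.span (Set.range F))
  have hcomm : ∀ a : κ, e.symm (Ideal.Quotient.mk _ (MvPolynomial.C a)) = algebraMap κ _ a := fun a => by
    apply e.injective
    rw [RingEquiv.apply_symm_apply]
    rw [Algebra.TensorProduct.algebraMap_apply, Algebra.algebraMap_self, RingHom.id_apply,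
      ← map_one (Ideal.Quotient.mk (Ideal.span (Set.range F)))]
    simp only [e, fibreEquiv, RingEquiv.trans_apply, AlgEquiv.coe_ringEquiv,
      Algebra.TensorProduct.tensorQuotientEquiv_apply_tmul, Ideal.quotientEquiv_mk]
    simp [MvPolynomial.algebraTensorAlgEquiv_tmul, MvPolynomial.smul_eq_C_mul]
  let es : (MvPolynomial (Fin n) κ ⧸ (Ideal.span (Set.range F)).map (red p.asIdeal)) →+*
      p.asIdeal.Fiber (Synt.RelGCIRing R n c F) := RingEquiv.toRingHom e.symm
  let φ : MvPolynomial (Fin n) κ →ₐ[κ] p.asIdeal.Fiber (Synt.RelGCIRing R n c F) :=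
    { toRingHom := es.comp (Ideal.Quotient.mk ((Ideal.span (Set.range F)).map (red p.asIdeal)))
      commutes' := fun a => (hcomm a : e.symm _ = _) }
  refine Or.inr ⟨n, c, hcn, φ, fun i => red p.asIdeal (F i), e.symm.surjective.comp Ideal.Quotient.mk_surjective, ?_, hdim⟩
  ext z
  show e.symm (Ideal.Quotient.mk _ z) = 0 ↔ _
  rw [map_eq_zero_iff _ e.symm.injective, Ideal.Quotient.eq_zero_iff_mem, Ideal.map_span, ← Set.range_comp]
  rfl

theorem isSyntomic_of_isRelGCI {R : Type u} [CommRing R] {n c : ℕ} {F : Fin c → MvPolynomial (Fin n) R}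
    (h : Synt.IsRelGCI R n c F) : Synt.IsSyntomic R (Synt.RelGCIRing R n c F) :=
  ⟨flat_of_isRelGCI h,
    Algebra.FinitePresentation.quotient ⟨(Set.finite_range F).toFinset, by simp⟩,
    fun p => isLCIOver_of_isGlobalCI (isGlobalCI_fibre h p)⟩

end FieldCI

end Groth.Agent.CI2
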