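import Groth.Agent.Lib.CI2.SyntLocal
import Groth.Agent.Lib.CI2.Conormal
import Groth.Agent.Lib.CI2.Gci
import Groth.Agent.Lib.CI2.FlatLCI
import Mathlib

/-!
Syntomic algebras have Koszul regular presentations.
-/

set_option autoImplicit false
set_option linter.style.haveILetI false
universe u

open TensorProduct MvPolynomial RingTheory.Sequence IsLocalRing

namespace Groth.Agent.CI2

/-- Frame data of a syntomic algebra at a prime. -/
theorem exists_frame {R : Type u} [CommRing R] {n : ℕ} (I : Ideal (MvPolynomial (Fin n) R)) (hI : I.FG)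
    (g : MvPolynomial (Fin n) R ⧸ I) (hg : Synt.IsSyntomic R (Localization.Away g))
    (q : Ideal (MvPolynomial (Fin n) R ⧸ I)) [q.IsPrime] (hgq : g ∉ q) :
    ∃ (H : MvPolynomial (Fin n) R) (c : ℕ) (f : Fin c → MvPolynomial (Fin n) R),
      Ideal.Quotient.mk I H ∉ q ∧ (∀ i, f i ∈ I) ∧ (∀ x ∈ I, H * x ∈ Ideal.span (Set.range f)) ∧
      Synt.IsRelGCI R (n + 1) (c + 1) (awayRel f H) ∧
      ∀ a : Fin c → MvPolynomial (Fin n) R, ∑ i, a i * f i ∈ I ^ 2 → ∀ i, ∃ m : ℕ, H ^ m * a i ∈ I := by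
  let φ := Ideal.Quotient.mkₐ R I
  have hker : RingHom.ker φ.toRingHom = I := Ideal.mk_ker
  obtain ⟨Q, _, hQ⟩ := exists_fibre_point (R := R) q
  obtain ⟨-, hfl, hci⟩ := conditions_of_syntomic_away (q.under R) q Q hQ g hgq hg
  obtain ⟨c, F, P, _, g0, hF, hP, hfP, hreg, hg0, hg0I⟩ := exists_relations (q.under R) φ
    Ideal.Quotient.mk_surjective (hker.symm ▸ hI) q Q hQ hfl hci
  obtain ⟨z0, hz0, hgood⟩ := exists_mk_mem_iff_good (q.under R) F P hfP hreg
  let J := Ideal.span (Set.range F)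
  let S' := Synt.RelGCIRing R n c F
  haveI : Algebra.FiniteType R S' :=
    Algebra.FiniteType.of_surjective (Ideal.Quotient.mkₐ R _) Ideal.Quotient.mk_surjective
  let B : Set (PrimeSpectrum S') := {z | ¬ (c ≤ n ∧ FlatMor.fibreDimAt
      (AlgebraicGeometry.Spec.map (CommRingCat.ofHom (algebraMap R S'))) z ≤ ((n - c : ℕ) : WithBot ℕ∞))}
  have hB : IsClosed B := isClosed_bad R S' (n - c) (c ≤ n)
  have hVz : ¬ (PrimeSpectrum.vanishingIdeal B ≤ z0.asIdeal) := fun h => by
    have h1 : z0 ∈ closure B := by rw [← PrimeSpectrum.zeroLocus_vanishingIdeal_eq_closure]; exact h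
    rw [hB.closure_eq] at h1
    exact h1 hgood
  obtain ⟨a, haB, haz⟩ := SetLike.not_le_iff_exists.1 hVz
  obtain ⟨h0, rfl⟩ := Ideal.Quotient.mk_surjective a
  let H := g0 * h0
  have hFI : ∀ i, F i ∈ I := fun i => hker.le (hF i)
  have hJI : J ≤ I := Ideal.span_le.2 (by rintro _ ⟨i, rfl⟩; exact hFI i)
  have hHI : ∀ x ∈ I, H * x ∈ J := fun x hx => by
    rw [show H * x = h0 * (g0 * x) by ring]
    exact J.mul_mem_left _ (hg0I x (hker.ge hx))
  refine ⟨H, c, F, ?_, hFI, hHI, isRelGCI_away F H fun z hz => ?_, ?_⟩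
  · rw [map_mul]
    refine fun hm => ((inferInstance : q.IsPrime).mem_or_mem hm).elim hg0 fun hm => haz ?_
    rw [hz0]
    show h0 ∈ P.comap (red (q.under R))
    rw [hP]
    exact hm
  · by_contra hzB
    refine hz ?_
    rw [map_mul]
    exact z.asIdeal.mul_mem_left _ ((PrimeSpectrum.mem_vanishingIdeal B _).1 haB z hzB)
  intro a ha i
  have hrel := isRelGCI_away F H fun z hz => by
    by_contra hzB
    refine hz ?_
    rw [map_mul]
    exact z.asIdeal.mul_mem_left _ ((PrimeSpectrum.mem_vanishingIdeal B _).1 haB z hzB)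
  let rel := awayRel F H
  let J' := Ideal.span (Set.range rel)
  let ρ := (rename Fin.castSucc : MvPolynomial (Fin n) R →ₐ[R] MvPolynomial (Fin (n + 1)) R)
  have hρJ : J.map ρ.toRingHom ≤ J' := by
    rw [Ideal.map_span, Ideal.span_le]
    rintro _ ⟨_, ⟨j, rfl⟩, rfl⟩
    exact Ideal.subset_span ⟨j.castSucc, by simp [rel, ρ]⟩
  have hsq : ρ (H ^ 2 * ∑ i, a i * F i) ∈ J' ^ 2 := by
    have h1 : Ideal.span {H} * I ≤ J := Ideal.mul_le.2 fun x hx y hy => by
      obtain ⟨z, rfl⟩ := Ideal.mem_span_singleton'.1 hx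
      rw [mul_assoc]
      exact J.mul_mem_left _ (hHI y hy)
    have h2 : H ^ 2 * ∑ i, a i * F i ∈ J ^ 2 := by
      refine (Ideal.pow_right_mono h1 2) ?_
      rw [mul_pow, Ideal.span_singleton_pow]
      exact Ideal.mul_mem_mul (Ideal.mem_span_singleton_self _) ha
    refine (Ideal.pow_right_mono hρJ 2) ?_
    rw [← Ideal.map_pow]
    exact Ideal.mem_map_of_mem _ h2
  have key := mem_of_sq_relation (ex_of_isRelGCI hrel)
    (Fin.snoc (fun j => ρ (H ^ 2 * a j)) 0) (by
      rw [Fin.sum_univ_castSucc]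
      simp only [Fin.snoc_castSucc, Fin.snoc_last, zero_mul, add_zero]
      refine (congrArg (fun y => y ∈ J' ^ 2) ?_).mp hsq
      rw [map_mul, map_sum, Finset.mul_sum]
      refine Finset.sum_congr rfl fun j _ => ?_
      show _ = ρ (H ^ 2 * a j) * rename Fin.castSucc (F j)
      rw [map_mul, map_mul, mul_assoc]) i.castSucc
  rw [Fin.snoc_castSucc] at key
  let T := Localization.Away (Ideal.Quotient.mk J H)
  let ψ : MvPolynomial (Fin (n + 1)) R →ₐ[R] T :=
    aeval (Fin.snoc (fun i => algebraMap S' T (Ideal.Quotient.mk _ (X i)))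
      (IsLocalization.Away.invSelf (Ideal.Quotient.mk J H)) : Fin (n + 1) → T)
  have hψ : ∀ p, ψ (ρ p) = algebraMap S' T (Ideal.Quotient.mk J p) := fun p => by
    have : ψ.comp ρ = (IsScalarTower.toAlgHom R S' T).comp (Ideal.Quotient.mkₐ R J) :=
      algHom_ext fun i => by simp [ψ, ρ]; rfl
    exact DFunLike.congr_fun this p
  have hle : J' ≤ RingHom.ker ψ.toRingHom := Ideal.span_le.2 (by
    rintro _ ⟨j, rfl⟩
    refine Fin.lastCases ?_ (fun j => ?_) j
    · show ψ (awayRel F H (Fin.last c)) = 0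
      rw [awayRel, Fin.snoc_last, map_sub, map_one, sub_eq_zero]
      refine (map_mul ψ _ _).trans ?_
      rw [show ψ (X (Fin.last n)) = IsLocalization.Away.invSelf (Ideal.Quotient.mk J H) by simp [ψ]]
      show ψ (ρ H) * _ = 1
      rw [hψ H]
      exact IsLocalization.Away.mul_invSelf _
    · show ψ (awayRel F H j.castSucc) = 0
      rw [awayRel, Fin.snoc_castSucc, hψ,
        Ideal.Quotient.eq_zero_iff_mem.mpr (show F j ∈ J from Ideal.subset_span ⟨j, rfl⟩), map_zero])
  have h0 : algebraMap S' T (Ideal.Quotient.mk J (H ^ 2 * a i)) = 0 := by rw [← hψ]; exact hle key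
  obtain ⟨⟨_, m, rfl⟩, hm⟩ := (IsLocalization.map_eq_zero_iff (Submonoid.powers (Ideal.Quotient.mk J H)) T _).1 h0
  refine ⟨m + 2, hJI ?_⟩
  rw [pow_add, mul_assoc, ← Ideal.Quotient.eq_zero_iff_mem, map_mul, map_pow]
  exact hm


theorem isWeaklyRegular_of_cons {L' L : Type u} [CommRing L'] [CommRing L] (σ : L' →+* L) (hσ : Function.Surjective σ)
    (f0 : L') (hker : RingHom.ker σ = Ideal.span {f0}) (l : List L') (h : IsWeaklyRegular L' (f0 :: l)) :
    IsWeaklyRegular L (l.map σ) := by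
  rw [EmbDef.isWeaklyRegular_self_iff] at h ⊢
  intro i hi a ha
  rw [List.length_map] at hi
  obtain ⟨a, rfl⟩ := hσ a
  have hback : ∀ x, σ x ∈ Ideal.ofList ((l.map σ).take i) → x ∈ Ideal.ofList ((f0 :: l).take (i + 1)) := fun x hx => by
    rw [← List.map_take, ← Ideal.map_ofList, ← Ideal.mem_comap, Ideal.comap_map_of_surjective σ hσ,
      ← RingHom.ker_eq_comap_bot, hker] at hx
    rw [List.take_succ_cons, Ideal.ofList_cons, sup_comm]
    exact hx
  have h2 := h (i + 1) (by simp only [List.length_cons]; omega) a (by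
    rw [List.getElem_cons_succ]
    refine hback _ ?_
    rw [map_mul]
    rwa [List.getElem_map] at ha)
  rw [List.take_succ_cons, Ideal.ofList_cons] at h2
  rw [← List.map_take, ← Ideal.map_ofList]
  have h3 := Ideal.mem_map_of_mem σ h2
  rwa [Ideal.map_sup, Ideal.map_span, Set.image_singleton,
    show σ f0 = 0 by rw [← RingHom.mem_ker, hker]; exact Ideal.mem_span_singleton_self f0,
    Ideal.span_singleton_eq_bot.mpr rfl, bot_sup_eq] at h3

theorem exists_awayHom {R : Type u} [CommRing R] {n : ℕ} (H : MvPolynomial (Fin n) R) :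
    ∃ ψ : MvPolynomial (Fin (n + 1)) R →ₐ[R] Localization.Away H, Function.Surjective ψ ∧
      (∀ p, ψ (rename Fin.castSucc p) = algebraMap _ _ p) ∧
      RingHom.ker ψ.toRingHom = Ideal.span {rename Fin.castSucc H * X (Fin.last n) - 1} := by
  let B := MvPolynomial (Fin n) R
  let L := Localization.Away H
  let f0 : MvPolynomial (Fin (n + 1)) R := rename Fin.castSucc H * X (Fin.last n) - 1
  let ψ : MvPolynomial (Fin (n + 1)) R →ₐ[R] L :=
    aeval (Fin.snoc (fun i => algebraMap B L (X i)) (IsLocalization.Away.invSelf H) : Fin (n + 1) → L)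
  have hψ : ∀ p, ψ (rename Fin.castSucc p) = algebraMap B L p := fun p => by
    have : ψ.comp (rename Fin.castSucc) = IsScalarTower.toAlgHom R B L := algHom_ext fun i => by simp [ψ, B]
    exact DFunLike.congr_fun this p
  have hX : ψ (X (Fin.last n)) = IsLocalization.Away.invSelf H := by simp [ψ]
  refine ⟨ψ, fun y => ?_, hψ, le_antisymm ?_ ?_⟩
  · obtain ⟨b, ⟨_, i, rfl⟩, rfl⟩ := IsLocalization.exists_mk'_eq (Submonoid.powers H) y
    refine ⟨rename Fin.castSucc b * X (Fin.last n) ^ i, (IsLocalization.eq_mk'_iff_mul_eq).mpr ?_⟩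
    rw [map_mul, hψ, map_pow, hX]
    show algebraMap B L b * IsLocalization.Away.invSelf H ^ i * algebraMap B L (H ^ i) = algebraMap B L b
    rw [map_pow, mul_assoc, ← mul_pow, mul_comm (IsLocalization.Away.invSelf H), IsLocalization.Away.mul_invSelf,
      one_pow, mul_one]
  · let Q := MvPolynomial (Fin (n + 1)) R ⧸ Ideal.span {f0}
    let m : MvPolynomial (Fin (n + 1)) R →ₐ[R] Q := Ideal.Quotient.mkₐ R (Ideal.span {f0})
    have hone : m (rename Fin.castSucc H) * m (X (Fin.last n)) = 1 := by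
      rw [← map_mul, ← map_one m]
      exact Ideal.Quotient.eq.mpr (Ideal.subset_span rfl)
    let Φ : L →ₐ[R] Q := IsLocalization.liftAlgHom (M := Submonoid.powers H) (f := m.comp (rename Fin.castSucc)) (by
      rintro ⟨_, i, rfl⟩
      show IsUnit (m.comp (rename Fin.castSucc) (H ^ i))
      rw [map_pow]
      exact (IsUnit.of_mul_eq_one _ hone).pow i)
    have hΦ : ∀ b, Φ (algebraMap B L b) = m (rename Fin.castSucc b) := fun b => IsLocalization.lift_eq _ b
    have hcomp : Φ.comp ψ = m := algHom_ext fun i => by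
      refine Fin.lastCases ?_ (fun i => ?_) i
      · show Φ (ψ (X (Fin.last n))) = m (X (Fin.last n))
        rw [hX]
        refine (IsUnit.of_mul_eq_one _ hone).mul_left_cancel ?_
        rw [hone, ← hΦ, ← map_mul, IsLocalization.Away.mul_invSelf, map_one]
      · show Φ (ψ (X i.castSucc)) = m (X i.castSucc)
        rw [← rename_X Fin.castSucc i, hψ, hΦ]
    intro x hx
    rw [← Ideal.Quotient.eq_zero_iff_mem]
    show m x = 0
    rw [← hcomp]
    show Φ (ψ x) = 0
    rw [show ψ x = 0 from hx, map_zero]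
  · rw [Ideal.span_le, Set.singleton_subset_iff]
    show ψ (rename Fin.castSucc H * X (Fin.last n) - 1) = 0
    rw [map_sub, map_mul, hψ, map_one, hX, IsLocalization.Away.mul_invSelf, sub_self]

theorem ex_away_of_isRelGCI {R : Type u} [CommRing R] {n c : ℕ} {F : Fin c → MvPolynomial (Fin n) R}
    {H : MvPolynomial (Fin n) R} (hrel : Synt.IsRelGCI R (n + 1) (c + 1) (awayRel F H)) :
    Ex (Localization.Away H) (Localization.Away H) ((List.ofFn F).map (algebraMap _ (Localization.Away H))) := by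
  let G := Localization.Away H
  refine ex_of_local fun m _ => ?_
  let l := (List.ofFn F).map (algebraMap _ G)
  by_cases hm : ∀ x ∈ l, x ∈ m
  swap
  · push Not at hm
    obtain ⟨x, hx, hxm⟩ := hm
    exact (ex_of_unit_mem _ ⟨_, List.mem_map.mpr ⟨x, hx, rfl⟩,
      IsLocalization.map_units (Localization.AtPrime m) (⟨x, hxm⟩ : m.primeCompl)⟩).1
  obtain ⟨ψ, hψs, hψ, hψk⟩ := exists_awayHom H
  let m' := m.comap ψ.toRingHom
  let f0 : MvPolynomial (Fin (n + 1)) R := rename Fin.castSucc H * X (Fin.last n) - 1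
  have hf0 : ψ f0 = 0 := by
    show f0 ∈ RingHom.ker ψ.toRingHom
    rw [hψk]; exact Ideal.mem_span_singleton_self f0
  have hq' : Ideal.span (Set.range (awayRel F H)) ≤ m' := Ideal.span_le.2 (by
    rintro _ ⟨i, rfl⟩
    refine Fin.lastCases ?_ (fun i => ?_) i
    · show ψ (awayRel F H (Fin.last c)) ∈ m
      rw [awayRel, Fin.snoc_last, hf0]; exact zero_mem _
    · show ψ (awayRel F H i.castSucc) ∈ m
      rw [awayRel, Fin.snoc_castSucc, hψ]
      exact hm _ (List.mem_map.mpr ⟨F i, List.mem_ofFn.mpr ⟨i, rfl⟩, rfl⟩))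
  let fs := f0 :: (List.ofFn F).map (rename Fin.castSucc)
  have hmem : ∀ x, x ∈ fs ↔ x ∈ List.ofFn (awayRel F H) := fun x => by
    simp only [fs, List.mem_cons, List.mem_map, List.mem_ofFn, exists_exists_eq_and]
    constructor
    · rintro (rfl | ⟨i, rfl⟩)
      · exact ⟨Fin.last c, Fin.snoc_last _ _⟩
      · exact ⟨i.castSucc, Fin.snoc_castSucc _ _ _⟩
    · rintro ⟨i, rfl⟩
      refine Fin.lastCases (Or.inl (Fin.snoc_last _ _)) (fun i => Or.inr ⟨i, by rw [awayRel, Fin.snoc_castSucc]⟩) i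
  have hset : Ideal.ofList fs = Ideal.ofList (List.ofFn (awayRel F H)) := congrArg Ideal.span (Set.ext hmem)
  obtain ⟨hc, hd⟩ := fibre_bound hrel m' hq'
  have hlen : fs.length = (List.ofFn (awayRel F H)).length := by simp [fs]
  rw [← hlen] at hc hd
  rw [← Ideal.map_ofList, ← hset, Ideal.map_ofList] at hd
  have hw := rel_isWeaklyRegular fs m' (by rw [hset, ofList_ofFn]; exact hq') hc hd
  let σ := Localization.localRingHom m' m ψ.toRingHom rfl
  have hmap : m'.primeCompl.map ψ.toRingHom = m.primeCompl := by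
    ext y
    refine ⟨fun ⟨x, hx, e⟩ => e ▸ hx, fun hy => ?_⟩
    obtain ⟨x, rfl⟩ := hψs y
    exact ⟨x, hy, rfl⟩
  have hσk : RingHom.ker σ = Ideal.span {algebraMap _ (Localization.AtPrime m') f0} := by
    refine (IsLocalization.ker_map (S := Localization.AtPrime m') (Localization.AtPrime m) ψ.toRingHom hmap).trans ?_
    rw [hψk, Ideal.map_span, Set.image_singleton]
  haveI : IsLocalization (m'.primeCompl.map ψ.toRingHom) (Localization.AtPrime m) := by rw [hmap]; infer_instance
  have hσs : Function.Surjective σ := IsLocalization.map_surjective_of_surjective (M := m'.primeCompl) (g := ψ.toRingHom)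
    (S := Localization.AtPrime m') (Q := Localization.AtPrime m) hψs
  rw [List.map_cons] at hw
  have hw' := isWeaklyRegular_of_cons σ hσs _ hσk _ hw
  refine ex_of_isWeaklyRegular _ _ ?_
  refine (congrArg (fun L => IsWeaklyRegular (Localization.AtPrime m) L) ?_).mp hw'
  simp only [List.map_map]
  refine List.map_congr_left fun x _ => ?_
  simp only [Function.comp_apply]
  rw [show σ (algebraMap _ _ (rename Fin.castSucc x)) = algebraMap _ _ (ψ (rename Fin.castSucc x)) from
    Localization.localRingHom_to_map _ _ _ _ _, hψ]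

theorem isKoszulRegularIdeal_of_isSyntomic {R S : Type u} [CommRing R] [CommRing S] [Algebra R S]
    (h : Synt.IsSyntomic R S) {n : ℕ} (φ : MvPolynomial (Fin n) R →ₐ[R] S) (hφ : Function.Surjective φ) :
    LCI.IsKoszulRegularIdeal (RingHom.ker φ.toRingHom) := by
  haveI := h.2.1
  let I := RingHom.ker φ.toRingHom
  have hfg : I.FG := Algebra.FinitePresentation.ker_fG_of_surjective φ hφ
  let e : (MvPolynomial (Fin n) R ⧸ I) ≃ₐ[R] S := Ideal.quotientKerAlgEquivOfSurjective hφ
  have hS : Synt.IsSyntomic R (Localization.Away (1 : MvPolynomial (Fin n) R ⧸ I)) :=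
    isSyntomic_away (isSyntomic_congr e.symm h) 1 _
  intro p hp
  let q := p.asIdeal.map (Ideal.Quotient.mk I)
  haveI : q.IsPrime := Ideal.map_isPrime_of_surjective Ideal.Quotient.mk_surjective (by rwa [Ideal.mk_ker])
  obtain ⟨H, c, f, hH, hf, hspan, hrel, -⟩ :=
    exists_frame I hfg 1 hS q (q.ne_top_iff_one.mp (Ideal.IsPrime.ne_top inferInstance))
  refine ⟨H, fun hm => hH (Ideal.mem_map_of_mem _ hm), _,
    (isKoszulRegularSeq_iff_ex _).2 (ex_away_of_isRelGCI hrel), ?_⟩
  show I.map (algebraMap _ (Localization.Away H)) =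
    Ideal.ofList ((List.ofFn f).map (algebraMap (MvPolynomial (Fin n) R) (Localization.Away H)))
  rw [← Ideal.map_ofList, ofList_ofFn]
  refine le_antisymm (Ideal.map_le_iff_le_comap.2 fun x hx => ?_)
    (Ideal.map_mono (Ideal.span_le.2 (by rintro _ ⟨i, rfl⟩; exact hf i)))
  refine (IsLocalization.algebraMap_mem_map_algebraMap_iff (Submonoid.powers H) _ _ x).mpr
    ⟨H, Submonoid.mem_powers H, hspan x hx⟩

theorem isLCI_of_isSyntomic {R S : Type u} [CommRing R] [CommRing S] [Algebra R S] (h : Synt.IsSyntomic R S) :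
    LCI.IsLCI R S := by
  haveI := h.2.1
  obtain ⟨n, φ, hφ, -⟩ := h.2.1.out
  exact ⟨inferInstance, n, φ, hφ, isKoszulRegularIdeal_of_isSyntomic h φ hφ⟩

end Groth.Agent.CI2
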