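import Groth.Agent.Lib.CI2.KRPeel
import Groth.Agent.Lib.CI2.KRPres
import Groth.Agent.Lib.CI2.RImmBC
import Groth.Agent.Lib.CI2.SyntKoszul
import Groth.Agent.Lib.CI2.SmoothFlat
import Mathlib

/-!
Koszul regularity along a standard smooth algebra.
-/

set_option autoImplicit false
set_option linter.style.haveILetI false
universe u

namespace Groth.Agent.CI2

theorem isKR_ker_of_smooth {A B : Type u} [CommRing A] [CommRing B] [Algebra A B] [Algebra.Smooth A B] {ι : Type}
    [Fintype ι] (φ : MvPolynomial ι A →ₐ[A] B) (hφ : Function.Surjective φ) :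
    LCI.IsKoszulRegularIdeal (RingHom.ker φ.toRingHom) := by
  haveI : Algebra.Smooth A A := inferInstance
  haveI : Module.Flat A B := inferInstance
  obtain ⟨n, φ', hφ'⟩ := Algebra.FiniteType.iff_quotient_mvPolynomial''.1 (inferInstance : Algebra.FiniteType A B)
  exact isKR_ker_of_isKR_ker φ' hφ' φ hφ
    (isKoszulRegularIdeal_of_isSyntomic (isSyntomic_of_flat_of_smooth A) φ' hφ')

/-- For a standard smooth `B` over `A`, an ideal of `B` with quotient `A / I` is Koszul regular iff `I` is. -/
theorem isKR_iff_of_isStandardSmooth {A B C : Type u} [CommRing A] [CommRing B] [CommRing C] [Algebra A B]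
    [Algebra.IsStandardSmooth A B] (α : A →+* C) (hα : Function.Surjective α) (β : B →+* C)
    (h : β.comp (algebraMap A B) = α) :
    LCI.IsKoszulRegularIdeal (RingHom.ker α) ↔ LCI.IsKoszulRegularIdeal (RingHom.ker β) := by
  classical
  obtain ⟨ι, κ, _, _, ⟨P⟩⟩ := ‹Algebra.IsStandardSmooth A B›
  haveI : Fintype ι := Fintype.ofFinite ι
  haveI : Fintype κ := Fintype.ofFinite κ
  let φ : MvPolynomial ι A →ₐ[A] B := MvPolynomial.aeval P.val
  have hφ : Function.Surjective φ := fun s => ⟨P.σ s, P.aeval_val_σ s⟩
  have hK0 : LCI.IsKoszulRegularIdeal (RingHom.ker φ.toRingHom) := isKR_ker_of_smooth φ hφ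
  have hcomp : MvPolynomial.eval₂Hom α (β ∘ P.val) = β.comp φ.toRingHom := by
    refine MvPolynomial.ringHom_ext (fun r => ?_) fun i => ?_
    · simp [φ, ← h]
    · simp [φ]
  rw [← isKR_eval₂Hom ι A C α hα (β ∘ P.val), hcomp, ← RingHom.comap_ker]
  refine ⟨fun hK => ?_, isKR_comap_of_surjective φ.toRingHom hφ hK0⟩
  let e := Fintype.equivFin κ
  let F : Fin (Fintype.card κ) → MvPolynomial ι A := fun j => P.relation (e.symm j)
  refine isKR_of_isKR_comap_surjective φ.toRingHom hφ F ?_ hK0 (fun i => fun a => MvPolynomial.pderiv (P.map (e.symm i)) a)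
    (fun i a b => map_add _ a b) (fun i a b => ?_) ?_ hK
  · show _ = Ideal.span (Set.range (P.relation ∘ e.symm))
    rw [EquivLike.range_comp, P.span_range_relation_eq_ker, P.ker_eq_ker_aeval_val]
    rfl
  · rw [MvPolynomial.pderiv_mul]; ring
  · have hj := P.jacobian_isUnit
    rw [P.jacobian_eq_jacobiMatrix_det] at hj
    have hm : (Matrix.of fun i j => MvPolynomial.pderiv (P.map (e.symm i)) (F j)) = P.jacobiMatrix.submatrix e.symm e.symm := by
      ext i j
      simp [P.jacobiMatrix_apply, F]
    rw [hm, Matrix.det_submatrix_equiv_self]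
    rw [P.algebraMap_apply] at hj
    exact hj

/-- Near every prime of `C`, the situation localises to a standard smooth one. -/
theorem exists_standardSmooth_localization {A B C : Type u} [CommRing A] [CommRing B] [CommRing C] [Algebra A B]
    [Algebra.Smooth A B] (α : A →+* C) (hα : Function.Surjective α) (β : B →+* C)
    (h : β.comp (algebraMap A B) = α) (r : Ideal C) [r.IsPrime] :
    ∃ (a : A) (b : B), α a ∉ r ∧ β b ∉ r ∧
      (LCI.IsKoszulRegularIdeal ((RingHom.ker α).map (algebraMap A (Localization.Away a))) ↔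
        LCI.IsKoszulRegularIdeal ((RingHom.ker β).map (algebraMap B (Localization.Away b)))) := by
  have hβ : Function.Surjective β := fun c => by
    obtain ⟨a, rfl⟩ := hα c
    exact ⟨algebraMap A B a, RingHom.congr_fun h a⟩
  obtain ⟨s, hspan, hloc⟩ := (RingHom.smooth_algebraMap.mpr ‹Algebra.Smooth A B›).locally_isStandardSmooth
  obtain ⟨h0, hh0, hr⟩ : ∃ h0 ∈ s, β h0 ∉ r := by
    by_contra hall
    push Not at hall
    exact (inferInstance : r.IsPrime).ne_top ((Ideal.eq_top_iff_one r).2 (by
      have h1 : (1 : B) ∈ r.comap β := (hspan ▸ Ideal.span_le.2 hall : ⊤ ≤ r.comap β) trivial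
      simpa using h1))
  obtain ⟨a, ha⟩ := hα (β h0)
  let Bh := Localization.Away h0
  let A1 := Localization.Away a
  let B1 := Localization.Away (algebraMap A Bh a)
  let hb : B := h0 * algebraMap A B a
  haveI : IsLocalization.Away (algebraMap B Bh (algebraMap A B a)) B1 := by
    rw [← IsScalarTower.algebraMap_apply A B Bh]; infer_instance
  haveI : IsLocalization.Away hb B1 := IsLocalization.Away.mul' Bh B1 h0 (algebraMap A B a)
  let c := α a
  have hbc : β hb = c * c := by
    show β (h0 * algebraMap A B a) = _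
    rw [map_mul, ← ha, show β (algebraMap A B a) = α a from RingHom.congr_fun h a]
  let C1 := Localization.Away (β hb)
  have hcu : IsUnit (algebraMap C C1 c) :=
    isUnit_of_dvd_unit (map_dvd _ (hbc ▸ Dvd.intro c rfl)) (IsLocalization.Away.algebraMap_isUnit (β hb))
  haveI : IsLocalization.Away c C1 := IsLocalization.of_le (Submonoid.powers (β hb)) (Submonoid.powers c)
    (Submonoid.powers_le.2 (hbc ▸ ⟨2, pow_two c⟩)) (by rintro _ ⟨n, rfl⟩; rw [map_pow]; exact hcu.pow n)
  have hmapA : (Submonoid.powers a).map α = Submonoid.powers c := Submonoid.map_powers α a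
  have hmapB : (Submonoid.powers hb).map β = Submonoid.powers (β hb) := Submonoid.map_powers β hb
  haveI : IsLocalization ((Submonoid.powers a).map α) C1 := hmapA.symm ▸ ‹IsLocalization.Away c C1›
  haveI : IsLocalization ((Submonoid.powers hb).map β) C1 := by rw [hmapB]; infer_instance
  let α1 : A1 →+* C1 := IsLocalization.map C1 α (Submonoid.le_comap_map (Submonoid.powers a))
  let β1 : B1 →+* C1 := IsLocalization.map C1 β (Submonoid.le_comap_map (Submonoid.powers hb))
  haveI : IsLocalization ((Submonoid.powers a).map ((algebraMap B Bh).comp (algebraMap A B))) B1 := by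
    rw [Submonoid.map_powers, ← IsScalarTower.algebraMap_eq A B Bh]; infer_instance
  let ι1 : A1 →+* B1 := IsLocalization.map B1 ((algebraMap B Bh).comp (algebraMap A B))
    (Submonoid.le_comap_map (Submonoid.powers a))
  have hι : ι1.IsStandardSmooth :=
    RingHom.isStandardSmooth_localizationPreserves _ (Submonoid.powers a) A1 B1 (hloc h0 hh0)
  letI : Algebra A1 B1 := ι1.toAlgebra
  haveI : Algebra.IsStandardSmooth A1 B1 := hι
  have hβι : β1.comp (algebraMap A1 B1) = α1 := by
    refine IsLocalization.ringHom_ext (Submonoid.powers a) (RingHom.ext fun x => ?_)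
    show β1 (ι1 (algebraMap A A1 x)) = α1 (algebraMap A A1 x)
    rw [IsLocalization.map_eq, IsLocalization.map_eq, RingHom.comp_apply, ← IsScalarTower.algebraMap_apply B Bh B1,
      IsLocalization.map_eq, show β (algebraMap A B x) = α x from RingHom.congr_fun h x]
  have key := isKR_iff_of_isStandardSmooth α1 (IsLocalization.map_surjective_of_surjective (M := Submonoid.powers a)
    (g := α) (S := A1) (Q := C1) hα) β1 hβι
  rw [IsLocalization.ker_map (S := A1) C1 α rfl,
    IsLocalization.ker_map (S := B1) C1 β rfl] at key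
  refine ⟨a, hb, fun hm => hr (ha ▸ hm), fun hm => ?_, key.trans ?_⟩
  · rw [hbc] at hm
    exact hr (ha ▸ ((inferInstance : r.IsPrime).mem_or_mem hm).elim id id)
  · let e : B1 ≃ₐ[B] Localization.Away hb := IsLocalization.algEquiv (Submonoid.powers hb) B1 _
    rw [← isKR_map_equiv_iff e.toRingEquiv, Ideal.map_map]
    exact Iff.of_eq (congrArg (fun φ => LCI.IsKoszulRegularIdeal ((RingHom.ker β).map φ))
      (RingHom.ext fun x => e.commutes x))

/-- For a smooth `B` over `A`, an ideal of `B` with quotient `A / I` is Koszul regular iff `I` is. -/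
theorem isKR_iff_of_smooth {A B C : Type u} [CommRing A] [CommRing B] [CommRing C] [Algebra A B]
    [Algebra.Smooth A B] (α : A →+* C) (hα : Function.Surjective α) (β : B →+* C)
    (h : β.comp (algebraMap A B) = α) :
    LCI.IsKoszulRegularIdeal (RingHom.ker α) ↔ LCI.IsKoszulRegularIdeal (RingHom.ker β) := by
  have hβ : Function.Surjective β := fun c => by
    obtain ⟨a, rfl⟩ := hα c
    exact ⟨algebraMap A B a, RingHom.congr_fun h a⟩
  refine ⟨fun hI => isKR_of_cover _ fun p hp => ?_, fun hJ => isKR_of_cover _ fun p hp => ?_⟩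
  · haveI := Ideal.map_isPrime_of_surjective hβ hp
    obtain ⟨a, b, -, hb, hiff⟩ := exists_standardSmooth_localization α hα β h (p.asIdeal.map β)
    exact ⟨b, fun hm => hb (Ideal.mem_map_of_mem β hm), hiff.1 (isKR_map_of_flat _
      (RingHom.flat_algebraMap_iff.2 (IsLocalization.flat _ (Submonoid.powers a))) hI)⟩
  · haveI := Ideal.map_isPrime_of_surjective hα hp
    obtain ⟨a, b, ha, -, hiff⟩ := exists_standardSmooth_localization α hα β h (p.asIdeal.map α)
    exact ⟨a, fun hm => ha (Ideal.mem_map_of_mem α hm), hiff.2 (isKR_map_of_flat _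
      (RingHom.flat_algebraMap_iff.2 (IsLocalization.flat _ (Submonoid.powers b))) hJ)⟩

end Groth.Agent.CI2
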