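import Groth.Agent.Lib.CI2.KoszulDesc
import Groth.Prelude.Def_RegImm
import Mathlib

/-!
Composition of Koszul morphisms.
-/

set_option autoImplicit false
set_option linter.style.haveILetI false
universe u

open CategoryTheory CategoryTheory.Limits AlgebraicGeometry

namespace Groth.Agent.CI2

theorem koszul_spec_iff {R S : CommRingCat.{u}} (ψ : R ⟶ S) (hψ : Function.Surjective ψ) :
    RegImm.IsRegularImmersion .koszul (Spec.map ψ) ↔ LCI.IsKoszulRegularIdeal (RingHom.ker ψ.hom) := by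
  haveI : IsClosedImmersion (Spec.map ψ) := IsClosedImmersion.spec_of_surjective ψ hψ
  have hker : RingHom.ker ((Spec.map ψ).app ⊤).hom =
      (RingHom.ker ψ.hom).map ((Scheme.ΓSpecIso R).commRingCatIsoToRingEquiv.symm.toRingHom) := by
    refine Eq.trans ?_ (Ideal.map_symm (Scheme.ΓSpecIso R).commRingCatIsoToRingEquiv).symm
    ext x
    rw [RingHom.mem_ker, Ideal.mem_comap, RingHom.mem_ker]
    show _ ↔ ψ.hom ((Scheme.ΓSpecIso R).hom x) = 0
    rw [← CommRingCat.comp_apply, ← Scheme.ΓSpecIso_naturality ψ, CommRingCat.comp_apply]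
    exact (map_eq_zero_iff _ (ConcreteCategory.bijective_of_isIso (Scheme.ΓSpecIso S).hom).1).symm
  refine ⟨fun h => ?_, fun h => isRegularImmersion_of_forall_isKR _ fun z => ⟨⊤, isAffineOpen_top _, trivial, inferInstance, ?_⟩⟩
  · have h' := isKR_of_isRegularImmersion _ h (isAffineOpen_top (Spec R))
    rwa [hker, isKR_map_equiv_iff] at h'
  · rwa [hker, isKR_map_equiv_iff]

theorem isKoszulAt_comp_open {X X' Y : Scheme.{u}} (f : X ⟶ Y) (hf : ∀ x, Synt.IsKoszulAt f x)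
    (r : X' ⟶ X) [IsOpenImmersion r] (y : X') : Synt.IsKoszulAt (r ≫ f) y := by
  obtain ⟨O, Q, j, ρ, hyO, hft, hj, hρ, hjρ⟩ := hf (r y)
  haveI := hft
  haveI := hρ
  refine ⟨r ⁻¹ᵁ O, Q, (r ∣_ O) ≫ j, ρ, hyO, ?_, isRegularImmersion_comp_open j hj _, hρ, ?_⟩
  · rw [← Category.assoc, ← morphismRestrict_ι, Category.assoc]
    exact inferInstance
  · rw [Category.assoc, hjρ, ← Category.assoc, morphismRestrict_ι, Category.assoc]

theorem isKoszulAt_comp {X Y Z : Scheme.{u}} (f : X ⟶ Y) (g : Y ⟶ Z)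
    (hf : ∀ x : X, Synt.IsKoszulAt f x) (hg : ∀ y : Y, Synt.IsKoszulAt g y) (x : X) :
    Synt.IsKoszulAt (f ≫ g) x := by
  obtain ⟨W, Q, j, ρ, hyW, -, hj, hρ, hjρ⟩ := hg (f x)
  haveI := hρ
  haveI := hj.1
  haveI := locallyOfFiniteType_of_isKoszulAt f hf
  haveI := locallyOfFiniteType_of_isKoszulAt g hg
  obtain ⟨Qa, hQa, hyQ, -, hcl⟩ := exists_affine_closed j ⟨f x, hyW⟩ (V := ⊤) trivial
  haveI := hcl
  obtain ⟨hWa', hσ⟩ := surjective_app_of_closed j hQa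
  let Wa : Y.Opens := W.ι ''ᵁ (j ⁻¹ᵁ Qa)
  have hWa : IsAffineOpen Wa := hWa'.image_of_isOpenImmersion W.ι
  let σ : Γ(Q, Qa) ⟶ Γ(Y, Wa) := j.app Qa ≫ (W.ι.appIso (j ⁻¹ᵁ Qa)).inv
  have hσs : Function.Surjective σ := (ConcreteCategory.bijective_of_isIso (W.ι.appIso (j ⁻¹ᵁ Qa)).inv).2.comp hσ
  have hσk : RingHom.ker σ.hom = RingHom.ker (j.app Qa).hom := by
    ext a
    exact map_eq_zero_iff _ (ConcreteCategory.bijective_of_isIso (W.ι.appIso (j ⁻¹ᵁ Qa)).inv).1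
  have hσKR : LCI.IsKoszulRegularIdeal (RingHom.ker σ.hom) := hσk ▸ isKR_of_isRegularImmersion j hj hQa
  have hσspec : Spec.map σ ≫ hQa.fromSpec ≫ ρ = hWa.fromSpec ≫ g := by
    have h1 : hWa'.fromSpec ≫ W.ι = Spec.map (W.ι.appIso (j ⁻¹ᵁ Qa)).hom ≫ hWa.fromSpec := by
      rw [← IsAffineOpen.SpecMap_appLE_fromSpec W.ι hWa hWa' (W.ι.preimage_image_eq _).ge]
      congr 1
      exact congrArg Spec.map (Scheme.Hom.appIso_hom' W.ι (j ⁻¹ᵁ Qa)).symm
    rw [Spec.map_comp, Category.assoc, Scheme.Hom.app_eq_appLE,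
      IsAffineOpen.SpecMap_appLE_fromSpec_assoc j hQa hWa' le_rfl, hjρ, ← Category.assoc hWa'.fromSpec, h1,
      Category.assoc, ← Spec.map_comp_assoc, Iso.hom_inv_id, Spec.map_id, Category.id_comp]
  have hxWa : f x ∈ Wa := ⟨⟨f x, hyW⟩, hyQ, rfl⟩
  obtain ⟨U, hU, hxU, hUW⟩ := exists_isAffineOpen_mem_and_subset (U := f ⁻¹ᵁ Wa) (show x ∈ f ⁻¹ᵁ Wa from hxWa)
  letI : Algebra Γ(Y, Wa) Γ(X, U) := (f.appLE Wa U hUW).hom.toAlgebra
  haveI : Algebra.FiniteType Γ(Y, Wa) Γ(X, U) := Scheme.Hom.finiteType_appLE f hWa hU hUW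
  obtain ⟨n, φ, hφ⟩ :=
    Algebra.FiniteType.iff_quotient_mvPolynomial''.1 (inferInstance : Algebra.FiniteType Γ(Y, Wa) Γ(X, U))
  let PW : CommRingCat.{u} := CommRingCat.of (MvPolynomial (Fin n) Γ(Y, Wa))
  let PQ : CommRingCat.{u} := CommRingCat.of (MvPolynomial (Fin n) Γ(Q, Qa))
  let eW : Γ(Y, Wa) ⟶ PW := CommRingCat.ofHom (algebraMap Γ(Y, Wa) (MvPolynomial (Fin n) Γ(Y, Wa)))
  let eQ : Γ(Q, Qa) ⟶ PQ := CommRingCat.ofHom (algebraMap Γ(Q, Qa) (MvPolynomial (Fin n) Γ(Q, Qa)))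
  let ψ : PW ⟶ Γ(X, U) := CommRingCat.ofHom φ.toRingHom
  let ψ' : PQ ⟶ Γ(X, U) := CommRingCat.ofHom (φ.toRingHom.comp (MvPolynomial.map σ.hom))
  haveI : IsClosedImmersion (Spec.map ψ) := IsClosedImmersion.spec_of_surjective ψ hφ
  haveI : Smooth (Spec.map eW) := by
    rw [HasRingHomProperty.Spec_iff (P := @Smooth)]
    exact RingHom.smooth_algebraMap.2
      (show Algebra.Smooth Γ(Y, Wa) (MvPolynomial (Fin n) Γ(Y, Wa)) from ⟨inferInstance, inferInstance⟩)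
  haveI : Smooth (Spec.map eQ) := by
    rw [HasRingHomProperty.Spec_iff (P := @Smooth)]
    exact RingHom.smooth_algebraMap.2
      (show Algebra.Smooth Γ(Q, Qa) (MvPolynomial (Fin n) Γ(Q, Qa)) from ⟨inferInstance, inferInstance⟩)
  have hψ : eW ≫ ψ = f.appLE Wa U hUW := CommRingCat.hom_ext (AlgHom.comp_algebraMap φ)
  have hUι : hU.isoSpec.hom ≫ hU.fromSpec = U.ι := by rw [← hU.isoSpec_inv_ι, Iso.hom_inv_id_assoc]
  have hfac : (hU.isoSpec.hom ≫ Spec.map ψ) ≫ Spec.map eW ≫ hWa.fromSpec = U.ι ≫ f := by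
    rw [Category.assoc, ← Spec.map_comp_assoc, hψ, IsAffineOpen.SpecMap_appLE_fromSpec f hWa hU hUW,
      ← Category.assoc, hUι]
  have hψi := koszul_of_isKoszulAt (hU.isoSpec.hom ≫ Spec.map ψ) (U.ι ≫ f) (isKoszulAt_comp_open f hf U.ι)
    (Spec.map eW ≫ hWa.fromSpec) hfac
  have hψi2 : RegImm.IsRegularImmersion .koszul (Spec.map ψ) := by
    have := isRegularImmersion_comp_open _ hψi hU.isoSpec.inv
    rwa [Iso.inv_hom_id_assoc] at this
  have hφKR : LCI.IsKoszulRegularIdeal (RingHom.ker φ.toRingHom) := (koszul_spec_iff ψ hφ).1 hψi2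
  have hmap : LCI.IsKoszulRegularIdeal (RingHom.ker (MvPolynomial.map (σ := Fin n) σ.hom)) := by
    rw [MvPolynomial.ker_map]
    exact isKR_map_of_flat _ (RingHom.flat_algebraMap_iff.2
      (inferInstance : Module.Flat Γ(Q, Qa) (MvPolynomial (Fin n) Γ(Q, Qa)))) hσKR
  have hψ's : Function.Surjective ψ' := hφ.comp (MvPolynomial.map_surjective σ.hom hσs)
  have hψ'KR : LCI.IsKoszulRegularIdeal (RingHom.ker ψ'.hom) := by
    show LCI.IsKoszulRegularIdeal (RingHom.ker (φ.toRingHom.comp (MvPolynomial.map σ.hom)))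
    rw [← RingHom.comap_ker]
    exact isKR_comap_of_surjective _ (MvPolynomial.map_surjective σ.hom hσs) hmap hφKR
  haveI : IsClosedImmersion (Spec.map ψ') := IsClosedImmersion.spec_of_surjective ψ' hψ's
  refine ⟨U, Spec PQ, hU.isoSpec.hom ≫ Spec.map ψ', Spec.map eQ ≫ hQa.fromSpec ≫ ρ, hxU, inferInstance,
    isRegularImmersion_comp_open _ ((koszul_spec_iff ψ' hψ's).2 hψ'KR) _, inferInstance, ?_⟩
  have hc : eQ ≫ ψ' = σ ≫ f.appLE Wa U hUW := by
    refine CommRingCat.hom_ext (RingHom.ext fun a => ?_)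
    show φ (MvPolynomial.map σ.hom (MvPolynomial.C a)) = _
    rw [MvPolynomial.map_C]
    exact φ.commutes (σ.hom a)
  rw [Category.assoc, ← Spec.map_comp_assoc, hc, Spec.map_comp_assoc, hσspec,
    IsAffineOpen.SpecMap_appLE_fromSpec_assoc f hWa hU hUW, ← Category.assoc, hUι]

end Groth.Agent.CI2
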