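import Groth.Agent.Lib.CI2.KRComp
import Groth.Agent.Lib.CI2.KRDesc
import Mathlib

/-!
Cutting a Koszul regular ideal by part of a minimal generating set.
-/

set_option autoImplicit false
set_option linter.style.haveILetI false
universe u

open Groth.Agent.CanElt (KObj kd k0)

namespace Groth.Agent.CI2

variable {A : Type u} [CommRing A] {M N : Type u} [AddCommGroup M] [Module A M] [AddCommGroup N] [Module A N]

theorem ex_of_append (ψ : M →ₗ[A] N) (hψ : Function.Surjective ψ) (l : List A)
    (hker : LinearMap.ker ψ = Ideal.ofList l • (⊤ : Submodule A M)) (hl : Ex A M l) {m : List A}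
    (h : Ex A M (m ++ l)) : Ex A N m := by
  intro n y hy
  obtain ⟨z, rfl⟩ := pim_surjective ψ hψ l m (n + 1) y
  have hc : Cyc M (m ++ l) n (kd A M (m ++ l) n z) := by
    cases n with
    | zero => trivial
    | succ n => exact CanElt.kd_kd A M _ n z
  obtain ⟨w, hw0, hw⟩ := exists_kd_of_pim_eq_zero ψ l hker hl m n _ hc (by rw [pim_kd ψ l hker]; exact hy)
  obtain ⟨v, hv⟩ := h n (z - w) (by rw [map_sub, hw, sub_self])
  exact ⟨pim ψ l m (n + 2) v, by rw [← pim_kd ψ l hker, hv, map_sub, hw0, sub_zero]⟩

theorem ex_of_append_of_surjective {A' : Type u} [CommRing A'] (σ : A →+* A') (hσ : Function.Surjective σ)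
    {l : List A} (hker : RingHom.ker σ = Ideal.ofList l) (hl : Ex A A l) {m : List A} (h : Ex A A (m ++ l)) :
    Ex A' A' (m.map σ) := by
  letI : Module A A' := Module.compHom A' σ
  let ψ : A →ₗ[A] A' :=
    { toFun := σ
      map_add' := map_add σ
      map_smul' := fun a b => map_mul σ a b }
  let χ : A' →ₛₗ[σ] A' :=
    { toFun := id
      map_add' := fun _ _ => rfl
      map_smul' := fun _ _ => rfl }
  refine Ex.map_bijective χ Function.bijective_id (ex_of_append ψ hσ l ?_ hl h)
  rw [Ideal.smul_eq_mul, Ideal.mul_top, ← hker]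
  rfl

/-- Gluing the witnesses on smaller basic opens. -/
theorem ex_away_of_isUnit {g h : A} (hu : IsUnit (algebraMap A (Localization.Away h) g)) {k : List A}
    (hk : Ex (Localization.Away g) (Localization.Away g) (k.map (algebraMap A (Localization.Away g)))) :
    Ex (Localization.Away h) (Localization.Away h) (k.map (algebraMap A (Localization.Away h))) := by
  let G := Localization.Away g
  let H := Localization.Away h
  let ρ : G →+* H := IsLocalization.Away.lift g hu
  have hρ : ρ.comp (algebraMap A G) = algebraMap A H := IsLocalization.Away.lift_comp g hu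
  letI : Algebra G H := ρ.toAlgebra
  haveI : IsScalarTower A G H := IsScalarTower.of_algebraMap_eq' hρ.symm
  haveI : Module.Flat A H := IsLocalization.flat H (Submonoid.powers h)
  haveI : Module.Flat G H := (Module.flat_iff_of_isLocalization G (Submonoid.powers g) H).2 inferInstance
  have h2 := (hk.of_flat H).map_bijective (σ := algebraMap G H)
    { toFun := id
      map_add' := fun _ _ => rfl
      map_smul' := fun a b => Algebra.smul_def a b } Function.bijective_id
  rwa [List.map_map, ← RingHom.coe_comp, show (algebraMap G H).comp (algebraMap A G) = algebraMap A H from hρ] at h2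

theorem map_away_eq_of_isUnit {g h : A} (hu : IsUnit (algebraMap A (Localization.Away h) g)) {I : Ideal A} {k : List A}
    (hI : I.map (algebraMap A (Localization.Away g)) = Ideal.ofList (k.map (algebraMap A (Localization.Away g)))) :
    I.map (algebraMap A (Localization.Away h)) = Ideal.ofList (k.map (algebraMap A (Localization.Away h))) := by
  have h2 := congrArg (Ideal.map (IsLocalization.Away.lift (S := Localization.Away g) g hu)) hI
  rwa [Ideal.map_map, Ideal.map_ofList, List.map_map, ← RingHom.coe_comp, IsLocalization.Away.lift_comp] at h2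

theorem isUnit_away_of_dvd {g h : A} (hd : g ∣ h) : IsUnit (algebraMap A (Localization.Away h) g) :=
  isUnit_of_dvd_unit (map_dvd _ hd) (IsLocalization.Away.algebraMap_isUnit h)

variable (q : Ideal A)

/-- The list is part of a minimal generating set of `K` at `q`. -/
def Indep (K : Ideal A) (F : List A) : Prop :=
  ∀ a : Fin F.length → A, ∑ j, a j * F.get j ∈ q * K → ∀ j, a j ∈ q

theorem indep_of_det {K : Ideal A} (hK : K ≤ q) [q.IsPrime] {c : ℕ} (F : Fin c → A) (D : Fin c → A → A)
    (hadd : ∀ i a b, D i (a + b) = D i a + D i b) (hmul : ∀ i a b, D i (a * b) = a * D i b + b * D i a)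
    (hF : ∀ j, F j ∈ K) (hdet : Matrix.det (Matrix.of fun i j => D i (F j)) ∉ q) : Indep q K (List.ofFn F) := by
  intro a ha
  let a' : Fin c → A := fun j => a (Fin.cast List.length_ofFn.symm j)
  have h0 : ∀ i, D i 0 = 0 := fun i => by simpa using hadd i 0 0
  have hsum' : ∑ j, a' j * F j ∈ q * K := by
    convert ha using 1
    exact Fintype.sum_equiv (finCongr List.length_ofFn.symm) _ _ fun j => by simp [a']
  have hD : ∀ i, ∀ x ∈ q * K, D i x ∈ q := fun i x hx => by
    refine Submodule.mul_induction_on hx (fun u hu v hv => ?_) (fun u v hu hv => ?_)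
    · rw [hmul]; exact add_mem (q.mul_mem_right _ hu) (q.mul_mem_right _ (hK hv))
    · rw [hadd]; exact add_mem hu hv
  let J : Matrix (Fin c) (Fin c) A := Matrix.of fun i j => D i (F j)
  have hDsum : ∀ i, ∑ j, J i j * a' j ∈ q := fun i => by
    have key : ∀ s : Finset (Fin c), D i (∑ j ∈ s, a' j * F j) - ∑ j ∈ s, J i j * a' j ∈ q := by
      intro s
      induction s using Finset.induction with
      | empty => simp [h0]
      | insert j s hj ih =>
        rw [Finset.sum_insert hj, Finset.sum_insert hj, hadd, hmul]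
        have : a' j * D i (F j) + F j * D i (a' j) + D i (∑ j ∈ s, a' j * F j) - (J i j * a' j + ∑ j ∈ s, J i j * a' j) =
            F j * D i (a' j) + (D i (∑ j ∈ s, a' j * F j) - ∑ j ∈ s, J i j * a' j) := by
          simp only [J, Matrix.of_apply]; ring
        rw [this]
        exact add_mem (q.mul_mem_right _ (hK (hF j))) ih
    have := q.sub_mem (hD i _ hsum') (key Finset.univ)
    rwa [sub_sub_cancel] at this
  intro j
  have hl : ∀ l, J.det * a' l ∈ q := fun l => by
    have h1 : ((J.adjugate * J).mulVec a') l = J.det * a' l := by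
      rw [Matrix.adjugate_mul, Matrix.smul_mulVec, Matrix.one_mulVec, Pi.smul_apply, smul_eq_mul]
    rw [← h1, ← Matrix.mulVec_mulVec]
    show ∑ i, J.adjugate l i * ∑ j, J i j * a' j ∈ q
    exact Ideal.sum_mem _ fun i _ => q.mul_mem_left _ (hDsum i)
  have h3 := ((inferInstance : q.IsPrime).mem_or_mem (hl (Fin.cast List.length_ofFn j))).resolve_left hdet
  simpa [a'] using h3

theorem Indep.tail {K : Ideal A} {f : A} {F : List A} (h : Indep q K (f :: F)) : Indep q K F := fun a ha j => by
  have := h (Fin.cons 0 a) (by simpa [Fin.sum_univ_succ] using ha) j.succ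
  simpa using this

/-- Part of a minimal generating set can be completed by some of the given generators. -/
theorem exists_completion [q.IsPrime] {K : Ideal A} {k : List A} (hk : ∀ x ∈ k, x ∈ K) : ∀ F : List A,
    Indep q K F → (∀ x ∈ F, ∃ t ∉ q, t * x ∈ Ideal.ofList k) →
      ∃ rest : List A, (∀ x ∈ rest, x ∈ k) ∧ rest.length + F.length = k.length ∧
        ∀ x ∈ k, ∃ u ∉ q, u * x ∈ Ideal.ofList (rest ++ F) := by
  classical
  intro F
  induction F with
  | nil =>
    intro _ _
    exact ⟨k, fun x hx => hx, rfl, fun x hx => ⟨1, q.one_notMem, by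
      rw [one_mul]; exact Ideal.subset_span (by simp [hx])⟩⟩
  | cons f F ih =>
    intro hind hFk
    obtain ⟨rest, hrest, hlen, hu⟩ := ih hind.tail fun x hx => hFk x (List.mem_cons_of_mem _ hx)
    choose! u huq humem using hu
    obtain ⟨t, htq, ht⟩ := hFk f List.mem_cons_self
    let v := ∏ x ∈ k.toFinset, u x
    have hvq : v ∉ q := fun hm => by
      obtain ⟨x, hx, hxq⟩ := (inferInstance : q.IsPrime).prod_mem_iff.1 hm
      exact huq x (List.mem_toFinset.1 hx) hxq
    have hvmem : ∀ x ∈ Ideal.ofList k, v * x ∈ Ideal.ofList (rest ++ F) := fun x hx => by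
      refine Submodule.span_induction (fun y hy => ?_) (by simp) (fun a b _ _ ha hb => by rw [mul_add]; exact add_mem ha hb)
        (fun a b _ hb => by rw [smul_eq_mul, mul_left_comm]; exact Ideal.mul_mem_left _ _ hb) hx
      show (∏ x ∈ k.toFinset, u x) * y ∈ _
      rw [← Finset.mul_prod_erase k.toFinset u (List.mem_toFinset.2 hy) , mul_right_comm]
      exact Ideal.mul_mem_right _ _ (humem y hy)
    have ht' := hvmem _ ht
    rw [Ideal.ofList_append, Submodule.mem_sup] at ht'
    obtain ⟨y, hy, z, hz, hyz⟩ := ht'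
    rw [ofList_eq_range rest, Ideal.mem_span_range_iff_exists_fun] at hy
    rw [ofList_eq_range F, Ideal.mem_span_range_iff_exists_fun] at hz
    obtain ⟨b, rfl⟩ := hy
    obtain ⟨a, rfl⟩ := hz
    obtain ⟨i, hi⟩ : ∃ i, b i ∉ q := by
      by_contra hall
      push Not at hall
      refine (inferInstance : q.IsPrime).mem_or_mem (hind (Fin.cons (v * t) fun j => -a j) ?_ 0) |>.elim hvq htq
      have e : ∑ j : Fin (F.length + 1), (Fin.cons (v * t) fun j => -a j : Fin (F.length + 1) → A) j * (f :: F).get j =
          ∑ i, b i * rest.get i := by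
        rw [Fin.sum_univ_succ]
        simp only [Fin.cons_zero, Fin.cons_succ, neg_mul, Finset.sum_neg_distrib]
        rw [show (f :: F).get 0 = f from rfl, mul_assoc, ← hyz]
        exact add_neg_cancel_right _ _
      refine e.symm ▸ Ideal.sum_mem _ fun j _ => ?_
      exact Ideal.mul_mem_mul (hall j) (hk _ (hrest _ (rest.get_mem j)))
    refine ⟨rest.eraseIdx i, fun x hx => hrest x (List.mem_of_mem_eraseIdx hx), ?_, fun x hx => ⟨b i * u x,
      fun hm => ((inferInstance : q.IsPrime).mem_or_mem hm).elim hi (huq x hx), ?_⟩⟩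
    · rw [List.length_eraseIdx_of_lt i.2, List.length_cons]; have := i.2; omega
    · let T := Ideal.ofList (rest.eraseIdx i ++ f :: F)
      have hF : Ideal.ofList F ≤ T := Ideal.span_mono fun y hy => by simp only [Set.mem_ofPred_eq] at hy ⊢; simp [hy]
      have hf : f ∈ T := Ideal.subset_span (by simp)
      have he : Ideal.ofList (rest.eraseIdx i) ≤ T := Ideal.span_mono fun y hy => by simp only [Set.mem_ofPred_eq] at hy ⊢; simp [hy]
      have hbi : b i * rest.get i ∈ T := by
        have h1 : b i * rest.get i = v * (t * f) - ∑ j ∈ Finset.univ.erase i, b j * rest.get j - ∑ j, a j * F.get j := by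
          rw [← hyz, ← Finset.add_sum_erase _ (fun j => b j * rest.get j) (Finset.mem_univ i)]
          ring
        rw [h1]
        refine T.sub_mem (T.sub_mem (T.mul_mem_left _ (T.mul_mem_left _ hf)) ?_) (hF ?_)
        · exact Ideal.sum_mem _ fun j hj => T.mul_mem_left _ (he (mem_ofList_eraseIdx rest (Finset.ne_of_mem_erase hj)))
        · exact Ideal.sum_mem _ fun j _ => Ideal.mul_mem_left _ _ (Ideal.subset_span (F.get_mem j))
      have hall : ∀ w ∈ Ideal.ofList (rest ++ F), b i * w ∈ T := fun w hw => by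
        refine Submodule.span_induction (fun y hy => ?_) (by simp) (fun a b _ _ ha hb => by rw [mul_add]; exact add_mem ha hb)
          (fun a c _ hc => by rw [smul_eq_mul, mul_left_comm]; exact T.mul_mem_left _ hc) hw
        rcases List.mem_append.1 hy with hy | hy
        · obtain ⟨j, rfl⟩ := List.mem_iff_get.1 hy
          by_cases hj : j = i
          · exact hj ▸ hbi
          · exact T.mul_mem_left _ (he (mem_ofList_eraseIdx rest hj))
        · exact T.mul_mem_left _ (hF (Ideal.subset_span hy))
      rw [mul_assoc]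
      exact hall _ (humem x hx)

/-- Completing `F` to Koszul regular generators of `K` near `q`. -/
theorem exists_ex_completion [q.IsPrime] {K : Ideal A} (hK : LCI.IsKoszulRegularIdeal K) (hKq : K ≤ q) {F : List A}
    (hF : ∀ x ∈ F, x ∈ K) (hind : Indep q K F) :
    ∃ g ∉ q, ∃ rest : List A, (∀ x ∈ rest, x ∈ K) ∧
      Ex (Localization.Away g) (Localization.Away g) ((rest ++ F).map (algebraMap A (Localization.Away g))) ∧
      K.map (algebraMap A (Localization.Away g)) = Ideal.ofList ((rest ++ F).map (algebraMap A (Localization.Away g))) ∧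
      (K = Ideal.ofList F → rest = []) := by
  classical
  obtain ⟨g0, hg0, l, hl, hspan⟩ := (isKR_iff K).1 hK ⟨q, inferInstance⟩ hKq
  obtain ⟨k, hkK, hkl, hkspan⟩ := exists_gens_in g0 hl hspan
  have hFk : ∀ x ∈ F, ∃ t ∉ q, t * x ∈ Ideal.ofList k := fun x hx => by
    obtain ⟨t, ⟨n, hn⟩, htx⟩ := (IsLocalization.algebraMap_mem_map_algebraMap_iff (Submonoid.powers g0) (Localization.Away g0)
      (Ideal.ofList k) x).mp (by rw [Ideal.map_ofList, ← hkspan]; exact Ideal.mem_map_of_mem _ (hF x hx))
    subst hn
    exact ⟨g0 ^ n, fun hm => hg0 ((inferInstance : q.IsPrime).mem_of_pow_mem n hm), htx⟩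
  obtain ⟨rest, hrest, hlen, hu⟩ := exists_completion q hkK F hind hFk
  choose! u huq humem using hu
  let g := g0 * ∏ x ∈ k.toFinset, u x
  have hg : g ∉ q := fun hm => by
    rcases (inferInstance : q.IsPrime).mem_or_mem hm with h | h
    · exact hg0 h
    · obtain ⟨x, hx, hxq⟩ := (inferInstance : q.IsPrime).prod_mem_iff.1 h
      exact huq x (List.mem_toFinset.1 hx) hxq
  have hug : IsUnit (algebraMap A (Localization.Away g) g0) := isUnit_away_of_dvd (Dvd.intro _ rfl)
  have hk2 := ex_away_of_isUnit hug hkl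
  have hspan2 := map_away_eq_of_isUnit hug hkspan
  have hmem : ∀ x ∈ rest ++ F, x ∈ K := fun x hx =>
    (List.mem_append.1 hx).elim (fun h => hkK x (hrest x h)) (hF x)
  have heq : Ideal.ofList ((rest ++ F).map (algebraMap A (Localization.Away g))) =
      Ideal.ofList (k.map (algebraMap A (Localization.Away g))) := by
    refine le_antisymm ?_ (Ideal.span_le.2 fun y hy => ?_)
    · rw [← hspan2, ← Ideal.map_ofList]
      exact Ideal.map_mono (Ideal.span_le.2 hmem)
    · obtain ⟨x, hx, rfl⟩ := List.mem_map.1 hy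
      rw [SetLike.mem_coe, ← Ideal.map_ofList,
        ← Ideal.unit_mul_mem_iff_mem _ (isUnit_away_of_dvd (g := u x) (h := g)
          (dvd_mul_of_dvd_right (Finset.dvd_prod_of_mem u (List.mem_toFinset.2 hx)) g0)), ← map_mul]
      exact Ideal.mem_map_of_mem _ (humem x hx)
  have hex := ex_of_ofList_eq hk2 heq (by simp [hlen])
  refine ⟨g, hg, rest, fun x hx => hkK x (hrest x hx), hex, hspan2.trans heq.symm, fun hKF => ?_⟩
  have hne : Ideal.ofList (k.map (algebraMap A (Localization.Away g))) ≠ ⊤ := fun he => by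
    rw [← hspan2] at he
    obtain ⟨t, ⟨n, hn⟩, ht⟩ := (IsLocalization.algebraMap_mem_map_algebraMap_iff (Submonoid.powers g) (Localization.Away g)
      K 1).mp (by rw [he]; trivial)
    subst hn
    rw [mul_one] at ht
    exact hg ((inferInstance : q.IsPrime).mem_of_pow_mem n (hKq ht))
  have hle := length_le_of_ofList_eq (l' := F.map (algebraMap A (Localization.Away g))) hk2 hne
    (by rw [← hspan2, hKF, Ideal.map_ofList])
  simp only [List.length_map] at hle
  exact List.length_eq_zero_iff.1 (by omega)

/-- Pushing a Koszul regular ideal through a surjection cut out by part of a minimal generating set. -/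
theorem isKR_of_isKR_comap_surjective {B : Type u} [CommRing B] (σ : A →+* B) (hσ : Function.Surjective σ) {c : ℕ}
    (F : Fin c → A) (hker : RingHom.ker σ = Ideal.span (Set.range F)) (hK0 : LCI.IsKoszulRegularIdeal (RingHom.ker σ))
    (D : Fin c → A → A) (hadd : ∀ i a b, D i (a + b) = D i a + D i b)
    (hmul : ∀ i a b, D i (a * b) = a * D i b + b * D i a)
    (hdet : IsUnit (σ (Matrix.det (Matrix.of fun i j => D i (F j))))) {J : Ideal B}
    (h : LCI.IsKoszulRegularIdeal (J.comap σ)) : LCI.IsKoszulRegularIdeal J := by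
  rw [isKR_iff]
  intro p hp
  let q := p.asIdeal.comap σ
  have hdq : Matrix.det (Matrix.of fun i j => D i (F j)) ∉ q := fun hm =>
    p.2.ne_top (p.asIdeal.eq_top_of_isUnit_mem hm hdet)
  have hJq : J.comap σ ≤ q := Ideal.comap_mono hp
  have h0q : RingHom.ker σ ≤ q := Ideal.comap_mono bot_le
  have hF0 : ∀ j, F j ∈ RingHom.ker σ := fun j => hker.symm ▸ Ideal.subset_span ⟨j, rfl⟩
  have h0J : RingHom.ker σ ≤ J.comap σ := Ideal.comap_mono bot_le
  have hofn : Ideal.ofList (List.ofFn F) = RingHom.ker σ := by rw [ofList_ofFn F, hker]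
  obtain ⟨g1, hg1, rest, hrestK, hex, hspan, -⟩ := exists_ex_completion q h hJq (F := List.ofFn F)
    (fun x hx => by obtain ⟨j, rfl⟩ := List.mem_ofFn.1 hx; exact h0J (hF0 j))
    (indep_of_det q hJq F D hadd hmul (fun j => h0J (hF0 j)) hdq)
  obtain ⟨g0, hg0, rest0, -, hex0, -, hnil⟩ := exists_ex_completion q hK0 h0q (F := List.ofFn F)
    (fun x hx => by obtain ⟨j, rfl⟩ := List.mem_ofFn.1 hx; exact hF0 j)
    (indep_of_det q h0q F D hadd hmul hF0 hdq)
  rw [hnil hofn.symm, List.nil_append] at hex0
  let g := g1 * g0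
  let G := Localization.Away g
  have hg : g ∉ q := fun hm => ((inferInstance : q.IsPrime).mem_or_mem hm).elim hg1 hg0
  have hexA := ex_away_of_isUnit (isUnit_away_of_dvd (h := g) (Dvd.intro g0 rfl)) hex
  have hspanA := map_away_eq_of_isUnit (isUnit_away_of_dvd (h := g) (Dvd.intro g0 rfl)) hspan
  have hex0A := ex_away_of_isUnit (isUnit_away_of_dvd (h := g) (Dvd.intro_left g1 rfl)) hex0
  have hmap : (Submonoid.powers g).map σ = Submonoid.powers (σ g) := Submonoid.map_powers σ g
  haveI : IsLocalization ((Submonoid.powers g).map σ) (Localization.Away (σ g)) := by rw [hmap]; infer_instance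
  let τ := awayσ σ g
  have hτs : Function.Surjective τ := IsLocalization.map_surjective_of_surjective (M := Submonoid.powers g) (g := σ)
    (S := G) (Q := Localization.Away (σ g)) hσ
  have hτk : RingHom.ker τ = Ideal.ofList ((List.ofFn F).map (algebraMap A G)) := by
    refine (IsLocalization.ker_map (S := G) (Localization.Away (σ g)) σ hmap).trans ?_
    rw [← hofn, Ideal.map_ofList]
  have hτcomp : τ.comp (algebraMap A G) = (algebraMap B (Localization.Away (σ g))).comp σ :=
    IsLocalization.map_comp (M := Submonoid.powers g) (S := G) _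
  rw [List.map_append] at hexA hspanA
  refine ⟨σ g, hg, (rest.map (algebraMap A G)).map τ, ex_of_append_of_surjective τ hτs hτk hex0A hexA, ?_⟩
  have h5 := congrArg (Ideal.map τ) hspanA
  rw [Ideal.map_map, hτcomp, ← Ideal.map_map, Ideal.map_comap_of_surjective σ hσ, Ideal.ofList_append, Ideal.map_sup,
    Ideal.map_ofList, ← hτk, (Ideal.map_eq_bot_iff_le_ker τ).2 le_rfl, sup_bot_eq] at h5
  exact h5

/-- Koszul regularity of a composite surjection. -/
theorem isKR_comap_of_surjective {B : Type u} [CommRing B] (σ : A →+* B) (hσ : Function.Surjective σ)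
    (hK0 : LCI.IsKoszulRegularIdeal (RingHom.ker σ)) {J : Ideal B} (hJ : LCI.IsKoszulRegularIdeal J) :
    LCI.IsKoszulRegularIdeal (J.comap σ) := by
  rw [isKR_iff] at hK0 hJ ⊢
  intro q hq
  have hkq : RingHom.ker σ ≤ q.asIdeal := le_trans (Ideal.comap_mono bot_le) hq
  haveI := Ideal.map_isPrime_of_surjective hσ hkq
  have hJp : J ≤ q.asIdeal.map σ := by rw [← Ideal.map_comap_of_surjective σ hσ J]; exact Ideal.map_mono hq
  obtain ⟨g0, hg0, l0, hl0, hspan0⟩ := hK0 q hkq
  obtain ⟨g2', hg2, m', hm', hspanm⟩ := hJ ⟨q.asIdeal.map σ, inferInstance⟩ hJp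
  obtain ⟨g2, rfl⟩ := hσ g2'
  obtain ⟨k0, -, hk0, hk0s⟩ := exists_gens_in g0 hl0 hspan0
  obtain ⟨k2, -, hk2, hk2s⟩ := exists_gens_in (σ g2) hm' hspanm
  let g := g0 * g2
  let G := Localization.Away g
  let G' := Localization.Away (σ g)
  have hg : g ∉ q.asIdeal := fun hm => (q.2.mem_or_mem hm).elim hg0 fun h => hg2 (Ideal.mem_map_of_mem σ h)
  have hk0A := ex_away_of_isUnit (isUnit_away_of_dvd (h := g) (Dvd.intro g2 rfl)) hk0
  have hk0sA := map_away_eq_of_isUnit (isUnit_away_of_dvd (h := g) (Dvd.intro g2 rfl)) hk0s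
  have hd : σ g2 ∣ σ g := map_dvd σ (Dvd.intro_left g0 rfl)
  have hk2A := ex_away_of_isUnit (isUnit_away_of_dvd hd) hk2
  have hk2sA := map_away_eq_of_isUnit (isUnit_away_of_dvd hd) hk2s
  have hmap : (Submonoid.powers g).map σ = Submonoid.powers (σ g) := Submonoid.map_powers σ g
  haveI : IsLocalization ((Submonoid.powers g).map σ) G' := by rw [hmap]; infer_instance
  let τ := awayσ σ g
  have hτs : Function.Surjective τ := IsLocalization.map_surjective_of_surjective (M := Submonoid.powers g) (g := σ)
    (S := G) (Q := G') hσ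
  have hτk : RingHom.ker τ = Ideal.ofList (k0.map (algebraMap A G)) :=
    (IsLocalization.ker_map (S := G) G' σ hmap).trans hk0sA
  let π := Ideal.Quotient.mk (Ideal.ofList (k2.map (algebraMap B G')))
  obtain ⟨L, -, hL, hLk⟩ := exists_lift_append τ π hτs hτk hk0A (Ideal.mk_ker) hk2A
  refine ⟨g, hg, L, hL, ?_⟩
  have hτcomp : τ.comp (algebraMap A G) = (algebraMap B G').comp σ :=
    IsLocalization.map_comp (M := Submonoid.powers g) (S := G) _
  rw [← hLk, ← RingHom.comap_ker, Ideal.mk_ker, ← hk2sA]
  have h1 : ((J.comap σ).map (algebraMap A G)).map τ = J.map (algebraMap B G') := by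
    rw [Ideal.map_map, hτcomp, ← Ideal.map_map, Ideal.map_comap_of_surjective σ hσ]
  rw [← h1, Ideal.comap_map_of_surjective _ hτs, ← RingHom.ker_eq_comap_bot, hτk, eq_comm, sup_eq_left, ← hk0sA]
  exact Ideal.map_mono (Ideal.comap_mono bot_le)

end Groth.Agent.CI2
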