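import Groth.Agent.Lib.CI2.Ops
import Groth.Agent.Lib.CI2.Conormal
import Groth.Agent.Lib.CI2.Gci
import Mathlib

/-!
Koszul regularity does not depend on the generators: homotopies, permutations, exchange.
-/

set_option autoImplicit false
set_option linter.style.haveILetI false
universe u

open Groth.Agent.CanElt (KObj kd k0 lmap lmap_kd kmap kmap_kd)

namespace Groth.Agent.CI2

variable {A : Type u} [CommRing A] {M : Type u} [AddCommGroup M] [Module A M]

/-- Multiplication by `a` is null homotopic on the Koszul complex. -/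
def Hty (M : Type u) [AddCommGroup M] [Module A M] (l : List A) (a : A) : Prop :=
  ∃ h : ∀ n, KObj A M l n →ₗ[A] KObj A M l (n + 1),
    (∀ x, kd A M l 0 (h 0 x) = a • x) ∧
      ∀ n x, kd A M l (n + 1) (h (n + 1) x) + h n (kd A M l n x) = a • x

theorem hty_zero (l : List A) : Hty M l 0 := ⟨fun _ => 0, fun x => by simp, fun n x => by simp⟩

theorem hty_add {l : List A} {a b : A} (ha : Hty M l a) (hb : Hty M l b) : Hty M l (a + b) := by
  obtain ⟨h, h0, hs⟩ := ha
  obtain ⟨k, k0', ks⟩ := hb
  refine ⟨fun n => h n + k n, fun x => ?_, fun n x => ?_⟩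
  · rw [LinearMap.add_apply, map_add, h0, k0', add_smul]
  · rw [LinearMap.add_apply, LinearMap.add_apply, map_add, add_add_add_comm, hs, ks, add_smul]

theorem hty_smul {l : List A} (c : A) {a : A} (ha : Hty M l a) : Hty M l (c * a) := by
  obtain ⟨h, h0, hs⟩ := ha
  refine ⟨fun n => c • h n, fun x => ?_, fun n x => ?_⟩
  · rw [LinearMap.smul_apply, map_smul, h0, smul_smul]
  · rw [LinearMap.smul_apply, LinearMap.smul_apply, map_smul, ← smul_add, hs, smul_smul]

theorem hty_head (f : A) (l : List A) : Hty M (f :: l) f := by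
  let h0 : KObj A M (f :: l) 0 →ₗ[A] KObj A M (f :: l) 1 := LinearMap.inr A (KObj A M l 1) (KObj A M l 0)
  let hsucc : ∀ n, KObj A M (f :: l) (n + 1) →ₗ[A] KObj A M (f :: l) (n + 2) := fun n =>
    (LinearMap.inr A (KObj A M l (n + 2)) (KObj A M l (n + 1))) ∘ₗ LinearMap.fst A (KObj A M l (n + 1)) (KObj A M l n)
  refine ⟨fun n => match n with
    | 0 => h0
    | n + 1 => hsucc n, fun (x : KObj A M l 0) => ?_, fun n z => ?_⟩
  · show kd A M l 0 0 + f • x = f • x
    rw [map_zero, zero_add]
  · obtain ⟨a, b⟩ := z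
    cases n with
    | zero =>
      show (kd A M l 1 0 + f • a, -kd A M l 0 a) + ((0 : KObj A M l 1), kd A M l 0 a + f • b) = (f • a, f • b)
      rw [Prod.mk_add_mk, map_zero, zero_add, add_zero, neg_add_cancel_left]
    | succ n =>
      show (kd A M l (n + 2) 0 + f • a, -kd A M l (n + 1) a) +
        ((0 : KObj A M l (n + 2)), kd A M l (n + 1) a + f • b) = (f • a, f • b)
      rw [Prod.mk_add_mk, map_zero, zero_add, add_zero, neg_add_cancel_left]

theorem hty_tail (f : A) {l : List A} {a : A} (ha : Hty M l a) : Hty M (f :: l) a := by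
  obtain ⟨h, h0', hs⟩ := ha
  let k0' : KObj A M (f :: l) 0 →ₗ[A] KObj A M (f :: l) 1 :=
    LinearMap.inl A (KObj A M l 1) (KObj A M l 0) ∘ₗ h 0
  let ksucc : ∀ n, KObj A M (f :: l) (n + 1) →ₗ[A] KObj A M (f :: l) (n + 2) := fun n =>
    LinearMap.prodMap (h (n + 1)) (-h n)
  refine ⟨fun n => match n with
    | 0 => k0'
    | n + 1 => ksucc n, fun (x : KObj A M l 0) => ?_, fun n z => ?_⟩
  · show kd A M l 0 (h 0 x) + f • (0 : KObj A M l 0) = a • x
    rw [h0', smul_zero, add_zero]
  · obtain ⟨x, y⟩ := z
    cases n with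
    | zero =>
      show (kd A M l 1 (h 1 x) + f • -h 0 y, -kd A M l 0 (-h 0 y)) +
        (h 0 (kd A M l 0 x + f • y), (0 : KObj A M l 0)) = (a • x, a • y)
      rw [Prod.mk_add_mk, add_zero, map_neg, neg_neg, h0', map_add, map_smul, smul_neg, ← hs 0 x]
      refine Prod.ext ?_ rfl
      show _ + -(f • h 0 y) + (_ + f • h 0 y) = _
      abel
    | succ n =>
      show (kd A M l (n + 2) (h (n + 2) x) + f • -h (n + 1) y, -kd A M l (n + 1) (-h (n + 1) y)) +
        (h (n + 1) (kd A M l (n + 1) x + f • y), -h n (-kd A M l n y)) = (a • x, a • y)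
      rw [Prod.mk_add_mk, map_neg, neg_neg, map_neg, neg_neg, map_add, map_smul, smul_neg, hs n y, ← hs (n + 1) x]
      refine Prod.ext ?_ rfl
      show _ + -(f • h (n + 1) y) + (_ + f • h (n + 1) y) = _
      abel

theorem hty_of_mem : ∀ (l : List A) (a : A), a ∈ Ideal.ofList l → Hty M l a
  | [], a, ha => by
    rw [Ideal.ofList_nil, Ideal.mem_bot] at ha
    exact ha ▸ hty_zero _
  | f :: l, a, ha => by
    rw [Ideal.ofList_cons, Submodule.mem_sup] at ha
    obtain ⟨x, hx, y, hy, rfl⟩ := ha
    obtain ⟨c, rfl⟩ := Ideal.mem_span_singleton'.1 hx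
    exact hty_add (hty_smul c (hty_head f l)) (hty_tail f (hty_of_mem l y hy))

/-- Being a cycle. -/
def Cyc (M : Type u) [AddCommGroup M] [Module A M] (l : List A) : ∀ n, KObj A M l n → Prop
  | 0, _ => True
  | n + 1, z => kd A M l n z = 0

theorem exists_smul_eq_kd {l : List A} {t : A} (ht : t ∈ Ideal.ofList l) :
    ∀ (n : ℕ) (z : KObj A M l n), Cyc M l n z → ∃ w, kd A M l n w = t • z := by
  obtain ⟨h, h0', hs⟩ := hty_of_mem (M := M) l t ht
  intro n z hz
  cases n with
  | zero => exact ⟨h 0 z, h0' z⟩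
  | succ n => exact ⟨h (n + 1) z, by rw [← hs n z, show kd A M l n z = 0 from hz, map_zero, add_zero]⟩

/-- Multiplication by `f` is bijective on the positive and injective on all homology. -/
def HeadCond (M : Type u) [AddCommGroup M] [Module A M] (f : A) (l : List A) : Prop :=
  (∀ n z, kd A M l n z = 0 → ∃ w c, kd A M l n c = 0 ∧ z = kd A M l (n + 1) w + f • c) ∧
    ∀ n b, Cyc M l n b → (∃ w, kd A M l n w = f • b) → ∃ w, kd A M l n w = b

theorem ex_cons_iff (f : A) (l : List A) : Ex A M (f :: l) ↔ HeadCond M f l := by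
  constructor
  · intro h
    refine ⟨fun n z hz => ?_, fun n b hb ⟨w, hw⟩ => ?_⟩
    · cases n with
      | zero =>
        obtain ⟨⟨w, c⟩, hwc⟩ := h 0 (z, 0) (by
          show kd A M l 0 z + f • (0 : KObj A M l 0) = 0
          rw [hz, smul_zero, add_zero])
        exact ⟨w, c, neg_eq_zero.1 (congrArg Prod.snd hwc), (congrArg Prod.fst hwc).symm⟩
      | succ n =>
        obtain ⟨⟨w, c⟩, hwc⟩ := h (n + 1) (z, 0) (by
          show (kd A M l (n + 1) z + f • (0 : KObj A M l (n + 1)), -kd A M l n 0) = 0
          rw [hz, smul_zero, add_zero, map_zero, neg_zero]; rfl)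
        exact ⟨w, c, neg_eq_zero.1 (congrArg Prod.snd hwc), (congrArg Prod.fst hwc).symm⟩
    · cases n with
      | zero =>
        obtain ⟨⟨v, c⟩, hvc⟩ := h 0 (-w, b) (by
          show kd A M l 0 (-w) + f • b = 0
          rw [map_neg, hw, neg_add_cancel])
        have h2 : -kd A M l 0 c = b := congrArg Prod.snd hvc
        exact ⟨-c, by rw [map_neg, h2]⟩
      | succ n =>
        obtain ⟨⟨v, c⟩, hvc⟩ := h (n + 1) (-w, b) (by
          show (kd A M l (n + 1) (-w) + f • b, -kd A M l n b) = 0
          rw [map_neg, hw, neg_add_cancel, show kd A M l n b = 0 from hb, neg_zero]; rfl)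
        have h2 : -kd A M l (n + 1) c = b := congrArg Prod.snd hvc
        exact ⟨-c, by rw [map_neg, h2]⟩
  · rintro ⟨h1, h2⟩ n z hz
    obtain ⟨a, b⟩ := z
    have ha : kd A M l n a + f • b = 0 ∧ Cyc M l n b := by
      cases n with
      | zero => exact ⟨hz, trivial⟩
      | succ n => exact ⟨congrArg Prod.fst hz, neg_eq_zero.1 (congrArg Prod.snd hz)⟩
    obtain ⟨c', hc'⟩ := h2 n b ha.2 ⟨-a, by rw [map_neg, neg_eq_iff_add_eq_zero]; exact ha.1⟩
    obtain ⟨w, c, hc, hwc⟩ := h1 n (a + f • c') (by rw [map_add, map_smul, hc']; exact ha.1)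
    refine ⟨(w, c - c'), ?_⟩
    rw [CanElt.kd_succ_apply]
    refine Prod.ext ?_ ?_
    · show kd A M l (n + 1) w + f • (c - c') = a
      rw [smul_sub, ← add_sub_assoc, ← hwc, add_sub_cancel_right]
    · show -kd A M l n (c - c') = b
      rw [map_sub, hc, zero_sub, neg_neg, hc']

theorem headCond_add {f t : A} {l : List A} (ht : t ∈ Ideal.ofList l) (h : HeadCond M f l) :
    HeadCond M (f + t) l := by
  obtain ⟨h1, h2⟩ := h
  refine ⟨fun n z hz => ?_, fun n b hb ⟨w, hw⟩ => ?_⟩
  · obtain ⟨w, c, hc, rfl⟩ := h1 n z hz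
    obtain ⟨v, hv⟩ := exists_smul_eq_kd ht (n + 1) c hc
    refine ⟨w - v, c, hc, ?_⟩
    rw [map_sub, hv, add_smul]
    abel
  · obtain ⟨v, hv⟩ := exists_smul_eq_kd ht n b hb
    exact h2 n b hb ⟨w - v, by rw [map_sub, hw, hv, add_smul, add_sub_cancel_right]⟩

theorem ex_cons_add {f t : A} {l : List A} (ht : t ∈ Ideal.ofList l) (h : Ex A M (f :: l)) :
    Ex A M ((f + t) :: l) :=
  (ex_cons_iff _ _).2 (headCond_add ht ((ex_cons_iff _ _).1 h))

theorem ex_cons_unit_mul {f : A} (u : Aˣ) {l : List A} (h : Ex A M (f :: l)) : Ex A M ((↑u * f) :: l) := by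
  obtain ⟨h1, h2⟩ := (ex_cons_iff _ _).1 h
  refine (ex_cons_iff _ _).2 ⟨fun n z hz => ?_, fun n b hb ⟨w, hw⟩ => ?_⟩
  · obtain ⟨w, c, hc, rfl⟩ := h1 n z hz
    refine ⟨w, (↑u⁻¹ : A) • c, by rw [map_smul, hc, smul_zero], ?_⟩
    rw [smul_smul, mul_right_comm, Units.mul_inv, one_mul]
  · exact h2 n b hb ⟨(↑u⁻¹ : A) • w, by rw [map_smul, hw, smul_smul, ← mul_assoc, Units.inv_mul, one_mul]⟩

/-- Isomorphism of Koszul complexes. -/
def KIso (M : Type u) [AddCommGroup M] [Module A M] (l l' : List A) : Prop :=
  ∃ e : ∀ n, KObj A M l n ≃ₗ[A] KObj A M l' n, ∀ n z, e n (kd A M l n z) = kd A M l' n (e (n + 1) z)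

theorem KIso.refl (l : List A) : KIso M l l := ⟨fun _ => LinearEquiv.refl A _, fun _ _ => rfl⟩

theorem KIso.trans {l l' l'' : List A} (h : KIso M l l') (h' : KIso M l' l'') : KIso M l l'' := by
  obtain ⟨e, he⟩ := h
  obtain ⟨e', he'⟩ := h'
  exact ⟨fun n => (e n).trans (e' n), fun n z => by
    show e' n (e n _) = _
    rw [he, he']; rfl⟩

theorem KIso.cons (f : A) {l l' : List A} (h : KIso M l l') : KIso M (f :: l) (f :: l') := by
  obtain ⟨e, he⟩ := h
  let E : ∀ n, KObj A M (f :: l) n ≃ₗ[A] KObj A M (f :: l') n := fun n => match n with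
    | 0 => (e 0 : KObj A M l 0 ≃ₗ[A] KObj A M l' 0)
    | n + 1 => ((e (n + 1)).prodCongr (e n) : (KObj A M l (n + 1) × KObj A M l n) ≃ₗ[A] _)
  refine ⟨E, fun n z => ?_⟩
  obtain ⟨a, b⟩ := z
  cases n with
  | zero =>
    show e 0 (kd A M l 0 a + f • b) = kd A M l' 0 (e 1 a) + f • e 0 b
    rw [map_add, map_smul, he]
  | succ n =>
    show (e (n + 1) (kd A M l (n + 1) a + f • b), e n (-kd A M l n b)) =
      (kd A M l' (n + 1) (e (n + 2) a) + f • e (n + 1) b, -kd A M l' n (e (n + 1) b))
    rw [map_add, map_smul, he, map_neg, he]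

theorem KIso.swap (f g : A) (l : List A) : KIso M (f :: g :: l) (g :: f :: l) := by
  let E : ∀ n, KObj A M (f :: g :: l) n ≃ₗ[A] KObj A M (g :: f :: l) n := fun n => match n with
    | 0 => (LinearEquiv.refl A (KObj A M l 0) : KObj A M l 0 ≃ₗ[A] KObj A M l 0)
    | 1 =>
      ({ toFun := fun z => ((z.1.1, z.2), z.1.2)
         map_add' := fun _ _ => rfl
         map_smul' := fun _ _ => rfl
         invFun := fun z => ((z.1.1, z.2), z.1.2)
         left_inv := fun _ => rfl
         right_inv := fun _ => rfl } :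
        ((KObj A M l 1 × KObj A M l 0) × KObj A M l 0) ≃ₗ[A] ((KObj A M l 1 × KObj A M l 0) × KObj A M l 0))
    | n + 2 =>
      ({ toFun := fun z => ((z.1.1, z.2.1), (z.1.2, -z.2.2))
         map_add' := fun x y => Prod.ext rfl (Prod.ext rfl (neg_add x.2.2 y.2.2))
         map_smul' := fun c x => Prod.ext rfl (Prod.ext rfl (smul_neg c x.2.2).symm)
         invFun := fun z => ((z.1.1, z.2.1), (z.1.2, -z.2.2))
         left_inv := fun z => Prod.ext rfl (Prod.ext rfl (neg_neg z.2.2))
         right_inv := fun z => Prod.ext rfl (Prod.ext rfl (neg_neg z.2.2)) } :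
        ((KObj A M l (n + 2) × KObj A M l (n + 1)) × (KObj A M l (n + 1) × KObj A M l n)) ≃ₗ[A]
          ((KObj A M l (n + 2) × KObj A M l (n + 1)) × (KObj A M l (n + 1) × KObj A M l n)))
  refine ⟨E, fun n z => ?_⟩
  match n with
  | 0 =>
    obtain ⟨⟨a, b⟩, c0⟩ := z
    let c : KObj A M l 0 := c0
    show (kd A M l 0 a + g • b) + f • c = (kd A M l 0 a + f • c) + g • b
    exact add_right_comm _ _ _
  | 1 =>
    obtain ⟨⟨a, b⟩, ⟨c, d⟩⟩ := z
    show (((kd A M l 1 a + g • b) + f • c, -(kd A M l 0 c + g • d)), (-kd A M l 0 b) + f • d) =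
      (((kd A M l 1 a + f • c) + g • b, -kd A M l 0 c + g • -d), -(kd A M l 0 b + f • -d))
    rw [add_right_comm (kd A M l 1 a), smul_neg, smul_neg, neg_add, neg_add, neg_neg]
  | n + 2 =>
    obtain ⟨⟨a, b⟩, ⟨c, d⟩⟩ := z
    show (((kd A M l (n + 2) a + g • b) + f • c, -(kd A M l (n + 1) c + g • d)),
        (-kd A M l (n + 1) b + f • d, -(-(-kd A M l n d)))) =
      (((kd A M l (n + 2) a + f • c) + g • b, -kd A M l (n + 1) c + g • -d),
        (-(kd A M l (n + 1) b + f • -d), -(-kd A M l n (-d))))
    rw [add_right_comm (kd A M l (n + 2) a), smul_neg, smul_neg, neg_add, neg_add, neg_neg, neg_neg, map_neg, neg_neg]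

theorem KIso.ex {l l' : List A} (h : KIso M l l') (hl : Ex A M l) : Ex A M l' := by
  obtain ⟨e, he⟩ := h
  intro n z hz
  obtain ⟨z, rfl⟩ := (e (n + 1)).surjective z
  rw [← he, LinearEquiv.map_eq_zero_iff] at hz
  obtain ⟨w, hw⟩ := hl n z hz
  exact ⟨e (n + 2) w, by rw [← he, hw]⟩

theorem KIso.of_perm {l l' : List A} (h : l.Perm l') : KIso M l l' := by
  induction h with
  | nil => exact KIso.refl _
  | cons x _ ih => exact ih.cons x
  | swap x y l => exact KIso.swap y x l
  | trans _ _ ih ih' => exact ih.trans ih'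

theorem ex_of_perm {l l' : List A} (h : l.Perm l') (hl : Ex A M l) : Ex A M l' := (KIso.of_perm h).ex hl

theorem ofList_perm {l l' : List A} (h : l.Perm l') : Ideal.ofList l = Ideal.ofList l' :=
  congrArg Ideal.span (Set.ext fun _ => h.mem_iff)

/-- A Koszul regular sequence is a minimal generating set of its ideal. -/
theorem length_le_of_ofList_eq {l l' : List A} (h : Ex A A l) (hne : Ideal.ofList l ≠ ⊤)
    (heq : Ideal.ofList l' = Ideal.ofList l) : l.length ≤ l'.length := by
  classical
  let I := Ideal.ofList l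
  haveI : Nontrivial (A ⧸ I) := Ideal.Quotient.nontrivial_iff.mpr hne
  have hspan : ∀ (L : List A) (x : A), x ∈ Ideal.ofList L → ∃ r : Fin L.length → A, ∑ i, r i * L.get i = x := by
    intro L x hx
    rw [Ideal.ofList, show {y | y ∈ L} = Set.range L.get from (Set.range_list_get L).symm] at hx
    exact Ideal.mem_span_range_iff_exists_fun.1 hx
  choose P hP using fun i : Fin l.length => hspan l' (l.get i) (heq.ge (Ideal.subset_span (l.get_mem i)))
  choose Q hQ using fun j : Fin l'.length => hspan l (l'.get j) (heq.le (Ideal.subset_span (l'.get_mem j)))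
  have hone : ∀ i k, (if k = i then 1 else 0) - ∑ j, P i j * Q j k ∈ I := by
    intro i
    refine mem_of_relation h _ ?_
    simp only [sub_mul, Finset.sum_sub_distrib, ite_mul, one_mul, zero_mul, Finset.sum_ite_eq', Finset.mem_univ, if_true,
      Finset.sum_mul]
    rw [Finset.sum_comm]
    simp only [mul_assoc, ← Finset.mul_sum, hQ, hP, sub_self]
  let π := Ideal.Quotient.mk I
  let φ : (Fin l'.length → A ⧸ I) →ₗ[A ⧸ I] (Fin l.length → A ⧸ I) :=
    LinearMap.pi fun k => ∑ j, π (Q j k) • LinearMap.proj j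
  have hφ : Function.Surjective φ := fun y => by
    refine ⟨fun j => ∑ i, y i * π (P i j), funext fun k => ?_⟩
    simp only [φ, LinearMap.pi_apply, LinearMap.coe_sum, Finset.sum_apply, LinearMap.smul_apply, LinearMap.proj_apply,
      smul_eq_mul, Finset.mul_sum]
    rw [Finset.sum_comm]
    have : ∀ i, ∑ j, π (Q j k) * (y i * π (P i j)) = y i * (if k = i then 1 else 0) := fun i => by
      have h2 := Ideal.Quotient.eq.2 (hone i k)
      rw [map_sum] at h2
      rw [show (if k = i then (1 : A ⧸ I) else 0) = π (if k = i then 1 else 0) by split_ifs <;> simp, h2, Finset.mul_sum]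
      exact Finset.sum_congr rfl fun j _ => by rw [map_mul]; ring
    simp only [this, mul_ite, mul_one, mul_zero, Finset.sum_ite_eq, Finset.mem_univ, if_true]
  simpa using card_le_of_surjective (A ⧸ I) φ hφ

/-- Exchange in a local ring. -/
theorem ex_exchange [IsLocalRing A] : ∀ (rest new old : List A), Ex A A (new ++ old) →
    Ideal.ofList (new ++ old) ≠ ⊤ → Ideal.ofList (new ++ rest) = Ideal.ofList (new ++ old) →
    old.length = rest.length → Ex A A (new ++ rest)
  | [], new, old, h, _, _, hlen => by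
    obtain rfl := List.length_eq_zero_iff.mp hlen
    exact h
  | x :: rest, new, old, h, hne, heq, hlen => by
    classical
    let m := IsLocalRing.maximalIdeal A
    have hx : x ∈ Ideal.ofList new ⊔ Ideal.ofList old := by
      rw [← Ideal.ofList_append, ← heq]
      exact Ideal.subset_span (by simp)
    obtain ⟨a, ha, b, hb, rfl⟩ := Submodule.mem_sup.1 hx
    rw [Ideal.ofList, show {y | y ∈ old} = Set.range old.get from (Set.range_list_get old).symm] at hb
    obtain ⟨c, hc⟩ := Ideal.mem_span_range_iff_exists_fun.1 hb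
    by_cases hu : ∃ i, IsUnit (c i)
    · obtain ⟨i, hi⟩ := hu
      let old' := old.eraseIdx i
      have hperm : (old.get i :: old').Perm old := List.getElem_cons_eraseIdx_perm i.2
      have hperm2 : (old.get i :: (new ++ old')).Perm (new ++ old) :=
        (List.perm_middle).symm.trans (hperm.append_left new)
      have ht : a + (b - c i * old.get i) ∈ Ideal.ofList (new ++ old') := by
        rw [Ideal.ofList_append]
        refine Submodule.add_mem_sup ha ?_
        have hle : ∀ j, j ≠ i → old.get j ∈ Ideal.ofList old' := fun j hj => Ideal.subset_span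
          (List.mem_eraseIdx_iff_getElem.mpr ⟨j, j.2, fun e => hj (Fin.ext e), rfl⟩)
        rw [← hc, ← Finset.sum_erase_add _ _ (Finset.mem_univ i), add_sub_cancel_right]
        exact Ideal.sum_mem _ fun j hj => Ideal.mul_mem_left _ _ (hle j (Finset.ne_of_mem_erase hj))
      have h2 := ex_cons_add ht (ex_cons_unit_mul hi.unit (ex_of_perm hperm2.symm h))
      rw [IsUnit.unit_spec, show c i * old.get i + (a + (b - c i * old.get i)) = a + b by ring] at h2
      have hperm3 : ((a + b) :: (new ++ old')).Perm ((new ++ [a + b]) ++ old') := by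
        rw [List.append_assoc]
        exact List.perm_middle.symm
      have hset : Ideal.ofList ((a + b) :: (new ++ old')) = Ideal.ofList (new ++ old) := by
        rw [← ofList_perm hperm2, Ideal.ofList_cons, Ideal.ofList_cons]
        refine le_antisymm (sup_le ((Ideal.span_singleton_le_iff_mem _).2 ?_) le_sup_right)
          (sup_le ((Ideal.span_singleton_le_iff_mem _).2 ?_) le_sup_right)
        · rw [show a + b = c i * old.get i + (a + (b - c i * old.get i)) by ring]
          exact Submodule.add_mem_sup (Ideal.mul_mem_left _ _ (Ideal.mem_span_singleton_self _)) ht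
        · rw [show old.get i = (↑hi.unit⁻¹ : A) * ((a + b) + -(a + (b - c i * old.get i))) by
            rw [show (a + b) + -(a + (b - c i * old.get i)) = c i * old.get i by ring, ← mul_assoc,
              hi.val_inv_mul, one_mul]]
          exact Ideal.mul_mem_left _ _ (Submodule.add_mem_sup (Ideal.mem_span_singleton_self _) (neg_mem ht))
      have hres := ex_exchange rest (new ++ [a + b]) old' (ex_of_perm hperm3 h2)
        (by rw [← ofList_perm hperm3, hset]; exact hne)
        (by rw [← ofList_perm hperm3, hset, ← heq, List.append_assoc]; rfl)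
        (by
          have := hperm.length_eq
          simp only [List.length_cons] at this hlen
          omega)
      rwa [List.append_assoc] at hres
    · exfalso
      push Not at hu
      have hcm : ∀ j, c j ∈ m := fun j => (IsLocalRing.mem_maximalIdeal _).2 (hu j)
      have hle : Ideal.ofList (new ++ old) ≤ Ideal.ofList (new ++ rest) := by
        refine Submodule.le_of_le_smul_of_le_jacobson_bot (I := m) ?_ (IsLocalRing.maximalIdeal_le_jacobson _) ?_
        · exact Submodule.fg_def.2 ⟨_, (new ++ old).finite_toSet, rfl⟩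
        · refine heq.ge.trans (Ideal.span_le.2 fun y hy => ?_)
          rcases List.mem_append.1 hy with hy | hy
          · exact Submodule.mem_sup_left (Ideal.subset_span (List.mem_append_left _ hy))
          rcases List.mem_cons.1 hy with rfl | hy
          · refine add_mem (Submodule.mem_sup_left ?_) (Submodule.mem_sup_right ?_)
            · rw [Ideal.ofList_append]; exact Submodule.mem_sup_left ha
            · rw [← hc]
              exact Ideal.sum_mem _ fun j _ => Submodule.smul_mem_smul (hcm j)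
                (Ideal.subset_span (List.mem_append_right _ (old.get_mem j)))
          · exact Submodule.mem_sup_left (Ideal.subset_span (List.mem_append_right _ hy))
      have heq' : Ideal.ofList (new ++ rest) = Ideal.ofList (new ++ old) := le_antisymm (heq ▸ Ideal.span_mono fun y hy => by
        rcases List.mem_append.1 hy with hy | hy
        · exact List.mem_append_left _ hy
        · exact List.mem_append_right _ (List.mem_cons_of_mem _ hy)) hle
      have := length_le_of_ofList_eq h hne heq'
      simp only [List.length_append, List.length_cons] at this hlen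
      omega

/-- Any generating sequence of the same length as a Koszul regular one is Koszul regular. -/
theorem ex_of_ofList_eq {l l' : List A} (h : Ex A A l) (heq : Ideal.ofList l' = Ideal.ofList l)
    (hlen : l'.length = l.length) : Ex A A l' := by
  refine ex_of_local fun m _ => ?_
  let L := Localization.AtPrime m
  have hL := Ex.localization (B := L) m.primeCompl h
  have heqL : Ideal.ofList (l'.map (algebraMap A L)) = Ideal.ofList (l.map (algebraMap A L)) := by
    rw [← Ideal.map_ofList, ← Ideal.map_ofList, heq]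
  by_cases hne : Ideal.ofList (l.map (algebraMap A L)) = ⊤
  · rw [← heqL] at hne
    by_cases hex : ∃ x ∈ l'.map (algebraMap A L), IsUnit x
    · exact (ex_of_unit_mem _ hex).1
    · push Not at hex
      exact absurd (hne.ge.trans (Ideal.span_le.2 fun x hx => (IsLocalRing.mem_maximalIdeal _).2 (hex x hx)))
        (fun hc => (IsLocalRing.maximalIdeal.isMaximal L).ne_top (top_le_iff.1 hc))
  · have := ex_exchange (l'.map (algebraMap A L)) [] (l.map (algebraMap A L)) (by simpa using hL)
      (by simpa using hne) (by simpa using heqL) (by simp [hlen])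
    simpa using this

section Peel

variable {N : Type u} [AddCommGroup N] [Module A N]

/-- Peeling off a regular element at the head. -/
theorem ex_of_ex_cons (f : A) (hf : ∀ m : M, f • m = 0 → m = 0) (ψ : M →ₗ[A] N)
    (hψ : Function.Surjective ψ) (hψf : ∀ m, ψ (f • m) = 0) (hker : ∀ m, ψ m = 0 → ∃ m', f • m' = m)
    {l : List A} (h : Ex A M (f :: l)) : Ex A N l := by
  have hkill : ∀ (l : List A) (n : ℕ) (b : KObj A M l n), lmap ψ l n (f • b) = 0 := by
    intro l
    induction l with
    | nil => intro n b; cases n with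
      | zero => exact hψf b
      | succ n => exact Subsingleton.elim (h := inferInstanceAs (Subsingleton PUnit)) _ _
    | cons g l ih => intro n b; cases n with
      | zero => exact ih 0 b
      | succ n => exact Prod.ext (ih (n + 1) b.1) (ih n b.2)
  intro n z hz
  obtain ⟨a, rfl⟩ := lmap_surjective ψ hψ l (n + 1) z
  rw [← lmap_kd] at hz
  obtain ⟨c, hc⟩ := exists_smul_of_lmap_eq_zero ψ f hker l n _ hz
  obtain ⟨⟨w, v⟩, hwv⟩ := h n (a, -c) (by
    cases n with
    | zero =>
      show kd A M l 0 a + f • -c = 0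
      rw [smul_neg, hc, add_neg_cancel]
    | succ n =>
      show (kd A M l (n + 1) a + f • -c, -kd A M l n (-c)) = 0
      rw [smul_neg, hc, add_neg_cancel, map_neg, neg_neg]
      refine Prod.ext rfl (smul_eq_zero_KObj f hf l n _ ?_)
      rw [← map_smul, hc, CanElt.kd_kd])
  refine ⟨lmap ψ l (n + 2) w, ?_⟩
  have h1 : kd A M l (n + 1) w + f • v = a := congrArg Prod.fst hwv
  rw [← lmap_kd, ← h1, map_add, hkill, add_zero]

end Peel

theorem Ex.of_map_bijective {B : Type u} [CommRing B] {σ : A →+* B} {N : Type u} [AddCommGroup N] [Module B N]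
    (ψ : M →ₛₗ[σ] N) (hψ : Function.Bijective ψ) {l : List A} (h : Ex B N (l.map σ)) : Ex A M l := fun n z hz => by
  obtain ⟨w, hw⟩ := h n (kmap ψ l (n + 1) z) (by rw [← kmap_kd, hz, map_zero])
  obtain ⟨w, rfl⟩ := CanElt.kmap_surjective ψ hψ.2 l (n + 2) w
  exact ⟨w, CanElt.kmap_injective ψ hψ.1 l (n + 1) (by rw [kmap_kd, hw])⟩

end Groth.Agent.CI2
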