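import Groth.Agent.Lib.CI2.Bridge
import Mathlib

/-!
Exactness of the elementary Koszul complex: regular sequences, flat coefficients, localisation.
-/

set_option autoImplicit false
set_option linter.style.haveILetI false
universe u

open CategoryTheory TensorProduct RingTheory.Sequence
open Groth.Agent.CanElt (KObj kd lmap lmap_kd kmap kmap_kd k0)

namespace Groth.Agent.CI2

variable {A : Type u} [CommRing A]

/-- The Koszul complex of `M` on `l` is exact in positive degrees. -/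
def Ex (A : Type u) [CommRing A] (M : Type u) [AddCommGroup M] [Module A M] (l : List A) : Prop :=
  ∀ (n : ℕ) (z : KObj A M l (n + 1)), kd A M l n z = 0 → ∃ w, kd A M l (n + 1) w = z

theorem isKoszulRegularSeq_iff_ex (l : List A) : LCI.IsKoszulRegularSeq A l ↔ Ex A A l :=
  isKoszulRegularSeq_iff A l

section lmap

variable {M N : Type u} [AddCommGroup M] [Module A M] [AddCommGroup N] [Module A N]

theorem lmap_surjective (ψ : M →ₗ[A] N) (h : Function.Surjective ψ) :
    ∀ (l : List A) (n : ℕ), Function.Surjective (lmap ψ l n)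
  | [], 0 => h
  | [], _ + 1 => fun _ => ⟨0, Subsingleton.elim (h := inferInstanceAs (Subsingleton PUnit)) _ _⟩
  | _ :: l, 0 => lmap_surjective ψ h l 0
  | _ :: l, n + 1 => fun y => by
    obtain ⟨a, ha⟩ := lmap_surjective ψ h l (n + 1) y.1
    obtain ⟨b, hb⟩ := lmap_surjective ψ h l n y.2
    exact ⟨(a, b), Prod.ext ha hb⟩

theorem lmap_injective (ψ : M →ₗ[A] N) (h : Function.Injective ψ) :
    ∀ (l : List A) (n : ℕ), Function.Injective (lmap ψ l n)
  | [], 0 => h
  | [], _ + 1 => fun _ _ _ => Subsingleton.elim (h := inferInstanceAs (Subsingleton PUnit)) _ _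
  | _ :: l, 0 => lmap_injective ψ h l 0
  | _ :: l, n + 1 => fun _ _ e => Prod.ext (lmap_injective ψ h l (n + 1) (congrArg Prod.fst e))
      (lmap_injective ψ h l n (congrArg Prod.snd e))

theorem exists_smul_of_lmap_eq_zero (ψ : M →ₗ[A] N) (f : A) (hker : ∀ m, ψ m = 0 → ∃ m', f • m' = m) :
    ∀ (l : List A) (n : ℕ) (x : KObj A M l n), lmap ψ l n x = 0 → ∃ c, f • c = x
  | [], 0, x, hx => hker x hx
  | [], _ + 1, _, _ => ⟨0, Subsingleton.elim (h := inferInstanceAs (Subsingleton PUnit)) _ _⟩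
  | _ :: l, 0, x, hx => exists_smul_of_lmap_eq_zero ψ f hker l 0 x hx
  | _ :: l, n + 1, (a, b), hx => by
    obtain ⟨c, hc⟩ := exists_smul_of_lmap_eq_zero ψ f hker l (n + 1) a (congrArg Prod.fst hx)
    obtain ⟨c', hc'⟩ := exists_smul_of_lmap_eq_zero ψ f hker l n b (congrArg Prod.snd hx)
    exact ⟨(c, c'), Prod.ext hc hc'⟩

theorem smul_eq_zero_KObj (f : A) (h : ∀ m : M, f • m = 0 → m = 0) :
    ∀ (l : List A) (n : ℕ) (x : KObj A M l n), f • x = 0 → x = 0
  | [], 0, x, hx => h x hx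
  | [], _ + 1, _, _ => Subsingleton.elim (h := inferInstanceAs (Subsingleton PUnit)) _ _
  | _ :: l, 0, x, hx => smul_eq_zero_KObj f h l 0 x hx
  | _ :: l, n + 1, (a, b), hx =>
    Prod.ext (smul_eq_zero_KObj f h l (n + 1) a (congrArg Prod.fst hx)) (smul_eq_zero_KObj f h l n b (congrArg Prod.snd hx))

theorem Ex.congr (e : M ≃ₗ[A] N) {l : List A} (h : Ex A M l) : Ex A N l := fun n z hz => by
  obtain ⟨z, rfl⟩ := lmap_surjective e.toLinearMap e.surjective l (n + 1) z
  rw [← lmap_kd, ← map_zero (lmap e.toLinearMap l n)] at hz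
  obtain ⟨w, hw⟩ := h n z (lmap_injective e.toLinearMap e.injective l n hz)
  exact ⟨lmap e.toLinearMap l (n + 2) w, by rw [← lmap_kd, hw]⟩

/-- A regular element can be peeled off from the head of the sequence. -/
theorem ex_cons_of_quot (f : A) (hf : ∀ m : M, f • m = 0 → m = 0) (ψ : M →ₗ[A] N)
    (hψ : Function.Surjective ψ) (hψf : ∀ m, ψ (f • m) = 0) (hker : ∀ m, ψ m = 0 → ∃ m', f • m' = m)
    {l : List A} (h : Ex A N l) : Ex A M (f :: l) := by
  intro n z hz
  have key : ∀ a : KObj A M l (n + 1), lmap ψ l n (kd A M l n a) = 0 →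
      ∃ (w : KObj A M l (n + 2)) (c : KObj A M l (n + 1)), kd A M l (n + 1) w + f • c = a := by
    intro a ha
    obtain ⟨w', hw'⟩ := h n (lmap ψ l (n + 1) a) (by rw [← lmap_kd, ha])
    obtain ⟨w, rfl⟩ := lmap_surjective ψ hψ l (n + 2) w'
    obtain ⟨c, hc⟩ := exists_smul_of_lmap_eq_zero ψ f hker l (n + 1) (a - kd A M l (n + 1) w)
      (by rw [map_sub, lmap_kd, hw', sub_self])
    exact ⟨w, c, by rw [hc, add_sub_cancel]⟩
  have hkill : ∀ b : KObj A M l n, lmap ψ l n (f • b) = 0 := fun b => by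
    have : ∀ (l : List A) (n : ℕ) (b : KObj A M l n), lmap ψ l n (f • b) = 0 := by
      intro l
      induction l with
      | nil => intro n b; cases n with
        | zero => exact hψf b
        | succ n => exact Subsingleton.elim (h := inferInstanceAs (Subsingleton PUnit)) _ _
      | cons g l ih => intro n b; cases n with
        | zero => exact ih 0 b
        | succ n => exact Prod.ext (ih (n + 1) b.1) (ih n b.2)
    exact this l n b
  obtain ⟨a, b⟩ := z
  have h0 : kd A M l n a + f • b = 0 := by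
    cases n with
    | zero => exact hz
    | succ n => exact congrArg Prod.fst hz
  obtain ⟨w, c, hwc⟩ := key a (by rw [eq_neg_of_add_eq_zero_left h0, map_neg, hkill, neg_zero])
  refine ⟨(w, c), ?_⟩
  rw [CanElt.kd_succ_apply, hwc]
  refine Prod.ext rfl ?_
  show -kd A M l n c = b
  refine (sub_eq_zero.mp (smul_eq_zero_KObj f hf l n _ ?_)).symm
  rw [← hwc, map_add, CanElt.kd_kd, zero_add, map_smul] at h0
  rw [smul_sub, smul_neg, sub_neg_eq_add, add_comm]
  exact h0

end lmap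

theorem ex_nil (M : Type u) [AddCommGroup M] [Module A M] : Ex A M [] :=
  fun _ _ _ => ⟨0, Subsingleton.elim (h := inferInstanceAs (Subsingleton PUnit)) _ _⟩

/-- A weakly regular sequence is Koszul regular. -/
theorem ex_of_isWeaklyRegular : ∀ (l : List A) (M : Type u) [AddCommGroup M] [Module A M],
    IsWeaklyRegular M l → Ex A M l
  | [], M, _, _, _ => ex_nil M
  | f :: l, M, _, _, h => by
    rw [isWeaklyRegular_cons_iff] at h
    refine ex_cons_of_quot f (isSMulRegular_iff_right_eq_zero_of_smul.mp h.1) (Submodule.mkQ _)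
      (Submodule.mkQ_surjective _) (fun m => ?_) (fun m hm => ?_) (ex_of_isWeaklyRegular l (QuotSMulTop f M) h.2)
    · exact (Submodule.Quotient.mk_eq_zero _).mpr (Submodule.smul_mem_pointwise_smul m f _ trivial)
    · obtain ⟨m', -, h'⟩ := (Submodule.mem_smul_pointwise_iff_exists _ _ _).mp ((Submodule.Quotient.mk_eq_zero _).mp hm)
      exact ⟨m', h'⟩

section Flat

variable (N : Type u) [AddCommGroup N] [Module A N]

/-- The Koszul complex with coefficients is a tensor product. -/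
noncomputable def tEquiv : ∀ (l : List A) (n : ℕ), (KObj A A l n ⊗[A] N) ≃ₗ[A] KObj A N l n
  | [], 0 => TensorProduct.lid A N
  | [], _ + 1 =>
    haveI : Subsingleton (PUnit.{u + 1} ⊗[A] N) :=
      subsingleton_of_forall_eq 0 fun x => by
        induction x using TensorProduct.induction_on with
        | zero => rfl
        | tmul a b => rw [Subsingleton.elim a 0, TensorProduct.zero_tmul]
        | add a b ha hb => rw [ha, hb, add_zero]
    (LinearEquiv.ofSubsingleton (PUnit.{u + 1} ⊗[A] N) PUnit.{u + 1})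
  | _ :: l, 0 => tEquiv l 0
  | _ :: l, n + 1 => TensorProduct.prodLeft A A _ _ N ≪≫ₗ (tEquiv l (n + 1)).prodCongr (tEquiv l n)

theorem tEquiv_cons (f : A) (l : List A) (n : ℕ) (a : KObj A A l (n + 1)) (b : KObj A A l n) (x : N) :
    tEquiv N (f :: l) (n + 1) ((a, b) ⊗ₜ x) = (tEquiv N l (n + 1) (a ⊗ₜ x), tEquiv N l n (b ⊗ₜ x)) := by
  change ((tEquiv N l (n + 1)).prodCongr (tEquiv N l n)) (TensorProduct.prodLeft A A _ _ N ((a, b) ⊗ₜ x)) = _
  rw [TensorProduct.prodLeft_tmul]
  rfl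

theorem tEquiv_kd : ∀ (l : List A) (n : ℕ) (a : KObj A A l (n + 1)) (x : N),
    tEquiv N l n (kd A A l n a ⊗ₜ x) = kd A N l n (tEquiv N l (n + 1) (a ⊗ₜ x))
  | [], n, a, x => by
    change tEquiv N [] n ((0 : KObj A A ([] : List A) n) ⊗ₜ x) = 0
    rw [TensorProduct.zero_tmul, map_zero]
  | f :: l, 0, (a, b), x => by
    rw [tEquiv_cons, CanElt.kd_zero_apply, CanElt.kd_zero_apply]
    change tEquiv N l 0 ((kd A A l 0 a + f • b) ⊗ₜ x) = _
    rw [TensorProduct.add_tmul, ← TensorProduct.smul_tmul', map_add, map_smul, tEquiv_kd l 0 a x]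
  | f :: l, n + 1, (a, b), x => by
    rw [tEquiv_cons, CanElt.kd_succ_apply, CanElt.kd_succ_apply, tEquiv_cons, TensorProduct.add_tmul,
      ← TensorProduct.smul_tmul', map_add, map_smul, tEquiv_kd l (n + 1) a x, TensorProduct.neg_tmul, map_neg,
      tEquiv_kd l n b x]

theorem Ex.of_flat [Module.Flat A N] {l : List A} (h : Ex A A l) : Ex A N l := fun n z hz => by
  have hcomp : ∀ m, (tEquiv N l m).toLinearMap ∘ₗ (kd A A l m).rTensor N = kd A N l m ∘ₗ (tEquiv N l (m + 1)).toLinearMap :=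
    fun m => TensorProduct.ext' fun a x => tEquiv_kd N l m a x
  have hex : Function.Exact ((kd A A l (n + 1)).rTensor N) ((kd A A l n).rTensor N) :=
    Module.Flat.rTensor_exact N fun y => ⟨h n y, fun ⟨w, hw⟩ => hw ▸ CanElt.kd_kd A A l n w⟩
  obtain ⟨y, rfl⟩ := (tEquiv N l (n + 1)).surjective z
  have h1 : (kd A A l n).rTensor N y = 0 := (tEquiv N l n).injective (by
    rw [map_zero, ← hz]; exact LinearMap.congr_fun (hcomp n) y)
  obtain ⟨w, hw⟩ := (hex y).mp h1
  exact ⟨tEquiv N l (n + 2) w, by rw [← hw]; exact (LinearMap.congr_fun (hcomp (n + 1)) w).symm⟩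

end Flat

section Semilinear

variable {B : Type u} [CommRing B] {σ : A →+* B} {M N : Type u} [AddCommGroup M] [Module A M]
  [AddCommGroup N] [Module B N]

theorem Ex.map_bijective (ψ : M →ₛₗ[σ] N) (hψ : Function.Bijective ψ) {l : List A} (h : Ex A M l) :
    Ex B N (l.map σ) := fun n z hz => by
  obtain ⟨z, rfl⟩ := CanElt.kmap_surjective ψ hψ.2 l (n + 1) z
  rw [← kmap_kd, ← map_zero (kmap ψ l n)] at hz
  obtain ⟨w, hw⟩ := h n z (CanElt.kmap_injective ψ hψ.1 l n hz)
  exact ⟨kmap ψ l (n + 2) w, by rw [← kmap_kd, hw]⟩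

theorem exists_mul_of_kmap_eq_zero (S : Submonoid A) (ψ : M →ₛₗ[σ] N)
    (hker : ∀ m, ψ m = 0 → ∃ s ∈ S, s • m = 0) :
    ∀ (l : List A) (n : ℕ) (x : KObj A M l n), kmap ψ l n x = 0 → ∃ s ∈ S, s • x = 0
  | [], 0, x, hx => hker x hx
  | [], _ + 1, _, _ => ⟨1, one_mem S, Subsingleton.elim (h := inferInstanceAs (Subsingleton PUnit)) _ _⟩
  | _ :: l, 0, x, hx => exists_mul_of_kmap_eq_zero S ψ hker l 0 x hx
  | _ :: l, n + 1, (a, b), hx => by
    obtain ⟨s, hs, hsa⟩ := exists_mul_of_kmap_eq_zero S ψ hker l (n + 1) a (congrArg Prod.fst hx)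
    obtain ⟨t, ht, htb⟩ := exists_mul_of_kmap_eq_zero S ψ hker l n b (congrArg Prod.snd hx)
    exact ⟨s * t, mul_mem hs ht, Prod.ext (show (s * t) • a = 0 by rw [mul_comm, mul_smul, hsa, smul_zero])
      (show (s * t) • b = 0 by rw [mul_smul, htb, smul_zero])⟩

theorem exists_kmap_eq (S : Submonoid A) (ψ : M →ₛₗ[σ] N) (hsurj : ∀ y, ∃ s ∈ S, ∃ m, ψ m = σ s • y) :
    ∀ (l : List A) (n : ℕ) (y : KObj B N (l.map σ) n), ∃ s ∈ S, ∃ x, kmap ψ l n x = σ s • y
  | [], 0, y => hsurj y
  | [], _ + 1, _ => ⟨1, one_mem S, 0, Subsingleton.elim (h := inferInstanceAs (Subsingleton PUnit)) _ _⟩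
  | _ :: l, 0, y => exists_kmap_eq S ψ hsurj l 0 y
  | g :: l, n + 1, y => by
    obtain ⟨s, hs, a, ha⟩ := exists_kmap_eq S ψ hsurj l (n + 1) y.1
    obtain ⟨t, ht, b, hb⟩ := exists_kmap_eq S ψ hsurj l n y.2
    refine ⟨s * t, mul_mem hs ht, (t • a, s • b), Prod.ext ?_ ?_⟩
    · show kmap ψ l (n + 1) (t • a) = σ (s * t) • y.1
      rw [LinearMap.map_smulₛₗ, ha, smul_smul, map_mul, mul_comm]
    · show kmap ψ l n (s • b) = σ (s * t) • y.2
      rw [LinearMap.map_smulₛₗ, hb, smul_smul, map_mul]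

end Semilinear

/-- Koszul regularity passes to a localisation. -/
theorem Ex.localization {B : Type u} [CommRing B] [Algebra A B] (S : Submonoid A) [IsLocalization S B] {l : List A}
    (h : Ex A A l) : Ex B B (l.map (algebraMap A B)) := by
  haveI := IsLocalization.flat B S
  exact (h.of_flat B).map_bijective (σ := algebraMap A B)
    { toFun := id
      map_add' := fun _ _ => rfl
      map_smul' := fun a b => Algebra.smul_def a b }
    Function.bijective_id

/-- Koszul regularity may be checked at the maximal ideals. -/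
theorem ex_of_local {l : List A}
    (h : ∀ (m : Ideal A) [m.IsMaximal], Ex (Localization.AtPrime m) (Localization.AtPrime m)
      (l.map (algebraMap A (Localization.AtPrime m)))) : Ex A A l := by
  intro n z hz
  let c : Ideal A :=
    { carrier := {a | ∃ w, kd A A l (n + 1) w = a • z}
      add_mem' := fun ⟨w, hw⟩ ⟨w', hw'⟩ => ⟨w + w', by rw [map_add, hw, hw', add_smul]⟩
      zero_mem' := ⟨0, by simp⟩
      smul_mem' := fun a x ⟨w, hw⟩ => ⟨a • w, by rw [map_smul, hw, smul_eq_mul, mul_smul]⟩ }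
  suffices hc : c = ⊤ by
    obtain ⟨w, hw⟩ := (Ideal.eq_top_iff_one c).mp hc
    exact ⟨w, by rw [hw, one_smul]⟩
  by_contra hc
  obtain ⟨m, hm, hcm⟩ := Ideal.exists_le_maximal c hc
  haveI := hm.isPrime
  let L := Localization.AtPrime m
  let ψ : A →ₛₗ[algebraMap A L] L :=
    { toFun := algebraMap A L
      map_add' := map_add _
      map_smul' := fun a b => map_mul _ a b }
  have hker : ∀ a, ψ a = 0 → ∃ s ∈ m.primeCompl, s • a = 0 := fun a ha => by
    obtain ⟨⟨s, hs⟩, h0⟩ := (IsLocalization.map_eq_zero_iff m.primeCompl L a).mp ha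
    exact ⟨s, hs, h0⟩
  have hsurj : ∀ y, ∃ s ∈ m.primeCompl, ∃ a, ψ a = algebraMap A L s • y := fun y => by
    obtain ⟨⟨a, s⟩, has⟩ := IsLocalization.surj m.primeCompl y
    exact ⟨s, s.2, a, by rw [smul_eq_mul, mul_comm, has]; rfl⟩
  obtain ⟨w, hw⟩ := h m n (kmap ψ l (n + 1) z) (by rw [← kmap_kd, hz, map_zero])
  obtain ⟨s, hs, x, hx⟩ := exists_kmap_eq m.primeCompl ψ hsurj l (n + 2) w
  have h1 : kmap ψ l (n + 1) (kd A A l (n + 1) x - s • z) = 0 := by
    rw [map_sub, kmap_kd, hx, map_smul, hw, LinearMap.map_smulₛₗ, sub_self]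
  obtain ⟨t, ht, h2⟩ := exists_mul_of_kmap_eq_zero m.primeCompl ψ hker l (n + 1) _ h1
  exact (m.primeCompl.mul_mem ht hs) (hcm ⟨t • x, by rwa [map_smul, mul_smul, ← sub_eq_zero, ← smul_sub]⟩)

end Groth.Agent.CI2
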