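import Groth.Agent.Lib.CI2.KRLocal
import Mathlib

/-!
Concatenation of Koszul regular sequences.
-/

set_option autoImplicit false
set_option linter.style.haveILetI false
universe u

open Groth.Agent.CanElt (KObj kd k0)

namespace Groth.Agent.CI2

variable {A : Type u} [CommRing A] {M N : Type u} [AddCommGroup M] [Module A M] [AddCommGroup N] [Module A N]

/-- The map of Koszul complexes forgetting the tail `l`. -/
noncomputable def pim (ψ : M →ₗ[A] N) (l : List A) :
    ∀ (m : List A) (n : ℕ), KObj A M (m ++ l) n →ₗ[A] KObj A N m n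
  | [], 0 => ψ ∘ₗ (k0 A M l).toLinearMap
  | [], _ + 1 => 0
  | _ :: m, 0 => pim ψ l m 0
  | _ :: m, n + 1 => LinearMap.prodMap (pim ψ l m (n + 1)) (pim ψ l m n)

variable (ψ : M →ₗ[A] N) (hψ : Function.Surjective ψ) (l : List A)
  (hker : LinearMap.ker ψ = Ideal.ofList l • (⊤ : Submodule A M))

include hψ in
theorem pim_surjective : ∀ (m : List A) (n : ℕ), Function.Surjective (pim ψ l m n)
  | [], 0 => hψ.comp (k0 A M l).surjective
  | [], _ + 1 => fun _ => ⟨0, Subsingleton.elim (h := inferInstanceAs (Subsingleton PUnit)) _ _⟩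
  | _ :: m, 0 => pim_surjective m 0
  | _ :: m, n + 1 => fun y => by
    obtain ⟨a, ha⟩ := pim_surjective m (n + 1) y.1
    obtain ⟨b, hb⟩ := pim_surjective m n y.2
    exact ⟨(a, b), Prod.ext ha hb⟩

include hker in
theorem pim_kd : ∀ (m : List A) (n : ℕ) (x : KObj A M (m ++ l) (n + 1)),
    pim ψ l m n (kd A M (m ++ l) n x) = kd A N m n (pim ψ l m (n + 1) x)
  | [], 0, x => by
    show ψ (k0 A M l (kd A M l 0 x)) = 0
    rw [← LinearMap.mem_ker, hker, ← CanElt.mem_range_kd_zero]
    exact ⟨x, rfl⟩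
  | [], _ + 1, x => Subsingleton.elim (h := inferInstanceAs (Subsingleton PUnit)) _ _
  | f :: m, 0, (a, b) => by
    show pim ψ l m 0 (kd A M (m ++ l) 0 a + f • b) = kd A N m 0 (pim ψ l m 1 a) + f • pim ψ l m 0 b
    rw [map_add, map_smul, pim_kd m 0 a]
  | f :: m, n + 1, (a, b) => by
    show (pim ψ l m (n + 1) (kd A M (m ++ l) (n + 1) a + f • b), pim ψ l m n (-kd A M (m ++ l) n b)) =
      (kd A N m (n + 1) (pim ψ l m (n + 2) a) + f • pim ψ l m (n + 1) b, -kd A N m n (pim ψ l m (n + 1) b))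
    rw [map_add, map_smul, map_neg, pim_kd m (n + 1) a, pim_kd m n b]

include hker in
theorem exists_kd_of_pim_eq_zero (h : Ex A M l) : ∀ (m : List A) (n : ℕ) (z : KObj A M (m ++ l) n),
    Cyc M (m ++ l) n z → pim ψ l m n z = 0 → ∃ w, pim ψ l m (n + 1) w = 0 ∧ kd A M (m ++ l) n w = z
  | [], 0, z, _, hz => by
    have h1 : z ∈ LinearMap.range (kd A M l 0) := by
      rw [CanElt.mem_range_kd_zero, ← hker, LinearMap.mem_ker]
      exact hz
    obtain ⟨w, hw⟩ := h1
    exact ⟨w, rfl, hw⟩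
  | [], n + 1, z, hc, _ => by
    obtain ⟨w, hw⟩ := h n z hc
    exact ⟨w, rfl, hw⟩
  | f :: m, 0, (z : KObj A M (m ++ l) 0), _, hz => by
    obtain ⟨w, hw0, hw⟩ := exists_kd_of_pim_eq_zero h m 0 z trivial hz
    refine ⟨(w, 0), ?_, ?_⟩
    · show (pim ψ l m 1 w, pim ψ l m 0 0) = 0
      rw [hw0, map_zero]; rfl
    · show kd A M (m ++ l) 0 w + f • (0 : KObj A M (m ++ l) 0) = z
      rw [hw, smul_zero, add_zero]
  | f :: m, n + 1, (a, b), hc, hz => by
    have ha : pim ψ l m (n + 1) a = 0 := congrArg Prod.fst hz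
    have hb : pim ψ l m n b = 0 := congrArg Prod.snd hz
    have hcyc : kd A M (m ++ l) n a + f • b = 0 ∧ Cyc M (m ++ l) n b := by
      cases n with
      | zero => exact ⟨hc, trivial⟩
      | succ n => exact ⟨congrArg Prod.fst hc, neg_eq_zero.1 (congrArg Prod.snd hc)⟩
    obtain ⟨c, hc0, hcb⟩ := exists_kd_of_pim_eq_zero h m n b hcyc.2 hb
    obtain ⟨e, he0, he⟩ := exists_kd_of_pim_eq_zero h m (n + 1) (a + f • c)
      (by show kd A M (m ++ l) n (a + f • c) = 0; rw [map_add, map_smul, hcb]; exact hcyc.1)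
      (by rw [map_add, map_smul, ha, hc0, smul_zero, add_zero])
    refine ⟨(e, -c), ?_, ?_⟩
    · show (pim ψ l m (n + 2) e, pim ψ l m (n + 1) (-c)) = 0
      rw [he0, map_neg, hc0, neg_zero]; rfl
    · show (kd A M (m ++ l) (n + 1) e + f • -c, -kd A M (m ++ l) n (-c)) = (a, b)
      rw [he, smul_neg, add_neg_cancel_right, map_neg, neg_neg, hcb]

include hψ hker in
/-- Exactness for `l` on `M` and for `m` on `M / l M` gives exactness for `m ++ l` on `M`. -/
theorem ex_append (h : Ex A M l) {m : List A} (hm : Ex A N m) : Ex A M (m ++ l) := by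
  intro n z hz
  obtain ⟨v, hv⟩ := hm n (pim ψ l m (n + 1) z) (by rw [← pim_kd ψ l hker, hz, map_zero])
  obtain ⟨v, rfl⟩ := pim_surjective ψ hψ l m (n + 2) v
  obtain ⟨w, -, hw⟩ := exists_kd_of_pim_eq_zero ψ l hker h m (n + 1) (z - kd A M (m ++ l) (n + 1) v)
    (by show kd A M (m ++ l) n _ = 0; rw [map_sub, hz, CanElt.kd_kd, sub_zero])
    (by rw [map_sub, pim_kd ψ l hker, hv, sub_self])
  exact ⟨w + v, by rw [map_add, hw, sub_add_cancel]⟩

/-- Concatenation along a surjection. -/
theorem ex_append_of_surjective {A' : Type u} [CommRing A'] (σ : A →+* A') (hσ : Function.Surjective σ)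
    {l : List A} (hker : RingHom.ker σ = Ideal.ofList l) (hl : Ex A A l) {m : List A}
    (hm : Ex A' A' (m.map σ)) : Ex A A (m ++ l) := by
  letI : Module A A' := Module.compHom A' σ
  let ψ : A →ₗ[A] A' :=
    { toFun := σ
      map_add' := map_add σ
      map_smul' := fun a b => map_mul σ a b }
  let χ : A' →ₛₗ[σ] A' :=
    { toFun := id
      map_add' := fun _ _ => rfl
      map_smul' := fun _ _ => rfl }
  refine ex_append ψ hσ l ?_ hl (Ex.of_map_bijective χ Function.bijective_id hm)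
  rw [Ideal.smul_eq_mul, Ideal.mul_top, ← hker]
  rfl

theorem exists_lift_append {A' A'' : Type u} [CommRing A'] [CommRing A''] (σ : A →+* A') (τ : A' →+* A'')
    (hσ : Function.Surjective σ) {l : List A} (hker : RingHom.ker σ = Ideal.ofList l) (hl : Ex A A l)
    {m : List A'} (hτ : RingHom.ker τ = Ideal.ofList m) (hm : Ex A' A' m) :
    ∃ L : List A, L.length = m.length + l.length ∧ Ex A A L ∧ RingHom.ker (τ.comp σ) = Ideal.ofList L := by
  choose li hli using fun x => hσ x
  have hmm : (m.map li).map σ = m := by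
    rw [List.map_map]
    exact (List.map_congr_left fun x _ => hli x).trans (List.map_id m)
  refine ⟨m.map li ++ l, by simp, ex_append_of_surjective σ hσ hker hl (by rwa [hmm]), ?_⟩
  rw [← RingHom.comap_ker, hτ, Ideal.ofList_append, ← hker]
  conv_lhs => rw [← hmm, ← Ideal.map_ofList, Ideal.comap_map_of_surjective _ hσ, ← RingHom.ker_eq_comap_bot]

end Groth.Agent.CI2
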