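import Groth.Agent.Lib.CI2.RImm
import Groth.Agent.Lib.CI2.KRComp
import Groth.Prelude.Def_RegImm
import Mathlib

/-!
Composition of Koszul regular immersions.
-/

set_option autoImplicit false
set_option linter.style.haveILetI false
universe u

open CategoryTheory AlgebraicGeometry

namespace Groth.Agent.CI2

variable {X Y Z : Scheme.{u}} (i : Y ⟶ X) (j : Z ⟶ Y)

theorem exists_comp_data {z : Z} {U : X.Opens} (hU : IsAffineOpen U) [IsClosedImmersion (i ∣_ U)]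
    (hzU : i (j z) ∈ U) {rs : List Γ(X, U)} (hrs : LCI.IsKoszulRegularSeq Γ(X, U) rs)
    (hkrs : RingHom.ker (i.app U).hom = Ideal.ofList rs) {V : Y.Opens} (hV : IsAffineOpen V)
    [IsClosedImmersion (j ∣_ V)] (hzV : j z ∈ V) {ts : List Γ(Y, V)} (hts : LCI.IsKoszulRegularSeq Γ(Y, V) ts)
    (hkts : RingHom.ker (j.app V).hom = Ideal.ofList ts) :
    ∃ D : X.affineOpens, (j ≫ i) z ∈ D.1 ∧ IsClosedImmersion ((j ≫ i) ∣_ D.1) ∧
      ∃ L : List Γ(X, D.1), L.length = ts.length + rs.length ∧ LCI.IsKoszulRegularSeq Γ(X, D.1) L ∧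
        RingHom.ker ((j ≫ i).app D.1).hom = Ideal.ofList L := by
  obtain ⟨hW, hs⟩ := surjective_app_of_closed i hU
  obtain ⟨f, h, hfh, hxf⟩ := exists_basicOpen_le_affine_inter hW hV (j z) ⟨hzU, hzV⟩
  obtain ⟨g, rfl⟩ := hs f
  rw [show Y.basicOpen ((i.app U).hom g) = i ⁻¹ᵁ X.basicOpen g from (Scheme.preimage_basicOpen i g).symm] at hfh hxf
  let D := X.basicOpen g
  have hD : IsAffineOpen D := hU.basicOpen g
  haveI := hU.isLocalization_basicOpen g
  haveI : IsClosedImmersion (i ∣_ D) := isClosedImmersion_restrict_of_le i (X.basicOpen_le g)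
  obtain ⟨hWD, hsD⟩ := surjective_app_of_closed i hD
  have hleV : i ⁻¹ᵁ D ≤ V := hfh ▸ Y.basicOpen_le h
  haveI : IsClosedImmersion (j ∣_ (i ⁻¹ᵁ D)) := isClosedImmersion_restrict_of_le j hleV
  letI : Algebra Γ(Y, V) Γ(Y, i ⁻¹ᵁ D) := (Y.presheaf.map (homOfLE hleV).op).hom.toAlgebra
  haveI : IsLocalization.Away h Γ(Y, i ⁻¹ᵁ D) := hV.isLocalization_of_eq_basicOpen h (homOfLE hleV) hfh
  have hl := Ex.localization (B := Γ(X, D)) (Submonoid.powers g) ((isKoszulRegularSeq_iff_ex rs).1 hrs)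
  have hm := Ex.localization (B := Γ(Y, i ⁻¹ᵁ D)) (Submonoid.powers h) ((isKoszulRegularSeq_iff_ex ts).1 hts)
  have hkl : RingHom.ker (i.app D).hom = Ideal.ofList (rs.map (algebraMap Γ(X, U) Γ(X, D))) := by
    rw [ker_app_basicOpen i hU g rfl (X.basicOpen_le g), hkrs, Ideal.map_ofList]
    rfl
  have hkm : RingHom.ker (j.app (i ⁻¹ᵁ D)).hom = Ideal.ofList (ts.map (algebraMap Γ(Y, V) Γ(Y, i ⁻¹ᵁ D))) := by
    rw [ker_app_basicOpen j hV h hfh hleV, hkts, Ideal.map_ofList]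
    rfl
  obtain ⟨L, hLlen, hL, hLker⟩ := exists_lift_append (i.app D).hom (j.app (i ⁻¹ᵁ D)).hom hsD hkl hl hkm hm
  refine ⟨⟨D, hD⟩, hxf, ?_, L, by simpa using hLlen, (isKoszulRegularSeq_iff_ex L).2 hL, ?_⟩
  · show IsClosedImmersion ((j ≫ i) ∣_ D)
    rw [morphismRestrict_comp]; exact MorphismProperty.comp_mem @IsClosedImmersion _ _ ‹_› ‹_›
  · show RingHom.ker ((j ≫ i).app D).hom = _
    rw [Scheme.Hom.comp_app]
    exact hLker

end Groth.Agent.CI2
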