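import Groth.Agent.Lib.CI2.KRPres
import Groth.Prelude.Def_LCI2
import Mathlib

/-!
Koszul regularity is local on the prime spectrum; lci maps are local on the target ring.
-/

set_option autoImplicit false
set_option linter.style.haveILetI false
universe u

namespace Groth.Agent.CI2

theorem isKR_of_cover {P : Type u} [CommRing P] (I : Ideal P)
    (h : ∀ p : PrimeSpectrum P, I ≤ p.asIdeal → ∃ a : P, a ∉ p.asIdeal ∧
      LCI.IsKoszulRegularIdeal (I.map (algebraMap P (Localization.Away a)))) :
    LCI.IsKoszulRegularIdeal I := by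
  rw [isKR_iff]
  intro p hp
  obtain ⟨a, ha, hKR⟩ := h p hp
  let Q := Localization.Away a
  have hdis : Disjoint ((Submonoid.powers a : Submonoid P) : Set P) (p.asIdeal : Set P) := by
    rw [Ideal.disjoint_powers_iff_notMem a p.2.isRadical]; exact ha
  let p' : Ideal Q := p.asIdeal.map (algebraMap P Q)
  haveI : p'.IsPrime := IsLocalization.isPrime_of_isPrime_disjoint (Submonoid.powers a) Q p.asIdeal p.2 hdis
  obtain ⟨b', hb', l, hl, hspan⟩ := (isKR_iff _).1 hKR ⟨p', inferInstance⟩ (Ideal.map_mono hp)
  obtain ⟨b, s, rfl⟩ := IsLocalization.exists_mk'_eq (Submonoid.powers a) b'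
  have hb : b ∉ p.asIdeal := fun hb => hb' (IsLocalization.mk'_mem_iff.2 (Ideal.mem_map_of_mem _ hb))
  have hass : Associated (IsLocalization.mk' Q b s) (algebraMap P Q b) :=
    ⟨(IsLocalization.map_units Q s).unit, by rw [IsUnit.unit_spec, IsLocalization.mk'_spec]⟩
  let H := Localization.Away (IsLocalization.mk' Q b s)
  haveI : IsLocalization.Away (algebraMap P Q b) H := IsLocalization.Away.of_associated hass
  haveI : IsLocalization.Away (a * b) H := IsLocalization.Away.mul' Q H a b
  let e : H ≃ₐ[P] Localization.Away (a * b) := IsLocalization.algEquiv (Submonoid.powers (a * b)) H _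
  refine ⟨a * b, fun hm => (p.2.mem_or_mem hm).elim ha hb, l.map e.toRingEquiv, ex_map_equiv e.toRingEquiv hl, ?_⟩
  rw [show (l.map e.toRingEquiv) = l.map e.toRingEquiv.toRingHom from rfl, ← Ideal.map_ofList, ← hspan,
    Ideal.map_map, Ideal.map_map]
  refine congrArg (fun φ => Ideal.map φ I) (RingHom.ext fun x => ?_)
  show _ = e (algebraMap Q H (algebraMap P Q x))
  rw [← IsScalarTower.algebraMap_apply P Q H, AlgEquiv.commutes]

/-- The map `P[Y] → P[1/h]`. -/
noncomputable abbrev polyAway {P : Type u} [CommRing P] (h : P) : Polynomial P →+* Localization.Away h :=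
  (Localization.awayEquivAdjoin h).symm.toRingEquiv.toRingHom.comp (AdjoinRoot.mk (Polynomial.C h * Polynomial.X - 1))

theorem polyAway_spec {P : Type u} [CommRing P] (h : P) : Function.Surjective (polyAway h) ∧
    RingHom.ker (polyAway h) = Ideal.span {Polynomial.C h * Polynomial.X - 1} ∧
    (∀ r, polyAway h (Polynomial.C r) = algebraMap P (Localization.Away h) r) := by
  refine ⟨(Localization.awayEquivAdjoin h).symm.surjective.comp AdjoinRoot.mk_surjective, ?_, fun r => ?_⟩
  · ext x
    rw [RingHom.mem_ker, Ideal.mem_span_singleton, ← AdjoinRoot.mk_eq_zero]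
    exact map_eq_zero_iff (Localization.awayEquivAdjoin h).symm (Localization.awayEquivAdjoin h).symm.injective
  · show (Localization.awayEquivAdjoin h).symm (AdjoinRoot.mk _ (Polynomial.C r)) = _
    rw [show AdjoinRoot.mk (Polynomial.C h * Polynomial.X - 1) (Polynomial.C r) =
      algebraMap P (AdjoinRoot (Polynomial.C h * Polynomial.X - 1)) r from rfl, AlgEquiv.commutes]

open Polynomial in
theorem isKR_of_isKR_comap_polyAway {P : Type u} [CommRing P] (h : P) {J : Ideal (Localization.Away h)}
    (hJ : LCI.IsKoszulRegularIdeal (J.comap (polyAway h))) : LCI.IsKoszulRegularIdeal J := by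
  obtain ⟨hs, hk, -⟩ := polyAway_spec h
  refine isKR_of_isKR_comap _ hs _ hk (fun a ha => ?_) (fun a => derivative a) (fun a b => map_add _ a b)
    (fun a b => by rw [derivative_mul]; ring) (fun q hq hf hd => ?_) hJ
  · ext n
    have h1 : ∀ m, ((C h * X - 1) * a).coeff m = 0 := fun m => by rw [ha, coeff_zero]
    induction n with
    | zero => simpa [sub_mul, mul_assoc] using h1 0
    | succ n ih => simpa [sub_mul, mul_assoc, ih] using h1 (n + 1)
  · have h2 : (C h : P[X]) ∈ q := by simpa using hd
    have h3 : (1 : P[X]) ∈ q := by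
      have := q.sub_mem (q.mul_mem_right X h2) hf
      rwa [sub_sub_cancel] at this
    exact hq.ne_top ((Ideal.eq_top_iff_one q).2 h3)

theorem isLCI_of_span_eq_top {R S : Type u} [CommRing R] [CommRing S] [Algebra R S]
    {m : ℕ} (g : Fin m → S) (hg : Ideal.span (Set.range g) = ⊤)
    (h : ∀ j, LCI.IsLCI R (Localization.Away (g j))) : LCI.IsLCI R S := by
  have hft : Algebra.FiniteType R S :=
    Algebra.FiniteType.of_span_eq_top_target _ hg (by rintro _ ⟨j, rfl⟩; exact (h j).1)
  obtain ⟨n, α, hα⟩ := Algebra.FiniteType.iff_quotient_mvPolynomial''.1 hft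
  refine ⟨hft, n, α, hα, ?_⟩
  let P := MvPolynomial (Fin n) R
  refine isKR_of_cover _ fun p hp => ?_
  haveI : (p.asIdeal.map α.toRingHom).IsPrime := Ideal.map_isPrime_of_surjective hα hp
  obtain ⟨j, hj⟩ : ∃ j, g j ∉ p.asIdeal.map α.toRingHom := by
    by_contra hall
    push Not at hall
    exact (inferInstance : (p.asIdeal.map α.toRingHom).IsPrime).ne_top
      (top_le_iff.1 (hg ▸ Ideal.span_le.2 (by rintro _ ⟨j, rfl⟩; exact hall j)))
  obtain ⟨a, ha⟩ := hα (g j)
  refine ⟨a, fun hm => hj (ha ▸ Ideal.mem_map_of_mem α.toRingHom hm), ?_⟩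
  have hlci : LCI.IsLCI R (Localization.Away (α a)) := by rw [ha]; exact h j
  obtain ⟨-, n', β, hβ, hKR⟩ := hlci
  have hmap : (Submonoid.powers a).map α.toRingHom = Submonoid.powers (α a) := Submonoid.map_powers _ _
  haveI : IsLocalization ((Submonoid.powers a).map α.toRingHom) (Localization.Away (α a)) := by rw [hmap]; infer_instance
  let φ : Localization.Away a →+* Localization.Away (α a) :=
    IsLocalization.Away.map (Localization.Away a) (Localization.Away (α a)) α.toRingHom a
  have hφs : Function.Surjective φ := IsLocalization.map_surjective_of_surjective (M := Submonoid.powers a)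
    (g := α.toRingHom) (S := Localization.Away a) (Q := Localization.Away (α a)) hα
  have hφk : RingHom.ker φ = (RingHom.ker α.toRingHom).map (algebraMap P (Localization.Away a)) :=
    IsLocalization.ker_map (S := Localization.Away a) (Localization.Away (α a)) α.toRingHom hmap
  rw [← hφk]
  refine isKR_of_isKR_comap_polyAway a ?_
  rw [RingHom.comap_ker, ← isKR_ker_comp_equiv _ (MvPolynomial.optionEquivLeft R (Fin n)).toRingEquiv]
  obtain ⟨hs, -, hC⟩ := polyAway_spec a
  let ψ := (φ.comp (polyAway a)).comp (MvPolynomial.optionEquivLeft R (Fin n)).toRingEquiv.toRingHom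
  have hψ : Function.Surjective ψ := (hφs.comp hs).comp (MvPolynomial.optionEquivLeft R (Fin n)).surjective
  let ψA : MvPolynomial (Option (Fin n)) R →ₐ[R] Localization.Away (α a) :=
    { ψ with
      commutes' := fun r => by
        show φ (polyAway a (MvPolynomial.optionEquivLeft R (Fin n) (algebraMap R _ r))) = _
        rw [AlgEquiv.commutes, show algebraMap R (Polynomial P) r = Polynomial.C (algebraMap R P r) from rfl, hC]
        show IsLocalization.map _ α.toRingHom _ (algebraMap P _ (algebraMap R P r)) = _
        rw [IsLocalization.map_eq, show α.toRingHom (algebraMap R P r) = algebraMap R S r from α.commutes r,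
          ← IsScalarTower.algebraMap_apply] }
  exact isKR_ker_of_isKR_ker β hβ ψA hψ hKR

end Groth.Agent.CI2
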