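import Groth.Agent.Lib.CI2.KoszulInv
import Groth.Prelude.Def_LCI2
import Mathlib

/-!
Koszul regular ideals: transport, cutting by a regular element, independence of the presentation.
-/

set_option autoImplicit false
set_option linter.style.haveILetI false
universe u

open Groth.Agent.CanElt (KObj kd)

namespace Groth.Agent.CI2

theorem isKR_iff {A : Type u} [CommRing A] (I : Ideal A) :
    LCI.IsKoszulRegularIdeal I ↔ ∀ p : PrimeSpectrum A, I ≤ p.asIdeal → ∃ g : A, g ∉ p.asIdeal ∧
      ∃ l : List (Localization.Away g), Ex (Localization.Away g) (Localization.Away g) l ∧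
        I.map (algebraMap A (Localization.Away g)) = Ideal.ofList l := by
  refine forall_congr' fun p => imp_congr_right fun _ => exists_congr fun g => and_congr_right fun _ =>
    exists_congr fun l => and_congr (isKoszulRegularSeq_iff_ex l) Iff.rfl

/-- Exactness transported along a ring isomorphism. -/
theorem ex_map_equiv {A B : Type u} [CommRing A] [CommRing B] (e : A ≃+* B) {l : List A} (h : Ex A A l) :
    Ex B B (l.map e) := by
  let ψ : A →ₛₗ[e.toRingHom] B :=
    { toFun := e
      map_add' := fun a b => map_add e a b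
      map_smul' := fun a b => map_mul e a b }
  exact Ex.map_bijective ψ e.bijective h

theorem isKR_map_equiv {A B : Type u} [CommRing A] [CommRing B] (e : A ≃+* B) {I : Ideal A}
    (h : LCI.IsKoszulRegularIdeal I) : LCI.IsKoszulRegularIdeal (I.map e.toRingHom) := by
  rw [isKR_iff] at h ⊢
  intro p hp
  obtain ⟨g, hg, l, hl, hspan⟩ := h (PrimeSpectrum.comap e.toRingHom p) (Ideal.map_le_iff_le_comap.1 hp)
  let E : Localization.Away g ≃+* Localization.Away (e g) :=
    IsLocalization.ringEquivOfRingEquiv (M := Submonoid.powers g) (T := Submonoid.powers (e g))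
      (Localization.Away g) (Localization.Away (e g)) e (by rw [Submonoid.map_powers]; rfl)
  refine ⟨e g, hg, l.map E, ex_map_equiv E hl, ?_⟩
  rw [Ideal.map_map, show (l.map E) = l.map E.toRingHom from rfl, ← Ideal.map_ofList, ← hspan, Ideal.map_map]
  refine congrArg (fun φ => Ideal.map φ I) (RingHom.ext fun a => ?_)
  exact (IsLocalization.ringEquivOfRingEquiv_eq (M := Submonoid.powers g) (T := Submonoid.powers (e g))
    (show (Submonoid.powers g).map e.toMonoidHom = Submonoid.powers (e g) by rw [Submonoid.map_powers]; rfl) a).symm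

theorem isKR_map_equiv_iff {A B : Type u} [CommRing A] [CommRing B] (e : A ≃+* B) (I : Ideal A) :
    LCI.IsKoszulRegularIdeal (I.map e.toRingHom) ↔ LCI.IsKoszulRegularIdeal I := by
  refine ⟨fun h => ?_, isKR_map_equiv e⟩
  have h' := isKR_map_equiv e.symm h
  rwa [Ideal.map_map, show e.symm.toRingHom.comp e.toRingHom = RingHom.id A from RingHom.ext e.symm_apply_apply,
    Ideal.map_id] at h'

section Step

variable {A A' : Type u} [CommRing A] [CommRing A'] (σ : A →+* A') (hσ : Function.Surjective σ) (f : A)
  (hker : RingHom.ker σ = Ideal.span {f}) (hf : ∀ a, f * a = 0 → a = 0)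

/-- The localised quotient map. -/
noncomputable abbrev awayσ (g : A) : Localization.Away g →+* Localization.Away (σ g) :=
  IsLocalization.Away.map (Localization.Away g) (Localization.Away (σ g)) σ g

include hσ hker in
theorem awayσ_spec (g : A) : Function.Surjective (awayσ σ g) ∧
    RingHom.ker (awayσ σ g) = Ideal.span {algebraMap A (Localization.Away g) f} := by
  have hmap : (Submonoid.powers g).map σ = Submonoid.powers (σ g) := Submonoid.map_powers σ g
  haveI : IsLocalization ((Submonoid.powers g).map σ) (Localization.Away (σ g)) := by rw [hmap]; infer_instance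
  refine ⟨IsLocalization.map_surjective_of_surjective (M := Submonoid.powers g) (g := σ) (S := Localization.Away g)
    (Q := Localization.Away (σ g)) hσ, ?_⟩
  refine (IsLocalization.ker_map (S := Localization.Away g) (Localization.Away (σ g)) σ hmap).trans ?_
  rw [hker, Ideal.map_span, Set.image_singleton]

include hf in
theorem smul_regular_away (g : A) :
    ∀ x : Localization.Away g, algebraMap A (Localization.Away g) f * x = 0 → x = 0 := by
  intro x hx
  obtain ⟨a, s, rfl⟩ := IsLocalization.exists_mk'_eq (Submonoid.powers g) x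
  rw [IsLocalization.mul_mk'_eq_mk'_of_mul, IsLocalization.mk'_eq_zero_iff] at hx
  obtain ⟨t, ht⟩ := hx
  rw [IsLocalization.mk'_eq_zero_iff]
  exact ⟨t, hf _ (by rw [mul_left_comm]; exact ht)⟩

include hσ hker in
theorem map_comap_eq_away (g : A) (I : Ideal A') :
    (I.comap σ).map (algebraMap A (Localization.Away g)) =
      (I.map (algebraMap A' (Localization.Away (σ g)))).comap (awayσ σ g) := by
  obtain ⟨hs, hk⟩ := awayσ_spec σ hσ f hker g
  have h1 : ((I.comap σ).map (algebraMap A (Localization.Away g))).map (awayσ σ g) =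
      I.map (algebraMap A' (Localization.Away (σ g))) := by
    rw [Ideal.map_map, show (awayσ σ g).comp (algebraMap A (Localization.Away g)) =
        (algebraMap A' (Localization.Away (σ g))).comp σ from IsLocalization.map_comp _,
      ← Ideal.map_map, Ideal.map_comap_of_surjective σ hσ]
  rw [← h1, Ideal.comap_map_of_surjective _ hs, ← RingHom.ker_eq_comap_bot, hk, eq_comm, sup_eq_left,
    Ideal.span_singleton_le_iff_mem]
  refine Ideal.mem_map_of_mem _ ?_
  show σ f ∈ I
  rw [show σ f = 0 by rw [← RingHom.mem_ker, hker]; exact Ideal.mem_span_singleton_self f]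
  exact zero_mem I

include hσ hker hf in
theorem ex_cons_lift (g : A) (l : List (Localization.Away g))
    (h : Ex (Localization.Away (σ g)) (Localization.Away (σ g)) (l.map (awayσ σ g))) :
    Ex (Localization.Away g) (Localization.Away g) (algebraMap A (Localization.Away g) f :: l) := by
  obtain ⟨hs, hk⟩ := awayσ_spec σ hσ f hker g
  let G := Localization.Away g
  let G' := Localization.Away (σ g)
  letI : Module G G' := Module.compHom G' (awayσ σ g)
  let ψ : G →ₗ[G] G' :=
    { toFun := awayσ σ g
      map_add' := fun a b => map_add _ a b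
      map_smul' := fun a b => map_mul _ a b }
  let χ : G' →ₛₗ[awayσ σ g] G' :=
    { toFun := id
      map_add' := fun _ _ => rfl
      map_smul' := fun _ _ => rfl }
  refine ex_cons_of_quot _ (fun m hm => smul_regular_away f hf g m hm) ψ hs (fun m => ?_) (fun m hm => ?_)
    (Ex.of_map_bijective χ Function.bijective_id h)
  · show awayσ σ g (algebraMap A G f * m) = 0
    rw [map_mul, show awayσ σ g (algebraMap A G f) = 0 by
      rw [← RingHom.mem_ker, hk]; exact Ideal.mem_span_singleton_self _, zero_mul]
  · have : m ∈ RingHom.ker (awayσ σ g) := hm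
    rw [hk, Ideal.mem_span_singleton'] at this
    obtain ⟨c, hc⟩ := this
    exact ⟨c, by rw [smul_eq_mul, mul_comm, hc]⟩

include hσ hker hf in
theorem ex_cons_push (g : A) (l : List (Localization.Away g))
    (h : Ex (Localization.Away g) (Localization.Away g) (algebraMap A (Localization.Away g) f :: l)) :
    Ex (Localization.Away (σ g)) (Localization.Away (σ g)) (l.map (awayσ σ g)) := by
  obtain ⟨hs, hk⟩ := awayσ_spec σ hσ f hker g
  let G := Localization.Away g
  let G' := Localization.Away (σ g)
  letI : Module G G' := Module.compHom G' (awayσ σ g)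
  let ψ : G →ₗ[G] G' :=
    { toFun := awayσ σ g
      map_add' := fun a b => map_add _ a b
      map_smul' := fun a b => map_mul _ a b }
  let χ : G' →ₛₗ[awayσ σ g] G' :=
    { toFun := id
      map_add' := fun _ _ => rfl
      map_smul' := fun _ _ => rfl }
  refine Ex.map_bijective χ Function.bijective_id
    (ex_of_ex_cons _ (fun m hm => smul_regular_away f hf g m hm) ψ hs (fun m => ?_) (fun m hm => ?_) h)
  · show awayσ σ g (algebraMap A G f * m) = 0
    rw [map_mul, show awayσ σ g (algebraMap A G f) = 0 by
      rw [← RingHom.mem_ker, hk]; exact Ideal.mem_span_singleton_self _, zero_mul]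
  · have : m ∈ RingHom.ker (awayσ σ g) := hm
    rw [hk, Ideal.mem_span_singleton'] at this
    obtain ⟨c, hc⟩ := this
    exact ⟨c, by rw [smul_eq_mul, mul_comm, hc]⟩

/-- Localised generators may be taken in the ideal. -/
theorem exists_gens_in (g : A) {K : Ideal A} {l : List (Localization.Away g)}
    (h : Ex (Localization.Away g) (Localization.Away g) l)
    (hspan : K.map (algebraMap A (Localization.Away g)) = Ideal.ofList l) :
    ∃ k : List A, (∀ x ∈ k, x ∈ K) ∧
      Ex (Localization.Away g) (Localization.Away g) (k.map (algebraMap A (Localization.Away g))) ∧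
      K.map (algebraMap A (Localization.Away g)) = Ideal.ofList (k.map (algebraMap A (Localization.Away g))) := by
  let G := Localization.Away g
  have hlift : ∀ i : Fin l.length, ∃ a ∈ K, ∃ w : Gˣ, algebraMap A G a = w * l.get i := by
    intro i
    obtain ⟨⟨⟨a, ha⟩, s⟩, he⟩ := (IsLocalization.mem_map_algebraMap_iff (Submonoid.powers g) G).mp
      (hspan.ge (Ideal.subset_span (l.get_mem i)))
    exact ⟨a, ha, (IsLocalization.map_units G s).unit, by rw [IsUnit.unit_spec, mul_comm]; exact he.symm⟩
  choose a ha w hw using hlift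
  have heq : Ideal.ofList ((List.ofFn a).map (algebraMap A G)) = Ideal.ofList l := by
    refine le_antisymm ?_ (Ideal.span_le.2 fun x hx => ?_)
    · rw [← hspan, ← Ideal.map_ofList]
      exact Ideal.map_mono (Ideal.span_le.2 fun x hx => by
        obtain ⟨i, rfl⟩ := List.mem_ofFn.mp hx; exact ha i)
    · obtain ⟨i, rfl⟩ := List.mem_iff_get.mp hx
      have h1 : algebraMap A G (a i) ∈ Ideal.ofList ((List.ofFn a).map (algebraMap A G)) :=
        Ideal.subset_span (List.mem_map.mpr ⟨a i, List.mem_ofFn.mpr ⟨i, rfl⟩, rfl⟩)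
      have h2 := Ideal.mul_mem_left _ ((w i)⁻¹ : Gˣ).1 h1
      rwa [hw, Units.inv_mul_cancel_left] at h2
  exact ⟨List.ofFn a, fun x hx => by obtain ⟨i, rfl⟩ := List.mem_ofFn.mp hx; exact ha i,
    ex_of_ofList_eq h heq (by simp), hspan.trans heq.symm⟩

include hσ hker hf in
theorem isKR_comap_of_isKR {I : Ideal A'} (h : LCI.IsKoszulRegularIdeal I) :
    LCI.IsKoszulRegularIdeal (I.comap σ) := by
  rw [isKR_iff] at h ⊢
  intro p hp
  have hkp : RingHom.ker σ ≤ p.asIdeal := le_trans (Ideal.comap_mono bot_le) hp
  haveI := Ideal.map_isPrime_of_surjective hσ hkp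
  have hIp : I ≤ p.asIdeal.map σ := by
    rw [← Ideal.map_comap_of_surjective σ hσ I]; exact Ideal.map_mono hp
  obtain ⟨g', hg', l', hl', hspan⟩ := h ⟨p.asIdeal.map σ, inferInstance⟩ hIp
  obtain ⟨g, rfl⟩ := hσ g'
  obtain ⟨hs, hk⟩ := awayσ_spec σ hσ f hker g
  choose li hli using fun x => hs x
  have hll : (l'.map li).map (awayσ σ g) = l' := by
    rw [List.map_map]
    exact (List.map_congr_left fun x _ => hli x).trans (List.map_id l')
  refine ⟨g, fun hgp => hg' (Ideal.mem_map_of_mem σ hgp), algebraMap A _ f :: l'.map li,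
    ex_cons_lift σ hσ f hker hf g _ (by rw [hll]; exact hl'), ?_⟩
  rw [map_comap_eq_away σ hσ f hker g I, hspan, Ideal.ofList_cons]
  conv_lhs => rw [← hll, ← Ideal.map_ofList, Ideal.comap_map_of_surjective _ hs, ← RingHom.ker_eq_comap_bot, hk,
    sup_comm]

include hσ hker hf in
theorem isKR_of_isKR_comap (δ : A → A) (hadd : ∀ a b, δ (a + b) = δ a + δ b)
    (hmul : ∀ a b, δ (a * b) = a * δ b + b * δ a)
    (hδ : ∀ q : Ideal A, q.IsPrime → f ∈ q → δ f ∉ q)
    {I : Ideal A'} (h : LCI.IsKoszulRegularIdeal (I.comap σ)) : LCI.IsKoszulRegularIdeal I := by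
  classical
  rw [isKR_iff] at h ⊢
  intro p hp
  let P : Ideal A := p.asIdeal.comap σ
  have hfK : f ∈ I.comap σ := by
    show σ f ∈ I
    rw [show σ f = 0 by rw [← RingHom.mem_ker, hker]; exact Ideal.mem_span_singleton_self f]
    exact zero_mem I
  have hKP : I.comap σ ≤ P := Ideal.comap_mono hp
  obtain ⟨g, hg, l, hl, hspan⟩ := h ⟨P, inferInstance⟩ hKP
  obtain ⟨k, hkK, hkl, hkspan⟩ := exists_gens_in g hl hspan
  obtain ⟨t, ht, htf⟩ := (IsLocalization.algebraMap_mem_map_algebraMap_iff (Submonoid.powers g) (Localization.Away g)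
    (Ideal.ofList k) f).mp (by rw [Ideal.map_ofList, ← hkspan]; exact Ideal.mem_map_of_mem _ hfK)
  rw [Ideal.ofList, show {y | y ∈ k} = Set.range k.get from (Set.range_list_get k).symm] at htf
  obtain ⟨b, hb⟩ := Ideal.mem_span_range_iff_exists_fun.1 htf
  have htP : t ∉ P := by
    obtain ⟨j, rfl⟩ := ht
    exact fun hm => hg ((inferInstance : P.IsPrime).mem_of_pow_mem j hm)
  obtain ⟨i, hi⟩ : ∃ i, b i ∉ P := by
    by_contra hall
    push Not at hall
    have hsum : ∀ (s : Finset (Fin k.length)), δ (∑ j ∈ s, b j * k.get j) ∈ P := by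
      intro s
      induction s using Finset.induction with
      | empty =>
        have h0 : δ 0 = 0 := by simpa using hadd 0 0
        rw [Finset.sum_empty, h0]; exact zero_mem P
      | insert j s hj ih =>
        rw [Finset.sum_insert hj, hadd, hmul]
        exact add_mem (add_mem (P.mul_mem_right _ (hall j)) (P.mul_mem_right _ (hKP (hkK _ (k.get_mem j))))) ih
    have h2 := hsum Finset.univ
    rw [hb, hmul] at h2
    have h3 : t * δ f ∈ P := by
      have := P.sub_mem h2 (P.mul_mem_right (δ t) (hKP hfK))
      rwa [add_sub_cancel_right] at this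
    exact ((inferInstance : P.IsPrime).mem_or_mem h3).elim htP (hδ P inferInstance (hKP hfK))
  let g1 := g * b i
  have hg1 : g1 ∉ P := fun hm => ((inferInstance : P.IsPrime).mem_or_mem hm).elim hg hi
  let G := Localization.Away g
  let H := Localization.Away (algebraMap A G (b i))
  let G1 := Localization.Away g1
  haveI : IsLocalization.Away g1 H := inferInstanceAs (IsLocalization.Away (g * b i) _)
  let e : H ≃ₐ[A] G1 := IsLocalization.algEquiv (Submonoid.powers g1) H G1
  have hk1 : Ex G1 G1 (k.map (algebraMap A G1)) := by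
    have h2 := ex_map_equiv e.toRingEquiv (Ex.localization (B := H) (Submonoid.powers (algebraMap A G (b i))) hkl)
    rw [List.map_map, List.map_map] at h2
    have h6 : (k.map ((⇑e.toRingEquiv) ∘ (⇑(algebraMap G H) ∘ ⇑(algebraMap A G)))) = k.map (algebraMap A G1) :=
      List.map_congr_left fun x _ => by
        show e (algebraMap G H (algebraMap A G x)) = _
        rw [← IsScalarTower.algebraMap_apply A G H, AlgEquiv.commutes]
    rwa [← h6]
  have hspan1 : (I.comap σ).map (algebraMap A G1) = Ideal.ofList (k.map (algebraMap A G1)) := by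
    refine le_antisymm (Ideal.map_le_iff_le_comap.2 fun x hx => ?_) ?_
    · have h2 := Ideal.mem_map_of_mem (algebraMap A G) hx
      rw [hkspan] at h2
      have h3 := Ideal.mem_map_of_mem (e.toRingEquiv.toRingHom.comp (algebraMap G H)) h2
      rw [Ideal.map_ofList, List.map_map] at h3
      rw [Ideal.mem_comap]
      have he : ∀ y : A, (e.toRingEquiv.toRingHom.comp (algebraMap G H)) (algebraMap A G y) = algebraMap A G1 y :=
        fun y => by
          show e (algebraMap G H (algebraMap A G y)) = _
          rw [← IsScalarTower.algebraMap_apply A G H, AlgEquiv.commutes]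
      rw [he] at h3
      have h7 : k.map (⇑(e.toRingEquiv.toRingHom.comp (algebraMap G H)) ∘ ⇑(algebraMap A (Localization.Away g))) =
          k.map (algebraMap A G1) := List.map_congr_left fun y _ => he y
      rwa [h7] at h3
    · rw [← Ideal.map_ofList]
      exact Ideal.map_mono (Ideal.span_le.2 fun x hx => hkK x hx)
  have hub : IsUnit (algebraMap A G1 (b i)) := isUnit_of_dvd_unit (map_dvd _ (Dvd.intro_left g rfl))
    (IsLocalization.Away.algebraMap_isUnit g1)
  have hik : algebraMap A G1 (k.get i) ∈ Ideal.ofList ((f :: k.eraseIdx i).map (algebraMap A G1)) := by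
    obtain ⟨u, hu⟩ := hub
    have hmem : ∀ j, j ≠ i → algebraMap A G1 (k.get j) ∈ Ideal.ofList ((f :: k.eraseIdx i).map (algebraMap A G1)) :=
      fun j hj => Ideal.subset_span (List.mem_map.2 ⟨_, List.mem_cons_of_mem _ (List.mem_eraseIdx_iff_getElem.2
        ⟨j, j.2, fun hji => hj (Fin.ext hji), rfl⟩), rfl⟩)
    have h2 : algebraMap A G1 (b i * k.get i) ∈ Ideal.ofList ((f :: k.eraseIdx i).map (algebraMap A G1)) := by
      rw [← Finset.sum_erase_add _ _ (Finset.mem_univ i)] at hb
      have h3 : algebraMap A G1 (b i * k.get i) = algebraMap A G1 t * algebraMap A G1 f -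
          algebraMap A G1 (∑ j ∈ Finset.univ.erase i, b j * k.get j) := by
        rw [← map_mul, ← hb, map_add, add_sub_cancel_left]
      rw [h3]
      refine Ideal.sub_mem _ (Ideal.mul_mem_left _ _ (Ideal.subset_span (List.mem_map.2 ⟨f, List.mem_cons_self, rfl⟩)))
        ?_
      rw [map_sum]
      refine Ideal.sum_mem _ fun j hj => ?_
      rw [map_mul]
      exact Ideal.mul_mem_left _ _ (hmem j (Finset.ne_of_mem_erase hj))
    rw [map_mul, ← hu] at h2
    have h4 := Ideal.mul_mem_left _ ((u⁻¹ : G1ˣ) : G1) h2
    rwa [Units.inv_mul_cancel_left] at h4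
  have hofeq : Ideal.ofList ((f :: k.eraseIdx i).map (algebraMap A G1)) = Ideal.ofList (k.map (algebraMap A G1)) := by
    refine le_antisymm ?_ (Ideal.span_le.2 fun x hx => ?_)
    · rw [← hspan1, ← Ideal.map_ofList]
      refine Ideal.map_mono (Ideal.span_le.2 fun x hx => ?_)
      rcases List.mem_cons.1 hx with rfl | hx
      · exact hfK
      · exact hkK x (List.mem_of_mem_eraseIdx hx)
    · obtain ⟨y, hy, rfl⟩ := List.mem_map.1 hx
      obtain ⟨j, rfl⟩ := List.mem_iff_get.1 hy
      by_cases hj : j = i
      · exact hj ▸ hik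
      · exact Ideal.subset_span (List.mem_map.2 ⟨_, List.mem_cons_of_mem _ (List.mem_eraseIdx_iff_getElem.2
          ⟨j, j.2, fun hji => hj (Fin.ext hji), rfl⟩), rfl⟩)
  have hlen : ((f :: k.eraseIdx i).map (algebraMap A G1)).length = (k.map (algebraMap A G1)).length := by
    simp only [List.length_map, List.length_cons, List.length_eraseIdx_of_lt i.2]
    have := i.2; omega
  have hex := ex_cons_push σ hσ f hker hf g1 _ (ex_of_ofList_eq hk1 hofeq hlen)
  refine ⟨σ g1, hg1, _, hex, ?_⟩
  obtain ⟨hs, hk⟩ := awayσ_spec σ hσ f hker g1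
  have h5 := congrArg (Ideal.map (awayσ σ g1)) (map_comap_eq_away σ hσ f hker g1 I)
  rw [Ideal.map_comap_of_surjective _ hs, hspan1, ← hofeq, List.map_cons, Ideal.map_ofList, List.map_cons] at h5
  rw [← h5, Ideal.ofList_cons, show awayσ σ g1 (algebraMap A G1 f) = 0 by
    rw [← RingHom.mem_ker, hk]; exact Ideal.mem_span_singleton_self _, Ideal.span_singleton_zero, bot_sup_eq]

end Step

end Groth.Agent.CI2
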