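import Groth.Agent.Lib.CI2.Ops
import Groth.Agent.Lib.FlatSyz.TorDim
import Groth.Agent.Lib.TorSymm3.Basic
import Mathlib

/-!
`Tor` of a quotient by a Koszul regular sequence is Koszul homology; and vanishing of the first
Koszul homology of a module forces regularity in the local Noetherian case.
-/

set_option autoImplicit false
set_option linter.style.haveILetI false
universe u

open CategoryTheory CategoryTheory.Limits TensorProduct RingTheory.Sequence IsLocalRing
open Groth.Agent.CanElt (KObj kd k0)

namespace Groth.Agent.CI2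

variable {A : Type u} [CommRing A]

theorem finite_KObj_module (M : Type u) [AddCommGroup M] [Module A M] [Module.Finite A M] :
    ∀ (l : List A) (n : ℕ), Module.Finite A (KObj A M l n)
  | [], 0 => inferInstanceAs (Module.Finite A M)
  | [], _ + 1 => inferInstanceAs (Module.Finite A PUnit.{u + 1})
  | _ :: l, 0 => finite_KObj_module M l 0
  | _ :: l, n + 1 => by
    haveI := finite_KObj_module M l (n + 1)
    haveI := finite_KObj_module M l n
    exact inferInstanceAs (Module.Finite A (KObj A M l (n + 1) × KObj A M l n))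

theorem free_KObj_ring : ∀ (l : List A) (n : ℕ), Module.Free A (KObj A A l n)
  | [], 0 => inferInstanceAs (Module.Free A A)
  | [], _ + 1 => inferInstanceAs (Module.Free A PUnit.{u + 1})
  | _ :: l, 0 => free_KObj_ring l 0
  | _ :: l, n + 1 => by
    haveI := free_KObj_ring l (n + 1)
    haveI := free_KObj_ring l n
    exact inferInstanceAs (Module.Free A (KObj A A l (n + 1) × KObj A A l n))

/-- Vanishing of the first Koszul homology with coefficients forces regularity, in reverse order. -/
theorem isWeaklyRegular_reverse_of_exact_module [IsLocalRing A] [IsNoetherianRing A]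
    (M : Type u) [AddCommGroup M] [Module A M] [Module.Finite A M] :
    ∀ (l : List A), (∀ x ∈ l, x ∈ maximalIdeal A) →
      (∀ z, kd A M l 0 z = 0 → ∃ w, kd A M l 1 w = z) → IsWeaklyRegular M l.reverse
  | [], _, _ => IsWeaklyRegular.nil A M
  | f :: l, hm, h => by
    have hf : f ∈ maximalIdeal A := hm f List.mem_cons_self
    haveI := finite_KObj_module M l 1
    have hl : ∀ z, kd A M l 0 z = 0 → ∃ w, kd A M l 1 w = z := by
      have hle : LinearMap.ker (kd A M l 0) ≤ LinearMap.range (kd A M l 1) := by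
        refine Submodule.le_of_le_smul_of_le_jacobson_bot (I := maximalIdeal A) (IsNoetherian.noetherian _)
          (IsLocalRing.jacobson_eq_maximalIdeal ⊥ bot_ne_top).ge ?_
        intro z hz
        obtain ⟨⟨w₁, w₂⟩, hw⟩ := h (z, 0) (by
          show kd A M l 0 z + f • (0 : KObj A M l 0) = 0
          rw [LinearMap.mem_ker.1 hz, smul_zero, add_zero])
        have h1 : kd A M l 1 w₁ + f • w₂ = z := congrArg Prod.fst hw
        have h2 : -(kd A M l 0 w₂) = 0 := congrArg Prod.snd hw
        rw [← h1]
        exact Submodule.add_mem_sup ⟨w₁, rfl⟩ (Submodule.smul_mem_smul hf (neg_eq_zero.1 h2))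
      exact fun z hz => hle hz
    have ih := isWeaklyRegular_reverse_of_exact_module M l (fun x hx => hm x (List.mem_cons_of_mem f hx)) hl
    rw [List.reverse_cons, isWeaklyRegular_append_iff, isWeaklyRegular_singleton_iff]
    refine ⟨ih, IsSMulRegular.of_right_eq_zero_of_smul fun q hq => ?_⟩
    obtain ⟨a, rfl⟩ := Submodule.Quotient.mk_surjective _ q
    have hrev : Ideal.ofList l.reverse = Ideal.ofList l := congrArg Ideal.span (Set.ext fun x => List.mem_reverse)
    rw [← Submodule.Quotient.mk_smul, Submodule.Quotient.mk_eq_zero, hrev] at hq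
    rw [Submodule.Quotient.mk_eq_zero, hrev]
    have hq' : k0 A M l (f • (k0 A M l).symm a) ∈ Ideal.ofList l • (⊤ : Submodule A M) := by
      rw [map_smul, LinearEquiv.apply_symm_apply]; exact hq
    obtain ⟨z, hz⟩ := (CanElt.mem_range_kd_zero A M l _).2 hq'
    obtain ⟨⟨w₁, w₂⟩, hw⟩ := h (z, -((k0 A M l).symm a)) (by
      show kd A M l 0 z + f • -((k0 A M l).symm a) = 0
      rw [smul_neg, hz, add_neg_cancel])
    have h2 : -(kd A M l 0 w₂) = -((k0 A M l).symm a) := congrArg Prod.snd hw
    have := (CanElt.mem_range_kd_zero A M l _).1 ⟨w₂, neg_inj.1 h2⟩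
    rwa [LinearEquiv.apply_symm_apply] at this

/-- `Tor` of the cokernel of a complex of flat modules, exact in positive degrees. -/
theorem isZero_tor_iff_injective (K : ℕ → Type u) [∀ n, AddCommGroup (K n)] [∀ n, Module A (K n)]
    [∀ n, Module.Flat A (K n)] (C : ℕ → Type u) [∀ n, AddCommGroup (C n)] [∀ n, Module A (C n)]
    (g : ∀ n, C (n + 1) →ₗ[A] K n) (p : ∀ n, K n →ₗ[A] C n) (hg : ∀ n, Function.Injective (g n))
    (hgp : ∀ n, Function.Exact (g n) (p n)) (hp : ∀ n, Function.Surjective (p n))
    (M : Type u) [AddCommGroup M] [Module A M] : ∀ (i j : ℕ),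
    IsZero (((Tor (ModuleCat.{u} A) (i + 1)).obj (ModuleCat.of A (C j))).obj (ModuleCat.of A M)) ↔
      Function.Injective ((g (j + i)).rTensor M) := by
  intro i
  induction i with
  | zero =>
    intro j
    rw [TorSymm3.isZero_tor_one_comm, TorSymm3.isZero_tor_one_iff (ModuleCat.of A (C j)) (g j) (hg j) (p j) (hgp j) (hp j)]
    exact LinearMap.lTensor_inj_iff_rTensor_inj _ _
  | succ i ih =>
    intro j
    rw [FlatSyz.isZero_tor_shift (g j) (hg j) (p j) (hgp j) (hp j) i, ih (j + 1)]
    rw [show j + 1 + i = j + (i + 1) by omega]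

/-- Higher `Tor` against a quotient by a Koszul regular sequence vanishes iff the Koszul complex
with those coefficients is exact. -/
theorem forall_isZero_tor_iff_ex {l : List A} (hl : Ex A A l) (M : Type u) [AddCommGroup M] [Module A M] :
    (∀ i : ℕ, 1 ≤ i → IsZero (((Tor (ModuleCat.{u} A) i).obj
        (ModuleCat.of A (A ⧸ Ideal.ofList l))).obj (ModuleCat.of A M))) ↔ Ex A M l := by
  haveI : ∀ n, Module.Flat A (KObj A A l n) := fun n => haveI := free_KObj_ring l n; inferInstance
  let C : ℕ → Type u := fun n => KObj A A l n ⧸ LinearMap.range (kd A A l n)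
  let g : ∀ n, C (n + 1) →ₗ[A] KObj A A l n := fun n =>
    (LinearMap.range (kd A A l (n + 1))).liftQ (kd A A l n)
      (by rintro _ ⟨w, rfl⟩; exact LinearMap.mem_ker.2 (CanElt.kd_kd A A l n w))
  let p : ∀ n, KObj A A l n →ₗ[A] C n := fun n => Submodule.mkQ _
  have hg : ∀ n, Function.Injective (g n) := fun n => by
    rw [injective_iff_map_eq_zero]
    intro x hx
    obtain ⟨z, rfl⟩ := Submodule.mkQ_surjective _ x
    obtain ⟨w, rfl⟩ := hl n z hx
    exact (Submodule.Quotient.mk_eq_zero _).2 ⟨w, rfl⟩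
  have hgp : ∀ n, Function.Exact (g n) (p n) := fun n y => by
    show (Submodule.Quotient.mk y : C n) = 0 ↔ _
    rw [Submodule.Quotient.mk_eq_zero]
    constructor
    · rintro ⟨z, rfl⟩
      exact ⟨Submodule.mkQ _ z, rfl⟩
    · rintro ⟨x, rfl⟩
      obtain ⟨z, rfl⟩ := Submodule.mkQ_surjective _ x
      exact ⟨z, rfl⟩
  let φ : KObj A A l 0 →ₗ[A] A ⧸ Ideal.ofList l := Submodule.mkQ _ ∘ₗ (k0 A A l).toLinearMap
  have hφ : LinearMap.ker φ = LinearMap.range (kd A A l 0) := by
    ext x
    rw [CanElt.mem_range_kd_zero, smul_eq_mul, Ideal.mul_top]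
    exact Submodule.Quotient.mk_eq_zero _
  let e : C 0 ≃ₗ[A] A ⧸ Ideal.ofList l := (Submodule.quotEquivOfEq _ _ hφ.symm).trans
    (LinearMap.quotKerEquivOfSurjective φ ((Submodule.mkQ_surjective _).comp (k0 A A l).surjective))
  have key : ∀ i : ℕ, IsZero (((Tor (ModuleCat.{u} A) (i + 1)).obj
      (ModuleCat.of A (A ⧸ Ideal.ofList l))).obj (ModuleCat.of A M)) ↔
      ∀ z, kd A M l i z = 0 → ∃ w, kd A M l (i + 1) w = z := by
    intro i
    have h1 : ((Tor (ModuleCat.{u} A) (i + 1)).obj (ModuleCat.of A (C 0))).obj (ModuleCat.of A M) ≅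
        ((Tor (ModuleCat.{u} A) (i + 1)).obj (ModuleCat.of A (A ⧸ Ideal.ofList l))).obj (ModuleCat.of A M) :=
      ((Tor (ModuleCat.{u} A) (i + 1)).mapIso e.toModuleIso).app _
    rw [← h1.isZero_iff, isZero_tor_iff_injective (fun n => (KObj A A l n : Type u)) C g p hg hgp
      (fun n => Submodule.mkQ_surjective _) M i 0, Nat.zero_add]
    have hcomp : ∀ m, (tEquiv M l m).toLinearMap ∘ₗ (kd A A l m).rTensor M =
        kd A M l m ∘ₗ (tEquiv M l (m + 1)).toLinearMap :=
      fun m => TensorProduct.ext' fun a x => tEquiv_kd M l m a x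
    have hfac : ∀ u, (g i).rTensor M ((p (i + 1)).rTensor M u) = (kd A A l i).rTensor M u := fun u => by
      rw [← LinearMap.comp_apply, ← LinearMap.rTensor_comp]
      rfl
    have hex : Function.Exact ((kd A A l (i + 1)).rTensor M) ((p (i + 1)).rTensor M) :=
      rTensor_exact M (fun y => (Submodule.Quotient.mk_eq_zero _)) (Submodule.mkQ_surjective _)
    constructor
    · intro hinj z hz
      obtain ⟨y, rfl⟩ := (tEquiv M l (i + 1)).surjective z
      have h0 : (kd A A l i).rTensor M y = 0 := (tEquiv M l i).injective (by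
        rw [map_zero, ← hz]; exact LinearMap.congr_fun (hcomp i) y)
      rw [← hfac] at h0
      obtain ⟨w, hw⟩ := (hex y).1 (hinj (h0.trans (map_zero _).symm))
      exact ⟨tEquiv M l (i + 2) w, by rw [← hw]; exact (LinearMap.congr_fun (hcomp (i + 1)) w).symm⟩
    · intro h
      rw [injective_iff_map_eq_zero]
      intro x hx
      obtain ⟨y, rfl⟩ := LinearMap.rTensor_surjective M (Submodule.mkQ_surjective _ : Function.Surjective (p (i + 1))) x
      rw [hfac] at hx
      obtain ⟨w, hw⟩ := h (tEquiv M l (i + 1) y) (by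
        rw [← map_zero (tEquiv M l i), ← hx]; exact (LinearMap.congr_fun (hcomp i) y).symm)
      obtain ⟨v, rfl⟩ := (tEquiv M l (i + 2)).surjective w
      refine (hex y).2 ⟨v, (tEquiv M l (i + 1)).injective ?_⟩
      rw [← hw]
      exact LinearMap.congr_fun (hcomp (i + 1)) v
  constructor
  · intro h n z hz
    exact (key n).1 (h (n + 1) (Nat.le_add_left 1 n)) z hz
  · intro h i hi
    obtain ⟨n, rfl⟩ : ∃ n, i = n + 1 := ⟨i - 1, by omega⟩
    exact (key n).2 (h n)

end Groth.Agent.CI2
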