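import Groth.Agent.Lib.CI2.NilLift
import Groth.Agent.Lib.CI2.TorKoszul
import Groth.Agent.Lib.FlatH4.LocCrit
import Groth.Agent.Lib.EmbDef.Regular

/-!
Sequences regular on the closed fibre of a flat local algebra are regular with flat quotients.
-/

set_option autoImplicit false
set_option linter.style.haveILetI false
universe u

open TensorProduct RingTheory.Sequence IsLocalRing
open Groth.Agent.CanElt (KObj kd kmap kmap_kd k0)

namespace Groth.Agent.CI2

variable {A C : Type u} [CommRing A] [CommRing C] [Algebra A C] [IsNoetherianRing A] [IsNoetherianRing C]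
  [IsLocalRing A] [IsLocalRing C] [IsLocalHom (algebraMap A C)]

/-- A surjection onto a flat module, injective on the closed fibre, is injective. -/
theorem injective_of_injective_mod_maximal {M P : Type u} [AddCommGroup M] [Module A M] [Module C M]
    [IsScalarTower A C M] [Module.Finite C M] [AddCommGroup P] [Module A P] [Module C P] [IsScalarTower A C P]
    [Module.Flat A P] (q : M →ₗ[C] P) (hq : Function.Surjective q)
    (hmod : Function.Injective ((q.restrictScalars A).lTensor (A ⧸ maximalIdeal A))) : Function.Injective q := by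
  let N := LinearMap.ker (q.restrictScalars A)
  have hinj := FlatSyz.lTensor_subtype_injective_of_flat_quotient N.subtype N.injective_subtype
    (q.restrictScalars A) (LinearMap.exact_subtype_ker_map _) hq (A ⧸ maximalIdeal A)
  have hle : LinearMap.ker q ≤ (maximalIdeal A).map (algebraMap A C) • LinearMap.ker q := by
    intro x hx
    have h1 : (⟨x, hx⟩ : N) ∈ maximalIdeal A • (⊤ : Submodule A N) := by
      rw [← one_tmul_eq_zero]
      refine hinj (hmod ?_)
      simp only [map_zero, LinearMap.lTensor_tmul, Submodule.subtype_apply]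
      rw [show (q.restrictScalars A) x = 0 from hx, tmul_zero]
    have h2 := Submodule.mem_map_of_mem (f := N.subtype) h1
    rw [Submodule.map_smul'', Submodule.map_subtype_top] at h2
    refine Submodule.smul_induction_on (p := fun y => y ∈ (maximalIdeal A).map (algebraMap A C) • LinearMap.ker q) h2 (fun a ha n hn => ?_) (fun _ _ ha hb => add_mem ha hb)
    rw [← algebraMap_smul C a n]
    exact Submodule.smul_mem_smul (Ideal.mem_map_of_mem _ ha) hn
  rw [← LinearMap.ker_eq_bot]
  refine Submodule.eq_bot_of_le_smul_of_le_jacobson_bot _ _ (IsNoetherian.noetherian _) hle ?_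
  rw [IsLocalRing.jacobson_eq_maximalIdeal ⊥ bot_ne_top]
  exact IsLocalRing.map_maximalIdeal_le _

/-- One step of the lifting along the closed fibre. -/
theorem flat_step_local {X Y Z : Type u} [AddCommGroup X] [Module A X] [Module C X] [IsScalarTower A C X]
    [Module.Finite C X] [AddCommGroup Y]
    [Module A Y] [Module C Y] [IsScalarTower A C Y] [AddCommGroup Z] [Module A Z] [Module C Z] [IsScalarTower A C Z]
    [Module.Finite C Z] [Module.Flat A Y] (g : X →ₗ[C] Y) (p : Y →ₗ[C] Z)
    (hgp : Function.Exact g p) (hp : Function.Surjective p)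
    (hmod : Function.Injective ((g.restrictScalars A).lTensor (A ⧸ maximalIdeal A))) :
    Module.Flat A Z ∧ Function.Injective g ∧ Module.Flat A X := by
  let m := maximalIdeal A
  let gA := g.restrictScalars A
  let pA := p.restrictScalars A
  let R₀ := LinearMap.range gA
  let j := R₀.subtype
  let q := gA.rangeRestrict
  have hq : Function.Surjective q := gA.surjective_rangeRestrict
  have hjq : j ∘ₗ q = gA := LinearMap.ext fun _ => rfl
  have hjp : Function.Exact j pA := fun y => by
    show p y = 0 ↔ _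
    rw [hgp y]
    exact ⟨fun ⟨x, hx⟩ => ⟨⟨y, x, hx⟩, rfl⟩, fun ⟨w, hw⟩ => by
      obtain ⟨x, hx⟩ := w.2
      exact ⟨x, hx.trans hw⟩⟩
  have hjmod : Function.Injective (j.lTensor (A ⧸ m)) := by
    rw [injective_iff_map_eq_zero]
    intro z hz
    obtain ⟨w, rfl⟩ := LinearMap.lTensor_surjective (A ⧸ m) hq z
    rw [← LinearMap.comp_apply, ← LinearMap.lTensor_comp, hjq] at hz
    rw [hmod (hz.trans (map_zero _).symm), map_zero]
  have hexI : Function.Exact m.subtype (Submodule.mkQ m) := LinearMap.exact_subtype_mkQ m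
  haveI hZ : Module.Flat A Z := by
    have hfield : Module.Flat (A ⧸ m) ((A ⧸ m) ⊗[A] Z) := by
      letI : Field (A ⧸ m) := Ideal.Quotient.field m
      exact Module.Flat.of_free
    refine FlatH4.flat_of_le_jacobson (S := C) m ?_ ?_ hfield
    · rw [IsLocalRing.jacobson_eq_maximalIdeal ⊥ bot_ne_top]
      exact IsLocalRing.map_maximalIdeal_le _
    rw [LinearMap.lTensor_inj_iff_rTensor_inj, injective_iff_map_eq_zero]
    intro z hz
    obtain ⟨u, rfl⟩ := LinearMap.lTensor_surjective m (g := pA) hp z
    have h1 : pA.lTensor A (m.subtype.rTensor Y u) = 0 := by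
      rw [← hz, ← LinearMap.comp_apply, ← LinearMap.comp_apply, LinearMap.lTensor_comp_rTensor,
        LinearMap.rTensor_comp_lTensor]
    obtain ⟨r, hr⟩ := (_root_.lTensor_exact A hjp hp _).1 h1
    have h2 : (Submodule.mkQ m).rTensor R₀ r = 0 := by
      refine hjmod ?_
      rw [map_zero, ← LinearMap.comp_apply, LinearMap.lTensor_comp_rTensor, ← LinearMap.rTensor_comp_lTensor,
        LinearMap.comp_apply, hr, ← LinearMap.comp_apply, ← LinearMap.rTensor_comp, hexI.linearMap_comp_eq_zero,
        LinearMap.rTensor_zero, LinearMap.zero_apply]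
    obtain ⟨v, rfl⟩ := (_root_.rTensor_exact _ hexI m.mkQ_surjective _).1 h2
    have h3 : m.subtype.rTensor Y (u - j.lTensor m v) = 0 := by
      rw [map_sub, ← hr, ← LinearMap.comp_apply, ← LinearMap.comp_apply, LinearMap.lTensor_comp_rTensor,
        LinearMap.rTensor_comp_lTensor, sub_self]
    have h4 := Module.Flat.rTensor_preserves_injective_linearMap (M := Y) m.subtype m.injective_subtype
      (h3.trans (map_zero _).symm)
    rw [sub_eq_zero] at h4
    rw [h4, ← LinearMap.comp_apply, ← LinearMap.lTensor_comp, hjp.linearMap_comp_eq_zero,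
      LinearMap.lTensor_zero, LinearMap.zero_apply]
  haveI : Module.Flat A R₀ := FlatSyz.flat_of_exact j (Submodule.injective_subtype _) pA hjp hp
  haveI : Module.Flat A (LinearMap.range g) := ‹Module.Flat A R₀›
  have hginj : Function.Injective g.rangeRestrict := by
    refine injective_of_injective_mod_maximal (A := A) g.rangeRestrict g.surjective_rangeRestrict ?_
    intro a b hab
    apply hmod
    have : (((LinearMap.range g).subtype.restrictScalars A) ∘ₗ g.rangeRestrict.restrictScalars A) = g.restrictScalars A :=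
      LinearMap.ext fun _ => rfl
    rw [← this, LinearMap.lTensor_comp, LinearMap.comp_apply, LinearMap.comp_apply, hab]
  refine ⟨hZ, fun a b hab => hginj (Subtype.ext hab), ?_⟩
  exact Module.Flat.of_linearEquiv
    ((LinearEquiv.ofBijective g.rangeRestrict ⟨hginj, g.surjective_rangeRestrict⟩).restrictScalars A)

/-- A complex of flat modules, finite upstairs and exact on the closed fibre, is exact with flat cokernel. -/
theorem exact_of_exact_mod_maximal (K : ℕ → Type u) [∀ n, AddCommGroup (K n)]
    [∀ n, Module A (K n)] [∀ n, Module C (K n)] [∀ n, IsScalarTower A C (K n)] [∀ n, Module.Finite C (K n)]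
    [∀ n, Module.Flat A (K n)] (d : ∀ n, K (n + 1) →ₗ[C] K n) (hd : ∀ n z, d n (d (n + 1) z) = 0)
    (hmod : ∀ n z, d n z ∈ maximalIdeal A • (⊤ : Submodule A (K n)) →
      ∃ w, z - d (n + 1) w ∈ maximalIdeal A • (⊤ : Submodule A (K (n + 1)))) :
    (∀ n z, d n z = 0 → ∃ w, d (n + 1) w = z) ∧ Module.Flat A (K 0 ⧸ LinearMap.range (d 0)) := by
  let g : ∀ n, (K (n + 1) ⧸ LinearMap.range (d (n + 1))) →ₗ[C] K n := fun n =>
    (LinearMap.range (d (n + 1))).liftQ (d n) (by rintro _ ⟨w, rfl⟩; exact LinearMap.mem_ker.2 (hd n w))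
  have hg : ∀ n, Function.Injective (((g n).restrictScalars A).lTensor (A ⧸ maximalIdeal A)) := by
    intro n
    rw [injective_iff_map_eq_zero]
    intro y hy
    obtain ⟨x, rfl⟩ := exists_one_tmul y
    obtain ⟨z, rfl⟩ := Submodule.mkQ_surjective _ x
    rw [LinearMap.lTensor_tmul, one_tmul_eq_zero] at hy
    obtain ⟨w, hw⟩ := hmod n z hy
    rw [one_tmul_eq_zero]
    let π := (Submodule.mkQ (LinearMap.range (d (n + 1)))).restrictScalars A
    have h1 : π z = π (z - d (n + 1) w) := by
      rw [map_sub, show π (d (n + 1) w) = 0 from (Submodule.Quotient.mk_eq_zero _).2 (LinearMap.mem_range_self _ w),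
        sub_zero]
    show π z ∈ _
    rw [h1]
    have h2 := Submodule.mem_map_of_mem (f := π) hw
    rw [Submodule.map_smul''] at h2
    exact Submodule.smul_mono le_rfl le_top h2
  have hex : ∀ n, Function.Exact (g n) (Submodule.mkQ (LinearMap.range (d n))) := fun n y => by
    rw [Submodule.mkQ_apply, Submodule.Quotient.mk_eq_zero]
    constructor
    · rintro ⟨z, rfl⟩
      exact ⟨Submodule.mkQ _ z, rfl⟩
    · rintro ⟨x, rfl⟩
      obtain ⟨z, rfl⟩ := Submodule.mkQ_surjective _ x
      exact ⟨z, rfl⟩
  have main : ∀ n, Module.Flat A (K n ⧸ LinearMap.range (d n)) ∧ Function.Injective (g n) := by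
    intro n
    obtain ⟨h1, h2, -⟩ := flat_step_local (g n) _ (hex n) (Submodule.mkQ_surjective _) (hg n)
    exact ⟨h1, h2⟩
  refine ⟨fun n z hz => ?_, (main 0).1⟩
  have : Submodule.mkQ (LinearMap.range (d (n + 1))) z = 0 := (main n).2 (by rw [map_zero]; exact hz)
  exact (Submodule.Quotient.mk_eq_zero _).1 this

theorem kmap_eq_zero_imp {R : Type u} [CommRing R] (J : Ideal R)
    (ψ : R →ₛₗ[Ideal.Quotient.mk J] (R ⧸ J)) (hψ : ∀ x, ψ x = Ideal.Quotient.mk J x) :
    ∀ (l : List R) (n : ℕ) (x : KObj R R l n), kmap ψ l n x = 0 → x ∈ J • (⊤ : Submodule R (KObj R R l n))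
  | [], 0, x, hx => by
    have key : ∀ y : R, ψ y = 0 → y ∈ J • (⊤ : Submodule R R) := fun y hy => by
      rw [smul_eq_mul, Ideal.mul_top]
      rw [hψ] at hy
      exact Ideal.Quotient.eq_zero_iff_mem.1 hy
    exact key x hx
  | [], n + 1, x, _ => by
    rw [Subsingleton.elim (h := inferInstanceAs (Subsingleton PUnit)) x 0]
    exact zero_mem _
  | _ :: l, 0, x, hx => kmap_eq_zero_imp J ψ hψ l 0 x hx
  | _ :: l, n + 1, (a, b), hx => by
    have ha := kmap_eq_zero_imp J ψ hψ l (n + 1) a (congrArg Prod.fst hx)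
    have hb := kmap_eq_zero_imp J ψ hψ l n b (congrArg Prod.snd hx)
    have ha' := Submodule.mem_map_of_mem (f := LinearMap.inl R (KObj R R l (n + 1)) (KObj R R l n)) ha
    have hb' := Submodule.mem_map_of_mem (f := LinearMap.inr R (KObj R R l (n + 1)) (KObj R R l n)) hb
    rw [Submodule.map_smul''] at ha' hb'
    have := add_mem (Submodule.smul_mono le_rfl le_top ha') (Submodule.smul_mono le_rfl le_top hb')
    rw [LinearMap.inl_apply, LinearMap.inr_apply, Prod.mk_add_mk, add_zero, zero_add] at this
    exact this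

theorem kmap_mem_smul {R : Type u} [CommRing R] (J : Ideal R)
    (ψ : R →ₛₗ[Ideal.Quotient.mk J] (R ⧸ J)) (l : List R) (n : ℕ) (x : KObj R R l n)
    (hx : x ∈ J • (⊤ : Submodule R (KObj R R l n))) : kmap ψ l n x = 0 := by
  induction hx using Submodule.smul_induction_on' with
  | smul r hr m _ => rw [LinearMap.map_smulₛₗ, Ideal.Quotient.eq_zero_iff_mem.2 hr, zero_smul]
  | add a _ b _ ha hb => rw [map_add, ha, hb, add_zero]

omit [IsNoetherianRing A] [IsNoetherianRing C] [IsLocalRing A] [IsLocalRing C] [IsLocalHom (algebraMap A C)] in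
theorem mem_smul_top_iff_map {M : Type u} [AddCommGroup M] [Module A M] [Module C M] [IsScalarTower A C M]
    (I : Ideal A) (x : M) :
    x ∈ I • (⊤ : Submodule A M) ↔ x ∈ I.map (algebraMap A C) • (⊤ : Submodule C M) := by
  rw [← Submodule.restrictScalars_mem A (I.map (algebraMap A C) • (⊤ : Submodule C M)),
    Ideal.smul_restrictScalars, Submodule.restrictScalars_top]

variable [Module.Flat A C]

/-- Exactness of the Koszul complex lifts from the closed fibre, with flat quotient. -/
theorem ex_and_flat_of_fibre {l : List C}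
    (h : Ex (C ⧸ (maximalIdeal A).map (algebraMap A C)) (C ⧸ (maximalIdeal A).map (algebraMap A C))
      (l.map (Ideal.Quotient.mk ((maximalIdeal A).map (algebraMap A C))))) :
    Ex C C l ∧ Module.Flat A (C ⧸ Ideal.ofList l) := by
  let J := (maximalIdeal A).map (algebraMap A C)
  let ψ : C →ₛₗ[Ideal.Quotient.mk J] (C ⧸ J) :=
    { toFun := Ideal.Quotient.mk J
      map_add' := map_add _
      map_smul' := fun a b => map_mul _ a b }
  letI : ∀ n, Module A (KObj C C l n) := fun n => Module.compHom _ (algebraMap A C)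
  haveI hst : ∀ n, IsScalarTower A C (KObj C C l n) := fun n =>
    IsScalarTower.of_algebraMap_smul fun _ _ => rfl
  haveI : ∀ n, Module.Flat A (KObj C C l n) := fun n =>
    haveI := free_KObj_ring l n
    Module.Flat.trans A C (KObj C C l n)
  haveI : ∀ n, Module.Finite C (KObj C C l n) := finite_KObj_module C l
  obtain ⟨hE, hfl⟩ := exact_of_exact_mod_maximal (A := A) (C := C) (fun n => (KObj C C l n : Type u))
    (fun n => kd C C l n) (fun n z => CanElt.kd_kd C C l n z) fun n z hz => by
      haveI := hst n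
      haveI := hst (n + 1)
      replace hz := (mem_smul_top_iff_map (C := C) (M := KObj C C l n) (maximalIdeal A) _).1 hz
      have h0 : kd (C ⧸ J) (C ⧸ J) (l.map (Ideal.Quotient.mk J)) n (kmap ψ l (n + 1) z) = 0 := by
        rw [← kmap_kd]
        exact kmap_mem_smul J ψ l n _ hz
      obtain ⟨w', hw'⟩ := h n _ h0
      obtain ⟨w, rfl⟩ := CanElt.kmap_surjective ψ Ideal.Quotient.mk_surjective l (n + 2) w'
      refine ⟨w, (mem_smul_top_iff_map (C := C) (M := KObj C C l (n + 1)) (maximalIdeal A) _).2 ?_⟩
      refine kmap_eq_zero_imp J ψ (fun _ => rfl) l (n + 1) _ ?_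
      rw [map_sub, ← hw', ← kmap_kd, sub_self]
  refine ⟨hE, ?_⟩
  let φ : KObj C C l 0 →ₗ[C] C ⧸ Ideal.ofList l := Submodule.mkQ _ ∘ₗ (k0 C C l).toLinearMap
  have hφ : LinearMap.ker φ = LinearMap.range (kd C C l 0) := by
    ext x
    rw [CanElt.mem_range_kd_zero, smul_eq_mul, Ideal.mul_top]
    exact Submodule.Quotient.mk_eq_zero _
  haveI := hst 0
  exact Module.Flat.of_linearEquiv (((Submodule.quotEquivOfEq _ _ hφ.symm).trans
    (LinearMap.quotKerEquivOfSurjective φ ((Submodule.mkQ_surjective _).comp (k0 C C l).surjective))).restrictScalars A).symm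

/-- A sequence regular on the closed fibre is regular, with flat partial quotients. -/
theorem weaklyRegular_and_flat_of_fibre {l : List C} (hm : ∀ x ∈ l, x ∈ maximalIdeal C)
    (h : IsWeaklyRegular (C ⧸ (maximalIdeal A).map (algebraMap A C))
      (l.map (Ideal.Quotient.mk ((maximalIdeal A).map (algebraMap A C))))) :
    IsWeaklyRegular C l ∧ ∀ j : ℕ, j ≤ l.length → Module.Flat A (C ⧸ Ideal.ofList (l.take j)) := by
  refine ⟨?_, fun j _ => ?_⟩
  · exact IsLocalRing.isWeaklyRegular_of_perm_of_subset_maximalIdeal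
      (isWeaklyRegular_reverse_of_exact_module C l hm ((ex_and_flat_of_fibre (ex_of_isWeaklyRegular _ _ h)).1 0))
      (List.reverse_perm _) fun r hr => hm r (List.mem_reverse.1 hr)
  · have h' := h
    rw [← List.take_append_drop j l, List.map_append, isWeaklyRegular_append_iff] at h'
    exact (ex_and_flat_of_fibre (ex_of_isWeaklyRegular _ _ h'.1)).2

omit [IsNoetherianRing A] [IsNoetherianRing C] [IsLocalRing C] [IsLocalHom (algebraMap A C)] [Module.Flat A C] in
/-- A regular sequence with flat partial quotients stays regular on the closed fibre. -/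
theorem weaklyRegular_fibre {l : List C} (h : IsWeaklyRegular C l)
    (hfl : ∀ j ≤ l.length, Module.Flat A (C ⧸ Ideal.ofList (l.take j))) :
    IsWeaklyRegular (C ⧸ (maximalIdeal A).map (algebraMap A C))
      (l.map (Ideal.Quotient.mk ((maximalIdeal A).map (algebraMap A C)))) := by
  let J := (maximalIdeal A).map (algebraMap A C)
  rw [EmbDef.isWeaklyRegular_self_iff]
  intro i hi x hx
  rw [List.length_map] at hi
  obtain ⟨c, rfl⟩ := Ideal.Quotient.mk_surjective x
  rw [List.getElem_map, ← List.map_take, ← Ideal.map_ofList, ← map_mul, Ideal.mem_quotient_iff_mem_sup] at hx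
  rw [← List.map_take, ← Ideal.map_ofList, Ideal.mem_quotient_iff_mem_sup]
  let P := Ideal.ofList (l.take i)
  let P' := Ideal.ofList (l.take (i + 1))
  have hP' : P' = P ⊔ Ideal.span {l[i]} := by
    show Ideal.ofList _ = _
    rw [List.take_succ_eq_append_getElem hi, Ideal.ofList_append, Ideal.ofList_singleton]
  have hPP : P ≤ P' := hP' ▸ le_sup_left
  haveI := hfl (i + 1) hi
  have hreg := (EmbDef.isWeaklyRegular_self_iff l).1 h i hi
  let g : (C ⧸ P) →ₗ[A] (C ⧸ P) := (l[i] • (LinearMap.id : (C ⧸ P) →ₗ[C] C ⧸ P)).restrictScalars A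
  let q : (C ⧸ P) →ₗ[A] (C ⧸ P') := (Submodule.factor hPP).restrictScalars A
  have hg : Function.Injective g := by
    rw [injective_iff_map_eq_zero]
    intro y hy
    obtain ⟨y, rfl⟩ := Submodule.mkQ_surjective P y
    have : l[i] • y ∈ P := by
      rw [← Submodule.Quotient.mk_eq_zero]
      exact hy
    exact (Submodule.Quotient.mk_eq_zero _).2 (hreg y (by rwa [smul_eq_mul, mul_comm] at this))
  have hgq : Function.Exact g q := by
    intro y
    obtain ⟨y, rfl⟩ := Submodule.mkQ_surjective P y
    show (Submodule.Quotient.mk y : C ⧸ P') = 0 ↔ _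
    rw [Submodule.Quotient.mk_eq_zero, hP', Submodule.mem_sup]
    constructor
    · rintro ⟨a, ha, b, hb, rfl⟩
      obtain ⟨z, rfl⟩ := Ideal.mem_span_singleton'.1 hb
      refine ⟨Submodule.mkQ P z, ?_⟩
      show l[i] • Submodule.mkQ P z = _
      rw [← map_smul, map_add, show Submodule.mkQ P a = 0 from (Submodule.Quotient.mk_eq_zero P).2 ha,
        zero_add, smul_eq_mul, mul_comm]
    · rintro ⟨z, hz⟩
      obtain ⟨z, rfl⟩ := Submodule.mkQ_surjective P z
      exact ⟨y - l[i] • z, (Submodule.Quotient.eq P).1 hz.symm, l[i] • z,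
        Ideal.mem_span_singleton'.2 ⟨z, by rw [smul_eq_mul, mul_comm]⟩, sub_add_cancel _ _⟩
  have hinj := FlatSyz.lTensor_subtype_injective_of_flat_quotient g hg q hgq (Submodule.factor_surjective hPP)
    (A ⧸ maximalIdeal A)
  have hmem : ∀ z : C, Submodule.mkQ P z ∈ maximalIdeal A • (⊤ : Submodule A (C ⧸ P)) ↔ z ∈ P ⊔ J := by
    intro z
    rw [mem_smul_top_iff_map (C := C), ← Submodule.range_mkQ P, LinearMap.range_eq_map, ← Submodule.map_smul'',
      smul_eq_mul, Ideal.mul_top, ← Submodule.mem_comap, Submodule.comap_map_mkQ]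
  refine (hmem c).1 ((one_tmul_eq_zero _).1 (hinj ?_))
  rw [LinearMap.lTensor_tmul, map_zero, one_tmul_eq_zero]
  show l[i] • Submodule.mkQ P c ∈ _
  rw [← map_smul, hmem, smul_eq_mul, mul_comm]
  exact hx

end Groth.Agent.CI2
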