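/-
Tor dimension over polynomial rings, and projective dimension of finite modules from tor dimension.
-/
import Groth.Agent.Lib.TorBal.Dim
import Groth.Agent.Lib.FlatSyz.ProjDim
import Groth.Agent.Lib.TorAscH7.Basic
import Mathlib.Algebra.Polynomial.Basis
import Mathlib.LinearAlgebra.TensorProduct.Basis
import Mathlib.RingTheory.MvPolynomial.Basic

universe u

open CategoryTheory TensorProduct Polynomial

set_option linter.style.haveILetI false

namespace Groth.Agent.CI2

variable {A : Type u} [CommRing A]

section Char

variable {M : Type u} [AddCommGroup M] [Module A M] [Module A[X] M] [IsScalarTower A A[X] M]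

/-- `p ⊗ m ↦ p X ⊗ m - p ⊗ X m`. -/
noncomputable def charMap : A[X] ⊗[A] M →ₗ[A[X]] A[X] ⊗[A] M :=
  LinearMap.liftBaseChange A[X]
    ((TensorProduct.mk A A[X] M X) - (TensorProduct.mk A A[X] M 1).comp (Algebra.lsmul A A M (X : A[X])))

theorem charMap_tmul (p : A[X]) (m : M) :
    charMap (p ⊗ₜ[A] m) = (p * X) ⊗ₜ[A] m - p ⊗ₜ[A] ((X : A[X]) • m) := by
  rw [charMap, LinearMap.liftBaseChange_tmul, LinearMap.sub_apply, smul_sub]
  simp [TensorProduct.smul_tmul']

/-- The augmentation. -/
noncomputable def augMap : A[X] ⊗[A] M →ₗ[A[X]] M := LinearMap.liftBaseChange A[X] LinearMap.id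

theorem augMap_tmul (p : A[X]) (m : M) : augMap (p ⊗ₜ[A] m) = p • m := by
  simp [augMap]

theorem charMap_exact : Function.Exact (charMap : A[X] ⊗[A] M →ₗ[A[X]] _) augMap := by
  have hcomp : ∀ z : A[X] ⊗[A] M, augMap (charMap z) = 0 := fun z => by
    induction z using TensorProduct.induction_on with
    | zero => simp
    | add a b ha hb => simp [ha, hb]
    | tmul p m => rw [charMap_tmul, map_sub, augMap_tmul, augMap_tmul, mul_smul, sub_self]
  have hn : ∀ (n : ℕ) (m : M), (X ^ n : A[X]) ⊗ₜ[A] m - (1 : A[X]) ⊗ₜ[A] ((X ^ n : A[X]) • m) ∈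
      LinearMap.range (charMap : A[X] ⊗[A] M →ₗ[A[X]] _) := by
    intro n
    induction n with
    | zero => intro m; simp
    | succ n ih =>
      intro m
      have h2 := ih ((X : A[X]) • m)
      rw [← mul_smul, ← pow_succ] at h2
      have h1 : (X ^ (n + 1) : A[X]) ⊗ₜ[A] m - (1 : A[X]) ⊗ₜ[A] ((X ^ (n + 1) : A[X]) • m) =
          charMap ((X ^ n : A[X]) ⊗ₜ[A] m) +
            ((X ^ n : A[X]) ⊗ₜ[A] ((X : A[X]) • m) - (1 : A[X]) ⊗ₜ[A] ((X ^ (n + 1) : A[X]) • m)) := by
        rw [charMap_tmul, ← pow_succ]; abel
      rw [h1]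
      exact add_mem (LinearMap.mem_range_self _ _) h2
  have key : ∀ z : A[X] ⊗[A] M, z - (1 : A[X]) ⊗ₜ[A] augMap z ∈
      LinearMap.range (charMap : A[X] ⊗[A] M →ₗ[A[X]] _) := fun z => by
    induction z using TensorProduct.induction_on with
    | zero => simp
    | add a b ha hb =>
      rw [map_add, TensorProduct.tmul_add, add_sub_add_comm]
      exact add_mem ha hb
    | tmul p m =>
      rw [augMap_tmul]
      induction p using Polynomial.induction_on' with
      | add p q hp hq =>
        rw [TensorProduct.add_tmul, add_smul, TensorProduct.tmul_add, add_sub_add_comm]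
        exact add_mem hp hq
      | monomial n a =>
        have h1 : (monomial n a : A[X]) = a • (X ^ n : A[X]) := by
          rw [← Polynomial.C_mul_X_pow_eq_monomial, Polynomial.smul_eq_C_mul]
        rw [h1, smul_assoc, TensorProduct.tmul_smul, ← TensorProduct.smul_tmul',
          ← algebraMap_smul A[X] a ((X ^ n : A[X]) ⊗ₜ[A] m),
          ← algebraMap_smul A[X] a ((1 : A[X]) ⊗ₜ[A] _)]
        rw [← smul_sub]
        exact Submodule.smul_mem _ _ (hn n m)
  intro z
  refine ⟨fun hz => ?_, ?_⟩
  · have := key z
    rw [hz, TensorProduct.tmul_zero, sub_zero] at this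
    exact this
  · rintro ⟨w, rfl⟩; exact hcomp w

theorem charMap_coeff (z : A[X] ⊗[A] M) (n : ℕ) :
    TensorProduct.equivFinsuppOfBasisLeft (basisMonomials A) (charMap z) (n + 1) =
      TensorProduct.equivFinsuppOfBasisLeft (basisMonomials A) z n -
        (X : A[X]) • TensorProduct.equivFinsuppOfBasisLeft (basisMonomials A) z (n + 1) := by
  have hr : ∀ (p : A[X]) (i : ℕ), (basisMonomials A).repr p i = p.coeff i := fun p i => rfl
  induction z using TensorProduct.induction_on with
  | zero => simp
  | add a b ha hb =>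
    simp only [map_add, Finsupp.add_apply, ha, hb, smul_add]
    abel
  | tmul p m =>
    rw [charMap_tmul, map_sub, Finsupp.sub_apply, TensorProduct.equivFinsuppOfBasisLeft_apply_tmul_apply,
      TensorProduct.equivFinsuppOfBasisLeft_apply_tmul_apply,
      TensorProduct.equivFinsuppOfBasisLeft_apply_tmul_apply,
      TensorProduct.equivFinsuppOfBasisLeft_apply_tmul_apply, hr, hr, hr, Polynomial.coeff_mul_X,
      smul_comm ((p.coeff (n + 1))) (X : A[X]) m]

theorem charMap_injective : Function.Injective (charMap : A[X] ⊗[A] M →ₗ[A[X]] _) := by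
  rw [injective_iff_map_eq_zero]
  intro z hz
  let κ := TensorProduct.equivFinsuppOfBasisLeft (R := A) (N := M) (basisMonomials A)
  have hrec : ∀ n, κ z n = (X : A[X]) • κ z (n + 1) := fun n => by
    have h := charMap_coeff z n
    rw [hz, map_zero, Finsupp.zero_apply] at h
    exact sub_eq_zero.1 h.symm
  have hzero : ∀ k n, (κ z).support.sup id < n + k → κ z n = 0 := by
    intro k
    induction k with
    | zero =>
      intro n hn
      by_contra h
      exact absurd (Finset.le_sup (f := id) (Finsupp.mem_support_iff.2 h)) (not_le.2 hn)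
    | succ k ih =>
      intro n hn
      rw [hrec n, ih (n + 1) (by omega), smul_zero]
  refine κ.injective (Finsupp.ext fun n => ?_)
  rw [map_zero, Finsupp.zero_apply]
  exact hzero ((κ z).support.sup id + 1) n (by omega)

end Char

/-- Tor dimension over `A[X]` is at most one more than over `A`. -/
theorem torDim_polynomial : ∀ (d : ℕ) (M : Type u) [AddCommGroup M] [Module A M] [Module A[X] M]
    [IsScalarTower A A[X] M], DRing.HasTorDimLE A d M → DRing.HasTorDimLE A[X] (d + 1) M := by
  intro d
  induction d with
  | zero =>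
    intro M _ _ _ _ h
    haveI := (Groth.Agent.TorBal.flat_iff_hasTorDimLE_zero M).1 h
    exact (Groth.Agent.TorAscH7.hasTorDimLE_succ_iff charMap charMap_injective augMap charMap_exact
      (fun m => ⟨(1 : A[X]) ⊗ₜ[A] m, by rw [augMap_tmul, one_smul]⟩) 0).2
        ((Groth.Agent.TorBal.flat_iff_hasTorDimLE_zero (A[X] ⊗[A] M)).2 inferInstance)
  | succ d ih =>
    intro M _ _ _ _ h
    let p : (M →₀ A[X]) →ₗ[A[X]] M := Finsupp.linearCombination A[X] id
    have hp : Function.Surjective p := Finsupp.linearCombination_id_surjective A[X] M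
    haveI : Module.Flat A (M →₀ A[X]) := Module.Flat.trans A A[X] (M →₀ A[X])
    let K := LinearMap.ker p
    have hK : DRing.HasTorDimLE A d K := (Groth.Agent.TorAscH7.hasTorDimLE_succ_iff (K.subtype.restrictScalars A)
      K.injective_subtype (p.restrictScalars A) (LinearMap.exact_subtype_ker_map p) hp d).1 h
    exact (Groth.Agent.TorAscH7.hasTorDimLE_succ_iff K.subtype K.injective_subtype p
      (LinearMap.exact_subtype_ker_map p) hp (d + 1)).2 (ih K hK)

/-- Tor dimension is insensitive to isomorphisms of rings. -/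
theorem torDim_of_bijective {R S : Type u} [CommRing R] [CommRing S] [Algebra R S]
    (hbij : Function.Bijective (algebraMap R S)) :
    ∀ (d : ℕ) (M : Type u) [AddCommGroup M] [Module R M] [Module S M] [IsScalarTower R S M],
      DRing.HasTorDimLE R d M → DRing.HasTorDimLE S d M := by
  haveI : Module.Flat R S := Module.Flat.of_linearEquiv (LinearEquiv.ofBijective (Algebra.linearMap R S) hbij).symm
  intro d
  induction d with
  | zero =>
    intro M _ _ _ _ h
    haveI := (Groth.Agent.TorBal.flat_iff_hasTorDimLE_zero M).1 h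
    let φ : S ⊗[R] M →ₗ[S] M := LinearMap.liftBaseChange S LinearMap.id
    have hφ : ∀ z, (1 : S) ⊗ₜ[R] φ z = z := fun z => by
      induction z using TensorProduct.induction_on with
      | zero => simp
      | add a b ha hb => rw [map_add, TensorProduct.tmul_add, ha, hb]
      | tmul s m =>
        obtain ⟨r, rfl⟩ := hbij.2 s
        simp [φ, TensorProduct.smul_tmul', Algebra.smul_def]
    refine (Groth.Agent.TorBal.flat_iff_hasTorDimLE_zero M).2 ?_
    exact Module.Flat.of_linearEquiv (LinearEquiv.ofBijective φ
      ⟨fun a b hab => by rw [← hφ a, ← hφ b, hab],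
        fun m => ⟨(1 : S) ⊗ₜ[R] m, by simp [φ]⟩⟩).symm
  | succ d ih =>
    intro M _ _ _ _ h
    let p : (M →₀ S) →ₗ[S] M := Finsupp.linearCombination S id
    have hp : Function.Surjective p := Finsupp.linearCombination_id_surjective S M
    haveI : Module.Flat R (M →₀ S) := Module.Flat.trans R S (M →₀ S)
    let K := LinearMap.ker p
    have hK : DRing.HasTorDimLE R d K := (Groth.Agent.TorAscH7.hasTorDimLE_succ_iff (K.subtype.restrictScalars R)
      K.injective_subtype (p.restrictScalars R) (LinearMap.exact_subtype_ker_map p) hp d).1 h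
    exact (Groth.Agent.TorAscH7.hasTorDimLE_succ_iff K.subtype K.injective_subtype p
      (LinearMap.exact_subtype_ker_map p) hp d).2 (ih K hK)

/-- Tor dimension over `A[X₁, …, Xₙ]` is at most `n` more than over `A`. -/
theorem torDim_mvPolynomial : ∀ (n d : ℕ) (M : Type u) [AddCommGroup M] [Module A M]
    [Module (MvPolynomial (Fin n) A) M] [IsScalarTower A (MvPolynomial (Fin n) A) M],
    DRing.HasTorDimLE A d M → DRing.HasTorDimLE (MvPolynomial (Fin n) A) (d + n) M := by
  intro n
  induction n with
  | zero =>
    intro d M _ _ _ _ h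
    exact torDim_of_bijective (R := A) (S := MvPolynomial (Fin 0) A)
      ((MvPolynomial.isEmptyAlgEquiv A (Fin 0)).symm.bijective) d M h
  | succ n ih =>
    intro d M _ _ _ _ h
    let e := MvPolynomial.finSuccEquiv A n
    letI : Algebra (Polynomial (MvPolynomial (Fin n) A)) (MvPolynomial (Fin (n + 1)) A) :=
      e.symm.toRingHom.toAlgebra
    letI : Module (Polynomial (MvPolynomial (Fin n) A)) M :=
      Module.compHom M (algebraMap (Polynomial (MvPolynomial (Fin n) A)) (MvPolynomial (Fin (n + 1)) A))
    haveI : IsScalarTower (Polynomial (MvPolynomial (Fin n) A)) (MvPolynomial (Fin (n + 1)) A) M :=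
      IsScalarTower.of_algebraMap_smul fun _ _ => rfl
    letI : Module (MvPolynomial (Fin n) A) M :=
      Module.compHom M (Polynomial.C : MvPolynomial (Fin n) A →+* _)
    haveI : IsScalarTower (MvPolynomial (Fin n) A) (Polynomial (MvPolynomial (Fin n) A)) M :=
      IsScalarTower.of_algebraMap_smul fun _ _ => rfl
    haveI : IsScalarTower A (MvPolynomial (Fin n) A) M := IsScalarTower.of_algebraMap_smul fun a m => by
      change e.symm (Polynomial.C (algebraMap A (MvPolynomial (Fin n) A) a)) • m = a • m
      rw [show Polynomial.C (algebraMap A (MvPolynomial (Fin n) A) a) =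
        algebraMap A (Polynomial (MvPolynomial (Fin n) A)) a from rfl, AlgEquiv.commutes, algebraMap_smul]
    exact torDim_of_bijective (R := Polynomial (MvPolynomial (Fin n) A)) (S := MvPolynomial (Fin (n + 1)) A)
      e.symm.bijective _ M (torDim_polynomial (d + n) M (ih d M h))

/-- For finite modules over Noetherian rings, bounded tor dimension bounds projective dimension. -/
theorem pd_le_of_torDim {R : Type u} [CommRing R] [IsNoetherianRing R] :
    ∀ (d : ℕ) (M : Type u) [AddCommGroup M] [Module R M] [Module.Finite R M],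
      DRing.HasTorDimLE R d M → HasProjectiveDimensionLE (ModuleCat.of R M) d := by
  intro d
  induction d with
  | zero =>
    intro M _ _ _ h
    haveI := Module.finitePresentation_of_finite R M
    exact Groth.Agent.FlatSyz.hasProjectiveDimensionLE_zero_iff_flat.2
      ((Groth.Agent.TorBal.flat_iff_hasTorDimLE_zero M).1 h)
  | succ d ih =>
    intro M _ _ _ h
    obtain ⟨k, π, hπ⟩ := Module.Finite.exists_fin' R M
    haveI : Module.Finite R π.ker := Module.Finite.iff_fg.2 (IsNoetherian.noetherian _)
    exact (Groth.Agent.FlatSyz.hasProjectiveDimensionLE_succ_iff π.ker.subtype π.ker.injective_subtype π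
      (LinearMap.exact_subtype_ker_map π) hπ d).2
      (ih π.ker ((Groth.Agent.TorAscH7.hasTorDimLE_succ_iff π.ker.subtype π.ker.injective_subtype π
        (LinearMap.exact_subtype_ker_map π) hπ d).1 h))

end Groth.Agent.CI2
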