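/-
Flat algebras whose diagonal has finite tor dimension have regular geometric fibres.
-/
import Groth.Agent.Lib.CI2.TorPoly
import Groth.Agent.Lib.RegLoc.GlobalDim
import Groth.Agent.Lib.SmoothFppf.Ring
import Groth.Agent.Lib.RegCpl3.Basic
import Mathlib.RingTheory.Jacobson.Ring
import Mathlib.RingTheory.Flat.Equalizer

universe u

open CategoryTheory TensorProduct

set_option linter.style.haveILetI false

namespace Groth.Agent.CI2

theorem torDim_congr {R : Type u} [CommRing R] {M M' : Type u} [AddCommGroup M] [Module R M]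
    [AddCommGroup M'] [Module R M'] (e : M ≃ₗ[R] M') {d : ℕ} (h : DRing.HasTorDimLE R d M) :
    DRing.HasTorDimLE R d M' := fun N _ _ p hp => by
  haveI := h N p hp
  exact ModuleCat.subsingleton_of_isZero
    ((Groth.Agent.KFlat.TorFlat.isZero_tor_congr e p (ModuleCat.of R N)).1 (ModuleCat.isZero_of_subsingleton _))

theorem baseChange_injective (C R T : Type u) [CommRing C] [CommRing R] [CommRing T] [Algebra C R]
    [Algebra C T] {K F M : Type u} [AddCommGroup K] [Module R K] [Module C K] [IsScalarTower C R K]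
    [AddCommGroup F] [Module R F] [Module C F] [IsScalarTower C R F]
    [AddCommGroup M] [Module R M] [Module C M] [IsScalarTower C R M] [Module.Flat C F] [Module.Flat C M]
    (i : K →ₗ[R] F) (p : F →ₗ[R] M) (hi : Function.Injective i) (hex : Function.Exact i p)
    (hp : Function.Surjective p) :
    Function.Injective (i.baseChange (R ⊗[C] T)) ∧ Module.Flat C K := by
  have hT : Function.Injective ((i.restrictScalars C).lTensor T) :=
    LinearMap.lTensor_injective_of_exact_of_flat (p.restrictScalars C) hp (i.restrictScalars C) hi hex T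
  refine ⟨?_, Groth.Agent.FlatSyz.flat_of_exact (i.restrictScalars C) hi (p.restrictScalars C) hex hp⟩
  let eK : (R ⊗[C] T) ⊗[R] K ≃+ T ⊗[C] K :=
    (TensorProduct.comm R _ K).toAddEquiv.trans
      ((AlgebraTensorModule.cancelBaseChange C R R K T).toAddEquiv.trans
        (TensorProduct.comm C K T).toAddEquiv)
  let eF : (R ⊗[C] T) ⊗[R] F ≃+ T ⊗[C] F :=
    (TensorProduct.comm R _ F).toAddEquiv.trans
      ((AlgebraTensorModule.cancelBaseChange C R R F T).toAddEquiv.trans
        (TensorProduct.comm C F T).toAddEquiv)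
  have key : ∀ z, eF (i.baseChange (R ⊗[C] T) z) = (i.restrictScalars C).lTensor T (eK z) := fun z => by
    induction z using TensorProduct.induction_on with
    | zero => simp
    | add a b ha hb => rw [map_add, map_add, ha, hb, map_add, map_add]
    | tmul x k =>
      induction x using TensorProduct.induction_on with
      | zero => simp
      | add a b ha hb => rw [TensorProduct.add_tmul, map_add, map_add, ha, hb, map_add, map_add]
      | tmul r t => simp [eK, eF]
  intro a b hab
  apply eK.injective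
  apply hT
  rw [← key, ← key, hab]

theorem torDim_baseChange_step (C R T : Type u) [CommRing C] [CommRing R] [CommRing T] [Algebra C R]
    [Algebra C T] {K F M : Type u} [AddCommGroup K] [Module R K] [Module C K] [IsScalarTower C R K]
    [AddCommGroup F] [Module R F] [Module C F] [IsScalarTower C R F] [Module.Flat R F]
    [AddCommGroup M] [Module R M] [Module C M] [IsScalarTower C R M] [Module.Flat C F] [Module.Flat C M]
    (i : K →ₗ[R] F) (p : F →ₗ[R] M) (hi : Function.Injective i) (hex : Function.Exact i p)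
    (hp : Function.Surjective p) (d : ℕ)
    (ih : DRing.HasTorDimLE (R ⊗[C] T) d ((R ⊗[C] T) ⊗[R] K)) :
    DRing.HasTorDimLE (R ⊗[C] T) (d + 1) ((R ⊗[C] T) ⊗[R] M) :=
  (Groth.Agent.TorAscH7.hasTorDimLE_succ_iff (i.baseChange (R ⊗[C] T))
    (baseChange_injective C R T i p hi hex hp).1
    (p.baseChange (R ⊗[C] T)) (lTensor_exact _ hex hp)
    (LinearMap.lTensor_surjective _ hp) d).2 ih

/-- Tor dimension of a `C`-flat module does not go up under base change along `C → T`. -/
theorem torDim_baseChange (C R T : Type u) [CommRing C] [CommRing R] [CommRing T] [Algebra C R] [Algebra C T]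
    [Module.Flat C R] :
    ∀ (d : ℕ) (M : Type u) [AddCommGroup M] [Module R M] [Module C M] [IsScalarTower C R M] [Module.Flat C M],
      DRing.HasTorDimLE R d M → DRing.HasTorDimLE (R ⊗[C] T) d ((R ⊗[C] T) ⊗[R] M) := by
  intro d
  induction d with
  | zero =>
    intro M _ _ _ _ _ h
    haveI := (Groth.Agent.TorBal.flat_iff_hasTorDimLE_zero M).1 h
    exact (Groth.Agent.TorBal.flat_iff_hasTorDimLE_zero _).2 inferInstance
  | succ d ih =>
    intro M _ _ _ _ _ h
    let p : (M →₀ R) →ₗ[R] M := Finsupp.linearCombination R id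
    have hp : Function.Surjective p := Finsupp.linearCombination_id_surjective R M
    haveI : Module.Flat C (M →₀ R) := Module.Flat.trans C R (M →₀ R)
    let K := LinearMap.ker p
    have hKK := baseChange_injective C R T (K := ↥(LinearMap.ker p)) (F := M →₀ R) (M := M)
      (LinearMap.ker p).subtype p (Submodule.injective_subtype _) (LinearMap.exact_subtype_ker_map p) hp
    haveI := hKK.2
    have hK : DRing.HasTorDimLE R d K := (Groth.Agent.TorAscH7.hasTorDimLE_succ_iff K.subtype
      K.injective_subtype p (LinearMap.exact_subtype_ker_map p) hp d).1 h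
    exact torDim_baseChange_step C R T (K := ↥(LinearMap.ker p)) (F := M →₀ R) (M := M)
      (LinearMap.ker p).subtype p (Submodule.injective_subtype _) (LinearMap.exact_subtype_ker_map p) hp d
      (ih K hK)

set_option maxHeartbeats 1000000 in
/-- The residue field of a point with values in a field has finite tor dimension over the fibre.  The module `M` is
the diagonal `B`; it is kept abstract so that `B ⊗ B` does not act on `B` by instance. -/
theorem torDim_point {A B k : Type u} [CommRing A] [CommRing B] [Algebra A B] [Module.Flat A B]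
    (M : Type u) [AddCommGroup M] [Module (B ⊗[A] B) M] [Module B M] [IsScalarTower B (B ⊗[A] B) M]
    [Module.Flat B M] {d : ℕ} (h : DRing.HasTorDimLE (B ⊗[A] B) d M)
    (one : M) (hgen : ∀ m : M, ∃ b : B, (b ⊗ₜ[A] (1 : B)) • one = m)
    [CommRing k] [Algebra A k] [Algebra B k] [IsScalarTower A B k] [Algebra (k ⊗[A] B) k]
    (hk : ∀ (c : k) (b : B), algebraMap (k ⊗[A] B) k (c ⊗ₜ[A] b) = c * algebraMap B k b)
    (χ₀ : M →+ k) (hχ₁ : χ₀ one = 1)
    (hχ : ∀ (x y : B) (m : M), χ₀ ((x ⊗ₜ[A] y) • m) = algebraMap B k x * algebraMap B k y * χ₀ m) :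
    DRing.HasTorDimLE (k ⊗[A] B) d k := by
  have h' := torDim_baseChange B (B ⊗[A] B) k d M h
  let e : (B ⊗[A] B) ⊗[B] k ≃+* k ⊗[A] B :=
    (Algebra.TensorProduct.comm B (B ⊗[A] B) k).toRingEquiv.trans
      (Algebra.TensorProduct.cancelBaseChange A B B k B).toRingEquiv
  have he : ∀ (x y : B) (c : k), e ((x ⊗ₜ[A] y) ⊗ₜ[B] c) = (x • c) ⊗ₜ[A] y := fun x y c => by
    simp [e]
  letI : Algebra ((B ⊗[A] B) ⊗[B] k) (k ⊗[A] B) := e.toRingHom.toAlgebra
  letI : Module ((B ⊗[A] B) ⊗[B] k) k :=
    Module.compHom k ((algebraMap (k ⊗[A] B) k).comp e.toRingHom)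
  haveI : IsScalarTower ((B ⊗[A] B) ⊗[B] k) (k ⊗[A] B) k :=
    IsScalarTower.of_algebraMap_smul fun r c => Algebra.smul_def (e r) c
  refine torDim_of_bijective (R := (B ⊗[A] B) ⊗[B] k) (S := k ⊗[A] B) e.bijective d k (torDim_congr ?_ h')
  have hs : ∀ (r : (B ⊗[A] B) ⊗[B] k) (c : k), r • c = algebraMap (k ⊗[A] B) k (e r) * c := fun r c => by
    change algebraMap (k ⊗[A] B) k (e r) • c = _
    rw [smul_eq_mul]
  letI : Module (B ⊗[A] B) k := Module.compHom k (algebraMap (B ⊗[A] B) ((B ⊗[A] B) ⊗[B] k))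
  haveI : IsScalarTower (B ⊗[A] B) ((B ⊗[A] B) ⊗[B] k) k := .mk fun r x c => by
    have h1 : r • x = algebraMap (B ⊗[A] B) ((B ⊗[A] B) ⊗[B] k) r * x := by
      induction x using TensorProduct.induction_on with
      | zero => simp
      | add u v hu hv => rw [smul_add, hu, hv, mul_add]
      | tmul u v => simp [TensorProduct.smul_tmul', smul_eq_mul, Algebra.TensorProduct.tmul_mul_tmul]
    rw [h1, mul_smul]
    rfl
  have hsR : ∀ (r : B ⊗[A] B) (c : k), r • c = algebraMap (k ⊗[A] B) k (e (r ⊗ₜ[B] 1)) * c :=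
    fun r c => hs _ c
  let χ : M →ₗ[B ⊗[A] B] k :=
    { toFun := χ₀
      map_add' := map_add _
      map_smul' := fun r m => by
        induction r using TensorProduct.induction_on with
        | zero => simp
        | add u v hu hv => simp only [add_smul, map_add, RingHom.id_apply] at *; rw [hu, hv]
        | tmul x y =>
          rw [RingHom.id_apply, hχ, hsR, he, hk, Algebra.smul_def, mul_one] }
  let φ : ((B ⊗[A] B) ⊗[B] k) ⊗[B ⊗[A] B] M →ₗ[(B ⊗[A] B) ⊗[B] k] k :=
    LinearMap.liftBaseChange ((B ⊗[A] B) ⊗[B] k) χ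
  let ψ : k →+ ((B ⊗[A] B) ⊗[B] k) ⊗[B ⊗[A] B] M :=
    { toFun := fun c => ((1 : B ⊗[A] B) ⊗ₜ[B] c) ⊗ₜ[B ⊗[A] B] one
      map_zero' := by simp
      map_add' := fun a b => by simp [TensorProduct.tmul_add, TensorProduct.add_tmul] }
  have hψ : ∀ z, ψ (φ z) = z := fun z => by
    induction z using TensorProduct.induction_on with
    | zero => simp
    | add u v hu hv => rw [map_add, map_add, hu, hv]
    | tmul r m =>
      induction r using TensorProduct.induction_on with
      | zero => simp
      | add u v hu hv => rw [TensorProduct.add_tmul, map_add, map_add, hu, hv]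
      | tmul r t =>
        induction r using TensorProduct.induction_on with
        | zero => simp
        | add u v hu hv =>
          rw [TensorProduct.add_tmul, TensorProduct.add_tmul, map_add, map_add, hu, hv]
        | tmul x y =>
          have h1 : φ (((x ⊗ₜ[A] y) ⊗ₜ[B] t) ⊗ₜ[B ⊗[A] B] m) =
              (x • t * algebraMap B k y) * χ₀ m := by
            rw [LinearMap.liftBaseChange_tmul, hs, he, hk]
            rfl
          obtain ⟨b, hb⟩ := hgen ((x ⊗ₜ[A] y) • m)
          have hbk : algebraMap B k b = algebraMap B k x * algebraMap B k y * χ₀ m := by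
            have := congrArg χ₀ hb
            rwa [hχ, hχ, hχ₁, map_one, mul_one, mul_one] at this
          have h2 : ((x ⊗ₜ[A] y) ⊗ₜ[B] t) ⊗ₜ[B ⊗[A] B] m =
              ((1 : B ⊗[A] B) ⊗ₜ[B] t) ⊗ₜ[B ⊗[A] B] ((b ⊗ₜ[A] (1 : B)) • one) := by
            rw [hb, ← TensorProduct.smul_tmul, TensorProduct.smul_tmul', smul_eq_mul, mul_one]
          rw [h1, h2, ← TensorProduct.smul_tmul]
          change ((1 : B ⊗[A] B) ⊗ₜ[B] _) ⊗ₜ[B ⊗[A] B] one = _
          congr 1
          rw [TensorProduct.smul_tmul', smul_eq_mul, mul_one,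
            show (b ⊗ₜ[A] (1 : B)) = b • (1 : B ⊗[A] B) by
              rw [Algebra.TensorProduct.one_def, TensorProduct.smul_tmul', smul_eq_mul, mul_one],
            TensorProduct.smul_tmul]
          congr 1
          rw [Algebra.smul_def, Algebra.smul_def, hbk]
          ring
  refine LinearEquiv.ofBijective φ ⟨fun a b hab => by rw [← hψ a, ← hψ b, hab], fun c => ⟨ψ c, ?_⟩⟩
  change φ (((1 : B ⊗[A] B) ⊗ₜ[B] c) ⊗ₜ[B ⊗[A] B] one) = c
  rw [Algebra.TensorProduct.one_def, LinearMap.liftBaseChange_tmul, hs, he, hk]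
  change 1 • c * algebraMap B k 1 * χ₀ one = c
  simp [hχ₁]

open IsLocalRing in
theorem isRegularLocalRing_fibre {A B K : Type u} [CommRing A] [CommRing B] [Algebra A B]
    [Algebra.FiniteType A B] [Module.Flat A B]
    [Algebra (B ⊗[A] B) B] (hmul : ∀ x y : B, algebraMap (B ⊗[A] B) B (x ⊗ₜ[A] y) = x * y)
    {d : ℕ} (h : DRing.HasTorDimLE (B ⊗[A] B) d B) [Field K] [IsAlgClosed K] [Algebra A K]
    (m : Ideal (K ⊗[A] B)) [m.IsMaximal] : IsRegularLocalRing (Localization.AtPrime m) := by
  haveI : Algebra.FiniteType K (K ⊗[A] B) := inferInstance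
  haveI : IsNoetherianRing (K ⊗[A] B) := Algebra.FiniteType.isNoetherianRing K (K ⊗[A] B)
  letI : Field ((K ⊗[A] B) ⧸ m) := Ideal.Quotient.field m
  haveI : Algebra.FiniteType K ((K ⊗[A] B) ⧸ m) :=
    Algebra.FiniteType.of_surjective (Ideal.Quotient.mkₐ K m) Ideal.Quotient.mk_surjective
  haveI : Module.Finite K ((K ⊗[A] B) ⧸ m) := finite_of_finite_type_of_isJacobsonRing K _
  haveI : Algebra.IsIntegral K ((K ⊗[A] B) ⧸ m) := Algebra.IsIntegral.of_finite K _
  have hbij : Function.Bijective (Algebra.ofId K ((K ⊗[A] B) ⧸ m)) :=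
    IsAlgClosed.algebraMap_bijective_of_isIntegral (k := K) (K := (K ⊗[A] B) ⧸ m)
  let g : (K ⊗[A] B) →ₐ[K] K :=
    (AlgEquiv.ofBijective _ hbij).symm.toAlgHom.comp (Ideal.Quotient.mkₐ K m)
  letI : Algebra (K ⊗[A] B) K := g.toRingHom.toAlgebra
  let χ : B →ₐ[A] K := (g.restrictScalars A).comp Algebra.TensorProduct.includeRight
  letI : Algebra B K := χ.toRingHom.toAlgebra
  haveI : IsScalarTower A B K := IsScalarTower.of_algebraMap_eq fun a => (χ.commutes a).symm
  have hk : ∀ (c : K) (b : B), algebraMap (K ⊗[A] B) K (c ⊗ₜ[A] b) = c * algebraMap B K b := fun c b => by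
    change g (c ⊗ₜ[A] b) = c * g (1 ⊗ₜ[A] b)
    rw [← smul_eq_mul c (g _), ← map_smul, TensorProduct.smul_tmul', smul_eq_mul, mul_one]
  haveI : IsScalarTower B (B ⊗[A] B) B := IsScalarTower.of_algebraMap_smul fun b b' => by
    rw [Algebra.TensorProduct.algebraMap_apply, Algebra.smul_def, hmul]
    simp
  have hd := torDim_point B h 1
    (fun b => ⟨b, by rw [Algebra.smul_def, hmul, mul_one, mul_one]⟩) hk (algebraMap B K).toAddMonoidHom
    (algebraMap B K).map_one (fun x y b => by
      change algebraMap B K ((x ⊗ₜ[A] y) • b) = algebraMap B K x * algebraMap B K y * algebraMap B K b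
      rw [Algebra.smul_def, hmul, map_mul, map_mul])
  have hgs : Function.Surjective g := (AlgEquiv.ofBijective _ hbij).symm.surjective.comp Ideal.Quotient.mk_surjective
  haveI : Module.Finite (K ⊗[A] B) K := Module.Finite.of_surjective (Algebra.linearMap (K ⊗[A] B) K) hgs
  have hpd : Groth.Agent.RegLoc.PD (K ⊗[A] B) K d := pd_le_of_torDim d K hd
  let eQ : K ≃ₗ[K ⊗[A] B] (K ⊗[A] B) ⧸ m :=
    (LinearEquiv.ofBijective
      (Submodule.liftQ m (Algebra.linearMap (K ⊗[A] B) K) fun x hx => by
        rw [LinearMap.mem_ker]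
        change (AlgEquiv.ofBijective _ hbij).symm (Ideal.Quotient.mk m x) = 0
        rw [Ideal.Quotient.eq_zero_iff_mem.2 hx, map_zero])
      ⟨fun a b hab => by
        obtain ⟨a, rfl⟩ := Submodule.Quotient.mk_surjective _ a
        obtain ⟨b, rfl⟩ := Submodule.Quotient.mk_surjective _ b
        exact (AlgEquiv.ofBijective _ hbij).symm.injective hab,
      fun c => by
        obtain ⟨x, rfl⟩ := hgs c
        exact ⟨Submodule.Quotient.mk x, rfl⟩⟩).symm
  have hq := Groth.Agent.RegLoc.pd_localizedModule m.primeCompl ((K ⊗[A] B) ⧸ m) (hpd.congr eQ)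
  haveI := IsLocalization.isNoetherianRing m.primeCompl (Localization.AtPrime m) inferInstance
  refine Groth.Agent.RegLoc.isRegularLocalRing_of_pd _ d (hq.congr ?_)
  exact ((LocalizedModule.equivTensorProduct m.primeCompl ((K ⊗[A] B) ⧸ m)).trans
    (Ideal.qoutMapEquivTensorQout (Localization.AtPrime m)).symm).trans
    (Submodule.quotEquivOfEq _ _ Localization.AtPrime.map_eq_maximalIdeal)

theorem smooth_of_diagonal {A B : Type u} [CommRing A] [CommRing B]
    [Algebra A B] [IsNoetherianRing A] [Algebra.FiniteType A B] [Module.Flat A B]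
    [Algebra (B ⊗[A] B) B] (hmul : ∀ x y : B, algebraMap (B ⊗[A] B) B (x ⊗ₜ[A] y) = x * y)
    (h : DRing.HasFiniteTorDim (B ⊗[A] B) B) : Algebra.Smooth A B := by
  obtain ⟨d, hd⟩ := h
  haveI : Algebra.FinitePresentation A B := Algebra.FinitePresentation.of_finiteType.mp ‹_›
  refine Algebra.Smooth.of_formallySmooth_fiber fun p _ => ?_
  let κ := p.ResidueField
  let K := AlgebraicClosure κ
  haveI : Algebra.Smooth K (K ⊗[A] B) := by
    haveI : Algebra.FiniteType K (K ⊗[A] B) := inferInstance
    haveI : IsNoetherianRing (K ⊗[A] B) := Algebra.FiniteType.isNoetherianRing K (K ⊗[A] B)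
    haveI : IsRegularRing (K ⊗[A] B) :=
      Groth.Agent.RegCpl3.isRegularRing_of_maximal fun m _ => isRegularLocalRing_fibre hmul hd (K := K) m
    exact Groth.Agent.SmoothFppf.smooth_of_regular K (K ⊗[A] B) fun q _ =>
      IsRegularRing.isRegularLocalRing_localization q
  haveI : Algebra.Smooth K (K ⊗[κ] (κ ⊗[A] B)) :=
    Algebra.Smooth.of_equiv (Algebra.TensorProduct.cancelBaseChange A κ K K B).symm
  haveI := Algebra.Smooth.of_smooth_tensorProduct_of_faithfullyFlat (R := κ) (S := κ ⊗[A] B) K
  exact Algebra.Smooth.formallySmooth (R := κ) (A := p.Fiber B)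

end Groth.Agent.CI2
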