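import Mathlib

/-!
Nonzerodivisors on flat algebras over Artinian local rings and their reductions.
-/

set_option autoImplicit false
set_option linter.style.haveILetI false
universe u v

open TensorProduct IsLocalRing

namespace Groth.Agent.CI2

variable {A : Type u} [CommRing A] {S : Type v} [CommRing S] [Algebra A S]

/-- The ideal of multipliers of `a` into `J`. -/
abbrev colEl (J : Ideal A) (a : A) : Ideal A := Submodule.comap (LinearMap.mulLeft A a) J

/-- Colon ideals commute with flat extension. -/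
theorem mem_colon_map_of_flat [Module.Flat A S] (J : Ideal A) (a : A) (t : S)
    (h : algebraMap A S a * t ∈ J.map (algebraMap A S)) :
    t ∈ ((colEl J a)).map (algebraMap A S) := by
  let K : Ideal A := (colEl J a)
  let m : A →ₗ[A] A ⧸ J := Submodule.mkQ J ∘ₗ LinearMap.mulLeft A a
  have hex : Function.Exact (Submodule.subtype K) m := LinearMap.exact_iff.2 (by
    rw [Submodule.range_subtype, LinearMap.ker_comp, Submodule.ker_mkQ])
  have h1 := Module.Flat.lTensor_exact (M := S) hex (t ⊗ₜ[A] (1 : A))
  have h0 : m.lTensor S (t ⊗ₜ[A] (1 : A)) = 0 := by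
    rw [LinearMap.lTensor_tmul]
    apply (TensorProduct.tensorQuotEquivQuotSMul S J).injective
    rw [map_zero]
    show TensorProduct.tensorQuotEquivQuotSMul S J (t ⊗ₜ[A] Ideal.Quotient.mk J (a * 1)) = 0
    rw [TensorProduct.tensorQuotEquivQuotSMul_tmul_mk, mul_one, Submodule.Quotient.mk_eq_zero, Ideal.smul_top_eq_map,
      Submodule.restrictScalars_mem, Algebra.smul_def]
    exact h
  obtain ⟨z, hz⟩ := h1.1 h0
  have key : ∀ z : S ⊗[A] K, TensorProduct.rid A S ((Submodule.subtype K).lTensor S z) ∈ K.map (algebraMap A S) := by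
    intro z
    induction z with
    | zero => simp only [map_zero]; exact zero_mem _
    | add x y hx hy => simp only [map_add]; exact add_mem hx hy
    | tmul s k =>
      rw [LinearMap.lTensor_tmul, TensorProduct.rid_tmul, Algebra.smul_def]
      exact Ideal.mul_mem_right _ _ (Ideal.mem_map_of_mem _ k.2)
  have := key z
  rwa [hz, TensorProduct.rid_tmul, one_smul] at this

variable [IsLocalRing A] [IsArtinianRing A]

theorem maximal_nilpotent : IsNilpotent (maximalIdeal A) := by
  have := IsArtinianRing.isNilpotent_jacobson_bot (R := A)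
  rwa [IsLocalRing.jacobson_eq_maximalIdeal ⊥ bot_ne_top] at this

/-- Above every proper ideal other than the maximal one there is a socle element. -/
theorem exists_socle (J : Ideal A) (hJ : J ≠ ⊤) :
    ∃ a : A, a ∉ J ∧ (colEl J a) = maximalIdeal A := by
  obtain ⟨n, hn⟩ := maximal_nilpotent (A := A)
  have hex : ∃ k, maximalIdeal A ^ k ≤ J := ⟨n, by rw [hn]; exact bot_le⟩
  classical
  have hk0 : Nat.find hex ≠ 0 := fun h => hJ (top_unique (by simpa [h] using Nat.find_spec hex))
  obtain ⟨k, hk⟩ := Nat.exists_eq_succ_of_ne_zero hk0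
  obtain ⟨a, ha, haJ⟩ := SetLike.not_le_iff_exists.1 (Nat.find_min hex (show k < Nat.find hex by omega))
  refine ⟨a, haJ, le_antisymm (IsLocalRing.le_maximalIdeal fun h => haJ ?_) fun x hx => ?_⟩
  · have : (1 : A) ∈ (colEl J a) := h ▸ Submodule.mem_top
    simpa using this
  · have h2 : a * x ∈ maximalIdeal A ^ Nat.find hex := by
      rw [hk, pow_succ]; exact Ideal.mul_mem_mul ha hx
    exact Nat.find_spec hex h2

variable [Module.Flat A S]

/-- An element regular modulo the maximal ideal is regular modulo every ideal. -/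
theorem nzd_mod_of_nzd_mod_maximal (f : S)
    (h : ∀ t, f * t ∈ (maximalIdeal A).map (algebraMap A S) → t ∈ (maximalIdeal A).map (algebraMap A S))
    (J : Ideal A) : ∀ t, f * t ∈ J.map (algebraMap A S) → t ∈ J.map (algebraMap A S) := by
  induction J using (inferInstance : WellFoundedGT (Ideal A)).induction with
  | _ J ih =>
    intro t ht
    by_cases hJ : J = ⊤
    · rw [hJ, Ideal.map_top]; trivial
    obtain ⟨a, haJ, ha⟩ := exists_socle J hJ
    have hlt : J < J ⊔ Ideal.span {a} := lt_of_le_of_ne le_sup_left fun e =>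
      haJ (e.symm ▸ Ideal.mem_sup_right (Ideal.mem_span_singleton_self a))
    have h1 := ih _ hlt t (Ideal.map_mono le_sup_left ht)
    rw [Ideal.map_sup, Ideal.map_span, Set.image_singleton, Submodule.mem_sup] at h1
    obtain ⟨j, hj, c, hc, rfl⟩ := h1
    obtain ⟨u, rfl⟩ := Ideal.mem_span_singleton'.1 hc
    have h2 : algebraMap A S a * (f * u) ∈ J.map (algebraMap A S) := by
      have h3 := sub_mem ht (Ideal.mul_mem_left _ f hj)
      rwa [mul_add, add_sub_cancel_left, ← mul_assoc, mul_comm] at h3
    have h4 := mem_colon_map_of_flat J a _ h2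
    rw [ha] at h4
    have h5 := h u h4
    refine add_mem hj ?_
    have h6 : u * algebraMap A S a ∈ ((maximalIdeal A) * Ideal.span {a}).map (algebraMap A S) := by
      rw [Ideal.map_mul]
      exact Ideal.mul_mem_mul h5 (Ideal.mem_map_of_mem _ (Ideal.mem_span_singleton_self a))
    refine Ideal.map_mono ?_ h6
    rw [← ha, Ideal.mul_le]
    intro x hx y hy
    obtain ⟨z, rfl⟩ := Ideal.mem_span_singleton'.1 hy
    rw [show x * (z * a) = z * (a * x) by ring]
    exact J.mul_mem_left z hx

/-- An element regular modulo some proper ideal is regular modulo the maximal ideal. -/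
theorem nzd_mod_maximal_of_nzd_mod (f : S) (J : Ideal A) (hJ : J ≠ ⊤)
    (h : ∀ t, f * t ∈ J.map (algebraMap A S) → t ∈ J.map (algebraMap A S)) :
    ∀ t, f * t ∈ (maximalIdeal A).map (algebraMap A S) → t ∈ (maximalIdeal A).map (algebraMap A S) := by
  obtain ⟨a, -, ha⟩ := exists_socle J hJ
  intro t ht
  rw [← ha] at ht ⊢
  refine mem_colon_map_of_flat J a t (h _ ?_)
  have h2 : algebraMap A S a * (f * t) ∈ (Ideal.span {a} * (colEl J a)).map (algebraMap A S) := by
    rw [Ideal.map_mul]
    exact Ideal.mul_mem_mul (Ideal.mem_map_of_mem _ (Ideal.mem_span_singleton_self a)) ht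
  rw [mul_left_comm]
  refine Ideal.map_mono ?_ h2
  rw [Ideal.mul_le]
  intro x hx y hy
  obtain ⟨z, rfl⟩ := Ideal.mem_span_singleton'.1 hx
  rw [mul_assoc]
  exact J.mul_mem_left z hy

/-- Regularity modulo proper ideals does not depend on the ideal. -/
theorem nzd_mod_iff (f : S) (I J : Ideal A) (hI : I ≠ ⊤) (hJ : J ≠ ⊤) :
    (∀ t, f * t ∈ I.map (algebraMap A S) → t ∈ I.map (algebraMap A S)) ↔
      (∀ t, f * t ∈ J.map (algebraMap A S) → t ∈ J.map (algebraMap A S)) :=
  ⟨fun h => nzd_mod_of_nzd_mod_maximal f (nzd_mod_maximal_of_nzd_mod f I hI h) J,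
    fun h => nzd_mod_of_nzd_mod_maximal f (nzd_mod_maximal_of_nzd_mod f J hJ h) I⟩

/-- The quotient by a regular element is flat. -/
theorem flat_quotient_of_nzd (f : S) (h : ∀ t, f * t = 0 → t = 0) :
    Module.Flat A (S ⧸ Ideal.span {f}) := by
  have hmod : ∀ (J : Ideal A) t, f * t ∈ J.map (algebraMap A S) → t ∈ J.map (algebraMap A S) := fun J => by
    refine nzd_mod_of_nzd_mod_maximal f (nzd_mod_maximal_of_nzd_mod f ⊥ bot_ne_top fun t ht => ?_) J
    rw [Ideal.map_bot, Ideal.mem_bot] at ht ⊢
    exact h t ht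
  refine Module.Flat.iff_lTensor_injective'.2 fun J => ?_
  let q : S →ₗ[A] S ⧸ Ideal.span {f} := (Ideal.Quotient.mkₐ A _).toLinearMap
  have hq : Function.Surjective q := Ideal.Quotient.mk_surjective
  let g : S →ₗ[A] S := LinearMap.mulLeft A f
  have hex : Function.Exact g q := fun y => by
    show Ideal.Quotient.mk _ y = 0 ↔ _
    rw [Ideal.Quotient.eq_zero_iff_mem, Ideal.mem_span_singleton']
    exact ⟨fun ⟨c, hc⟩ => ⟨c, by simp [g, mul_comm f, hc]⟩, fun ⟨c, hc⟩ => ⟨c, by rw [← hc]; simp [g, mul_comm f]⟩⟩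
  rw [injective_iff_map_eq_zero]
  intro z hz
  obtain ⟨u, rfl⟩ := LinearMap.rTensor_surjective J hq z
  have h1 : q.rTensor A (J.subtype.lTensor S u) = 0 := by
    rw [← hz, ← LinearMap.comp_apply, LinearMap.rTensor_comp_lTensor, ← LinearMap.lTensor_comp_rTensor,
      LinearMap.comp_apply]
  obtain ⟨s, hs⟩ := (_root_.rTensor_exact A hex hq _).1 h1
  have hrid : ∀ x, TensorProduct.rid A S (g.rTensor A x) = f * TensorProduct.rid A S x := fun x => by
    induction x with
    | zero => simp only [map_zero, mul_zero]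
    | add a b ha hb => simp only [map_add, mul_add, ha, hb]
    | tmul a b => simp [g]
  have hmem : ∀ w : S ⊗[A] J, TensorProduct.rid A S (J.subtype.lTensor S w) ∈ J.map (algebraMap A S) := fun w => by
    induction w with
    | zero => simp only [map_zero]; exact zero_mem _
    | add a b ha hb => simp only [map_add]; exact add_mem ha hb
    | tmul a b =>
      rw [LinearMap.lTensor_tmul, TensorProduct.rid_tmul, Algebra.smul_def]
      exact Ideal.mul_mem_right _ _ (Ideal.mem_map_of_mem _ b.2)
  have hs2 : TensorProduct.rid A S s ∈ J.map (algebraMap A S) := hmod J _ (by rw [← hrid, hs]; exact hmem u)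
  have hsurj : ∀ x ∈ J.map (algebraMap A S), ∃ w : S ⊗[A] J, TensorProduct.rid A S (J.subtype.lTensor S w) = x := by
    intro x hx
    have hx' : x ∈ (J • ⊤ : Submodule A S) := by rw [Ideal.smul_top_eq_map]; exact hx
    refine Submodule.smul_induction_on hx' (fun r hr n _ => ⟨n ⊗ₜ ⟨r, hr⟩, by simp⟩) ?_
    rintro x y ⟨a, rfl⟩ ⟨b, rfl⟩
    exact ⟨a + b, by simp only [map_add]⟩
  obtain ⟨v, hv⟩ := hsurj _ hs2
  have h3 : J.subtype.lTensor S u = J.subtype.lTensor S (g.rTensor J v) := by
    rw [← LinearMap.comp_apply (J.subtype.lTensor S), LinearMap.lTensor_comp_rTensor, ← LinearMap.rTensor_comp_lTensor,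
      LinearMap.comp_apply]
    apply (TensorProduct.rid A S).injective
    rw [hrid, hv, ← hrid, hs]
  rw [Module.Flat.lTensor_preserves_injective_linearMap J.subtype J.injective_subtype h3, ← LinearMap.comp_apply,
    ← LinearMap.rTensor_comp, hex.linearMap_comp_eq_zero, LinearMap.rTensor_zero, LinearMap.zero_apply]

end Groth.Agent.CI2
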