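/-
Tor dimension of finite modules along a flat local map with regular closed fibre.
-/
import Groth.Agent.S0390
import Groth.Agent.Lib.TorOne17.Basic
import Groth.Agent.Lib.TorAscH7.Basic
import Groth.Agent.Lib.FibDepth5.PDFibre
import Groth.Agent.Lib.RegLoc.GlobalDim
import Groth.Agent.Lib.CI2.TorPoly

universe u

open CategoryTheory CategoryTheory.Limits TensorProduct IsLocalRing

set_option linter.style.haveILetI false

namespace Groth.Agent.CI2

variable {A B : Type u} [CommRing A] [CommRing B] [IsNoetherianRing A] [IsNoetherianRing B]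
  [IsLocalRing A] [IsLocalRing B] [Algebra A B] [IsLocalHom (algebraMap A B)]

/-- Local criterion of flatness through `Tor₁` with the residue field. -/
theorem flat_of_tor_one_residue (M : Type u) [AddCommGroup M] [Module A M] [Module B M] [IsScalarTower A B M]
    [Module.Finite B M] (h : Subsingleton (DRing.Tor A 1 M (A ⧸ maximalIdeal A))) : Module.Flat A M := by
  obtain ⟨e⟩ := Groth.Agent.TorOne17.nonempty_tor_one_equiv M (maximalIdeal A).mkQ (Submodule.mkQ_surjective _)
  haveI := h
  have hinj : Function.Injective ((LinearMap.ker (maximalIdeal A).mkQ).subtype.lTensor M) := by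
    rw [← LinearMap.ker_eq_bot]
    haveI := e.symm.toEquiv.subsingleton
    exact Submodule.eq_bot_of_subsingleton
  refine Groth.Agent.S0390.result (S := B) ((LinearMap.lTensor_inj_iff_rTensor_inj M _).1 ?_)
  rw [Submodule.ker_mkQ] at hinj
  exact hinj

variable [Module.Flat A B]

/-- Vanishing of high Tor with the residue field bounds the tor dimension. -/
theorem torDim_of_residue : ∀ (N : ℕ) (M : Type u) [AddCommGroup M] [Module A M] [Module B M]
    [IsScalarTower A B M] [Module.Finite B M],
    (∀ p, N < p → Subsingleton (DRing.Tor A p M (A ⧸ maximalIdeal A))) → DRing.HasTorDimLE A N M := by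
  intro N
  induction N with
  | zero =>
    intro M _ _ _ _ _ h
    exact (Groth.Agent.TorBal.flat_iff_hasTorDimLE_zero M).2 (flat_of_tor_one_residue (B := B) M (h 1 one_pos))
  | succ N ih =>
    intro M _ _ _ _ _ h
    obtain ⟨k, π, hπ⟩ := Module.Finite.exists_fin' B M
    haveI : Module.Finite B π.ker := Module.Finite.iff_fg.2 (IsNoetherian.noetherian _)
    haveI : Module.Flat A (Fin k → B) := Module.Flat.trans A B (Fin k → B)
    refine (Groth.Agent.TorAscH7.hasTorDimLE_succ_iff (π.ker.subtype.restrictScalars A) π.ker.injective_subtype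
      (π.restrictScalars A) (LinearMap.exact_subtype_ker_map π) hπ N).2 (ih π.ker fun p hp => ?_)
    obtain ⟨m, rfl⟩ : ∃ m, p = m + 1 := ⟨p - 1, by omega⟩
    haveI := h (m + 2) (by omega)
    exact ModuleCat.subsingleton_of_isZero ((Groth.Agent.FlatSyz.isZero_tor_shift (N := ModuleCat.of A _)
      (π.ker.subtype.restrictScalars A) π.ker.injective_subtype (π.restrictScalars A)
      (LinearMap.exact_subtype_ker_map π) hπ m).1 (ModuleCat.isZero_of_subsingleton _))

/-- Finite tor dimension over the base gives finite projective dimension when the fibre is regular. -/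
theorem pd_of_torDim_fibre [IsRegularLocalRing (EGA4.FibRing A B)] :
    ∀ (N : ℕ) (M : Type u) [AddCommGroup M] [Module A M] [Module B M]
    [IsScalarTower A B M] [Module.Finite B M], DRing.HasTorDimLE A N M →
      HasProjectiveDimensionLE (ModuleCat.of B M) (N + (maximalIdeal (EGA4.FibRing A B)).spanFinrank) := by
  intro N
  induction N with
  | zero =>
    intro M _ _ _ _ _ h
    haveI := (Groth.Agent.TorBal.flat_iff_hasTorDimLE_zero M).1 h
    rw [zero_add]
    exact (Groth.Agent.FibDepth5.pd_fibre_iff (A := A) _ M).2
      (Groth.Agent.RegLoc.hasProjectiveDimensionLT_of_regular rfl _)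
  | succ N ih =>
    intro M _ _ _ _ _ h
    obtain ⟨k, π, hπ⟩ := Module.Finite.exists_fin' B M
    haveI : Module.Finite B π.ker := Module.Finite.iff_fg.2 (IsNoetherian.noetherian _)
    haveI : Module.Flat A (Fin k → B) := Module.Flat.trans A B (Fin k → B)
    have hK := (Groth.Agent.TorAscH7.hasTorDimLE_succ_iff (π.ker.subtype.restrictScalars A) π.ker.injective_subtype
      (π.restrictScalars A) (LinearMap.exact_subtype_ker_map π) hπ N).1 h
    rw [Nat.add_right_comm]
    exact (Groth.Agent.FlatSyz.hasProjectiveDimensionLE_succ_iff π.ker.subtype π.ker.injective_subtype π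
      (LinearMap.exact_subtype_ker_map π) hπ _).2 (ih π.ker hK)

end Groth.Agent.CI2

namespace Groth.Agent.CI2

/-- Projective dimension bounds tor dimension. -/
theorem torDim_of_pd {R : Type u} [CommRing R] [IsNoetherianRing R] :
    ∀ (d : ℕ) (M : Type u) [AddCommGroup M] [Module R M] [Module.Finite R M],
      HasProjectiveDimensionLE (ModuleCat.of R M) d → DRing.HasTorDimLE R d M := by
  intro d
  induction d with
  | zero =>
    intro M _ _ _ h
    haveI := Module.finitePresentation_of_finite R M
    exact (Groth.Agent.TorBal.flat_iff_hasTorDimLE_zero M).2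
      (Groth.Agent.FlatSyz.hasProjectiveDimensionLE_zero_iff_flat.1 h)
  | succ d ih =>
    intro M _ _ _ h
    obtain ⟨k, π, hπ⟩ := Module.Finite.exists_fin' R M
    haveI : Module.Finite R π.ker := Module.Finite.iff_fg.2 (IsNoetherian.noetherian _)
    exact (Groth.Agent.TorAscH7.hasTorDimLE_succ_iff π.ker.subtype π.ker.injective_subtype π
      (LinearMap.exact_subtype_ker_map π) hπ d).2
      (ih π.ker ((Groth.Agent.FlatSyz.hasProjectiveDimensionLE_succ_iff π.ker.subtype π.ker.injective_subtype π
        (LinearMap.exact_subtype_ker_map π) hπ d).1 h))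

/-- Finite tor dimension over the base gives finite tor dimension upstairs, for a regular fibre. -/
theorem finiteTorDim_of_regular_fibre {A B : Type u} [CommRing A] [CommRing B] [IsNoetherianRing A]
    [IsNoetherianRing B] [IsLocalRing A] [IsLocalRing B] [Algebra A B] [IsLocalHom (algebraMap A B)]
    [Module.Flat A B] [IsRegularLocalRing (EGA4.FibRing A B)] (M : Type u) [AddCommGroup M] [Module A M]
    [Module B M] [IsScalarTower A B M] [Module.Finite B M]
    (h : Set.Finite {p : ℕ | ¬Subsingleton (DRing.Tor A p M (A ⧸ maximalIdeal A))}) :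
    DRing.HasFiniteTorDim B M := by
  obtain ⟨N, hN⟩ := h.bddAbove
  have hT := torDim_of_residue (B := B) N M fun p hp => by
    by_contra hc
    exact absurd (hN hc) (not_le.2 hp)
  exact ⟨_, torDim_of_pd _ M (pd_of_torDim_fibre N M hT)⟩

end Groth.Agent.CI2
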