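import Groth.Agent.Lib.CI2.Local
import Mathlib

/-!
Ideals generated by regular sequences in Cohen–Macaulay local rings.
-/

set_option autoImplicit false
set_option linter.style.haveILetI false
universe u

open RingTheory.Sequence IsLocalRing

namespace Groth.Agent.CI2

variable {R : Type u} [CommRing R] [IsNoetherianRing R] [IsLocalRing R]

theorem exists_generators (I : Ideal R) : ∃ l : List R, Ideal.ofList l = I ∧ l.length = I.spanFinrank := by
  classical
  obtain ⟨s, hs, hspan⟩ := Submodule.FG.exists_span_set_encard_eq_spanFinrank (IsNoetherian.noetherian I)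
  have hfin : s.Finite := Set.finite_of_encard_eq_coe hs
  refine ⟨hfin.toFinset.toList, ?_, ?_⟩
  · rw [Ideal.ofList]
    simp only [Finset.mem_toList, Set.Finite.mem_toFinset, Set.setOf_mem_eq]
    exact hspan
  · rw [Finset.length_toList]
    rw [hfin.encard_eq_coe_toFinset_card] at hs
    exact_mod_cast hs

theorem spanFinrank_le_length {l : List R} {I : Ideal R} (h : Ideal.ofList l = I) : I.spanFinrank ≤ l.length := by
  classical
  subst h
  refine (Submodule.spanFinrank_span_le_ncard_of_finite l.finite_toSet).trans ?_
  rw [← List.coe_toFinset, Set.ncard_coe_finset]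
  exact l.toFinset_card_le

/-- Nakayama: the conormal module has as many generators as the ideal. -/
theorem spanFinrank_cotangent (I : Ideal R) (hI : I ≠ ⊤) :
    (⊤ : Submodule (R ⧸ I) I.Cotangent).spanFinrank = I.spanFinrank := by
  classical
  refine le_antisymm ?_ ?_
  · obtain ⟨l, hl, hlen⟩ := exists_generators I
    let v : Fin l.length → I.Cotangent := fun i => I.toCotangent ⟨l.get i, hl ▸ Ideal.subset_span (l.get_mem i)⟩
    have hv : Submodule.span (R ⧸ I) (Set.range v) = ⊤ := by
      refine eq_top_iff.mpr fun x _ => ?_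
      obtain ⟨⟨x, hx⟩, rfl⟩ := I.toCotangent_surjective x
      have hx' : x ∈ Submodule.span R (Set.range l.get) := by
        rw [Set.range_list_get]; exact hl.ge hx
      obtain ⟨a, ha⟩ := (Submodule.mem_span_range_iff_exists_fun R).mp hx'
      have e : (⟨x, hx⟩ : I) = ∑ i, a i • (⟨l.get i, hl ▸ Ideal.subset_span (l.get_mem i)⟩ : I) :=
        Subtype.ext (by simp [← ha])
      rw [e, map_sum]
      refine Submodule.sum_mem _ fun i _ => ?_
      rw [map_smul, ← algebraMap_smul (R ⧸ I)]
      exact Submodule.smul_mem _ _ (Submodule.subset_span ⟨i, rfl⟩)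
    rw [← hlen, ← hv]
    refine (Submodule.spanFinrank_span_le_ncard_of_finite (Set.finite_range v)).trans ?_
    rw [← Set.image_univ]
    exact (Set.ncard_image_le Set.finite_univ).trans_eq (by simp)
  · haveI : Module.Finite R I := Module.Finite.of_fg (IsNoetherian.noetherian I)
    haveI : Module.Finite R I.Cotangent := Module.Finite.of_surjective _ I.toCotangent_surjective
    haveI : Module.Finite (R ⧸ I) I.Cotangent := Module.Finite.of_restrictScalars_finite R _ _
    obtain ⟨s, hs, hspan⟩ := Submodule.FG.exists_span_set_encard_eq_spanFinrank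
      (Module.Finite.fg_top (R := R ⧸ I) (M := I.Cotangent))
    have hfin : s.Finite := Set.finite_of_encard_eq_coe hs
    choose g hg using fun x : I.Cotangent => I.toCotangent_surjective x
    let T : Set R := (fun x => (g x : R)) '' s
    have hT : Ideal.span T ≤ I := Ideal.span_le.mpr (by rintro _ ⟨x, -, rfl⟩; exact (g x).2)
    have hle : I ≤ Ideal.span T := by
      refine Submodule.le_of_le_smul_of_le_jacobson_bot (IsNoetherian.noetherian I)
        ((le_maximalIdeal hI).trans (IsLocalRing.maximalIdeal_le_jacobson _)) ?_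
      intro x hx
      have hx' : I.toCotangent ⟨x, hx⟩ ∈ Submodule.span (R ⧸ I) s := hspan ▸ Submodule.mem_top
      have key : ∀ y ∈ Submodule.span (R ⧸ I) s,
          ∃ z : I, (z : R) ∈ Ideal.span T ∧ I.toCotangent z = y := by
        intro y hy
        induction hy using Submodule.span_induction with
        | mem y hy => exact ⟨g y, Ideal.subset_span ⟨y, hy, rfl⟩, hg y⟩
        | zero => exact ⟨0, zero_mem _, map_zero _⟩
        | add a b _ _ ha hb =>
          obtain ⟨za, h1, h2⟩ := ha
          obtain ⟨zb, h3, h4⟩ := hb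
          exact ⟨za + zb, add_mem h1 h3, by rw [map_add, h2, h4]⟩
        | smul r a _ ha =>
          obtain ⟨za, h1, h2⟩ := ha
          obtain ⟨r, rfl⟩ := Ideal.Quotient.mk_surjective r
          exact ⟨r • za, Ideal.mul_mem_left _ r h1, by rw [map_smul, h2]; rfl⟩
      obtain ⟨z, hz, hze⟩ := key _ hx'
      have hd := I.toCotangent_eq.mp hze.symm
      rw [← add_sub_cancel (z : R) x]
      refine add_mem (Submodule.mem_sup_left hz) (Submodule.mem_sup_right ?_)
      rw [smul_eq_mul, ← pow_two]
      exact hd
    refine le_trans (le_of_eq (congrArg Submodule.spanFinrank (le_antisymm hle hT))) (le_trans ((Submodule.spanFinrank_span_le_ncard_of_finite (hfin.image _)).trans (Set.ncard_image_le hfin)) ?_)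
    rw [hfin.encard_eq_coe_toFinset_card] at hs
    rw [Set.ncard_eq_toFinset_card s hfin]
    exact_mod_cast hs.le

/-- In a Cohen–Macaulay local ring an ideal is generated by a regular sequence iff it is generated by
`dim R - dim R/I` elements. -/
theorem isRegularIdeal_iff_spanFinrank [LocCoh.IsCohenMacaulayLocalRing R] (I : Ideal R) (hI : I ≠ ⊤) :
    CInt.IsRegularIdeal I ↔ (I.spanFinrank : WithBot ℕ∞) + ringKrullDim (R ⧸ I) ≤ ringKrullDim R := by
  constructor
  · rintro ⟨rs, hrs, rfl⟩
    rw [← ringKrullDim_add_length_eq_ringKrullDim_of_isRegular rs hrs, add_comm]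
    exact add_le_add le_rfl (by exact_mod_cast spanFinrank_le_length rfl)
  · intro h
    obtain ⟨l, hl, hlen⟩ := exists_generators I
    have hmem : ∀ x ∈ l, x ∈ maximalIdeal R := fun x hx => le_maximalIdeal hI (hl ▸ Ideal.subset_span hx)
    refine ⟨l, DepthLib.isRegular_of_isWeaklyRegular (I := maximalIdeal R) (EmbDef.isWeaklyRegular_of_dim l hmem ?_) hmem
      (by rw [smul_eq_mul, Ideal.mul_top]; exact (maximalIdeal.isMaximal R).ne_top), hl⟩
    rw [hlen, hl]
    refine le_antisymm (by rw [add_comm]; exact h) ?_
    exact ringKrullDim_le_ringKrullDim_quotient_add_spanFinrank I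
      ((le_maximalIdeal hI).trans_eq (IsLocalRing.ringJacobson_eq_maximalIdeal (R := R)).symm)

end Groth.Agent.CI2
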