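/-
The Tate complex of a Koszul differential and a relation, lifted to a ring where the relation does not hold.
-/
import Mathlib.LinearAlgebra.CliffordAlgebra.Contraction
import Mathlib.LinearAlgebra.ExteriorPower.Basis
import Mathlib.Algebra.Category.ModuleCat.Basic

universe u

set_option linter.style.haveILetI false

open Pointwise

namespace Groth.Agent.CI2

/-- Graded projective modules with a lowering and a raising operator anticommuting up to `c`. -/
structure TateData (A : Type u) [CommRing A] where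
  /-- the graded pieces -/
  G : ℕ → ModuleCat.{u} A
  proj : ∀ n, Module.Projective A (G n)
  /-- lowering -/
  δ : ∀ n, G (n + 1) →ₗ[A] G n
  /-- raising -/
  ρ : ∀ n, G n →ₗ[A] G (n + 1)
  c : A
  δδ : ∀ n x, δ n (δ (n + 1) x) = 0
  ρρ : ∀ n x, ρ (n + 1) (ρ n x) = 0
  δρ₀ : ∀ x, δ 0 (ρ 0 x) = c • x
  δρ : ∀ n x, δ (n + 1) (ρ (n + 1) x) + ρ n (δ n x) = c • x

namespace TateData

variable {A : Type u} [CommRing A] (D : TateData A)

/-- The total complex. -/
def TT : ℕ → ModuleCat.{u} A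
  | 0 => D.G 0
  | 1 => D.G 1
  | n + 2 => ModuleCat.of A (D.G (n + 2) × TT n)

theorem proj_TT : ∀ n, Module.Projective A (D.TT n)
  | 0 => D.proj 0
  | 1 => D.proj 1
  | n + 2 => by
    haveI := D.proj (n + 2)
    haveI := proj_TT n
    exact inferInstanceAs (Module.Projective A (D.G (n + 2) × D.TT n))

/-- The top component. -/
def head : ∀ n, D.TT n →ₗ[A] D.G n
  | 0 => LinearMap.id
  | 1 => LinearMap.id
  | n + 2 => LinearMap.fst A (D.G (n + 2)) (D.TT n)

/-- Dropping the top component. -/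
def sh (n : ℕ) : D.TT (n + 2) →ₗ[A] D.TT n := LinearMap.snd A (D.G (n + 2)) (D.TT n)

/-- Inclusion of the lower components. -/
def up (n : ℕ) : D.TT n →ₗ[A] D.TT (n + 2) := LinearMap.inr A (D.G (n + 2)) (D.TT n)

/-- The differential. -/
def dT : ∀ n, D.TT (n + 1) →ₗ[A] D.TT n
  | 0 => D.δ 0
  | 1 => LinearMap.coprod (D.δ 1) (D.ρ 0)
  | n + 2 =>
    LinearMap.prod (LinearMap.coprod (D.δ (n + 2)) ((D.ρ (n + 1)).comp (D.head (n + 1))))
      ((dT n).comp (LinearMap.snd A (D.G (n + 3)) (D.TT (n + 1))))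

theorem head_dT : ∀ (n : ℕ) (x : D.TT (n + 2)),
    D.head (n + 1) (D.dT (n + 1) x) = D.δ (n + 1) (D.head (n + 2) x) + D.ρ n (D.head n (D.sh n x))
  | 0, _ => rfl
  | _ + 1, _ => rfl

theorem base0 (a : D.G 2) (t : D.G 0) : D.δ 0 (D.δ 1 a + D.ρ 0 t) = D.c • t := by
  rw [map_add, D.δδ, zero_add, D.δρ₀]

theorem base1 (a : D.G 3) (t : D.G 1) :
    D.δ 1 (D.δ 2 a + D.ρ 1 t) + D.ρ 0 (D.δ 0 t) = D.c • t := by
  rw [map_add, D.δδ, zero_add (D.δ 1 (D.ρ 1 t))]
  exact D.δρ 0 t

theorem dT_dT : ∀ (n : ℕ) (x : D.TT (n + 2)), D.dT n (D.dT (n + 1) x) = D.c • D.sh n x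
  | 0, (a, t) => D.base0 a t
  | 1, (a, t) => D.base1 a t
  | n + 2, (a, t) => by
    refine Prod.ext ?_ ?_
    · change D.δ (n + 2) (D.δ (n + 3) a + D.ρ (n + 2) (D.head (n + 2) t)) +
        D.ρ (n + 1) (D.head (n + 1) (D.dT (n + 1) t)) = D.c • D.head (n + 2) t
      rw [map_add, D.δδ, zero_add, head_dT, map_add, D.ρρ, add_zero, D.δρ]
    · change D.dT n (D.dT (n + 1) t) = D.c • D.sh n t
      exact dT_dT n t

variable (u : D.G 0) (K : Ideal A)

/-- The divided powers. -/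
def y : ∀ k : ℕ, D.TT (2 * k)
  | 0 => u
  | k + 1 => D.up (2 * k) (y k)

theorem sh_y (k : ℕ) : D.sh (2 * k) (D.y u (k + 1)) = D.y u k := rfl

theorem dT_up_mem (hρ : ∀ n x, D.ρ n x ∈ K • (⊤ : Submodule A (D.G (n + 1)))) :
    ∀ (n : ℕ) (t : D.TT (n + 1)), D.dT n t ∈ K • (⊤ : Submodule A (D.TT n)) →
      D.dT (n + 2) (D.up (n + 1) t) ∈ K • (⊤ : Submodule A (D.TT (n + 2))) := fun n t ht => by
  have h1 : D.ρ (n + 1) (D.head (n + 1) t) ∈ K • (⊤ : Submodule A (D.G (n + 2))) := hρ _ _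
  have heq : D.dT (n + 2) (D.up (n + 1) t) =
      LinearMap.inl A (D.G (n + 2)) (D.TT n) (D.ρ (n + 1) (D.head (n + 1) t)) +
        LinearMap.inr A (D.G (n + 2)) (D.TT n) (D.dT n t) := by
    refine Prod.ext ?_ ?_
    · change D.δ (n + 2) 0 + D.ρ (n + 1) (D.head (n + 1) t) = D.ρ (n + 1) (D.head (n + 1) t) + 0
      rw [map_zero, zero_add, add_zero]
    · change D.dT n t = 0 + D.dT n t
      rw [zero_add]
  rw [heq]
  refine add_mem ?_ ?_
  · exact Submodule.smul_top_le_comap_smul_top K (LinearMap.inl A (D.G (n + 2)) (D.TT n)) h1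
  · exact Submodule.smul_top_le_comap_smul_top K (LinearMap.inr A (D.G (n + 2)) (D.TT n)) ht

theorem dT_y_mem (hρ : ∀ n x, D.ρ n x ∈ K • (⊤ : Submodule A (D.G (n + 1)))) :
    ∀ k : ℕ, D.dT (2 * k + 1) (D.y u (k + 1)) ∈ K • (⊤ : Submodule A (D.TT (2 * k + 1)))
  | 0 => by
    change D.δ 1 0 + D.ρ 0 u ∈ K • (⊤ : Submodule A (D.G 1))
    rw [map_zero, zero_add]
    exact hρ 0 u
  | k + 1 => D.dT_up_mem K hρ (2 * k + 1) (D.y u (k + 1)) (dT_y_mem hρ k)

end TateData

section Exterior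

variable {A : Type u} [CommRing A] {M : Type u} [AddCommGroup M] [Module A M]

theorem ι_mul_mem (r : M) {n : ℕ} {x : ExteriorAlgebra A M} (hx : x ∈ ⋀[A]^n M) :
    ExteriorAlgebra.ι A r * x ∈ ⋀[A]^(n + 1) M := by
  change _ ∈ LinearMap.range (ExteriorAlgebra.ι A (M := M)) ^ (n + 1)
  rw [pow_succ']
  exact Submodule.mul_mem_mul (LinearMap.mem_range_self _ r) hx

theorem contract_zero (φ : Module.Dual A M) {x : ExteriorAlgebra A M} (hx : x ∈ ⋀[A]^0 M) :
    CliffordAlgebra.contractLeft φ x = 0 := by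
  change _ ∈ LinearMap.range (ExteriorAlgebra.ι A (M := M)) ^ 0 at hx
  rw [pow_zero, Submodule.mem_one] at hx
  obtain ⟨a, rfl⟩ := hx
  exact CliffordAlgebra.contractLeft_algebraMap (0 : QuadraticForm A M) φ a

theorem contract_mem (φ : Module.Dual A M) : ∀ (n : ℕ) {x : ExteriorAlgebra A M}, x ∈ ⋀[A]^(n + 1) M →
    CliffordAlgebra.contractLeft φ x ∈ ⋀[A]^n M := by
  intro n
  induction n with
  | zero =>
    intro x hx
    change _ ∈ LinearMap.range (ExteriorAlgebra.ι A (M := M)) ^ (0 + 1) at hx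
    rw [zero_add, pow_one] at hx
    obtain ⟨m, rfl⟩ := hx
    change _ ∈ LinearMap.range (ExteriorAlgebra.ι A (M := M)) ^ 0
    rw [pow_zero, Submodule.mem_one]
    exact ⟨φ m, (CliffordAlgebra.contractLeft_ι (0 : QuadraticForm A M) φ m).symm⟩
  | succ n ih =>
    intro x hx
    change _ ∈ LinearMap.range (ExteriorAlgebra.ι A (M := M)) ^ (n + 1 + 1) at hx
    rw [pow_succ'] at hx
    refine Submodule.mul_induction_on hx ?_ ?_
    · rintro _ ⟨m, rfl⟩ b hb
      change CliffordAlgebra.contractLeft φ (CliffordAlgebra.ι (0 : QuadraticForm A M) m * b) ∈ _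
      rw [CliffordAlgebra.contractLeft_ι_mul]
      exact sub_mem (Submodule.smul_mem _ _ hb) (ι_mul_mem m (ih hb))
    · intro a b ha hb
      rw [map_add]
      exact add_mem ha hb

variable (A M) in
/-- Tate data of a linear form and a vector. -/
noncomputable def tateData [Module.Free A M] (φ : Module.Dual A M) (r : M) : TateData A where
  G n := ModuleCat.of A (⋀[A]^n M)
  proj n := inferInstanceAs (Module.Projective A (⋀[A]^n M))
  δ n := ((CliffordAlgebra.contractLeft φ).comp (⋀[A]^(n + 1) M).subtype).codRestrict (⋀[A]^n M)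
    fun x => contract_mem φ n x.2
  ρ n := ((LinearMap.mulLeft A (ExteriorAlgebra.ι A r)).comp (⋀[A]^n M).subtype).codRestrict (⋀[A]^(n + 1) M)
    fun x => ι_mul_mem r x.2
  c := φ r
  δδ n x := Subtype.ext (CliffordAlgebra.contractLeft_contractLeft (Q := (0 : QuadraticForm A M)) φ _)
  ρρ n x := Subtype.ext (by
    change ExteriorAlgebra.ι A r * (ExteriorAlgebra.ι A r * _) = 0
    rw [← mul_assoc, ExteriorAlgebra.ι_sq_zero, zero_mul])
  δρ₀ x := Subtype.ext (by
    change CliffordAlgebra.contractLeft φ (CliffordAlgebra.ι (0 : QuadraticForm A M) r * (x.1 : ExteriorAlgebra A M)) = φ r • (x.1 : ExteriorAlgebra A M)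
    rw [CliffordAlgebra.contractLeft_ι_mul, contract_zero φ x.2, mul_zero, sub_zero])
  δρ n x := Subtype.ext (by
    change CliffordAlgebra.contractLeft φ (CliffordAlgebra.ι (0 : QuadraticForm A M) r * _) +
      CliffordAlgebra.ι (0 : QuadraticForm A M) r * CliffordAlgebra.contractLeft φ _ = φ r • (x : ExteriorAlgebra A M)
    rw [CliffordAlgebra.contractLeft_ι_mul, sub_add_cancel]
    rfl)

theorem ρ_mem {m : ℕ} (φ : Module.Dual A (Fin m → A)) (r : Fin m → A) (K : Ideal A) (hr : ∀ j, r j ∈ K)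
    (n : ℕ) (x : (tateData A (Fin m → A) φ r).G n) :
    (tateData A (Fin m → A) φ r).ρ n x ∈ K • (⊤ : Submodule A ((tateData A (Fin m → A) φ r).G (n + 1))) := by
  classical
  have h : (tateData A (Fin m → A) φ r).ρ n x =
      ∑ j, r j • (tateData A (Fin m → A) φ (Pi.single j 1)).ρ n x := by
    refine Subtype.ext ?_
    have hr' : r = ∑ j, r j • (Pi.single j (1 : A) : Fin m → A) := by
      conv_lhs => rw [pi_eq_sum_univ' r]
    refine Eq.trans ?_ (AddSubmonoidClass.coe_finsetSum _ _).symm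
    change ExteriorAlgebra.ι A r * _ = ∑ j, r j • (ExteriorAlgebra.ι A (Pi.single j 1) * _)
    conv_lhs => rw [hr', map_sum, Finset.sum_mul]
    refine Finset.sum_congr rfl fun j _ => ?_
    rw [map_smul, smul_mul_assoc]
  rw [h]
  exact Submodule.sum_mem _ fun j _ => Submodule.smul_mem_smul (hr j) Submodule.mem_top

end Exterior

end Groth.Agent.CI2
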