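/-
A relation whose lift acquires `f * g` forces `g` to be nilpotent in case of finite Tor dimension.
-/
import Groth.Agent.Lib.CI2.TateCx
import Groth.Agent.Lib.CI2.TorPoly
import Groth.Agent.Lib.CI2.DiagSmooth
import Mathlib.LinearAlgebra.TensorProduct.Quotient

universe u

open CategoryTheory TensorProduct

set_option linter.style.haveILetI false
set_option linter.deprecated false

namespace Groth.Agent.CI2.TateLift

theorem mem_smul_top_of_flat_quotient {P : Type u} [CommRing P] {F : Type u} [AddCommGroup F] [Module P F]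
    (S : Submodule P F) [Module.Flat P (F ⧸ S)] (K : Ideal P) (y : F) (hy : y ∈ S)
    (h : y ∈ K • (⊤ : Submodule P F)) : y ∈ K • S := by
  have hinj : Function.Injective (S.subtype.lTensor (P ⧸ K)) :=
    LinearMap.lTensor_injective_of_exact_of_flat S.mkQ S.mkQ_surjective S.subtype S.injective_subtype
      (LinearMap.exact_subtype_mkQ S) (P ⧸ K)
  have h0 : (1 : P ⧸ K) ⊗ₜ[P] y = 0 := by
    refine (TensorProduct.quotTensorEquivQuotSMul F K).injective ?_
    rw [map_zero, show (1 : P ⧸ K) = Ideal.Quotient.mk K 1 from rfl,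
      TensorProduct.quotTensorEquivQuotSMul_mk_tmul, one_smul]
    exact (Submodule.Quotient.mk_eq_zero _).2 h
  have h1 : (1 : P ⧸ K) ⊗ₜ[P] (⟨y, hy⟩ : S) = 0 := hinj (by
    rw [map_zero, LinearMap.lTensor_tmul]
    exact h0)
  have h2 := congrArg (TensorProduct.quotTensorEquivQuotSMul S K) h1
  rw [map_zero, show (1 : P ⧸ K) = Ideal.Quotient.mk K 1 from rfl,
    TensorProduct.quotTensorEquivQuotSMul_mk_tmul, one_smul] at h2
  exact (Submodule.mem_smul_top_iff K S ⟨y, hy⟩).1 ((Submodule.Quotient.mk_eq_zero _).1 h2)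

variable {A : Type u} [CommRing A] (f : A) (I : Ideal A)

/-- The multiples of `f`. -/
def fM (M : Type u) [AddCommGroup M] [Module A M] : Submodule A M :=
  LinearMap.range (f • (LinearMap.id : M →ₗ[A] M))

theorem mem_fM {M : Type u} [AddCommGroup M] [Module A M] {x : M} : x ∈ fM f M ↔ ∃ w, f • w = x :=
  Iff.rfl

variable (A) in
/-- A map of free modules. -/
structure Lev : Type (u + 1) where
  /-- source basis -/
  ι : Type u
  /-- target basis -/
  κ : Type u
  /-- the map -/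
  d : (ι →₀ A) →ₗ[A] (κ →₀ A)

/-- Cover the kernel mod `f`. -/
noncomputable abbrev Lev.next (L : Lev A) : Lev A :=
  ⟨{x : L.ι →₀ A // L.d x ∈ fM f (L.κ →₀ A)}, L.ι, Finsupp.linearCombination A Subtype.val⟩

/-- The first step. -/
noncomputable abbrev lev0 : Lev A :=
  ⟨↥I, PUnit.{u + 1}, Finsupp.linearCombination A fun x => Finsupp.single PUnit.unit (x : A)⟩

theorem lev0_mem_range {a : A} (ha : a ∈ I) :
    Finsupp.single PUnit.unit a ∈ LinearMap.range (lev0 I).d :=
  ⟨Finsupp.single (⟨a, ha⟩ : ↥I) 1, (Finsupp.linearCombination_single A _ _).trans (one_smul _ _)⟩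

theorem Lev.next_exact (L : Lev A) {x : L.ι →₀ A} (h : L.d x ∈ fM f (L.κ →₀ A)) :
    x ∈ LinearMap.range (L.next f).d :=
  ⟨Finsupp.single (⟨x, h⟩ : {x : L.ι →₀ A // L.d x ∈ fM f (L.κ →₀ A)}) 1,
    (Finsupp.linearCombination_single A _ _).trans (one_smul _ _)⟩

theorem Lev.dd_mem (L : Lev A) (x : (L.next f).ι →₀ A) : L.d ((L.next f).d x) ∈ fM f (L.κ →₀ A) := by
  have h : LinearMap.range (L.d.comp (L.next f).d) ≤ fM f (L.κ →₀ A) := by
    rw [LinearMap.range_comp, Submodule.map_le_iff_le_comap]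
    refine (Finsupp.range_linearCombination A).trans_le (Submodule.span_le.2 ?_)
    rintro _ ⟨⟨v, hv⟩, rfl⟩
    exact hv
  exact h ⟨x, rfl⟩

/-- A resolution of `A ⧸ I` mod `f`, lifted. -/
noncomputable def lev : ℕ → Lev A
  | 0 => lev0 I
  | n + 1 => (lev n).next f

/-- The free modules. -/
abbrev Fm (n : ℕ) : Type u := (lev f I n).κ →₀ A

/-- The differential. -/
noncomputable def dF (n : ℕ) : Fm f I (n + 1) →ₗ[A] Fm f I n := (lev f I n).d

theorem dF_exact {n : ℕ} {x : Fm f I (n + 1)} (h : dF f I n x ∈ fM f (Fm f I n)) :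
    x ∈ LinearMap.range (dF f I (n + 1)) :=
  (lev f I n).next_exact f h

theorem dd_mem (n : ℕ) (x : Fm f I (n + 1 + 1)) : dF f I n (dF f I (n + 1) x) ∈ fM f (Fm f I n) :=
  (lev f I n).dd_mem f x

theorem exists_θ (n : ℕ) : ∃ θ : Fm f I (n + 1 + 1) →ₗ[A] Fm f I n,
    ∀ x, dF f I n (dF f I (n + 1) x) = f • θ x := by
  choose w hw using fun b => (mem_fM f).1 (dd_mem f I n (Finsupp.single b 1))
  refine ⟨Finsupp.linearCombination A w, fun x => ?_⟩
  induction x using Finsupp.induction_linear with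
  | zero => simp
  | add a b ha hb => rw [map_add, map_add, ha, hb, map_add, smul_add]
  | single b a =>
    have e : Finsupp.single b a = a • Finsupp.single b (1 : A) := by simp
    rw [Finsupp.linearCombination_single, e, map_smul, map_smul, ← hw b, smul_comm]

/-- The lift of `d ∘ d` divided by `f`. -/
noncomputable def θ (n : ℕ) : Fm f I (n + 1 + 1) →ₗ[A] Fm f I n := (exists_θ f I n).choose

theorem θ_spec (n : ℕ) (x : Fm f I (n + 1 + 1)) :
    dF f I n (dF f I (n + 1) x) = f • θ f I n x :=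
  (exists_θ f I n).choose_spec x

theorem exists_lift {G M N : Type u} [AddCommGroup G] [Module A G] [Module.Projective A G]
    [AddCommGroup M] [Module A M] [AddCommGroup N] [Module A N] (d : M →ₗ[A] N) (ψ : G →ₗ[A] N)
    (h : ∀ x, ψ x ∈ LinearMap.range d ⊔ fM f N) :
    ∃ p : (G →ₗ[A] M) × (G →ₗ[A] N), ∀ x, ψ x = d (p.1 x) + f • p.2 x := by
  let c : M × N →ₗ[A] N := LinearMap.coprod d (f • LinearMap.id)
  have hc : ∀ x, ψ x ∈ LinearMap.range c := fun x => by
    rw [LinearMap.range_coprod]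
    exact h x
  obtain ⟨q, hq⟩ := Module.projective_lifting_property c.rangeRestrict (ψ.codRestrict _ hc)
    c.surjective_rangeRestrict
  exact ⟨((LinearMap.fst A M N).comp q, (LinearMap.snd A M N).comp q), fun x =>
    (congrArg Subtype.val (LinearMap.congr_fun hq x)).symm⟩

variable (K : Ideal A)

theorem mem_smul_top_of_coords {κ : Type u} (z : κ →₀ A) (h : ∀ i, z i ∈ K) :
    z ∈ K • (⊤ : Submodule A (κ →₀ A)) := by
  rw [← z.sum_single]
  refine Submodule.sum_mem _ fun i _ => ?_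
  rw [show Finsupp.single i (z i) = z i • Finsupp.single i (1 : A) by simp]
  exact Submodule.smul_mem_smul (h i) Submodule.mem_top

theorem map_smul_top {M N : Type u} [AddCommGroup M] [Module A M] [AddCommGroup N] [Module A N]
    (l : M →ₗ[A] N) {x : M} (h : x ∈ K • (⊤ : Submodule A M)) : l x ∈ K • (⊤ : Submodule A N) :=
  Submodule.smul_top_le_comap_smul_top K l h

/-- Boundaries mod `K`. -/
noncomputable def Bd (n : ℕ) : Submodule A (Fm f I n) :=
  LinearMap.range (dF f I n) ⊔ K • (⊤ : Submodule A (Fm f I n))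

variable {f I K}

theorem θ_Bd (hK : ∀ a, a ∈ K ↔ f * a = 0) (n : ℕ) {x : Fm f I (n + 1 + 1)} (hx : x ∈ Bd f I K (n + 1 + 1)) :
    θ f I n x ∈ Bd f I K n := by
  obtain ⟨_, ⟨v, rfl⟩, w, hw, rfl⟩ := Submodule.mem_sup.1 hx
  rw [map_add]
  refine add_mem ?_ (Submodule.mem_sup_right (map_smul_top K _ hw))
  have h0 : f • (θ f I n (dF f I (n + 1 + 1) v) - dF f I n (θ f I (n + 1) v)) = 0 := by
    rw [smul_sub, ← θ_spec, ← map_smul, ← θ_spec, sub_self]
  have h1 : θ f I n (dF f I (n + 1 + 1) v) - dF f I n (θ f I (n + 1) v) ∈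
      K • (⊤ : Submodule A (Fm f I n)) :=
    mem_smul_top_of_coords K _ fun i => (hK _).2 (by
      simpa only [Finsupp.smul_apply, smul_eq_mul, Finsupp.zero_apply] using DFunLike.congr_fun h0 i)
  have h2 := add_mem (Submodule.mem_sup_left (T := K • (⊤ : Submodule A (Fm f I n)))
    (LinearMap.mem_range_self (dF f I n) (θ f I (n + 1) v))) (Submodule.mem_sup_right h1)
  rwa [add_sub_cancel] at h2

section ModF

variable (f I)


/-- Reduction mod `f`. -/
noncomputable def red (κ : Type u) : (κ →₀ A) →ₗ[A] (κ →₀ (A ⧸ Ideal.span {f})) :=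
  Finsupp.mapRange.linearMap (Algebra.linearMap A (A ⧸ Ideal.span {f}))

theorem red_apply (κ : Type u) (z : κ →₀ A) (i : κ) : red f κ z i = Ideal.Quotient.mk _ (z i) := rfl

theorem red_surjective (κ : Type u) : Function.Surjective (red f κ) :=
  Finsupp.mapRange_surjective _ (map_zero (Algebra.linearMap A (A ⧸ Ideal.span {f}))) Ideal.Quotient.mk_surjective

theorem red_smul (κ : Type u) (a : A) (z : κ →₀ A) :
    red f κ (a • z) = (Ideal.Quotient.mk (Ideal.span {f}) a) • red f κ z := by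
  rw [map_smul, ← algebraMap_smul (A ⧸ Ideal.span {f}) a (red f κ z)]
  rfl

theorem red_eq_zero {κ : Type u} {z : κ →₀ A} : red f κ z = 0 ↔ z ∈ fM f (κ →₀ A) := by
  constructor
  · intro h
    have h' : ∀ i, ∃ w, f * w = z i := fun i => by
      have h2 : z i ∈ Ideal.span {f} := Ideal.Quotient.eq_zero_iff_mem.1 (DFunLike.congr_fun h i)
      obtain ⟨w, hw⟩ := Ideal.mem_span_singleton'.1 h2
      exact ⟨w, by rw [mul_comm, hw]⟩
    choose w hw using h'
    rw [← z.sum_single]
    refine Submodule.sum_mem _ fun i _ => ⟨Finsupp.single i (w i), ?_⟩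
    simp [hw]
  · rintro ⟨w, rfl⟩
    have h0 : Ideal.Quotient.mk (Ideal.span {f}) f = 0 :=
      Ideal.Quotient.eq_zero_iff_mem.2 (Ideal.mem_span_singleton_self f)
    change red f κ (f • w) = 0
    rw [red_smul, h0, zero_smul]

/-- The differential mod `f`. -/
noncomputable def Lev.dbar (L : Lev A) :
    (L.ι →₀ (A ⧸ Ideal.span {f})) →ₗ[A ⧸ Ideal.span {f}] (L.κ →₀ (A ⧸ Ideal.span {f})) :=
  Finsupp.linearCombination (A ⧸ Ideal.span {f}) fun b => red f _ (L.d (Finsupp.single b 1))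

theorem Lev.dbar_red (L : Lev A) (x : L.ι →₀ A) : L.dbar f (red f L.ι x) = red f L.κ (L.d x) := by
  induction x using Finsupp.induction_linear with
  | zero => simp
  | add a b ha hb => rw [map_add, map_add, ha, hb, map_add, map_add]
  | single b a =>
    have e : red f L.ι (Finsupp.single b a) = Finsupp.single b (Ideal.Quotient.mk _ a) :=
      Finsupp.mapRange_single (hf := map_zero (Algebra.linearMap A (A ⧸ Ideal.span {f})))
    rw [e, Lev.dbar, Finsupp.linearCombination_single, ← red_smul, ← map_smul, Finsupp.smul_single_one]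

theorem Lev.dbar_exact (L : Lev A) :
    LinearMap.range ((L.next f).dbar f) = LinearMap.ker (L.dbar f) := by
  refine le_antisymm ?_ ?_
  · rintro _ ⟨y, rfl⟩
    obtain ⟨x, rfl⟩ := red_surjective f _ y
    rw [LinearMap.mem_ker, (L.next f).dbar_red f x, L.dbar_red f]
    exact (red_eq_zero f).2 (L.dd_mem f x)
  · intro y hy
    obtain ⟨x, rfl⟩ := red_surjective f _ y
    rw [LinearMap.mem_ker, L.dbar_red f] at hy
    obtain ⟨v, hv⟩ := L.next_exact f ((red_eq_zero f).1 hy)
    exact ⟨red f _ v, ((L.next f).dbar_red f v).trans (congrArg (red f L.ι) hv)⟩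

/-- The cokernel mod `f`. -/
abbrev Lev.Co (L : Lev A) : Type u := (L.κ →₀ (A ⧸ Ideal.span {f})) ⧸ LinearMap.range (L.dbar f)

/-- The syzygy map. -/
noncomputable def Lev.syz (L : Lev A) :
    (L.next f).Co f →ₗ[A ⧸ Ideal.span {f}] (L.κ →₀ (A ⧸ Ideal.span {f})) :=
  (LinearMap.range ((L.next f).dbar f)).liftQ (L.dbar f) (L.dbar_exact f).le

theorem Lev.syz_injective (L : Lev A) : Function.Injective (L.syz f) :=
  LinearMap.ker_eq_bot.1 (Submodule.ker_liftQ_eq_bot _ _ _ (L.dbar_exact f).ge)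

theorem Lev.syz_exact (L : Lev A) : Function.Exact (L.syz f) (LinearMap.range (L.dbar f)).mkQ := by
  rw [LinearMap.exact_iff, Submodule.ker_mkQ, Lev.syz, Submodule.range_liftQ]

theorem co_zero : Nonempty (((A ⧸ Ideal.span {f}) ⧸ I.map (Ideal.Quotient.mk (Ideal.span {f})))
    ≃ₗ[A ⧸ Ideal.span {f}] (lev0 I).Co f) := by
  let e : (A ⧸ Ideal.span {f}) ≃ₗ[A ⧸ Ideal.span {f}] (PUnit.{u + 1} →₀ (A ⧸ Ideal.span {f})) :=
    (Finsupp.LinearEquiv.finsuppUnique _ _ PUnit.{u + 1}).symm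
  have he : ∀ a, e a = Finsupp.single PUnit.unit a := fun a => by
    refine e.symm.injective ?_
    rw [LinearEquiv.symm_apply_apply]
    exact (Finsupp.single_eq_same).symm
  refine ⟨Submodule.Quotient.equiv (I.map (Ideal.Quotient.mk (Ideal.span {f}))) _ e ?_⟩
  refine Eq.trans ?_ (Finsupp.range_linearCombination (R := A ⧸ Ideal.span {f})
    (v := fun b : (lev0 I).ι => red f _ ((lev0 I).d (Finsupp.single b 1)))).symm
  have hb : ∀ b : ↥I, red f PUnit.{u + 1} ((lev0 I).d (Finsupp.single b 1)) =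
      e (Ideal.Quotient.mk _ (b : A)) := fun b => by
    refine (congrArg (red f PUnit.{u + 1}) ((Finsupp.linearCombination_single A _ _).trans (one_smul _ _))).trans ?_
    rw [he]
    exact Finsupp.mapRange_single (hf := map_zero (Algebra.linearMap A (A ⧸ Ideal.span {f})))
  refine (Submodule.map_span e.toLinearMap
    (Ideal.Quotient.mk (Ideal.span {f}) '' (I : Set A))).trans (congrArg (Submodule.span _) ?_)
  ext y
  constructor
  · rintro ⟨_, ⟨a, ha, rfl⟩, rfl⟩
    exact ⟨⟨a, ha⟩, hb ⟨a, ha⟩⟩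
  · rintro ⟨b, rfl⟩
    exact ⟨_, ⟨(b : A), b.2, rfl⟩, (hb b).symm⟩

theorem torDim_co (D : ℕ)
    (hT : DRing.HasTorDimLE (A ⧸ Ideal.span {f}) D
      ((A ⧸ Ideal.span {f}) ⧸ I.map (Ideal.Quotient.mk (Ideal.span {f})))) :
    ∀ n m, n + m = D → DRing.HasTorDimLE (A ⧸ Ideal.span {f}) m ((lev f I n).Co f) := by
  intro n
  induction n with
  | zero =>
    intro m hm
    obtain rfl : m = D := by omega
    exact torDim_congr (co_zero f I).some hT
  | succ n ih =>
    intro m hm
    exact (Groth.Agent.TorAscH7.hasTorDimLE_succ_iff ((lev f I n).syz f) ((lev f I n).syz_injective f)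
      (LinearMap.range ((lev f I n).dbar f)).mkQ ((lev f I n).syz_exact f) (Submodule.mkQ_surjective _) m).1
      (ih (m + 1) (by omega))

theorem flat_co (D : ℕ)
    (hT : DRing.HasTorDimLE (A ⧸ Ideal.span {f}) D
      ((A ⧸ Ideal.span {f}) ⧸ I.map (Ideal.Quotient.mk (Ideal.span {f})))) :
    ∀ k, Module.Flat (A ⧸ Ideal.span {f}) ((lev f I (D + k)).Co f) := by
  intro k
  induction k with
  | zero =>
    exact (Groth.Agent.TorBal.flat_iff_hasTorDimLE_zero (A := A ⧸ Ideal.span {f}) ((lev f I D).Co f)).1 (torDim_co f I D hT D 0 rfl)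
  | succ k ih =>
    exact Groth.Agent.FlatSyz.flat_of_exact ((lev f I (D + k)).syz f) ((lev f I (D + k)).syz_injective f)
      (LinearMap.range ((lev f I (D + k)).dbar f)).mkQ ((lev f I (D + k)).syz_exact f) (Submodule.mkQ_surjective _)

variable {f}

theorem Lev.mem_sup_of_flat (hfK : f ∈ K) (L : Lev A) [Module.Flat (A ⧸ Ideal.span {f}) (L.Co f)]
    (x : L.ι →₀ A) (hx : L.d x ∈ K • (⊤ : Submodule A (L.κ →₀ A))) :
    x ∈ LinearMap.range (L.next f).d ⊔ K • (⊤ : Submodule A (L.ι →₀ A)) := by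
  let Kb : Ideal (A ⧸ Ideal.span {f}) := K.map (Ideal.Quotient.mk (Ideal.span {f}))
  have hred : ∀ {κ : Type u} (z : κ →₀ A), z ∈ K • (⊤ : Submodule A (κ →₀ A)) →
      red f κ z ∈ Kb • (⊤ : Submodule (A ⧸ Ideal.span {f}) (κ →₀ (A ⧸ Ideal.span {f}))) := fun {κ} z hz => by
    refine Submodule.smul_induction_on hz ?_ fun a b ha hb => by rw [map_add]; exact add_mem ha hb
    intro a ha w _
    rw [red_smul]
    exact Submodule.smul_mem_smul (Ideal.mem_map_of_mem _ ha) Submodule.mem_top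
  have hsup : ∀ {κ : Type u} (w : κ →₀ (A ⧸ Ideal.span {f})),
      w ∈ Kb • (⊤ : Submodule (A ⧸ Ideal.span {f}) (κ →₀ (A ⧸ Ideal.span {f}))) → ∀ i, w i ∈ Kb :=
    fun w hw i => by
      refine Submodule.smul_induction_on hw
        (fun a ha z _ => by simpa using Kb.mul_mem_right (z i) ha) fun a b ha hb => by
          simpa using add_mem ha hb
  have h1 := mem_smul_top_of_flat_quotient (LinearMap.range (L.dbar f)) Kb
    (L.dbar f (red f _ x)) (LinearMap.mem_range_self _ _) (by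
      rw [L.dbar_red]
      exact hred _ hx)
  rw [LinearMap.range_eq_map, ← Submodule.map_smul''] at h1
  obtain ⟨w, hw, hwx⟩ := h1
  have hker : red f _ x - w ∈ LinearMap.range ((L.next f).dbar f) := by
    rw [L.dbar_exact f, LinearMap.mem_ker, map_sub, hwx, sub_self]
  obtain ⟨y, hy⟩ := hker
  obtain ⟨v, rfl⟩ := red_surjective f _ y
  rw [(L.next f).dbar_red f v] at hy
  have h5 : x - (L.next f).d v ∈ K • (⊤ : Submodule A (L.ι →₀ A)) := by
    refine mem_smul_top_of_coords K _ fun i => ?_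
    have h6 : Ideal.Quotient.mk (Ideal.span {f}) ((x - (L.next f).d v) i) ∈ Kb := by
      have h7 := hsup w hw i
      have h8 : red f L.ι (x - (L.next f).d v) = w := by
        rw [map_sub, hy, sub_sub_cancel]
      rw [← h8] at h7
      exact h7
    have h8 := Ideal.mem_comap.2 h6
    rw [Ideal.comap_map_of_surjective' _ Ideal.Quotient.mk_surjective, Ideal.mk_ker,
      sup_eq_left.2 ((Ideal.span_singleton_le_iff_mem K).2 hfK)] at h8
    exact h8
  have h9 := add_mem (Submodule.mem_sup_left (T := K • (⊤ : Submodule A (L.ι →₀ A)))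
    (LinearMap.mem_range_self (L.next f).d v)) (Submodule.mem_sup_right h5)
  rwa [add_sub_cancel] at h9

variable {I}

end ModF

section Phi

variable {T : TateData A} {g : A} (ε : T.G 0 →ₗ[A] A)

variable (f I T) in
/-- The invariant of the comparison map. -/
def Good (n : ℕ) (φ : T.TT n →ₗ[A] Fm f I n) : Prop :=
  ∀ t, φ (T.dT n t) ∈ LinearMap.range (dF f I n) ⊔ fM f (Fm f I n)

theorem good_step (hc : T.c = f * g) {n : ℕ} {φ : T.TT n →ₗ[A] Fm f I n}
    {φ' : T.TT (n + 1) →ₗ[A] Fm f I (n + 1)} {h : T.TT (n + 1) →ₗ[A] Fm f I n}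
    (hφ : ∀ t, φ (T.dT n t) = dF f I n (φ' t) + f • h t) : Good f I T (n + 1) φ' := fun t => by
  refine Submodule.mem_sup_left (dF_exact f I (x := φ' (T.dT (n + 1) t)) ?_)
  refine ⟨g • φ (T.sh n t) - h (T.dT (n + 1) t), ?_⟩
  change f • (g • φ (T.sh n t) - h (T.dT (n + 1) t)) = _
  rw [smul_sub, smul_smul, ← hc]
  exact sub_eq_of_eq_add (((congrArg φ (T.dT_dT n t)).trans (map_smul φ _ _)).symm.trans (hφ (T.dT (n + 1) t)))

variable (hc : T.c = f * g)

theorem exists_step {n : ℕ} (φ : {φ : T.TT n →ₗ[A] Fm f I n // Good f I T n φ}) :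
    ∃ p : (T.TT (n + 1) →ₗ[A] Fm f I (n + 1)) × (T.TT (n + 1) →ₗ[A] Fm f I n),
      ∀ t, φ.1 (T.dT n t) = dF f I n (p.1 t) + f • p.2 t := by
  haveI := T.proj_TT (n + 1)
  exact exists_lift f (dF f I n) (φ.1.comp (T.dT n)) φ.2

variable (hε : ∀ t, ε (T.δ 0 t) ∈ I)

/-- The comparison maps. -/
noncomputable def phi : ∀ n, {φ : T.TT n →ₗ[A] Fm f I n // Good f I T n φ}
  | 0 => ⟨(Finsupp.lsingle PUnit.unit).comp ε, fun t => Submodule.mem_sup_left
      (lev0_mem_range I (hε t))⟩
  | n + 1 => ⟨(exists_step (phi n)).choose.1, good_step hc (exists_step (phi n)).choose_spec⟩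

/-- The homotopies. -/
noncomputable def htp (n : ℕ) : T.TT (n + 1) →ₗ[A] Fm f I n := (exists_step (phi ε hc hε n)).choose.2

theorem phi_spec (n : ℕ) (t : T.TT (n + 1)) :
    (phi ε hc hε n).1 (T.dT n t) = dF f I n ((phi ε hc hε (n + 1)).1 t) + f • htp ε hc hε n t :=
  (exists_step (phi ε hc hε n)).choose_spec t

variable (hff : f * f = 0) (hK : ∀ a, a ∈ K ↔ f * a = 0)
  (hρ : ∀ n x, T.ρ n x ∈ K • (⊤ : Submodule A (T.G (n + 1)))) (u : T.G 0)

include hff hK hρ in
theorem dF_z_mem (j : ℕ) :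
    dF f I (2 * j + 1) ((phi ε hc hε (2 * j + 1 + 1)).1 (T.y u (j + 1))) ∈
      K • (⊤ : Submodule A (Fm f I (2 * j + 1))) := by
  have h := phi_spec ε hc hε (2 * j + 1) (T.y u (j + 1))
  rw [eq_sub_iff_add_eq.2 h.symm]
  exact sub_mem (map_smul_top K _ (T.dT_y_mem u K hρ j))
    (Submodule.smul_mem_smul ((hK f).2 hff) Submodule.mem_top)

include hK hρ in
theorem θ_z_mem (j : ℕ) :
    θ f I (2 * j) ((phi ε hc hε (2 * j + 1 + 1)).1 (T.y u (j + 1))) -
      g • (phi ε hc hε (2 * j)).1 (T.y u j) ∈ Bd f I K (2 * j) := by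
  let w := (phi ε hc hε (2 * j + 1 + 1)).1 (T.y u (j + 1))
  let h2 := htp ε hc hε (2 * j + 1) (T.y u (j + 1))
  let h1 := htp ε hc hε (2 * j) (T.dT (2 * j + 1) (T.y u (j + 1)))
  have e2 := phi_spec ε hc hε (2 * j + 1) (T.y u (j + 1))
  have e1 := phi_spec ε hc hε (2 * j) (T.dT (2 * j + 1) (T.y u (j + 1)))
  rw [e2, map_add, map_smul, θ_spec] at e1
  have e3 : (phi ε hc hε (2 * j)).1 (T.dT (2 * j) (T.dT (2 * j + 1) (T.y u (j + 1)))) =
      f • g • (phi ε hc hε (2 * j)).1 (T.y u j) := by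
    refine (congrArg (phi ε hc hε (2 * j)).1 (T.dT_dT (2 * j) (T.y u (j + 1)))).trans ?_
    refine (map_smul _ _ _).trans ?_
    rw [hc, mul_smul]
    rfl
  rw [e3] at e1
  have h0 : f • (θ f I (2 * j) w - g • (phi ε hc hε (2 * j)).1 (T.y u j) + dF f I (2 * j) h2 + h1) = 0 := by
    rw [smul_add, smul_add, smul_sub, e1]
    abel
  have hk : θ f I (2 * j) w - g • (phi ε hc hε (2 * j)).1 (T.y u j) + dF f I (2 * j) h2 + h1 ∈
      K • (⊤ : Submodule A (Fm f I (2 * j))) :=
    mem_smul_top_of_coords K _ fun i => (hK _).2 (by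
      simpa only [Finsupp.smul_apply, smul_eq_mul, Finsupp.zero_apply] using DFunLike.congr_fun h0 i)
  have hh1 : h1 ∈ K • (⊤ : Submodule A (Fm f I (2 * j))) := map_smul_top K _ (T.dT_y_mem u K hρ j)
  have h3 : θ f I (2 * j) w - g • (phi ε hc hε (2 * j)).1 (T.y u j) + dF f I (2 * j) h2 ∈ Bd f I K (2 * j) := by
    have := Submodule.mem_sup_right (S := LinearMap.range (dF f I (2 * j))) (sub_mem hk hh1)
    rwa [add_sub_cancel_right] at this
  have h4 := sub_mem h3 (Submodule.mem_sup_left (T := K • (⊤ : Submodule A (Fm f I (2 * j))))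
    (LinearMap.mem_range_self (dF f I (2 * j)) h2))
  rwa [add_sub_cancel_right] at h4

include hc hε hff hK hρ in
/-- The main criterion. -/
theorem pow_mem (hu : ε u = 1) (D : ℕ)
    (hT : DRing.HasTorDimLE (A ⧸ Ideal.span {f}) D
      ((A ⧸ Ideal.span {f}) ⧸ I.map (Ideal.Quotient.mk (Ideal.span {f})))) :
    g ^ (D + 1) ∈ I ⊔ K := by
  have key : ∀ i j, j + i = D + 1 → g ^ i • (phi ε hc hε (2 * j)).1 (T.y u j) ∈ Bd f I K (2 * j) := by
    intro i
    induction i with
    | zero =>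
      intro j hj
      obtain rfl : j = D + 1 := hj
      rw [pow_zero, one_smul]
      haveI : Module.Flat (A ⧸ Ideal.span {f}) ((lev f I (2 * D + 1)).Co f) := by
        rw [show 2 * D + 1 = D + (D + 1) by omega]
        exact flat_co f I D hT (D + 1)
      exact (lev f I (2 * D + 1)).mem_sup_of_flat ((hK f).2 hff)
        ((phi ε hc hε (2 * D + 1 + 1)).1 (T.y u (D + 1))) (dF_z_mem ε hc hε hff hK hρ u D)
    | succ i ih =>
      intro j hj
      have h1 : θ f I (2 * j) (g ^ i • (phi ε hc hε (2 * j + 1 + 1)).1 (T.y u (j + 1))) ∈ Bd f I K (2 * j) :=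
        θ_Bd hK _ (ih (j + 1) (by omega))
      have h2 := sub_mem h1 (Submodule.smul_mem _ (g ^ i) (θ_z_mem ε hc hε hK hρ u j))
      rw [map_smul, smul_sub, sub_sub_cancel, smul_smul, ← pow_succ] at h2
      exact h2
  have h0 := key (D + 1) 0 (zero_add _)
  obtain ⟨_, ⟨v, rfl⟩, w, hw, hvw⟩ := Submodule.mem_sup.1 h0
  let l : (PUnit.{u + 1} →₀ A) →ₗ[A] A := Finsupp.lapply PUnit.unit
  have hv : ∀ v : (↥I →₀ A), l (Finsupp.linearCombination A
      (fun x : ↥I => Finsupp.single PUnit.unit (x : A)) v) ∈ I := fun v => by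
    induction v using Finsupp.induction_linear with
    | zero => simp
    | add a b ha hb => rw [map_add, map_add]; exact add_mem ha hb
    | single b a =>
      rw [Finsupp.linearCombination_single, map_smul]
      exact I.mul_mem_left a (by simp [l])
  have hw0 : ∀ w : (PUnit.{u + 1} →₀ A), w ∈ K • (⊤ : Submodule A (PUnit.{u + 1} →₀ A)) → l w ∈ K :=
    fun w hw => by simpa using map_smul_top K l hw
  have hw' : l w ∈ K := hw0 w hw
  have h1 := Submodule.add_mem_sup (hv v) hw'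
  have h2 : g ^ (D + 1) = l (dF f I 0 v) + l w := by
    refine Eq.trans ?_ ((congrArg l hvw).symm.trans (map_add l _ _))
    change g ^ (D + 1) = l (g ^ (D + 1) • Finsupp.single PUnit.unit (ε u))
    simp [l, hu]
  rw [h2]
  exact h1

end Phi

end Groth.Agent.CI2.TateLift
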