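/-
Regular ideals along flat local maps with regular fibre.
-/
import Groth.Agent.Lib.CI2.TorLocal
import Groth.Agent.Lib.PCMor4.Tor
import Groth.Agent.Lib.CIReg6.Quot
import Groth.Agent.Lib.Goren15.FlatLocal
import Groth.Agent.S2200

universe u

open RingTheory.Sequence IsLocalRing
open scoped Pointwise

set_option linter.style.haveILetI false

namespace Groth.Agent.CI2

/-- Quotients by weakly regular sequences raise tor dimension by at most their length. -/
theorem torDim_quotient_of_regular {A B : Type u} [CommRing A] [CommRing B] [Algebra A B] :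
    ∀ (l : List B) (d : ℕ) (M : Type u) [AddCommGroup M] [Module A M] [Module B M] [IsScalarTower A B M],
      IsWeaklyRegular M l → DRing.HasTorDimLE A d M →
        DRing.HasTorDimLE A (d + l.length) (M ⧸ (Ideal.ofList l • ⊤ : Submodule B M)) := by
  intro l
  induction l with
  | nil =>
    intro d M _ _ _ _ _ h
    exact PCMor4.td_equiv ((Submodule.quotEquivOfEqBot (Ideal.ofList ([] : List B) • ⊤ : Submodule B M)
      (by simp)).restrictScalars A).symm h
  | cons x l ih =>
    intro d M _ _ _ _ hreg h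
    rw [isWeaklyRegular_cons_iff] at hreg
    let q : M →ₗ[A] QuotSMulTop x M :=
      LinearMap.restrictScalars A (Submodule.mkQ (x • (⊤ : Submodule B M)))
    let μ : M →ₗ[A] M := (LinearMap.lsmul B M x).restrictScalars A
    have hq : Function.Surjective q := Submodule.mkQ_surjective (x • (⊤ : Submodule B M))
    have hrange : LinearMap.ker q = LinearMap.range μ := by
      ext m
      rw [LinearMap.mem_ker, LinearMap.mem_range]
      refine (Submodule.Quotient.mk_eq_zero _).trans ((Submodule.mem_smul_pointwise_iff_exists _ _ _).trans ?_)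
      exact ⟨fun ⟨m', _, h'⟩ => ⟨m', h'⟩, fun ⟨m', h'⟩ => ⟨m', trivial, h'⟩⟩
    have hK : DRing.HasTorDimLE A d (LinearMap.ker q) :=
      PCMor4.td_equiv ((LinearEquiv.ofInjective μ hreg.1).trans (LinearEquiv.ofEq _ _ hrange.symm)) h
    have h1 := PCMor4.td_quotient q hq hK (PCMor4.td_mono (Nat.le_succ d) h)
    have h2 := ih (d + 1) (QuotSMulTop x M) hreg.2 h1
    rw [List.length_cons, show d + (l.length + 1) = d + 1 + l.length by omega]
    exact PCMor4.td_equiv ((Submodule.quotOfListConsSMulTopEquivQuotSMulTopInner M x l).restrictScalars A).symm h2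

variable {R S : Type u} [CommRing R] [CommRing S] [IsNoetherianRing R] [IsNoetherianRing S]
  [IsLocalRing R] [IsLocalRing S] [Algebra R S] [IsLocalHom (algebraMap R S)] [Module.Flat R S]

omit [IsNoetherianRing S] in
/-- Regular ideals extend along flat local maps. -/
theorem isRegularIdeal_map {I : Ideal R} (h : CInt.IsRegularIdeal I) :
    CInt.IsRegularIdeal (I.map (algebraMap R S)) := by
  haveI := Module.FaithfullyFlat.of_flat_of_isLocalHom (A := R) (B := S)
  obtain ⟨rs, hrs, rfl⟩ := h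
  exact ⟨_, hrs.of_faithfullyFlat (S := S), (Ideal.map_ofList _ _).symm⟩

omit [IsNoetherianRing R] in
/-- Regular ideals descend along flat local maps. -/
theorem isRegularIdeal_descend [IsNoetherianRing R] {I : Ideal R}
    (h : CInt.IsRegularIdeal (I.map (algebraMap R S))) : CInt.IsRegularIdeal I := by
  classical
  haveI := Module.FaithfullyFlat.of_flat_of_isLocalHom (A := R) (B := S)
  have hI : I ≠ ⊤ := fun e => by
    obtain ⟨rs, hrs, hK⟩ := h
    exact CIReg6.ne_top_of_isRegular hrs (hK.trans (by rw [e, Ideal.map_top]))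
  let T := (algebraMap R S) '' (I : Set R)
  obtain ⟨l, hlT, hl, hlen⟩ := CIReg6.exists_extension (I.map (algebraMap R S)) (m := 0) Fin.elim0
    (fun i => i.elim0) (fun a _ i => i.elim0) T (fun x ⟨y, hy, e⟩ => e ▸ Ideal.mem_map_of_mem _ hy)
    (le_sup_of_le_right le_rfl)
  simp only [List.ofFn_zero, List.nil_append] at hl
  choose g hgI hge using hlT
  let l' := l.attach.map fun x => g x.1 x.2
  have hmap : l'.map (algebraMap R S) = l := by
    simp only [l', List.map_map]
    exact Eq.trans (List.map_congr_left fun x _ => hge x.1 x.2) l.attach_map_subtype_val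
  have hle : Ideal.ofList l' = I := by
    have h1 : (Ideal.ofList l').map (algebraMap R S) = I.map (algebraMap R S) := by
      rw [Ideal.map_ofList, hmap, hl]
    rw [← Ideal.comap_map_eq_self_of_faithfullyFlat (B := S) (Ideal.ofList l'), h1,
      Ideal.comap_map_eq_self_of_faithfullyFlat]
  have hreg : IsWeaklyRegular S (l'.map (algebraMap R S)) := by
    rw [hmap]
    exact (CIReg6.isRegular_of_generators h l hl (by omega)).toIsWeaklyRegular
  have hw : IsWeaklyRegular R l' := by
    rw [EmbDef.isWeaklyRegular_self_iff] at hreg ⊢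
    intro i hi a ha
    rw [← Ideal.comap_map_eq_self_of_faithfullyFlat (B := S) (Ideal.ofList (l'.take i)), Ideal.mem_comap,
      Ideal.map_ofList, List.map_take]
    refine hreg i (by simpa using hi) _ ?_
    have h2 := Ideal.mem_map_of_mem (algebraMap R S) ha
    rw [map_mul, Ideal.map_ofList, List.map_take] at h2
    rwa [List.getElem_map]
  exact ⟨l', DepthLib.isRegular_of_isWeaklyRegular (I := maximalIdeal R) hw
    (fun x hx => le_maximalIdeal hI (hle ▸ Ideal.subset_span hx))
    (by rw [smul_eq_mul, Ideal.mul_top]; exact (maximalIdeal.isMaximal R).ne_top), hle⟩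

variable (I : Ideal R) (J : Ideal S) (hIJ : I.map (algebraMap R S) ≤ J)
  [Algebra (R ⧸ I) (S ⧸ J)] [IsScalarTower R (R ⧸ I) (S ⧸ J)]

include hIJ

/-- Regular relative part gives finite tor dimension. -/
theorem finiteTorDim_of_relative
    (hK : CInt.IsRegularIdeal (J.map (Ideal.Quotient.mk (I.map (algebraMap R S))))) :
    DRing.HasFiniteTorDim (R ⧸ I) (S ⧸ J) := by
  obtain ⟨rs, hrs, hrsJ⟩ := hK
  haveI : Module.Flat (R ⧸ I) (S ⧸ I.map (algebraMap R S)) := Goren15.flat_quotient I
  have h := torDim_quotient_of_regular (A := R ⧸ I) rs 0 (S ⧸ I.map (algebraMap R S)) hrs.toIsWeaklyRegular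
    (PCMor4.td_of_flat 0)
  let e1 : ((S ⧸ I.map (algebraMap R S)) ⧸ (Ideal.ofList rs • ⊤ : Submodule (S ⧸ I.map (algebraMap R S)) _)) ≃ₗ[R]
      ((S ⧸ I.map (algebraMap R S)) ⧸ J.map (Ideal.Quotient.mk (I.map (algebraMap R S)))) :=
    (Submodule.quotEquivOfEq _ _ (by rw [smul_eq_mul, Ideal.mul_top, hrsJ])).restrictScalars R
  let e2 : ((S ⧸ I.map (algebraMap R S)) ⧸ J.map (Ideal.Quotient.mkₐ R (I.map (algebraMap R S)))) ≃ₐ[R] S ⧸ J :=
    DoubleQuot.quotQuotEquivQuotOfLEₐ R hIJ
  exact ⟨_, PCMor4.td_equiv ((e1.trans e2.toLinearEquiv).extendScalarsOfSurjective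
    Ideal.Quotient.mk_surjective) h⟩

/-- A regular ideal with finitely many nonzero Tor against the residue field splits. -/
theorem relative_of_regular [IsRegularLocalRing (S ⧸ (maximalIdeal R).map (algebraMap R S))]
    (hI : I ≠ ⊤) (hJ : J ≠ ⊤) (hJr : CInt.IsRegularIdeal J)
    (hfin : Set.Finite {p : ℕ | ¬Subsingleton (DRing.Tor (R ⧸ I) p (S ⧸ J)
        ((R ⧸ I) ⧸ (maximalIdeal R).map (Ideal.Quotient.mk I)))}) :
    CInt.IsRegularIdeal I ∧ CInt.IsRegularIdeal (J.map (Ideal.Quotient.mk (I.map (algebraMap R S)))) := by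
  haveI : Module.Flat (R ⧸ I) (S ⧸ I.map (algebraMap R S)) := Goren15.flat_quotient I
  have hIS : I.map (algebraMap R S) ≠ ⊤ := ne_top_of_le_ne_top hJ hIJ
  haveI := RegLoc.isLocalRing_quotient hI
  haveI := RegLoc.isLocalRing_quotient hIS
  haveI : IsLocalHom (algebraMap (R ⧸ I) (S ⧸ I.map (algebraMap R S))) := ⟨fun x hx => by
    obtain ⟨x, rfl⟩ := Ideal.Quotient.mk_surjective x
    refine IsUnit.map _ ((isUnit_map_iff (algebraMap R S) x).1 ?_)
    haveI : IsLocalHom (Ideal.Quotient.mk (I.map (algebraMap R S))) := Ideal.Quotient.mk_surjective.isLocalHom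
    exact IsUnit.of_map (Ideal.Quotient.mk (I.map (algebraMap R S))) _ hx⟩
  have hmax : maximalIdeal (R ⧸ I) = (maximalIdeal R).map (Ideal.Quotient.mk I) := RegLoc.maximalIdeal_quotient
  haveI : IsRegularLocalRing (EGA4.FibRing (R ⧸ I) (S ⧸ I.map (algebraMap R S))) := by
    refine IsRegularLocalRing.of_ringEquiv (R := S ⧸ (maximalIdeal R).map (algebraMap R S)) ?_
    refine ((DoubleQuot.quotQuotEquivQuotOfLE (I := I.map (algebraMap R S))
      (J := (maximalIdeal R).map (algebraMap R S)) (Ideal.map_mono (le_maximalIdeal hI))).symm).trans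
      (Ideal.quotEquivOfEq ?_)
    rw [EGA4.mB, hmax, Ideal.map_map, Ideal.map_map]
    rfl
  letI : Algebra (S ⧸ I.map (algebraMap R S)) (S ⧸ J) := (Ideal.Quotient.factor hIJ).toAlgebra
  haveI : IsScalarTower S (S ⧸ I.map (algebraMap R S)) (S ⧸ J) := IsScalarTower.of_algebraMap_eq fun _ => rfl
  haveI : IsScalarTower (R ⧸ I) (S ⧸ I.map (algebraMap R S)) (S ⧸ J) := IsScalarTower.of_algebraMap_eq fun x => by
    obtain ⟨x, rfl⟩ := Ideal.Quotient.mk_surjective x
    exact (IsScalarTower.algebraMap_apply R (R ⧸ I) (S ⧸ J) x).symm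
  haveI : Module.Finite (S ⧸ I.map (algebraMap R S)) (S ⧸ J) :=
    Module.Finite.of_surjective (Algebra.linearMap (S ⧸ I.map (algebraMap R S)) (S ⧸ J))
      (Ideal.Quotient.factor_surjective hIJ)
  rw [← hmax] at hfin
  have hfd := finiteTorDim_of_regular_fibre (A := R ⧸ I) (B := S ⧸ I.map (algebraMap R S)) (S ⧸ J) hfin
  obtain ⟨rs, hrs, hrsJ⟩ := hJr
  obtain ⟨⟨l₁, hl₁, hl₁r⟩, l₂, hl₂, hl₂r⟩ :=
    Groth.Agent.S2200.result (I.map (algebraMap R S)) J hIJ hJ hfd ⟨rs, hrsJ, hrs⟩
  exact ⟨isRegularIdeal_descend ⟨l₁, hl₁r, hl₁⟩, ⟨l₂, hl₂r, hl₂⟩⟩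

end Groth.Agent.CI2
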