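import Groth.Agent.Lib.CI2.Regular
import Groth.Agent.Lib.Cohen.Structure
import Groth.Agent.Lib.Compl.Dim
import Groth.Agent.Lib.FlatDepth.CplQuot
import Mathlib

/-!
`Pi1.IsCompleteIntersection`: independence of the presentation of a complete local ring, and the
criterion for quotients of regular local rings.
-/

set_option autoImplicit false
set_option linter.style.haveILetI false
universe u

open RingTheory.Sequence IsLocalRing MvPowerSeries

namespace Groth.Agent.CI2

theorem exists_coeff {D k : Type u} [CommRing D] [Field k] (F : Cohen.Filt D) (π : D →+* k)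
    (hπ : Function.Surjective π) (hI : F.I 1 = RingHom.ker π) :
    ∃ (Λ : Type u) (_ : CommRing Λ) (_ : IsRegularLocalRing Λ) (f : Λ →+* D),
      Function.Surjective (π.comp f) := by
  obtain ⟨q, hq⟩ := CharP.exists k
  rcases CharP.char_is_prime_or_zero k q with hp | hp
  · haveI : Fact q.Prime := ⟨hp⟩
    obtain ⟨Λ, i1, i2, f, ⟨i3, i4, -⟩, -, -, hs⟩ := Cohen.exists_cohen_map (p := q) F π hπ hI
    exact ⟨Λ, i1, inferInstance, f, hs⟩
  · subst hp
    haveI : CharZero k := CharP.charP_to_charZero _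
    obtain ⟨g, hg⟩ := Cohen.exists_lift_charZero F π hπ hI
    exact ⟨k, inferInstance, inferInstance, g, fun x => ⟨x, hg x⟩⟩

theorem map_maximalIdeal_le {A B : Type u} [CommRing A] [IsLocalRing A] [CommRing B] [IsLocalRing B]
    (p : A →+* B) (hp : Function.Surjective p) : ∀ n, (maximalIdeal A ^ n).map p ≤ maximalIdeal B ^ n := fun n => by
  haveI : IsLocalHom p := hp.isLocalHom
  rw [Ideal.map_pow]
  exact Ideal.pow_right_mono (show (maximalIdeal A).map p ≤ maximalIdeal B from Ideal.map_le_iff_le_comap.mpr fun a ha => map_nonunit p a ha) n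

/-- Two surjections from complete local rings onto a local ring are dominated by a regular local ring. -/
theorem exists_dominate {A R B : Type u} [CommRing A] [IsLocalRing A] [IsNoetherianRing A]
    [CommRing R] [IsLocalRing R] [IsNoetherianRing R] [IsAdicComplete (maximalIdeal R) R]
    [CommRing B] [IsLocalRing B] [IsNoetherianRing B] [IsAdicComplete (maximalIdeal B) B]
    (p₁ : R →+* A) (h₁ : Function.Surjective p₁) (p₂ : B →+* A) (h₂ : Function.Surjective p₂) :
    ∃ (P : Type u) (_ : CommRing P) (_ : IsRegularLocalRing P) (l₁ : P →+* R) (l₂ : P →+* B),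
      Function.Surjective l₁ ∧ Function.Surjective l₂ ∧ p₁.comp l₁ = p₂.comp l₂ := by
  classical
  haveI : IsLocalHom p₁ := h₁.isLocalHom
  haveI : IsLocalHom p₂ := h₂.isLocalHom
  let D : Subring (R × B) := RingHom.eqLocus (p₁.comp (RingHom.fst R B)) (p₂.comp (RingHom.snd R B))
  let G := (Cohen.Filt.ofAdic (maximalIdeal R)).prod (Cohen.Filt.ofAdic (maximalIdeal B))
  let H := G.restrict D fun x hx => by
    refine sub_eq_zero.mp (Cohen.eq_zero_of_mem_pow (maximalIdeal A) (maximalIdeal.isMaximal _).ne_top _ fun n => ?_)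
    obtain ⟨y, hy, h1, h2⟩ := hx n
    have hy' : p₁ y.1 = p₂ y.2 := hy
    show p₁ x.1 - p₂ x.2 ∈ _
    rw [show p₁ x.1 - p₂ x.2 = p₁ (x.1 - y.1) - p₂ (x.2 - y.2) by rw [map_sub, map_sub, hy']; ring]
    exact sub_mem (map_maximalIdeal_le p₁ h₁ n (Ideal.mem_map_of_mem _ h1))
      (map_maximalIdeal_le p₂ h₂ n (Ideal.mem_map_of_mem _ h2))
  let π : D →+* ResidueField A := (residue A).comp (p₁.comp ((RingHom.fst R B).comp D.subtype))
  have hπ : Function.Surjective π := fun c => by
    obtain ⟨a, rfl⟩ := residue_surjective c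
    obtain ⟨r, rfl⟩ := h₁ a
    obtain ⟨b, hb⟩ := h₂ (p₁ r)
    exact ⟨⟨(r, b), hb.symm⟩, rfl⟩
  have hker : H.I 1 = RingHom.ker π := by
    ext x
    refine ⟨fun h => (residue_eq_zero_iff _).mpr
      (map_nonunit p₁ _ (by simpa using (show x.1.1 ∈ maximalIdeal R ^ 1 from h.1))), fun h => ?_⟩
    have h0 : p₁ x.1.1 ∈ maximalIdeal A := (residue_eq_zero_iff _).mp h
    have e : p₁ x.1.1 = p₂ x.1.2 := x.2
    refine ⟨show x.1.1 ∈ maximalIdeal R ^ 1 from ?_, show x.1.2 ∈ maximalIdeal B ^ 1 from ?_⟩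
    · rw [pow_one]; exact fun hu => h0 (hu.map p₁)
    · rw [pow_one]; rw [e] at h0; exact fun hu => h0 (hu.map p₂)
  obtain ⟨Λ, _, _, f, hf⟩ := exists_coeff H π hπ hker
  let gR : Λ →+* R := ((RingHom.fst R B).comp D.subtype).comp f
  let gB : Λ →+* B := ((RingHom.snd R B).comp D.subtype).comp f
  letI : Algebra Λ R := gR.toAlgebra
  letI : Algebra Λ B := gB.toAlgebra
  letI : Algebra Λ A := (p₁.comp gR).toAlgebra
  obtain ⟨m, a, ha⟩ := Submodule.fg_iff_exists_fin_generating_family.mp (IsNoetherian.noetherian (maximalIdeal R))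
  obtain ⟨n, b, hb⟩ := Submodule.fg_iff_exists_fin_generating_family.mp (IsNoetherian.noetherian (maximalIdeal B))
  have ham : ∀ i, a i ∈ maximalIdeal R := fun i => ha ▸ Submodule.subset_span ⟨i, rfl⟩
  have hbm : ∀ i, b i ∈ maximalIdeal B := fun i => hb ▸ Submodule.subset_span ⟨i, rfl⟩
  choose sa hsa using fun i => h₂ (p₁ (a i))
  choose sb hsb using fun i => h₁ (p₂ (b i))
  let z : Fin (m + n) → R := Fin.append a sb
  let w : Fin (m + n) → B := Fin.append sa b
  have hzw : ∀ i, p₁ (z i) = p₂ (w i) := fun i => by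
    refine Fin.addCases (fun i => ?_) (fun i => ?_) i
    · simp [z, w, hsa]
    · simp [z, w, hsb]
  have hz : ∀ i, z i ∈ maximalIdeal R := fun i => by
    refine Fin.addCases (fun i => ?_) (fun i => ?_) i
    · simpa [z] using ham i
    · have h : p₁ (sb i) ∈ maximalIdeal A := by rw [hsb]; exact map_nonunit p₂ _ (hbm i)
      simpa [z] using fun hu : IsUnit (sb i) => h (hu.map p₁)
  have hw : ∀ i, w i ∈ maximalIdeal B := fun i hu => by
    have h : p₁ (z i) ∈ maximalIdeal A := map_nonunit p₁ _ (hz i)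
    rw [hzw] at h
    exact h (hu.map p₂)
  obtain ⟨ψR, hψR⟩ := H2Alg.PSHom.exists_algHom (A := Λ) (maximalIdeal R) z hz
  obtain ⟨ψB, hψB⟩ := H2Alg.PSHom.exists_algHom (A := Λ) (maximalIdeal B) w hw
  have hVR : (H2Alg.PSHom.V (m + n) Λ).map ψR = maximalIdeal R := by
    rw [H2Alg.PSHom.V, Ideal.map_span, ← Set.range_comp, show (ψR ∘ fun i => X i) = z from funext hψR]
    refine le_antisymm (Ideal.span_le.mpr (by rintro _ ⟨i, rfl⟩; exact hz i)) ?_
    rw [← ha]
    exact Submodule.span_mono (by rintro _ ⟨i, rfl⟩; exact ⟨Fin.castAdd n i, Fin.append_left _ _ i⟩)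
  have hVB : (H2Alg.PSHom.V (m + n) Λ).map ψB = maximalIdeal B := by
    rw [H2Alg.PSHom.V, Ideal.map_span, ← Set.range_comp, show (ψB ∘ fun i => X i) = w from funext hψB]
    refine le_antisymm (Ideal.span_le.mpr (by rintro _ ⟨i, rfl⟩; exact hw i)) ?_
    rw [← hb]
    exact Submodule.span_mono (by rintro _ ⟨i, rfl⟩; exact ⟨Fin.natAdd m i, Fin.append_right _ _ i⟩)
  have hgen : ∀ lam : Λ, p₁ (gR lam) = p₂ (gB lam) := fun lam => (f lam).2
  have hsR : Function.Surjective ψR := H2Alg.PSHom.surjective ψR (maximalIdeal R) hVR fun t => by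
    obtain ⟨lam, hlam⟩ := hf (residue A (p₁ t))
    refine ⟨lam, fun hu => ?_⟩
    have h : p₁ (t - gR lam) ∈ maximalIdeal A := by
      rw [← residue_eq_zero_iff, map_sub, map_sub, sub_eq_zero]; exact hlam.symm
    exact h (hu.map p₁)
  have hsB : Function.Surjective ψB := H2Alg.PSHom.surjective ψB (maximalIdeal B) hVB fun t => by
    obtain ⟨lam, hlam⟩ := hf (residue A (p₂ t))
    refine ⟨lam, fun hu => ?_⟩
    have h : p₂ (t - gB lam) ∈ maximalIdeal A := by
      rw [← residue_eq_zero_iff, map_sub, map_sub, ← hgen, sub_eq_zero]; exact hlam.symm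
    exact h (hu.map p₂)
  let φ₁ : MvPowerSeries (Fin (m + n)) Λ →ₐ[Λ] A :=
    { toRingHom := p₁.comp ψR.toRingHom
      commutes' := fun lam => congrArg p₁ (ψR.commutes lam) }
  let φ₂ : MvPowerSeries (Fin (m + n)) Λ →ₐ[Λ] A :=
    { toRingHom := p₂.comp ψB.toRingHom
      commutes' := fun lam => (congrArg p₂ (ψB.commutes lam)).trans (hgen lam).symm }
  have hφ : φ₁ = φ₂ := H2Alg.PSHom.algHom_ext (maximalIdeal A)
    (fun i => show p₁ (ψR (X i)) ∈ _ by rw [hψR]; exact map_nonunit p₁ _ (hz i))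
    (fun i => show p₁ (ψR (X i)) = p₂ (ψB (X i)) by rw [hψR, hψB, hzw])
  exact ⟨_, inferInstance, Cohen.isRegularLocalRing_mvPowerSeries Λ (m + n), ψR.toRingHom, ψB.toRingHom,
    hsR, hsB, RingHom.ext fun x => DFunLike.congr_fun hφ x⟩

theorem isRegularIdeal_comp_iff' {L R S : Type u} [CommRing L] [IsRegularLocalRing L]
    [CommRing R] [IsRegularLocalRing R] [CommRing S] [Nontrivial S]
    (l : L →+* R) (hl : Function.Surjective l) (π : R →+* S) :
    CInt.IsRegularIdeal (RingHom.ker (π.comp l)) ↔ CInt.IsRegularIdeal (RingHom.ker π) := by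
  let J := RingHom.ker l
  let K := RingHom.ker (π.comp l)
  let e : (L ⧸ J) ≃+* R := RingHom.quotientKerEquivOfSurjective (f := l) hl
  haveI : IsRegularLocalRing (L ⧸ J) := IsRegularLocalRing.of_ringEquiv e.symm
  have hK : K = (RingHom.ker π).comap l := rfl
  have hJK : J ≤ K := hK ▸ Ideal.comap_mono bot_le
  have hKm : K ≤ maximalIdeal L := le_maximalIdeal (RingHom.ker_ne_top _)
  have hmap : (K.map (Ideal.Quotient.mk J)).map (e : _ →+* R) = RingHom.ker π := by
    rw [Ideal.map_map, hK]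
    exact Ideal.map_comap_of_surjective l hl _
  rw [CIReg6.isRegularIdeal_iff_quotient hJK hKm, ← hmap]
  refine ⟨fun h => isRegularIdeal_map_equiv e h, fun h => ?_⟩
  have h' := isRegularIdeal_map_equiv e.symm h
  rwa [Ideal.map_map, RingEquiv.symm_comp, Ideal.map_id] at h'

theorem isRegularIdeal_ker_transfer_complete {A R B : Type u} [CommRing A] [IsLocalRing A] [IsNoetherianRing A]
    [CommRing R] [IsRegularLocalRing R] [IsAdicComplete (maximalIdeal R) R]
    [CommRing B] [IsRegularLocalRing B] [IsAdicComplete (maximalIdeal B) B]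
    (p₁ : R →+* A) (h₁ : Function.Surjective p₁) (p₂ : B →+* A) (h₂ : Function.Surjective p₂) :
    CInt.IsRegularIdeal (RingHom.ker p₁) ↔ CInt.IsRegularIdeal (RingHom.ker p₂) := by
  obtain ⟨P, _, _, l₁, l₂, hl₁, hl₂, he⟩ := exists_dominate p₁ h₁ p₂ h₂
  rw [← isRegularIdeal_comp_iff' l₁ hl₁ p₁, he, isRegularIdeal_comp_iff' l₂ hl₂ p₂]

variable {R : Type u} [CommRing R] [IsRegularLocalRing R]

/-- A regular-sequence ideal is detected in the completion. -/
theorem isRegularIdeal_completion_iff (I : Ideal R) (hI : I ≠ ⊤) :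
    CInt.IsRegularIdeal I ↔ CInt.IsRegularIdeal (I.map (algebraMap R (EGA4.Cpl R))) := by
  classical
  haveI : IsRegularLocalRing (EGA4.Cpl R) := (Compl.isRegularLocalRing_adicCompletion_iff R).mp ‹_›
  haveI := CplLocH7.faithfullyFlat_cpl R
  have hIt : I.map (algebraMap R (EGA4.Cpl R)) ≠ ⊤ := fun h => hI (by
    rw [← Ideal.comap_map_eq_self_of_faithfullyFlat (B := EGA4.Cpl R) I, h, Ideal.comap_top])
  constructor
  · rintro ⟨rs, hrs, rfl⟩
    rw [Ideal.map_ofList] at hIt ⊢
    refine ⟨_, DepthLib.isRegular_of_isWeaklyRegular (I := maximalIdeal _) (IsWeaklyRegular.of_flat hrs.toIsWeaklyRegular)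
      (fun x hx => le_maximalIdeal hIt (Ideal.subset_span hx))
      (by rw [smul_eq_mul, Ideal.mul_top]; exact (maximalIdeal.isMaximal _).ne_top), rfl⟩
  · intro h
    let T := (algebraMap R (EGA4.Cpl R)) '' (I : Set R)
    obtain ⟨l, hlT, hl, hlen⟩ := CIReg6.exists_extension (I.map (algebraMap R (EGA4.Cpl R))) (m := 0) Fin.elim0
      (fun i => i.elim0) (fun a _ i => i.elim0) T (fun x ⟨y, hy, e⟩ => e ▸ Ideal.mem_map_of_mem _ hy)
      (le_sup_of_le_right le_rfl)
    simp only [List.ofFn_zero, List.nil_append] at hl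
    choose g hgI hge using hlT
    let l' := l.attach.map fun x => g x.1 x.2
    have hmap : l'.map (algebraMap R (EGA4.Cpl R)) = l := by
      simp only [l', List.map_map]
      refine Eq.trans (List.map_congr_left fun x _ => ?_) l.attach_map_subtype_val
      exact hge x.1 x.2
    have hle : Ideal.ofList l' = I := by
      have h1 : (Ideal.ofList l').map (algebraMap R (EGA4.Cpl R)) = I.map (algebraMap R (EGA4.Cpl R)) := by
        rw [Ideal.map_ofList, hmap, hl]
      rw [← Ideal.comap_map_eq_self_of_faithfullyFlat (B := EGA4.Cpl R) (Ideal.ofList l'), h1,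
        Ideal.comap_map_eq_self_of_faithfullyFlat]
    have hreg : IsRegular (EGA4.Cpl R) (l'.map (algebraMap R (EGA4.Cpl R))) := by
      rw [hmap]
      exact CIReg6.isRegular_of_generators h l hl (by omega)
    haveI : LocCoh.IsCohenMacaulayLocalRing R := DepthLib.isCohenMacaulayLocalRing_of_isRegularLocalRing
    rw [isRegularIdeal_iff_spanFinrank I hI]
    have h2 := ringKrullDim_add_length_eq_ringKrullDim_of_isRegular _ hreg
    rw [hmap, hl, Compl.ringKrullDim_maximalIdeal_adicCompletion R] at h2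
    haveI : Nontrivial (R ⧸ I) := Ideal.Quotient.nontrivial_iff.mpr hI
    haveI : IsLocalRing (R ⧸ I) := RegLoc.isLocalRing_quotient hI
    rw [show ringKrullDim (EGA4.Cpl R ⧸ I.map (algebraMap R (EGA4.Cpl R))) = ringKrullDim (R ⧸ I) from by
      rw [← Compl.ringKrullDim_maximalIdeal_adicCompletion (R ⧸ I)]
      have hk := FlatDepth.ker_cplQuotHom R (R ⧸ I) Ideal.Quotient.mk_surjective
      rw [Ideal.Quotient.algebraMap_eq, Ideal.mk_ker] at hk
      exact ringKrullDim_eq_of_ringEquiv ((Ideal.quotEquivOfEq hk.symm).trans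
        (RingHom.quotientKerEquivOfSurjective (FlatDepth.cplQuotHom_surjective R (R ⧸ I) Ideal.Quotient.mk_surjective)))] at h2
    rw [← h2, add_comm]
    refine add_le_add le_rfl ?_
    rw [show l.length = l'.length by rw [← hmap, List.length_map]]
    exact_mod_cast spanFinrank_le_length hle

theorem isAdicComplete_of_ringEquiv {X Y : Type u} [CommRing X] [IsLocalRing X] [CommRing Y] [IsLocalRing Y]
    (e : X ≃+* Y) [IsAdicComplete (maximalIdeal X) X] : IsAdicComplete (maximalIdeal Y) Y := by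
  have h : (maximalIdeal X).map e = maximalIdeal Y := map_ringEquiv_maximalIdeal e
  rw [← h]
  exact (IsAdicComplete.congr_ringEquiv _ e).mpr inferInstance

theorem regular_of_equiv {P C Q Y : Type u} [CommRing P] [IsRegularLocalRing P] [IsAdicComplete (maximalIdeal P) P]
    [CommRing C] [IsLocalRing C] [IsNoetherianRing C] [IsAdicComplete (maximalIdeal C) C]
    [CommRing Q] [IsRegularLocalRing Q] [IsAdicComplete (maximalIdeal Q) Q]
    [CommRing Y] [IsLocalRing Y]
    (q : P →+* C) (hq : Function.Surjective q) (q' : Q →+* AdicCompletion (maximalIdeal Y) Y)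
    (hq' : Function.Surjective q') (h : CInt.IsRegularIdeal (RingHom.ker q')) (e : C ≃+* Y) :
    CInt.IsRegularIdeal (RingHom.ker q) := by
  haveI : IsAdicComplete (maximalIdeal Y) Y := isAdicComplete_of_ringEquiv e
  let a : AdicCompletion (maximalIdeal Y) Y ≃+* Y := (AdicCompletion.ofAlgEquiv (maximalIdeal Y)).toRingEquiv.symm
  let t : AdicCompletion (maximalIdeal Y) Y ≃+* C := a.trans e.symm
  rw [isRegularIdeal_ker_transfer_complete q hq ((t : _ →+* C).comp q') (t.surjective.comp hq')]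
  rwa [show RingHom.ker ((t : _ →+* C).comp q') = RingHom.ker q' from
    Ideal.ext fun x => map_eq_zero_iff t t.injective]

/-- `R/I` is a complete intersection iff `I` is generated by a regular sequence. -/
theorem isCompleteIntersection_quotient_iff (I : Ideal R) (hI : I ≠ ⊤) [IsLocalRing (R ⧸ I)] :
    Pi1.IsCompleteIntersection (R ⧸ I) ↔ CInt.IsRegularIdeal I := by
  haveI : IsRegularLocalRing (EGA4.Cpl R) := (Compl.isRegularLocalRing_adicCompletion_iff R).mp ‹_›
  haveI : IsAdicComplete (maximalIdeal (EGA4.Cpl R)) (EGA4.Cpl R) := inferInstance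
  let q := FlatDepth.cplQuotHom R (R ⧸ I) Ideal.Quotient.mk_surjective
  have hq : Function.Surjective q := FlatDepth.cplQuotHom_surjective R (R ⧸ I) Ideal.Quotient.mk_surjective
  have hqk : RingHom.ker q = I.map (algebraMap R (EGA4.Cpl R)) := by
    rw [FlatDepth.ker_cplQuotHom, Ideal.Quotient.algebraMap_eq, Ideal.mk_ker]
  rw [isRegularIdeal_completion_iff I hI, ← hqk]
  constructor
  · rintro ⟨B, _, _, rs, hmem, hreg, ⟨e⟩⟩
    have hne : Ideal.ofList rs ≠ ⊤ := CIReg6.ne_top_of_isRegular hreg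
    haveI : IsLocalRing (B ⧸ Ideal.ofList rs) := RegLoc.isLocalRing_quotient hne
    haveI : IsRegularLocalRing (EGA4.Cpl B) := (Compl.isRegularLocalRing_adicCompletion_iff B).mp ‹_›
    let q' := FlatDepth.cplQuotHom B (B ⧸ Ideal.ofList rs) Ideal.Quotient.mk_surjective
    have hq' : Function.Surjective q' := FlatDepth.cplQuotHom_surjective B (B ⧸ Ideal.ofList rs) Ideal.Quotient.mk_surjective
    have hregB : CInt.IsRegularIdeal (RingHom.ker q') := by
      rw [FlatDepth.ker_cplQuotHom, Ideal.Quotient.algebraMap_eq, Ideal.mk_ker]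
      exact (isRegularIdeal_completion_iff _ hne).mp ⟨rs, hreg, rfl⟩
    let e' : EGA4.Cpl (R ⧸ I) ≃+* (B ⧸ Ideal.ofList rs) := e
    exact regular_of_equiv q hq q' hq' hregB e
  · rintro ⟨rs, hreg, hrs⟩
    refine ⟨EGA4.Cpl R, inferInstance, inferInstance, rs, fun r hr => le_maximalIdeal (RingHom.ker_ne_top q)
      (hrs ▸ Ideal.subset_span hr), hreg, ⟨?_⟩⟩
    exact ((Ideal.quotEquivOfEq hrs).trans (RingHom.quotientKerEquivOfSurjective hq)).symm

end Groth.Agent.CI2
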