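/-
Cohen factorizations of local homomorphisms of complete Noetherian local rings.
-/
import Groth.Agent.Lib.Cohen.LiftLocal
import Groth.Agent.Lib.Cohen.Structure
import Groth.Agent.Lib.ArtFun.PS
import Groth.Agent.Lib.RegFlat3.Basic
import Groth.Agent.S0390
import Groth.Agent.Lib.CI2.Regular

universe u

open IsLocalRing MvPowerSeries RingTheory.Sequence

set_option linter.style.haveILetI false

namespace Groth.Agent.CI2

/-- A coefficient ring which is a Cohen ring in the sense of EGA, with its map. -/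
theorem exists_cohen_coeff (A : Type u) [CommRing A] [IsLocalRing A] [IsAdicComplete (maximalIdeal A) A] :
    ∃ (Λ : Type u) (_ : CommRing Λ) (_ : IsLocalRing Λ) (f : Λ →+* A),
      ((CharZero (ResidueField A) ∧ IsField Λ) ∨ (¬ CharZero (ResidueField A) ∧ CAlg.IsCohenRing Λ)) ∧
      EGA41.IsCohenRingEGA Λ ∧ IsLocalHom f ∧ Function.Surjective ((residue A).comp f) := by
  have hI : (Cohen.Filt.ofAdic (maximalIdeal A)).I 1 = RingHom.ker (residue A) := by
    rw [ker_residue]
    exact pow_one _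
  obtain ⟨q, hq⟩ := CharP.exists (ResidueField A)
  rcases CharP.char_is_prime_or_zero (ResidueField A) q with hp | hp
  · haveI : Fact q.Prime := ⟨hp⟩
    obtain ⟨Λ, i1, i2, f, hΛ, -, hk, hs⟩ := Cohen.exists_cohen_map (p := q) _ (residue A) residue_surjective hI
    refine ⟨Λ, i1, i2, f, Or.inr ⟨fun h => ?_, hΛ⟩, Or.inr hΛ, ⟨fun x hx => ?_⟩, hs⟩
    · haveI := h
      exact hp.ne_zero (CharP.eq (ResidueField A) hq (CharP.ofCharZero _))
    · by_contra hc
      have h1 : x ∈ maximalIdeal Λ := hc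
      rw [← hk, RingHom.mem_ker, RingHom.comp_apply, residue_eq_zero_iff] at h1
      exact h1 hx
  · subst hp
    haveI : CharZero (ResidueField A) := CharP.charP_to_charZero _
    obtain ⟨g, hg⟩ := Cohen.exists_lift_charZero _ (residue A) residue_surjective hI
    exact ⟨ResidueField A, inferInstance, inferInstance, g, Or.inl ⟨inferInstance, Field.toIsField _⟩,
      Or.inl ⟨Field.toIsField _, inferInstance⟩, ⟨fun x hx => isUnit_iff_ne_zero.2 fun h0 => by
        rw [h0, map_zero] at hx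
        exact not_isUnit_zero hx⟩, fun x => ⟨x, hg x⟩⟩

/-- The natural numbers generating the maximal ideal of a Cohen ring. -/
theorem exists_nat_gens {Λ : Type u} [CommRing Λ] [IsLocalRing Λ] (hΛ : EGA41.IsCohenRingEGA Λ) :
    ∃ qs : List ℕ, maximalIdeal Λ = Ideal.ofList (qs.map fun q : ℕ => (q : Λ)) ∧
      IsRegularLocalRing Λ ∧ ringKrullDim Λ = qs.length ∧
      (qs = [] ∧ (∀ m : ℕ, m.Prime → IsUnit (m : Λ)) ∨ ∃ q : ℕ, q.Prime ∧ qs = [q]) := by
  rcases hΛ with ⟨hF, h0⟩ | ⟨hdom, hdvr, hcpl, q, hq, hmax⟩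
  · letI := hF.toField
    refine ⟨[], ?_, inferInstance, by simp [ringKrullDim_eq_zero_of_field], Or.inl ⟨rfl, fun m hm =>
      isUnit_iff_ne_zero.2 (Nat.cast_ne_zero.2 hm.ne_zero)⟩⟩
    rw [List.map_nil, Ideal.ofList_nil]
    exact isField_iff_maximalIdeal_eq.1 hF
  · refine ⟨[q], ?_, inferInstance, ?_, Or.inr ⟨q, hq, rfl⟩⟩
    · rw [hmax, List.map_cons, List.map_nil, Ideal.ofList_singleton]
    · simp [IsPrincipalIdealRing.ringKrullDim_eq_one Λ (IsDiscreteValuationRing.not_isField Λ)]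

/-- The gens of two Cohen rings with a local map to a common local ring agree. -/
theorem nat_gens_eq {Λ Λ' T : Type u} [CommRing Λ] [IsLocalRing Λ] [CommRing Λ'] [IsLocalRing Λ'] [CommRing T]
    [IsLocalRing T] (a : Λ →+* T) (b : Λ' →+* T) [IsLocalHom a] [IsLocalHom b] {qs qs' : List ℕ}
    (h : qs = [] ∧ (∀ m : ℕ, m.Prime → IsUnit (m : Λ)) ∨ ∃ q : ℕ, q.Prime ∧ qs = [q])
    (h' : qs' = [] ∧ (∀ m : ℕ, m.Prime → IsUnit (m : Λ')) ∨ ∃ q : ℕ, q.Prime ∧ qs' = [q])
    (hm : maximalIdeal Λ = Ideal.ofList (qs.map fun q : ℕ => (q : Λ)))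
    (hm' : maximalIdeal Λ' = Ideal.ofList (qs'.map fun q : ℕ => (q : Λ'))) : qs = qs' := by
  have key : ∀ {L : Type u} [CommRing L] [IsLocalRing L] (c : L →+* T) [IsLocalHom c] (q : ℕ),
      (q : L) ∈ maximalIdeal L ↔ (q : T) ∈ maximalIdeal T := fun c _ q => by
    rw [mem_maximalIdeal, mem_maximalIdeal, mem_nonunits_iff, mem_nonunits_iff, ← map_natCast c, isUnit_map_iff]
  rcases h with ⟨rfl, hu⟩ | ⟨q, hq, rfl⟩ <;> rcases h' with ⟨rfl, hu'⟩ | ⟨q', hq', rfl⟩
  · rfl
  · have h1 : (q' : Λ') ∈ maximalIdeal Λ' := hm'.ge (Ideal.subset_span (by simp))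
    exact absurd (hu q' hq') ((key a q').2 ((key b q').1 h1))
  · have h1 : (q : Λ) ∈ maximalIdeal Λ := hm.ge (Ideal.subset_span (by simp))
    exact absurd (hu' q hq) ((key b q).2 ((key a q).1 h1))
  · have h1 : (q : T) ∈ maximalIdeal T := (key a q).1 (hm.ge (Ideal.subset_span (by simp)))
    have h2 : (q' : T) ∈ maximalIdeal T := (key b q').1 (hm'.ge (Ideal.subset_span (by simp)))
    by_contra hne
    have hc : Nat.Coprime q q' := (Nat.coprime_primes hq hq').2 fun e => hne (by rw [e])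
    obtain ⟨x, y, hxy⟩ := Nat.isCoprime_iff_coprime.2 hc
    refine (maximalIdeal.isMaximal T).ne_top ((Ideal.eq_top_iff_one _).2 ?_)
    have h3 := congrArg (fun z : ℤ => (z : T)) hxy
    push_cast at h3
    rw [← h3]
    exact add_mem (Ideal.mul_mem_left _ _ h1) (Ideal.mul_mem_left _ _ h2)

/-- A map of regular local rings sending generators of the maximal ideal to part of a system of parameters. -/
theorem flat_of_rsop {R S : Type u} [CommRing R] [IsRegularLocalRing R] [CommRing S] [IsRegularLocalRing S]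
    [Algebra R S] [IsLocalHom (algebraMap R S)] (rs : List R) (hrs : Ideal.ofList rs = maximalIdeal R) (e : ℕ)
    [IsLocalRing (S ⧸ Ideal.ofList (rs.map (algebraMap R S)))]
    (hgen : (maximalIdeal (S ⧸ Ideal.ofList (rs.map (algebraMap R S)))).spanFinrank ≤ e)
    (hdim : (rs.length + e : ℕ) ≤ ringKrullDim S) :
    Module.Flat R S ∧ IsRegularLocalRing (S ⧸ (maximalIdeal R).map (algebraMap R S)) := by
  let I := Ideal.ofList (rs.map (algebraMap R S))
  have hmem : ∀ x ∈ rs.map (algebraMap R S), x ∈ maximalIdeal S := fun x hx => by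
    obtain ⟨y, hy, rfl⟩ := List.mem_map.1 hx
    exact map_nonunit (algebraMap R S) y (hrs.le (Ideal.subset_span hy))
  have hIle : I ≤ maximalIdeal S := Ideal.span_le.2 hmem
  have h1 : ringKrullDim S ≤ ringKrullDim (S ⧸ I) + (rs.length : ℕ) :=
    (ringKrullDim_le_ringKrullDim_quotient_add_spanFinrank I
      (hIle.trans_eq (IsLocalRing.ringJacobson_eq_maximalIdeal (R := S)).symm)).trans
        (add_le_add le_rfl (by exact_mod_cast ((spanFinrank_le_length rfl).trans (List.length_map _).le)))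
  have h2 : ringKrullDim (S ⧸ I) ≤ (e : ℕ) :=
    (ringKrullDim_le_spanFinrank_maximalIdeal _).trans (by exact_mod_cast hgen)
  have h3 : ringKrullDim S = (rs.length + e : ℕ) := by
    refine le_antisymm (h1.trans ?_) hdim
    rw [Nat.cast_add, add_comm ((rs.length : ℕ) : WithBot ℕ∞)]
    exact add_le_add h2 le_rfl
  have h4 : ringKrullDim (S ⧸ I) = (e : ℕ) := by
    refine le_antisymm h2 ?_
    rw [h3, Nat.cast_add, add_comm] at h1
    exact ENat.WithBot.add_le_add_natCast_right_iff.1 h1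
  haveI hreg : IsRegularLocalRing (S ⧸ I) := by
    refine IsRegularLocalRing.of_spanFinrank_maximalIdeal_le _ ?_
    rw [h4]; exact_mod_cast hgen
  haveI : LocCoh.IsCohenMacaulayLocalRing S := DepthLib.isCohenMacaulayLocalRing_of_isRegularLocalRing
  have hw : IsWeaklyRegular S (rs.map (algebraMap R S)) := EmbDef.isWeaklyRegular_of_dim _ hmem (by
    rw [h4, h3, List.length_map, Nat.cast_add, add_comm])
  have hwR : IsWeaklyRegular S rs := (isWeaklyRegular_map_algebraMap_iff S S rs).1 hw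
  have hinj := RegFlat3.lTensor_subtype_injective (A := R) S rs hwR
  rw [hrs] at hinj
  refine ⟨Groth.Agent.S0390.result (S := S) ((LinearMap.lTensor_inj_iff_rTensor_inj S _).1 hinj), ?_⟩
  rw [← hrs, Ideal.map_ofList]
  exact hreg

/-- Cohen factorization of a local homomorphism. -/
theorem exists_cohen_factorization (A B : Type u) [CommRing A] [CommRing B] [IsLocalRing A] [IsLocalRing B]
    [IsNoetherianRing A] [IsNoetherianRing B] [IsAdicComplete (maximalIdeal A) A]
    [IsAdicComplete (maximalIdeal B) B] (φ : A →+* B) [IsLocalHom φ] :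
    ∃ (Λ Λ' : Type u) (_ : CommRing Λ) (_ : CommRing Λ') (_ : IsLocalRing Λ) (_ : IsLocalRing Λ') (n m : ℕ)
      (ρ : MvPowerSeries (Fin n) Λ →+* A) (σ : MvPowerSeries (Fin m) Λ' →+* B)
      (τ : MvPowerSeries (Fin n) Λ →+* MvPowerSeries (Fin m) Λ'),
      ((CharZero (ResidueField A) ∧ IsField Λ ∧ IsField Λ') ∨
        (¬ CharZero (ResidueField A) ∧ CAlg.IsCohenRing Λ ∧ CAlg.IsCohenRing Λ')) ∧
      EGA41.IsCohenRingEGA Λ ∧ EGA41.IsCohenRingEGA Λ' ∧
      Function.Surjective ρ ∧ Function.Surjective σ ∧ σ.comp τ = φ.comp ρ ∧ IsLocalHom τ ∧ τ.Flat ∧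
      IsRegularLocalRing (MvPowerSeries (Fin m) Λ' ⧸
        (maximalIdeal (MvPowerSeries (Fin n) Λ)).map τ) := by
  classical
  obtain ⟨Λ, iΛ, iΛl, f, hΛc, hΛ, hf, hfs⟩ := exists_cohen_coeff A
  obtain ⟨Λ', iΛ', iΛl', f', hΛc', hΛ', hf', hfs'⟩ := exists_cohen_coeff B
  obtain ⟨qs, hqs, hregΛ, hdimΛ, hq⟩ := exists_nat_gens hΛ
  obtain ⟨qs', hqs', hregΛ', hdimΛ', hq'⟩ := exists_nat_gens hΛ'
  haveI := hf
  haveI := hf'
  obtain rfl : qs = qs' := nat_gens_eq (φ.comp f) f' hq hq' hqs hqs'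
  haveI := Cohen.isAdicComplete_cohen hΛ'
  haveI := hregΛ
  haveI := hregΛ'
  obtain ⟨n, z, hz⟩ := Submodule.fg_iff_exists_fin_generating_family.mp (IsNoetherian.noetherian (maximalIdeal A))
  obtain ⟨m, b, hb⟩ := Submodule.fg_iff_exists_fin_generating_family.mp (IsNoetherian.noetherian (maximalIdeal B))
  have hzm : ∀ i, z i ∈ maximalIdeal A := fun i => hz ▸ Submodule.subset_span ⟨i, rfl⟩
  have hbm : ∀ i, b i ∈ maximalIdeal B := fun i => hb ▸ Submodule.subset_span ⟨i, rfl⟩
  letI : Algebra Λ A := f.toAlgebra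
  letI : Algebra Λ' B := f'.toAlgebra
  let w : Fin (n + m) → B := Fin.append (fun i => φ (z i)) b
  have hw : ∀ i, w i ∈ maximalIdeal B := fun i => by
    refine Fin.addCases (fun i => ?_) (fun i => ?_) i
    · simpa [w] using map_nonunit φ _ (hzm i)
    · simpa [w] using hbm i
  obtain ⟨ψA, hψA⟩ := H2Alg.PSHom.exists_algHom (A := Λ) (maximalIdeal A) z hzm
  obtain ⟨ψB, hψB⟩ := H2Alg.PSHom.exists_algHom (A := Λ') (maximalIdeal B) w hw
  have hsA : Function.Surjective ψA := by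
    refine H2Alg.PSHom.surjective ψA (maximalIdeal A) ?_ fun t => ?_
    · rw [H2Alg.PSHom.V, Ideal.map_span, ← Set.range_comp, show (ψA ∘ fun i => X i) = z from funext hψA]
      exact hz
    · obtain ⟨lam, hlam⟩ := hfs (residue A t)
      refine ⟨lam, ?_⟩
      rw [← residue_eq_zero_iff, map_sub, sub_eq_zero]
      exact hlam.symm
  have hsB : Function.Surjective ψB := by
    refine H2Alg.PSHom.surjective ψB (maximalIdeal B) ?_ fun t => ?_
    · rw [H2Alg.PSHom.V, Ideal.map_span, ← Set.range_comp, show (ψB ∘ fun i => X i) = w from funext hψB]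
      refine le_antisymm (Ideal.span_le.mpr (by rintro _ ⟨i, rfl⟩; exact hw i)) ?_
      rw [← hb]
      exact Submodule.span_mono (by rintro _ ⟨i, rfl⟩; exact ⟨Fin.natAdd n i, Fin.append_right _ _ i⟩)
    · obtain ⟨lam, hlam⟩ := hfs' (residue B t)
      refine ⟨lam, ?_⟩
      rw [← residue_eq_zero_iff, map_sub, sub_eq_zero]
      exact hlam.symm
  haveI : IsAdicComplete (maximalIdeal (MvPowerSeries (Fin (n + m)) Λ')) (MvPowerSeries (Fin (n + m)) Λ') :=
    ArtFunLib.isAdicComplete_mvPowerSeries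
  -- lift the coefficient ring
  let σ : MvPowerSeries (Fin (n + m)) Λ' →+* B := ψB.toRingHom
  let eB := RingHom.quotientKerEquivOfSurjective (f := σ) hsB
  let u : Λ →+* MvPowerSeries (Fin (n + m)) Λ' ⧸ RingHom.ker σ := eB.symm.toRingHom.comp (φ.comp f)
  haveI : IsLocalHom u := ⟨fun x hx => by
    have h : IsUnit (eB (u x)) := hx.map eB
    rw [show eB (u x) = φ (f x) from eB.apply_symm_apply _] at h
    exact (isUnit_map_iff f x).1 ((isUnit_map_iff φ _).1 h)⟩
  obtain ⟨v, hv, hvu⟩ := Cohen.exists_lift_quotient hΛ (RingHom.ker σ) (RingHom.ker_ne_top σ) u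
  haveI := hv
  have hσv : ∀ lam, σ (v lam) = φ (f lam) := fun lam => by
    have h := congrArg eB (RingHom.congr_fun hvu lam)
    exact h.trans (eB.apply_symm_apply _)
  letI : Algebra Λ (MvPowerSeries (Fin (n + m)) Λ') := v.toAlgebra
  have hX : ∀ i, (X i : MvPowerSeries (Fin (n + m)) Λ') ∈ maximalIdeal (MvPowerSeries (Fin (n + m)) Λ') := fun i =>
    (Cohen.maximalIdeal_mvPowerSeries Λ' (n + m)).ge (Submodule.mem_sup_right (H2Alg.PSHom.X_mem i))
  obtain ⟨τ, hτ⟩ := H2Alg.PSHom.exists_algHom (A := Λ) (maximalIdeal (MvPowerSeries (Fin (n + m)) Λ'))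
    (fun i : Fin n => X (Fin.castAdd m i)) (fun i => hX _)
  have hτC : ∀ lam, τ (C lam) = v lam := fun lam => by
    have := τ.commutes lam
    rwa [MvPowerSeries.algebraMap_apply, Algebra.algebraMap_self, RingHom.id_apply] at this
  letI : Algebra Λ B := (φ.comp f).toAlgebra
  let φ₁ : MvPowerSeries (Fin n) Λ →ₐ[Λ] B :=
    { toRingHom := σ.comp τ.toRingHom
      commutes' := fun lam => (congrArg σ (τ.commutes lam)).trans (hσv lam) }
  let φ₂ : MvPowerSeries (Fin n) Λ →ₐ[Λ] B :=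
    { toRingHom := φ.comp ψA.toRingHom
      commutes' := fun lam => congrArg φ (ψA.commutes lam) }
  have hcast : ∀ i : Fin n, σ (X (Fin.castAdd m i)) = φ (z i) := fun i =>
    (hψB _).trans (Fin.append_left _ _ i)
  have hφ : φ₁ = φ₂ := H2Alg.PSHom.algHom_ext (maximalIdeal B)
    (fun i => show σ (τ (X i)) ∈ _ by rw [hτ, hcast]; exact map_nonunit φ _ (hzm i))
    (fun i => show σ (τ (X i)) = φ (ψA (X i)) by rw [hτ, hcast, hψA])
  -- generators of the maximal ideal
  haveI : IsRegularLocalRing (MvPowerSeries (Fin n) Λ) := Cohen.isRegularLocalRing_mvPowerSeries Λ n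
  haveI : IsRegularLocalRing (MvPowerSeries (Fin (n + m)) Λ') := Cohen.isRegularLocalRing_mvPowerSeries Λ' (n + m)
  let rs : List (MvPowerSeries (Fin n) Λ) :=
    qs.map (fun q : ℕ => (q : MvPowerSeries (Fin n) Λ)) ++ List.ofFn fun i : Fin n => X i
  have hrs : Ideal.ofList rs = maximalIdeal (MvPowerSeries (Fin n) Λ) := by
    rw [Cohen.maximalIdeal_mvPowerSeries, hqs, Ideal.map_ofList, List.map_map, Ideal.ofList_append]
    refine congrArg₂ _ ?_ ?_
    · exact congrArg (fun g => Ideal.ofList (qs.map g)) (funext fun q => (map_natCast _ q).symm)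
    · exact congrArg Ideal.span (Set.ext fun x => List.mem_ofFn)
  letI : Algebra (MvPowerSeries (Fin n) Λ) (MvPowerSeries (Fin (n + m)) Λ') := τ.toRingHom.toAlgebra
  have hmemτ : ∀ x ∈ rs.map τ, x ∈ maximalIdeal (MvPowerSeries (Fin (n + m)) Λ') := fun x hx => by
    obtain ⟨y, hy, rfl⟩ := List.mem_map.1 hx
    rcases List.mem_append.1 hy with hy | hy
    · obtain ⟨q, hqm, rfl⟩ := List.mem_map.1 hy
      rw [map_natCast, Cohen.maximalIdeal_mvPowerSeries]
      refine Submodule.mem_sup_left ?_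
      rw [← map_natCast (C : Λ' →+* MvPowerSeries (Fin (n + m)) Λ')]
      exact Ideal.mem_map_of_mem _ (hqs'.ge (Ideal.subset_span (List.mem_map.2 ⟨q, hqm, rfl⟩)))
    · obtain ⟨i, rfl⟩ := List.mem_ofFn.1 hy
      rw [hτ]
      exact hX _
  haveI hτl : IsLocalHom τ.toRingHom := ((IsLocalRing.local_hom_TFAE τ.toRingHom).out 0 2).2 (by
    rw [← hrs, Ideal.map_ofList]
    exact Ideal.span_le.2 hmemτ)
  haveI : IsLocalHom (algebraMap (MvPowerSeries (Fin n) Λ) (MvPowerSeries (Fin (n + m)) Λ')) := hτl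
  have hne : Ideal.ofList (rs.map (algebraMap (MvPowerSeries (Fin n) Λ) (MvPowerSeries (Fin (n + m)) Λ'))) ≠ ⊤ :=
    ne_top_of_le_ne_top (maximalIdeal.isMaximal _).ne_top (Ideal.span_le.2 hmemτ)
  haveI := Ideal.Quotient.nontrivial_iff.2 hne
  haveI : IsLocalRing (MvPowerSeries (Fin (n + m)) Λ' ⧸
      Ideal.ofList (rs.map (algebraMap (MvPowerSeries (Fin n) Λ) (MvPowerSeries (Fin (n + m)) Λ')))) :=
    IsLocalRing.of_surjective' _ Ideal.Quotient.mk_surjective
  let Q := Ideal.Quotient.mk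
    (Ideal.ofList (rs.map (algebraMap (MvPowerSeries (Fin n) Λ) (MvPowerSeries (Fin (n + m)) Λ'))))
  haveI : IsLocalHom Q := (Ideal.Quotient.mk_surjective).isLocalHom
  let L : List (MvPowerSeries (Fin (n + m)) Λ') := List.ofFn fun i : Fin m => X (Fin.natAdd n i)
  have hgen : (maximalIdeal (MvPowerSeries (Fin (n + m)) Λ' ⧸
      Ideal.ofList (rs.map (algebraMap (MvPowerSeries (Fin n) Λ) (MvPowerSeries (Fin (n + m)) Λ'))))).spanFinrank ≤ m := by
    refine (spanFinrank_le_length (l := L.map Q) ?_).trans (by simp [L])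
    refine Eq.trans (Ideal.map_ofList Q L).symm ?_
    refine le_antisymm (le_maximalIdeal fun e => (maximalIdeal.isMaximal _).ne_top (top_le_iff.1 (e.ge.trans
      (Ideal.map_le_iff_le_comap.2 (Ideal.span_le.2 fun x hx => ?_))))) ?_
    · obtain ⟨i, rfl⟩ := List.mem_ofFn.1 hx
      exact fun hu => hX (Fin.natAdd n i) (IsUnit.of_map Q _ hu)
    · intro y hy
      obtain ⟨x, rfl⟩ := Ideal.Quotient.mk_surjective y
      have hx : x ∈ maximalIdeal (MvPowerSeries (Fin (n + m)) Λ') := fun hu => hy (hu.map Q)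
      rw [Cohen.maximalIdeal_mvPowerSeries] at hx
      have hle : Ideal.map (C : Λ' →+* _) (maximalIdeal Λ') ⊔ H2Alg.PSHom.V (n + m) Λ' ≤
          ((Ideal.ofList L).map Q).comap Q := by
        have h0 : ∀ x ∈ rs.map τ, Q x = 0 := fun x hx =>
          Ideal.Quotient.eq_zero_iff_mem.2 (Ideal.subset_span hx)
        refine sup_le ?_ (Ideal.span_le.2 ?_)
        · rw [hqs', Ideal.map_ofList]
          refine Ideal.span_le.2 fun x hx => ?_
          obtain ⟨y, hy, rfl⟩ := List.mem_map.1 hx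
          obtain ⟨q, hqm, rfl⟩ := List.mem_map.1 hy
          rw [SetLike.mem_coe, Ideal.mem_comap]
          rw [map_natCast, ← map_natCast τ, h0 _ (List.mem_map_of_mem (List.mem_append_left _
            (List.mem_map.2 ⟨q, hqm, rfl⟩)))]
          exact zero_mem _
        · rintro _ ⟨i, rfl⟩
          rw [SetLike.mem_coe, Ideal.mem_comap]
          dsimp only
          refine Fin.addCases (fun i => ?_) (fun i => ?_) i
          · rw [← hτ, h0 _ (List.mem_map_of_mem (List.mem_append_right _ (List.mem_ofFn.2 ⟨i, rfl⟩)))]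
            exact zero_mem _
          · exact Ideal.mem_map_of_mem Q (Ideal.subset_span (List.mem_ofFn.2 ⟨i, rfl⟩))
      exact hle hx
  have hdim : ((rs.length + m : ℕ) : WithBot ℕ∞) ≤ ringKrullDim (MvPowerSeries (Fin (n + m)) Λ') := by
    refine le_trans (le_of_eq ?_) (Cohen.add_le_ringKrullDim Λ' (n + m))
    rw [hdimΛ', ← Nat.cast_add]
    simp [rs, Nat.add_assoc]
  obtain ⟨hflat, hregfib⟩ := flat_of_rsop rs hrs m hgen hdim
  refine ⟨Λ, Λ', iΛ, iΛ', iΛl, iΛl', n, n + m, ψA.toRingHom, σ, τ.toRingHom, ?_, hΛ, hΛ', hsA, hsB,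
    RingHom.ext fun x => DFunLike.congr_fun hφ x, hτl, hflat, hregfib⟩
  have hkk : CharZero (ResidueField A) ↔ CharZero (ResidueField B) :=
    ⟨fun h => @charZero_of_injective_ringHom _ _ _ _ (ResidueField.map φ) (RingHom.injective _) h,
      fun h => @RingHom.charZero _ _ _ _ (ResidueField.map φ) h⟩
  rcases hΛc with ⟨h0, hF⟩ | ⟨h0, hC⟩ <;> rcases hΛc' with ⟨h0', hF'⟩ | ⟨h0', hC'⟩
  · exact Or.inl ⟨h0, hF, hF'⟩
  · exact absurd (hkk.1 h0) h0'
  · exact absurd (hkk.2 h0') h0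
  · exact Or.inr ⟨h0, hC, hC'⟩

end Groth.Agent.CI2
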