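/-
Avramov's theorem on complete intersections along flat local homomorphisms.
-/
import Groth.Agent.Lib.CI2.Avramov
import Groth.Agent.Lib.CI2.GoodFact
import Groth.Agent.Lib.CI2.Complete
import Groth.Agent.Lib.FlatDepth.CplMap
import Groth.Agent.Lib.FlatDepth.FibreStalk
import Groth.Agent.S2169

universe u

open RingTheory.Sequence IsLocalRing

set_option linter.style.haveILetI false

namespace Groth.Agent.CI2

/-- Complete intersections are invariant under ring isomorphisms. -/
theorem ci_congr {A B : Type u} [CommRing A] [CommRing B] [IsLocalRing A] [IsLocalRing B] [IsNoetherianRing A]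
    [IsNoetherianRing B] (e : A ≃+* B) (h : Pi1.IsCompleteIntersection A) : Pi1.IsCompleteIntersection B := by
  obtain ⟨P, iP, iPr, rs, hm, hr, ⟨f⟩⟩ := h
  letI : Algebra A B := e.toRingHom.toAlgebra
  have hs : Function.Surjective (algebraMap A B) := e.surjective
  have hb : Function.Bijective (FlatDepth.cplQuotHom A B hs) := by
    refine ⟨(RingHom.injective_iff_ker_eq_bot _).2 ?_, FlatDepth.cplQuotHom_surjective A B hs⟩
    rw [FlatDepth.ker_cplQuotHom, (RingHom.injective_iff_ker_eq_bot (algebraMap A B)).1 e.injective, Ideal.map_bot]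
  exact ⟨P, iP, iPr, rs, hm, hr, ⟨(RingEquiv.ofBijective _ hb).symm.trans f⟩⟩

/-- A ring is a complete intersection iff its completion is. -/
theorem ci_cpl_iff {A : Type u} [CommRing A] [IsLocalRing A] [IsNoetherianRing A] :
    Pi1.IsCompleteIntersection (EGA4.Cpl A) ↔ Pi1.IsCompleteIntersection A := by
  let a : AdicCompletion (maximalIdeal (EGA4.Cpl A)) (EGA4.Cpl A) ≃+* EGA4.Cpl A :=
    (AdicCompletion.ofAlgEquiv (maximalIdeal (EGA4.Cpl A))).toRingEquiv.symm
  constructor
  · rintro ⟨P, iP, iPr, rs, hm, hr, ⟨f⟩⟩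
    exact ⟨P, iP, iPr, rs, hm, hr, ⟨a.symm.trans f⟩⟩
  · rintro ⟨P, iP, iPr, rs, hm, hr, ⟨f⟩⟩
    exact ⟨P, iP, iPr, rs, hm, hr, ⟨a.trans f⟩⟩

/-- The complete intersection property through a surjection from a regular local ring. -/
theorem ci_iff_ker {R A : Type u} [CommRing R] [IsRegularLocalRing R] [CommRing A] [IsLocalRing A]
    [IsNoetherianRing A] (f : R →+* A) (hf : Function.Surjective f) :
    Pi1.IsCompleteIntersection A ↔ CInt.IsRegularIdeal (RingHom.ker f) := by
  haveI : IsLocalRing (R ⧸ RingHom.ker f) := RegLoc.isLocalRing_quotient (RingHom.ker_ne_top f)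
  rw [← isCompleteIntersection_quotient_iff (RingHom.ker f) (RingHom.ker_ne_top f)]
  exact ⟨ci_congr (RingHom.quotientKerEquivOfSurjective hf).symm, ci_congr (RingHom.quotientKerEquivOfSurjective hf)⟩

theorem exists_dim_nat (A : Type u) [CommRing A] [IsLocalRing A] [IsNoetherianRing A] :
    ∃ n : ℕ, ringKrullDim A = n := by
  have h1 := ringKrullDim_le_spanFinrank_maximalIdeal A
  have h0 : (0 : WithBot ℕ∞) ≤ ringKrullDim A := ringKrullDim_nonneg_of_nontrivial
  revert h0 h1
  generalize ringKrullDim A = d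
  intro h1 h0
  induction d using WithBot.recBotCoe with
  | bot => simp at h0
  | coe d =>
    induction d using ENat.recTopCoe with
    | top =>
      rw [← WithBot.coe_natCast, WithBot.coe_le_coe, top_le_iff] at h1
      exact absurd h1 (ENat.natCast_ne_top _)
    | coe d => exact ⟨d, rfl⟩

theorem trivial_relation {A M : Type u} [CommRing A] [AddCommGroup M] [Module A M] [Module.Flat A M] {n : ℕ}
    (f : Fin n → A) (x : Fin n → M) (h : ∑ i, f i • x i = 0) :
    ∃ (k : ℕ) (c : Fin n → Fin k → A) (z : Fin k → M),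
      (∀ i, x i = ∑ l, c i l • z l) ∧ ∀ l, ∑ i, f i * c i l = 0 :=
  Module.Flat.isTrivialRelation_of_sum_smul_eq_zero h

/-- Elements of `J` in the closed fibre ideal come from the base, modulo `mJ`, when `S⧸J` is flat. -/
theorem inf_le_of_flat {R S : Type u} [CommRing R] [CommRing S] [IsLocalRing R] [IsLocalRing S] [Algebra R S]
    [IsLocalHom (algebraMap R S)] (I : Ideal R) (J : Ideal S) (hIJ : I.map (algebraMap R S) ≤ J)
    [Algebra (R ⧸ I) (S ⧸ J)] [IsScalarTower R (R ⧸ I) (S ⧸ J)] [Module.Flat (R ⧸ I) (S ⧸ J)] :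
    J ⊓ (maximalIdeal R).map (algebraMap R S) ≤ I.map (algebraMap R S) ⊔ maximalIdeal S • J := by
  rintro x ⟨hxJ, hxm⟩
  have hspan : (maximalIdeal R).map (algebraMap R S) = Ideal.span (algebraMap R S '' (maximalIdeal R : Set R)) := rfl
  rw [SetLike.mem_coe, hspan, Submodule.mem_span_set'] at hxm
  obtain ⟨n, y, a, hax⟩ := hxm
  choose r hr hra using fun i => (a i).2
  have hrel : ∑ i, Ideal.Quotient.mk I (r i) • Ideal.Quotient.mk J (y i) = 0 := by
    rw [← Ideal.Quotient.eq_zero_iff_mem.2 hxJ, ← hax, map_sum]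
    refine Finset.sum_congr rfl fun i _ => ?_
    rw [smul_eq_mul, map_mul, ← hra i, Algebra.smul_def, mul_comm]
    exact congrArg (_ * ·) (IsScalarTower.algebraMap_apply R (R ⧸ I) (S ⧸ J) (r i)).symm
  have h := trivial_relation (A := R ⧸ I) (M := S ⧸ J)
    (fun i => Ideal.Quotient.mk I (r i)) (fun i => Ideal.Quotient.mk J (y i)) hrel
  refine Exists.elim h fun k hk => Exists.elim hk fun c hk => Exists.elim hk fun z hk => ?_
  have hcz := hk.1
  have hc := hk.2
  choose c' hc' using fun i j => Ideal.Quotient.mk_surjective (c i j)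
  choose z' hz' using fun j => Ideal.Quotient.mk_surjective (z j)
  let j : Fin n → S := fun i => y i - ∑ l, algebraMap R S (c' i l) * z' l
  have hj : ∀ i, j i ∈ J := fun i => by
    rw [← Ideal.Quotient.eq_zero_iff_mem, map_sub, map_sum, sub_eq_zero, hcz i]
    refine Finset.sum_congr rfl fun l _ => ?_
    rw [map_mul, hz', ← hc' i l, Algebra.smul_def]
    exact congrArg (· * _) (IsScalarTower.algebraMap_apply R (R ⧸ I) (S ⧸ J) (c' i l)).symm
  have hx : x = (∑ l, algebraMap R S (∑ i, r i * c' i l) * z' l) + ∑ i, algebraMap R S (r i) * j i := by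
    simp only [map_sum, map_mul, Finset.sum_mul, j, mul_sub, Finset.mul_sum, Finset.sum_sub_distrib]
    rw [Finset.sum_comm, ← hax]
    simp only [smul_eq_mul, ← hra, mul_assoc]
    rw [add_sub_cancel]
    exact Finset.sum_congr rfl fun i _ => mul_comm _ _
  rw [hx]
  refine Submodule.add_mem_sup (Ideal.sum_mem _ fun l _ => Ideal.mul_mem_right _ _ (Ideal.mem_map_of_mem _ ?_))
    (Submodule.sum_mem _ fun i _ => Submodule.smul_mem_smul (map_nonunit (algebraMap R S) _ (hr i)) (hj i))
  rw [← Ideal.Quotient.eq_zero_iff_mem, map_sum, ← hc l]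
  exact Finset.sum_congr rfl fun i _ => by rw [map_mul, hc' i l]

/-- The numerical form of Avramov's theorem. -/
theorem avramov_regular {R S : Type u} [CommRing R] [CommRing S] [IsRegularLocalRing R] [IsRegularLocalRing S]
    [Algebra R S] [IsLocalHom (algebraMap R S)] [Module.Flat R S]
    [IsRegularLocalRing (S ⧸ (maximalIdeal R).map (algebraMap R S))]
    (I : Ideal R) (J : Ideal S) (hI : I ≠ ⊤) (hJ : J ≠ ⊤) (hIJ : I.map (algebraMap R S) ≤ J)
    [Algebra (R ⧸ I) (S ⧸ J)] [IsScalarTower R (R ⧸ I) (S ⧸ J)] [Module.Flat (R ⧸ I) (S ⧸ J)] :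
    CInt.IsRegularIdeal J ↔ (CInt.IsRegularIdeal I ∧
      CInt.IsRegularIdeal (J.map (Ideal.Quotient.mk ((maximalIdeal R).map (algebraMap R S))))) := by
  classical
  let M := (maximalIdeal R).map (algebraMap R S)
  have hMm : M ≤ maximalIdeal S := IsLocalRing.map_maximalIdeal_le _
  have hJm : J ≤ maximalIdeal S := le_maximalIdeal hJ
  haveI : LocCoh.IsCohenMacaulayLocalRing R := DepthLib.isCohenMacaulayLocalRing_of_isRegularLocalRing
  haveI : LocCoh.IsCohenMacaulayLocalRing S := DepthLib.isCohenMacaulayLocalRing_of_isRegularLocalRing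
  haveI : LocCoh.IsCohenMacaulayLocalRing (S ⧸ M) := DepthLib.isCohenMacaulayLocalRing_of_isRegularLocalRing
  have hJb : J.map (Ideal.Quotient.mk M) ≠ ⊤ := fun e => by
    have h := congrArg (Ideal.comap (Ideal.Quotient.mk M)) e
    rw [Ideal.comap_top, Ideal.comap_map_of_surjective' _ Ideal.Quotient.mk_surjective, Ideal.mk_ker] at h
    exact (maximalIdeal.isMaximal S).ne_top (top_le_iff.1 (h ▸ sup_le hJm hMm))
  haveI := RegLoc.isLocalRing_quotient hI
  haveI := RegLoc.isLocalRing_quotient hJ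
  haveI := RegLoc.isLocalRing_quotient hJb
  haveI : IsLocalHom (algebraMap (R ⧸ I) (S ⧸ J)) := ⟨fun x hx => by
    obtain ⟨x, rfl⟩ := Ideal.Quotient.mk_surjective x
    refine IsUnit.map _ ((isUnit_map_iff (algebraMap R S) x).1 ?_)
    haveI : IsLocalHom (Ideal.Quotient.mk J) := Ideal.Quotient.mk_surjective.isLocalHom
    refine IsUnit.of_map (Ideal.Quotient.mk J) _ ?_
    have e : algebraMap (R ⧸ I) (S ⧸ J) (Ideal.Quotient.mk I x) = Ideal.Quotient.mk J (algebraMap R S x) :=
      (IsScalarTower.algebraMap_apply R (R ⧸ I) (S ⧸ J) x).symm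
    rwa [e] at hx⟩
  -- dimensions
  obtain ⟨dR, hdR⟩ := exists_dim_nat R
  obtain ⟨dS, hdS⟩ := exists_dim_nat S
  obtain ⟨dA, hdA⟩ := exists_dim_nat (R ⧸ I)
  obtain ⟨dB, hdB⟩ := exists_dim_nat (S ⧸ J)
  obtain ⟨dF, hdF⟩ := exists_dim_nat (S ⧸ M)
  obtain ⟨dG, hdG⟩ := exists_dim_nat ((S ⧸ M) ⧸ J.map (Ideal.Quotient.mk M))
  have h1 : dS = dR + dF := by
    have h := (FlatDepth.ring_fibre_invariants (A := R) (B := S)).2
    rw [show ringKrullDim (EGA4.FibRing R S) = ringKrullDim (S ⧸ M) from rfl, hdR, hdS, hdF] at h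
    exact_mod_cast h
  have h2 : dB = dA + dG := by
    haveI : Nontrivial (EGA4.FibRing (R ⧸ I) (S ⧸ J)) := inferInstance
    have h := (FlatDepth.ring_fibre_invariants (A := R ⧸ I) (B := S ⧸ J)).2
    have e : ringKrullDim (EGA4.FibRing (R ⧸ I) (S ⧸ J)) = ringKrullDim ((S ⧸ M) ⧸ J.map (Ideal.Quotient.mk M)) := by
      refine ringKrullDim_eq_of_ringEquiv ?_
      refine (Ideal.quotEquivOfEq ?_).trans ((DoubleQuot.quotQuotEquivComm M J).symm)
      rw [EGA4.mB, show maximalIdeal (R ⧸ I) = (maximalIdeal R).map (Ideal.Quotient.mk I) from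
        RegLoc.maximalIdeal_quotient, Ideal.map_map, Ideal.map_map]
      exact congrArg (fun g => Ideal.map g (maximalIdeal R))
        (IsScalarTower.algebraMap_eq R (R ⧸ I) (S ⧸ J)).symm
    rw [e, hdA, hdB, hdG] at h
    exact_mod_cast h
  rw [isRegularIdeal_iff_spanFinrank I hI, isRegularIdeal_iff_spanFinrank _ hJb, hdR, hdA, hdG, hdF]
  constructor
  · intro hJr
    have hfin : Set.Finite {p : ℕ | ¬Subsingleton (DRing.Tor (R ⧸ I) p (S ⧸ J)
        ((R ⧸ I) ⧸ (maximalIdeal R).map (Ideal.Quotient.mk I)))} := by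
      refine (Set.finite_Iic 0).subset fun p hp => ?_
      by_contra hc
      exact hp (PCMor4.td_of_flat 0 _ p (lt_of_not_ge hc))
    obtain ⟨⟨l₁, hl₁, hl₁I⟩, ⟨l₂, hl₂, hl₂J⟩⟩ := relative_of_regular I J hIJ hI hJ hJr hfin
    have hne : I.map (algebraMap R S) ≠ ⊤ := ne_top_of_le_ne_top hJ hIJ
    haveI := RegLoc.isLocalRing_quotient hne
    obtain ⟨dT, hdT⟩ := exists_dim_nat (S ⧸ I.map (algebraMap R S))
    haveI := Module.FaithfullyFlat.of_flat_of_isLocalHom (A := R) (B := S)
    have h3 := ringKrullDim_add_length_eq_ringKrullDim_of_isRegular _ hl₁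
    rw [hl₁I, hdA, hdR] at h3
    have h4 := ringKrullDim_add_length_eq_ringKrullDim_of_isRegular _ (hl₁.of_faithfullyFlat (S := S))
    rw [← Ideal.map_ofList, hl₁I, hdT, hdS, List.length_map] at h4
    have h5 := ringKrullDim_add_length_eq_ringKrullDim_of_isRegular _ hl₂
    rw [hl₂J, ringKrullDim_eq_of_ringEquiv (DoubleQuot.quotQuotEquivQuotOfLE hIJ), hdB, hdT] at h5
    norm_cast at h3 h4 h5
    have h6 : I.spanFinrank ≤ l₁.length := spanFinrank_le_length hl₁I
    have hle : I.map (algebraMap R S) ≤ M := Ideal.map_mono (le_maximalIdeal hI)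
    have h7 : (J.map (Ideal.Quotient.mk M)).spanFinrank ≤ l₂.length := by
      refine (spanFinrank_le_length (l := l₂.map (Ideal.Quotient.factor hle)) ?_).trans (List.length_map _).le
      rw [← Ideal.map_ofList, hl₂J, Ideal.map_map, Ideal.Quotient.factor_comp_mk]
    constructor <;> norm_cast <;> omega
  · rintro ⟨hIr, hFr⟩
    norm_cast at hIr hFr
    obtain ⟨l₁, hl₁, hlen₁⟩ := exists_generators I
    obtain ⟨l, hl, hlen⟩ := exists_generators (J.map (Ideal.Quotient.mk M))
    obtain ⟨ss, hssJ, hss⟩ := CIReg6.exists_lift_list (J := M) (K := J) l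
      fun z hz => hl.le (Ideal.subset_span hz)
    have hss' : Ideal.ofList ss ≤ J := Ideal.span_le.2 hssJ
    have hle : J ≤ (I.map (algebraMap R S) ⊔ Ideal.ofList ss) ⊔ maximalIdeal S • J := fun x hx => by
      have h0 : Ideal.Quotient.mk M x ∈ (Ideal.ofList ss).map (Ideal.Quotient.mk M) := by
        rw [Ideal.map_ofList, hss, hl]
        exact Ideal.mem_map_of_mem _ hx
      rw [Ideal.mem_map_iff_of_surjective _ Ideal.Quotient.mk_surjective] at h0
      obtain ⟨y, hy, hyx⟩ := h0
      have h1 := inf_le_of_flat I J hIJ ⟨sub_mem hx (hss' hy), Ideal.Quotient.eq.1 hyx.symm⟩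
      have h2 : x = y + (x - y) := by ring
      rw [h2, sup_right_comm]
      exact add_mem (Submodule.mem_sup_right hy) (Submodule.mem_sup_left h1)
    have hJeq : Ideal.ofList (l₁.map (algebraMap R S) ++ ss) = J := by
      rw [Ideal.ofList_append, ← Ideal.map_ofList, hl₁]
      exact le_antisymm (sup_le hIJ hss') (Submodule.le_of_le_smul_of_le_jacobson_bot (IsNoetherian.noetherian J)
        (IsLocalRing.maximalIdeal_le_jacobson _) hle)
    have h3 := spanFinrank_le_length hJeq
    rw [List.length_append, List.length_map, show ss.length = l.length by rw [← hss, List.length_map]] at h3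
    rw [isRegularIdeal_iff_spanFinrank J hJ, hdS, hdB]
    norm_cast
    omega

/-- A good factorization of a local homomorphism of complete rings. -/
theorem exists_regular_factorization (A B : Type u) [CommRing A] [CommRing B] [IsLocalRing A] [IsLocalRing B]
    [IsNoetherianRing A] [IsNoetherianRing B] [IsAdicComplete (maximalIdeal A) A]
    [IsAdicComplete (maximalIdeal B) B] (φ : A →+* B) [IsLocalHom φ] :
    ∃ (R R' : Type u) (_ : CommRing R) (_ : CommRing R') (_ : IsRegularLocalRing R) (_ : IsRegularLocalRing R')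
      (ρ : R →+* A) (σ : R' →+* B) (τ : R →+* R'),
      Function.Surjective ρ ∧ Function.Surjective σ ∧ σ.comp τ = φ.comp ρ ∧ IsLocalHom τ ∧ τ.Flat ∧
      IsRegularLocalRing (R' ⧸ (maximalIdeal R).map τ) := by
  obtain ⟨Λ, Λ', i1, i2, i3, i4, n, m, ρ, σ, τ, -, hΛ, hΛ', hρ, hσ, hc, hl, hf, hr⟩ :=
    exists_cohen_factorization A B φ
  obtain ⟨_, -, hΛr, -⟩ := exists_nat_gens hΛ
  obtain ⟨_, -, hΛr', -⟩ := exists_nat_gens hΛ'
  haveI := hΛr
  haveI := hΛr'
  exact ⟨_, _, inferInstance, inferInstance, Cohen.isRegularLocalRing_mvPowerSeries Λ n,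
    Cohen.isRegularLocalRing_mvPowerSeries Λ' m, ρ, σ, τ, hρ, hσ, hc, hl, hf, hr⟩

/-- Avramov's theorem for complete rings. -/
theorem avramov_complete (A B : Type u) [CommRing A] [CommRing B] [IsLocalRing A] [IsLocalRing B]
    [IsNoetherianRing A] [IsNoetherianRing B] [IsAdicComplete (maximalIdeal A) A]
    [IsAdicComplete (maximalIdeal B) B] [Algebra A B] [IsLocalHom (algebraMap A B)] [Module.Flat A B]
    [IsLocalRing (B ⧸ (maximalIdeal A).map (algebraMap A B))] :
    Pi1.IsCompleteIntersection B ↔ (Pi1.IsCompleteIntersection A ∧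
      Pi1.IsCompleteIntersection (B ⧸ (maximalIdeal A).map (algebraMap A B))) := by
  obtain ⟨R, R', iR, iR', iRr, iRr', ρ, σ, τ, hρ, hσ, hc, hl, hf, hr⟩ :=
    exists_regular_factorization A B (algebraMap A B)
  letI : Algebra R R' := τ.toAlgebra
  haveI : IsLocalHom (algebraMap R R') := hl
  haveI : Module.Flat R R' := hf
  haveI : IsRegularLocalRing (R' ⧸ (maximalIdeal R).map (algebraMap R R')) := hr
  let I := RingHom.ker ρ
  let J := RingHom.ker σ
  have hle : I ≤ J.comap τ := fun x hx => by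
    have h := RingHom.congr_fun hc x
    rw [RingHom.comp_apply, RingHom.comp_apply, RingHom.mem_ker.1 hx, map_zero] at h
    exact h
  have hIJ : I.map (algebraMap R R') ≤ J := Ideal.map_le_iff_le_comap.2 hle
  letI : Algebra (R ⧸ I) (R' ⧸ J) := (Ideal.quotientMap J τ hle).toAlgebra
  haveI : IsScalarTower R (R ⧸ I) (R' ⧸ J) := IsScalarTower.of_algebraMap_eq (R := R) (S := R ⧸ I) (A := R' ⧸ J)
    fun x => rfl
  let eA := RingHom.quotientKerEquivOfSurjective (f := ρ) hρ
  let eB := RingHom.quotientKerEquivOfSurjective (f := σ) hσ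
  haveI : Module.Flat (R ⧸ I) (R' ⧸ J) := by
    have h : (algebraMap (R ⧸ I) (R' ⧸ J)) = eB.symm.toRingHom.comp ((algebraMap A B).comp eA.toRingHom) := by
      refine Ideal.Quotient.ringHom_ext (RingHom.ext fun x => eB.injective ?_)
      exact (RingHom.congr_fun hc x).trans (eB.apply_symm_apply _).symm
    have hflat : (algebraMap (R ⧸ I) (R' ⧸ J)).Flat := by
      rw [h]
      exact RingHom.Flat.comp (RingHom.Flat.comp (RingHom.Flat.of_bijective eA.bijective)
        (RingHom.flat_algebraMap_iff.2 ‹Module.Flat A B›)) (RingHom.Flat.of_bijective eB.symm.bijective)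
    exact RingHom.flat_algebraMap_iff.1 hflat
  have hmap : (maximalIdeal A).map (algebraMap A B) = ((maximalIdeal R).map τ).map σ := by
    rw [Ideal.map_map, hc, ← Ideal.map_map]
    haveI : IsLocalHom ρ := hρ.isLocalHom
    exact congrArg _ (Ideal.map_comap_of_surjective ρ hρ (maximalIdeal A) |>.symm.trans
      (congrArg _ (IsLocalRing.maximalIdeal_comap ρ)))
  let σ' : R' ⧸ (maximalIdeal R).map (algebraMap R R') →+* B ⧸ (maximalIdeal A).map (algebraMap A B) :=
    Ideal.quotientMap _ σ (Ideal.map_le_iff_le_comap.1 hmap.ge)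
  have hσ' : Function.Surjective σ' := fun y => by
    obtain ⟨y, rfl⟩ := Ideal.Quotient.mk_surjective y
    obtain ⟨x, rfl⟩ := hσ y
    exact ⟨Ideal.Quotient.mk _ x, rfl⟩
  have hker : RingHom.ker σ' = J.map (Ideal.Quotient.mk ((maximalIdeal R).map (algebraMap R R'))) := by
    have h : (RingHom.ker σ').comap (Ideal.Quotient.mk _) = (maximalIdeal R).map (algebraMap R R') ⊔ J := by
      refine (show _ = ((maximalIdeal A).map (algebraMap A B)).comap σ from Ideal.ext fun x => ?_).trans ?_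
      · exact Ideal.Quotient.eq_zero_iff_mem
      · rw [hmap, Ideal.comap_map_of_surjective' σ hσ]
        rfl
    rw [← Ideal.map_comap_of_surjective _ Ideal.Quotient.mk_surjective (RingHom.ker σ'), h, Ideal.map_sup,
      Ideal.map_quotient_self, bot_sup_eq]
  rw [ci_iff_ker σ hσ, ci_iff_ker ρ hρ, ci_iff_ker σ' hσ', hker]
  exact avramov_regular I J (RingHom.ker_ne_top ρ) (RingHom.ker_ne_top σ) hIJ

/-- **Avramov's theorem.** -/
theorem avramov {A B : Type u} [CommRing A] [CommRing B] [IsNoetherianRing A]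
    [IsNoetherianRing B] [IsLocalRing A] [IsLocalRing B] [Algebra A B]
    [IsLocalHom (algebraMap A B)] [Module.Flat A B]
    [IsLocalRing (B ⧸ Ideal.map (algebraMap A B) (maximalIdeal A))] :
    Pi1.IsCompleteIntersection B ↔
      (Pi1.IsCompleteIntersection A ∧
        Pi1.IsCompleteIntersection (B ⧸ Ideal.map (algebraMap A B) (maximalIdeal A))) := by
  obtain ⟨alg, htower, hff⟩ := FlatDepth.exists_cpl_tower A B
  letI := alg
  haveI : IsScalarTower A (CplLocH7.Cpl A) (CplLocH7.Cpl B) := htower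
  haveI : IsLocalHom (algebraMap (EGA4.Cpl A) (EGA4.Cpl B)) := CplLocH7.isLocalHom_cpl
  haveI := hff ‹_›
  have hne : (maximalIdeal (EGA4.Cpl A)).map (algebraMap (EGA4.Cpl A) (EGA4.Cpl B)) ≠ ⊤ :=
    ne_top_of_le_ne_top (maximalIdeal.isMaximal _).ne_top CplLocH7.map_maximalIdeal_le
  haveI := RegLoc.isLocalRing_quotient hne
  let F := B ⧸ Ideal.map (algebraMap A B) (maximalIdeal A)
  let q := FlatDepth.cplQuotHom B F Ideal.Quotient.mk_surjective
  have hker : (maximalIdeal (EGA4.Cpl A)).map (algebraMap (EGA4.Cpl A) (EGA4.Cpl B)) = RingHom.ker q := by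
    rw [FlatDepth.ker_cplQuotHom, Ideal.Quotient.algebraMap_eq, Ideal.mk_ker]
    exact CplLocH7.map_maximalIdeal_cpl
  let e : (EGA4.Cpl B ⧸ (maximalIdeal (EGA4.Cpl A)).map (algebraMap (EGA4.Cpl A) (EGA4.Cpl B))) ≃+* EGA4.Cpl F :=
    (Ideal.quotEquivOfEq hker).trans (RingHom.quotientKerEquivOfSurjective
      (FlatDepth.cplQuotHom_surjective B F Ideal.Quotient.mk_surjective))
  rw [← ci_cpl_iff (A := B), ← ci_cpl_iff (A := A), ← ci_cpl_iff (A := F),
    avramov_complete (EGA4.Cpl A) (EGA4.Cpl B)]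
  exact and_congr_right fun _ => ⟨ci_congr e, ci_congr e.symm⟩

end Groth.Agent.CI2
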