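/-
Avramov's theorem for maps of finite tor dimension of complete rings.
-/
import Groth.Agent.Lib.CI2.AvramovCI

universe u

open RingTheory.Sequence IsLocalRing

set_option linter.style.haveILetI false

namespace Groth.Agent.CI2

/-- A regular local ring is a complete intersection. -/
theorem ci_of_regular {R : Type u} [CommRing R] [IsRegularLocalRing R] : Pi1.IsCompleteIntersection R :=
  (ci_iff_ker (RingHom.id R) Function.surjective_id).2
    ⟨[], IsRegular.nil R R, by rw [Ideal.ofList_nil]; exact ((RingHom.injective_iff_ker_eq_bot _).1 fun _ _ h => h).symm⟩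

/-- The quotient of a complete intersection by a regular sequence is a complete intersection. -/
theorem ci_quotient {C B : Type u} [CommRing C] [IsLocalRing C] [IsNoetherianRing C] [CommRing B] [IsLocalRing B]
    [IsNoetherianRing B] (hC : Pi1.IsCompleteIntersection C) (f : C →+* B) (hf : Function.Surjective f)
    (hK : CInt.IsRegularIdeal (RingHom.ker f)) : Pi1.IsCompleteIntersection B := by
  obtain ⟨P, iP, iPr, rs, hm, hr, ⟨e⟩⟩ := hC
  haveI := CplLocH7.faithfullyFlat_cpl C
  letI : Algebra C B := f.toAlgebra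
  let q := FlatDepth.cplQuotHom C B hf
  have hq : Function.Surjective q := FlatDepth.cplQuotHom_surjective C B hf
  have hqk : CInt.IsRegularIdeal (RingHom.ker q) := by
    rw [FlatDepth.ker_cplQuotHom]
    exact isRegularIdeal_map hK
  let p : P →+* EGA4.Cpl C := e.symm.toRingHom.comp (Ideal.Quotient.mk (Ideal.span {r | r ∈ rs}))
  have hp : Function.Surjective p := e.symm.surjective.comp Ideal.Quotient.mk_surjective
  have hpk : CInt.IsRegularIdeal (RingHom.ker p) := ⟨rs, hr, by
    rw [RingHom.ker_comp_of_injective _ e.symm.injective, Ideal.mk_ker]⟩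
  rw [← ci_cpl_iff, ci_iff_ker (q.comp p) (hq.comp hp)]
  have hle : RingHom.ker p ≤ RingHom.ker (q.comp p) := fun x hx => by
    rw [RingHom.mem_ker, RingHom.comp_apply, RingHom.mem_ker.1 hx, map_zero]
  refine CIReg6.isRegularIdeal_of_quotient hle (le_maximalIdeal (RingHom.ker_ne_top _)) hpk ?_
  let E := RingHom.quotientKerEquivOfSurjective (f := p) hp
  have h := isRegularIdeal_map_equiv E.symm hqk
  have hEq : (RingHom.ker q).map (E.symm : EGA4.Cpl C →+* P ⧸ RingHom.ker p) =
      (RingHom.ker (q.comp p)).map (Ideal.Quotient.mk (RingHom.ker p)) := by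
    rw [show RingHom.ker (q.comp p) = (RingHom.ker q).comap p from rfl]
    conv_lhs => rw [← Ideal.map_comap_of_surjective p hp (RingHom.ker q), Ideal.map_map]
    exact congrArg (fun g => Ideal.map g _) (RingHom.ext fun x => E.symm_apply_eq.2 rfl)
  rwa [hEq] at h

/-- A map of finite tor dimension to a complete intersection. -/
theorem exists_good_of_ci {A B : Type u} [CommRing A] [CommRing B] [IsNoetherianRing A] [IsNoetherianRing B]
    [IsLocalRing A] [IsLocalRing B] [IsAdicComplete (maximalIdeal A) A] [IsAdicComplete (maximalIdeal B) B]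
    [Algebra A B] [IsLocalHom (algebraMap A B)] (hB : Pi1.IsCompleteIntersection B)
    (hfin : Set.Finite {p : ℕ | ¬Subsingleton (DRing.Tor A p B (A ⧸ maximalIdeal A))}) :
    Pi1.IsCompleteIntersection A ∧
      ∃ (S : Type u) (_ : CommRing S) (_ : IsNoetherianRing S) (_ : IsLocalRing S) (_ : Algebra A S)
        (_ : Module.Flat A S) (_ : IsRegularLocalRing (S ⧸ Ideal.map (algebraMap A S) (maximalIdeal A)))
        (g : S →ₐ[A] B), Function.Surjective g ∧
          ∃ rs : List S, Ideal.ofList rs = RingHom.ker g ∧ IsRegular S rs := by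
  obtain ⟨R, R', iR, iR', iRr, iRr', ρ, σ, τ, hρ, hσ, hc, hl, hf, hr⟩ :=
    exists_regular_factorization A B (algebraMap A B)
  letI : Algebra R R' := τ.toAlgebra
  haveI : IsLocalHom (algebraMap R R') := hl
  haveI : Module.Flat R R' := hf
  haveI : IsRegularLocalRing (R' ⧸ (maximalIdeal R).map (algebraMap R R')) := hr
  let I := RingHom.ker ρ
  let J := RingHom.ker σ
  let IS := I.map (algebraMap R R')
  have hle : I ≤ J.comap τ := fun x hx => by
    have h := RingHom.congr_fun hc x
    rw [RingHom.comp_apply, RingHom.comp_apply, RingHom.mem_ker.1 hx, map_zero] at h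
    exact h
  have hIJ : IS ≤ J := Ideal.map_le_iff_le_comap.2 hle
  have hne : IS ≠ ⊤ := ne_top_of_le_ne_top (RingHom.ker_ne_top σ) hIJ
  haveI := RegLoc.isLocalRing_quotient hne
  haveI := RegLoc.isLocalRing_quotient (RingHom.ker_ne_top ρ)
  haveI : Module.Flat (R ⧸ I) (R' ⧸ IS) := Goren15.flat_quotient I
  let eA := RingHom.quotientKerEquivOfSurjective (f := ρ) hρ
  let ι : A →+* R' ⧸ IS := (algebraMap (R ⧸ I) (R' ⧸ IS)).comp eA.symm.toRingHom
  letI : Algebra A (R' ⧸ IS) := ι.toAlgebra
  haveI : Module.Flat A (R' ⧸ IS) := RingHom.flat_algebraMap_iff.1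
    (RingHom.Flat.comp (RingHom.Flat.of_bijective eA.symm.bijective) (RingHom.flat_algebraMap_iff.2 ‹_›))
  have hι : ∀ x : R, ι (ρ x) = Ideal.Quotient.mk IS (τ x) := fun x => by
    change algebraMap (R ⧸ I) (R' ⧸ IS) (eA.symm (eA (Ideal.Quotient.mk I x))) = _
    rw [RingEquiv.symm_apply_apply]
    rfl
  let g0 : R' ⧸ IS →+* B := Ideal.Quotient.lift IS σ hIJ
  let g : R' ⧸ IS →ₐ[A] B :=
    { g0 with
      commutes' := fun a => by
        obtain ⟨x, rfl⟩ := hρ a
        change g0 (ι (ρ x)) = algebraMap A B (ρ x)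
        rw [hι]
        exact RingHom.congr_fun hc x }
  have hg : Function.Surjective g := Ideal.Quotient.lift_surjective_of_surjective _ _ hσ
  haveI : IsLocalHom (algebraMap A (R' ⧸ IS)) := ⟨fun a ha => by
    refine (isUnit_map_iff (algebraMap A B) a).1 ?_
    rw [← g.commutes a]
    exact ha.map g⟩
  have hm : (maximalIdeal A).map (algebraMap A (R' ⧸ IS)) =
      ((maximalIdeal R).map (algebraMap R R')).map (Ideal.Quotient.mk IS) := by
    haveI : IsLocalHom ρ := hρ.isLocalHom
    rw [show maximalIdeal A = (maximalIdeal R).map ρ from (Ideal.map_comap_of_surjective ρ hρ (maximalIdeal A)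
      |>.symm.trans (congrArg _ (IsLocalRing.maximalIdeal_comap ρ))), Ideal.map_map, Ideal.map_map]
    exact congrArg (fun f => Ideal.map f (maximalIdeal R)) (RingHom.ext hι)
  haveI hreg : IsRegularLocalRing ((R' ⧸ IS) ⧸ (maximalIdeal A).map (algebraMap A (R' ⧸ IS))) :=
    IsRegularLocalRing.of_ringEquiv (((DoubleQuot.quotQuotEquivQuotOfLE (I := IS)
      (J := (maximalIdeal R).map (algebraMap R R'))
      (Ideal.map_mono (le_maximalIdeal (RingHom.ker_ne_top ρ)))).symm).trans (Ideal.quotEquivOfEq hm.symm))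
  haveI : IsRegularLocalRing (EGA4.FibRing A (R' ⧸ IS)) := hreg
  letI : Algebra (R' ⧸ IS) B := g0.toAlgebra
  haveI : IsScalarTower A (R' ⧸ IS) B := IsScalarTower.of_algebraMap_eq fun a => (g.commutes a).symm
  haveI : Module.Finite (R' ⧸ IS) B := Module.Finite.of_surjective (Algebra.linearMap (R' ⧸ IS) B) hg
  obtain ⟨d, hd⟩ := finiteTorDim_of_regular_fibre (A := A) (B := R' ⧸ IS) B hfin
  letI : Algebra (R' ⧸ IS) (R' ⧸ J) := (Ideal.Quotient.factor hIJ).toAlgebra
  haveI : IsScalarTower R' (R' ⧸ IS) (R' ⧸ J) := IsScalarTower.of_algebraMap_eq fun _ => rfl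
  let eB := RingHom.quotientKerEquivOfSurjective (f := σ) hσ
  have hlin : ∀ (s : R' ⧸ IS) (b : B), eB.symm (s • b) = s • eB.symm b := fun s b => by
    rw [Algebra.smul_def, Algebra.smul_def, map_mul]
    obtain ⟨s, rfl⟩ := Ideal.Quotient.mk_surjective s
    exact congrArg (· * _) (eB.symm_apply_eq.2 rfl)
  let eL : B ≃ₗ[R' ⧸ IS] R' ⧸ J := { eB.symm.toAddEquiv with map_smul' := hlin }
  obtain ⟨rs, hrs, hrsJ⟩ := (ci_iff_ker σ hσ).1 hB
  obtain ⟨⟨l₁, hl₁, hl₁r⟩, ⟨l₂, hl₂, hl₂r⟩⟩ :=
    Groth.Agent.S2200.result IS J hIJ (RingHom.ker_ne_top σ) ⟨d, PCMor4.td_equiv eL hd⟩ ⟨rs, hrsJ, hrs⟩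
  refine ⟨(ci_iff_ker ρ hρ).2 (isRegularIdeal_descend ⟨l₁, hl₁r, hl₁⟩), R' ⧸ IS, inferInstance, inferInstance,
    inferInstance, inferInstance, inferInstance, hreg, g, hg, l₂, hl₂.trans ?_, hl₂r⟩
  exact (Ideal.ker_quotient_lift σ hIJ).symm

end Groth.Agent.CI2
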