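import Groth.Agent.Lib.CI2.AvramovCI
import Mathlib

/-!
Complete intersections and extension of the base field.
-/

set_option autoImplicit false
set_option linter.style.haveILetI false
universe u

open TensorProduct IsLocalRing

namespace Groth.Agent.CI2

/-- Localising a surjection: surjective, with the extended kernel. -/
theorem localRingHom_surj_ker {P A : Type u} [CommRing P] [CommRing A] (f : P →+* A) (hf : Function.Surjective f)
    (q : Ideal A) [q.IsPrime] :
    Function.Surjective (Localization.localRingHom (q.comap f) q f rfl) ∧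
      RingHom.ker (Localization.localRingHom (q.comap f) q f rfl) =
        (RingHom.ker f).map (algebraMap P (Localization.AtPrime (q.comap f))) := by
  refine ⟨RingHom.surjective_localRingHom_of_surjective f hf q, le_antisymm (fun x hx => ?_) ?_⟩
  · obtain ⟨w, ⟨t, ht⟩, rfl⟩ := IsLocalization.exists_mk'_eq (q.comap f).primeCompl x
    rw [RingHom.mem_ker, Localization.localRingHom_mk', IsLocalization.mk'_eq_zero_iff] at hx
    obtain ⟨⟨s, hs⟩, hsw⟩ := hx
    obtain ⟨s', rfl⟩ := hf s
    rw [IsLocalization.mk'_mem_map_algebraMap_iff]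
    exact ⟨s', hs, by rw [RingHom.mem_ker, map_mul]; exact hsw⟩
  · rw [Ideal.map_le_iff_le_comap]
    intro x hx
    rw [Ideal.mem_comap, RingHom.mem_ker, Localization.localRingHom_to_map, RingHom.mem_ker.1 hx, map_zero]

attribute [local instance] Algebra.TensorProduct.rightAlgebra

/-- Being a complete intersection is invariant under extension of the base field. -/
theorem ci_iff_baseChange_field {k k' : Type u} [Field k] [Field k'] [Algebra k k']
    (A : Type u) [CommRing A] [Algebra k A] [Algebra.FiniteType k A]
    (q' : Ideal (k' ⊗[k] A)) [q'.IsPrime] :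
    Pi1.IsCompleteIntersection (Localization.AtPrime (q'.comap (algebraMap A (k' ⊗[k] A)))) ↔
      Pi1.IsCompleteIntersection (Localization.AtPrime q') := by
  obtain ⟨n, π, hπ⟩ := Algebra.FiniteType.iff_quotient_mvPolynomial''.1 (inferInstance : Algebra.FiniteType k A)
  let P := MvPolynomial (Fin n) k
  let P' := k' ⊗[k] P
  let π' : P' →+* k' ⊗[k] A := (Algebra.TensorProduct.map (AlgHom.id k' k') π).toRingHom
  have hπ' : Function.Surjective π' := LinearMap.lTensor_surjective k' (g := π.toLinearMap) hπ
  have hker : RingHom.ker π' = (RingHom.ker π).map (algebraMap P P') :=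
    Algebra.TensorProduct.lTensor_ker π hπ
  haveI : IsRegularRing P' :=
    IsRegularRing.of_ringEquiv (MvPolynomial.algebraTensorAlgEquiv k k' (σ := Fin n)).toRingEquiv.symm
  haveI : Module.Flat P P' := by
    haveI : Module.Flat k k' := inferInstance
    exact Module.Flat.of_linearEquiv (R := P) (Algebra.IsPushout.equiv k P k' P').toLinearEquiv.symm
  haveI : IsNoetherianRing A := Algebra.FiniteType.isNoetherianRing k A
  haveI : IsNoetherianRing (k' ⊗[k] A) := isNoetherianRing_of_surjective P' _ π' hπ'
  let q := q'.comap (algebraMap A (k' ⊗[k] A))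
  let Q' := q'.comap π'
  let Q := q.comap π.toRingHom
  have hQ : Q'.comap (algebraMap P P') = Q := by
    show (q'.comap π').comap (algebraMap P P') = (q'.comap (algebraMap A (k' ⊗[k] A))).comap π.toRingHom
    rw [Ideal.comap_comap, Ideal.comap_comap]
    congr 1
  haveI : Q'.LiesOver Q := ⟨hQ.symm⟩
  let L := Localization.AtPrime Q
  let L' := Localization.AtPrime Q'
  letI : Algebra L L' := (Localization.localRingHom Q Q' (algebraMap P P') hQ.symm).toAlgebra
  haveI : IsLocalHom (algebraMap L L') := Localization.isLocalHom_localRingHom Q Q' (algebraMap P P') hQ.symm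
  haveI : Module.Flat L L' := by
    have h := RingHom.Flat.localRingHom (f := algebraMap P P') (RingHom.flat_algebraMap_iff.2 inferInstance) (P := Q') (Q := Q) hQ.symm
    exact h
  obtain ⟨hσ, hkσ⟩ := localRingHom_surj_ker π.toRingHom hπ q
  obtain ⟨hσ', hkσ'⟩ := localRingHom_surj_ker π' hπ' q'
  rw [ci_iff_ker _ hσ, ci_iff_ker _ hσ', hkσ, hkσ']
  have hcomp : ((RingHom.ker π.toRingHom).map (algebraMap P L)).map (algebraMap L L') =
      (RingHom.ker π').map (algebraMap P' L') := by
    rw [hker, Ideal.map_map, Ideal.map_map]
    congr 1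
    exact RingHom.ext fun x => Localization.localRingHom_to_map Q Q' (algebraMap P P') hQ.symm x
  rw [← hcomp]
  exact ⟨isRegularIdeal_map, isRegularIdeal_descend⟩

end Groth.Agent.CI2
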