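import Groth.Agent.Lib.CI2.Smooth
import Groth.Agent.Lib.CIReg6.Quot
import Groth.Agent.Lib.EmbDef.Regular
import Mathlib

/-!
Complete intersection local algebras over a field (`Synt.IsCIOver`): independence of the presentation,
comparison with global complete intersections.
-/

set_option autoImplicit false
set_option linter.style.haveILetI false
universe u

open RingTheory.Sequence IsLocalRing

namespace Groth.Agent.CI2

theorem isRegularIdeal_map_equiv {A B : Type u} [CommRing A] [CommRing B] (e : A ≃+* B) {K : Ideal A}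
    (h : CInt.IsRegularIdeal K) : CInt.IsRegularIdeal (K.map (e : A →+* B)) := by
  obtain ⟨rs, hrs, rfl⟩ := h
  refine ⟨rs.map (e : A →+* B), ?_, (Ideal.map_ofList _ rs).symm⟩
  have hf : List.Forall₂ (fun (r : A) (s : B) => ∀ x : A, e.toAddEquiv (r • x) = s • e.toAddEquiv x)
      rs (rs.map (e : A →+* B)) := by
    clear hrs
    induction rs with
    | nil => exact List.Forall₂.nil
    | cons r rs ih => exact List.Forall₂.cons (fun x => map_mul e r x) ih
  exact (AddEquiv.isRegular_congr hf).mp hrs

section Indep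

variable {k : Type u} [Field k]

theorem exists_lift_atPrime {σ : Type u} {R S : Type u} [CommRing R] [IsLocalRing R] [Algebra k R]
    [CommRing S] [IsLocalRing S] [Algebra k S] (q : Ideal (MvPolynomial σ k)) [q.IsPrime]
    (π : R →ₐ[k] S) (hπ : Function.Surjective π) (ρ : MvPolynomial σ k →ₐ[k] R)
    (hq : q = (maximalIdeal S).comap (π.comp ρ).toRingHom)
    (hgen : ∀ r : R, ∃ a t, IsUnit (ρ t) ∧ r * ρ t = ρ a) :
    ∃ l : Localization.AtPrime q →ₐ[k] R, Function.Surjective l ∧ ∀ x, l (algebraMap _ _ x) = ρ x := by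
  subst hq
  haveI : IsLocalHom π.toRingHom := hπ.isLocalHom
  have hu : ∀ y : ((maximalIdeal S).comap (π.comp ρ).toRingHom).primeCompl, IsUnit (ρ y.1) := fun y => by
    refine isUnit_of_map_unit π.toRingHom _ ?_
    by_contra hn
    exact y.2 hn
  let l : Localization.AtPrime ((maximalIdeal S).comap (π.comp ρ).toRingHom) →ₐ[k] R := IsLocalization.liftAlgHom (M := ((maximalIdeal S).comap (π.comp ρ).toRingHom).primeCompl) (f := ρ) hu
  have hl : ∀ x, l (algebraMap _ _ x) = ρ x := fun x => IsLocalization.lift_eq _ x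
  refine ⟨l, fun r => ?_, hl⟩
  obtain ⟨a, t, ht, hat⟩ := hgen r
  have htq : t ∈ ((maximalIdeal S).comap (π.comp ρ).toRingHom).primeCompl := fun hm => hm (ht.map π.toRingHom)
  refine ⟨IsLocalization.mk' _ a ⟨t, htq⟩, ?_⟩
  refine (IsLocalization.lift_mk'_spec _ a r ⟨t, htq⟩).mpr ?_
  rw [mul_comm] at hat
  exact hat.symm

theorem exists_mul_unit {σ : Type u} {R : Type u} [CommRing R] [Algebra k R] [Algebra.EssFiniteType k R]
    (ρ : MvPolynomial σ k →ₐ[k] R) (hρ : ∀ x ∈ Algebra.EssFiniteType.finset k R, x ∈ ρ.range) (r : R) :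
    ∃ a t, IsUnit (ρ t) ∧ r * ρ t = ρ a := by
  obtain ⟨⟨a, t⟩, hat⟩ := IsLocalization.surj (Algebra.EssFiniteType.submonoid k R) r
  have hle : Algebra.EssFiniteType.subalgebra k R ≤ ρ.range := Algebra.adjoin_le hρ
  obtain ⟨a', ha'⟩ := hle a.2
  obtain ⟨t', ht'⟩ := hle t.1.2
  refine ⟨a', t', ?_, ?_⟩
  · have := IsLocalization.map_units R t
    rwa [show ρ t' = algebraMap _ R t.1 from ht']
  · rw [show ρ t' = algebraMap _ R t.1 from ht', show ρ a' = algebraMap _ R a from ha']
    exact hat

theorem isRegularIdeal_comp_iff {L R S : Type u} [CommRing L] [IsRegularLocalRing L] [Algebra k L]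
    [CommRing R] [IsRegularLocalRing R] [Algebra k R] [CommRing S] [IsLocalRing S] [Algebra k S]
    (l : L →ₐ[k] R) (hl : Function.Surjective l) (π : R →ₐ[k] S) :
    CInt.IsRegularIdeal (RingHom.ker (π.comp l).toRingHom) ↔ CInt.IsRegularIdeal (RingHom.ker π.toRingHom) := by
  let J := RingHom.ker l.toRingHom
  let K := RingHom.ker (π.comp l).toRingHom
  let e : (L ⧸ J) ≃+* R := RingHom.quotientKerEquivOfSurjective (f := l.toRingHom) hl
  haveI : IsRegularLocalRing (L ⧸ J) := IsRegularLocalRing.of_ringEquiv e.symm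
  have hK : K = (RingHom.ker π.toRingHom).comap l.toRingHom := rfl
  have hJK : J ≤ K := hK ▸ Ideal.comap_mono bot_le
  have hKm : K ≤ maximalIdeal L := le_maximalIdeal (RingHom.ker_ne_top _)
  have hmap : (K.map (Ideal.Quotient.mk J)).map (e : _ →+* R) = RingHom.ker π.toRingHom := by
    rw [Ideal.map_map, hK]
    exact Ideal.map_comap_of_surjective l.toRingHom hl _
  rw [CIReg6.isRegularIdeal_iff_quotient hJK hKm, ← hmap]
  refine ⟨fun h => isRegularIdeal_map_equiv e h, fun h => ?_⟩
  have h' := isRegularIdeal_map_equiv e.symm h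
  rwa [Ideal.map_map, RingEquiv.symm_comp, Ideal.map_id] at h'

/-- Whether the kernel of a surjection from a regular local ring is generated by a regular sequence does
not depend on the surjection. -/
theorem isRegularIdeal_ker_transfer {S R₁ R₂ : Type u} [CommRing S] [IsLocalRing S] [Algebra k S]
    [CommRing R₁] [IsRegularLocalRing R₁] [Algebra k R₁] [Algebra.EssFiniteType k R₁]
    [CommRing R₂] [IsRegularLocalRing R₂] [Algebra k R₂] [Algebra.EssFiniteType k R₂]
    (π₁ : R₁ →ₐ[k] S) (h₁ : Function.Surjective π₁) (π₂ : R₂ →ₐ[k] S) (h₂ : Function.Surjective π₂)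
    (h : CInt.IsRegularIdeal (RingHom.ker π₁.toRingHom)) : CInt.IsRegularIdeal (RingHom.ker π₂.toRingHom) := by
  classical
  let s₁ := Algebra.EssFiniteType.finset k R₁
  let s₂ := Algebra.EssFiniteType.finset k R₂
  let ρ₁ : MvPolynomial (↥s₁ ⊕ ↥s₂) k →ₐ[k] R₁ :=
    MvPolynomial.aeval (Sum.elim (fun x => x.1) (fun y => Function.surjInv h₁ (π₂ y.1)))
  let ρ₂ : MvPolynomial (↥s₁ ⊕ ↥s₂) k →ₐ[k] R₂ :=
    MvPolynomial.aeval (Sum.elim (fun x => Function.surjInv h₂ (π₁ x.1)) (fun y => y.1))
  have hθ : π₁.comp ρ₁ = π₂.comp ρ₂ := MvPolynomial.algHom_ext fun i => by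
    rcases i with i | i <;> simp [ρ₁, ρ₂, Function.surjInv_eq]
  let q : Ideal (MvPolynomial (↥s₁ ⊕ ↥s₂) k) := (maximalIdeal S).comap (π₁.comp ρ₁).toRingHom
  haveI : q.IsPrime := Ideal.IsPrime.comap _
  obtain ⟨l₁, hl₁, e₁⟩ := exists_lift_atPrime q π₁ h₁ ρ₁ rfl
    (exists_mul_unit ρ₁ fun x hx => ⟨MvPolynomial.X (Sum.inl ⟨x, hx⟩), by simp [ρ₁]⟩)
  obtain ⟨l₂, hl₂, e₂⟩ := exists_lift_atPrime q π₂ h₂ ρ₂ (by rw [← hθ])
    (exists_mul_unit ρ₂ fun x hx => ⟨MvPolynomial.X (Sum.inr ⟨x, hx⟩), by simp [ρ₂]⟩)
  have hcomp : π₁.comp l₁ = π₂.comp l₂ := by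
    refine IsLocalization.algHom_ext q.primeCompl (AlgHom.ext fun x => ?_)
    show π₁ (l₁ (algebraMap _ _ x)) = π₂ (l₂ (algebraMap _ _ x))
    rw [e₁, e₂]
    exact DFunLike.congr_fun hθ x
  rw [← isRegularIdeal_comp_iff l₁ hl₁ π₁] at h
  rw [← isRegularIdeal_comp_iff l₂ hl₂ π₂, ← hcomp]
  exact h

theorem isCIOver_of_surjection {S R : Type u} [CommRing S] [IsLocalRing S] [Algebra k S]
    [CommRing R] [IsRegularLocalRing R] [Algebra k R] [Algebra.EssFiniteType k R]
    (π : R →ₐ[k] S) (hπ : Function.Surjective π) (h : CInt.IsRegularIdeal (RingHom.ker π.toRingHom)) :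
    Synt.IsCIOver k S := by
  obtain ⟨rs, hrs, hker⟩ := h
  refine ⟨R, inferInstance, inferInstance, inferInstance, inferInstance, rs, fun r hr => ?_, hrs, ?_⟩
  · exact le_maximalIdeal (RingHom.ker_ne_top π.toRingHom) (hker ▸ Ideal.subset_span hr)
  · exact ⟨((Ideal.quotientEquivAlgOfEq k hker).trans (Ideal.quotientKerAlgEquivOfSurjective hπ)).symm⟩

theorem isRegularIdeal_ker_of_isCIOver {S R : Type u} [CommRing S] [IsLocalRing S] [Algebra k S]
    [CommRing R] [IsRegularLocalRing R] [Algebra k R] [Algebra.EssFiniteType k R]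
    (h : Synt.IsCIOver k S) (π : R →ₐ[k] S) (hπ : Function.Surjective π) :
    CInt.IsRegularIdeal (RingHom.ker π.toRingHom) := by
  obtain ⟨R₁, _, _, _, _, rs, -, hrs, ⟨e⟩⟩ := h
  refine isRegularIdeal_ker_transfer (e.symm.toAlgHom.comp (Ideal.Quotient.mkₐ k (Ideal.ofList rs)))
    (e.symm.surjective.comp Ideal.Quotient.mk_surjective) π hπ ⟨rs, hrs, ?_⟩
  ext x
  show x ∈ Ideal.ofList rs ↔ e.symm (Ideal.Quotient.mk _ x) = 0
  rw [map_eq_zero_iff _ e.symm.injective, Ideal.Quotient.eq_zero_iff_mem]

end Indep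

section AtPrime

variable {k : Type u} [Field k] {S : Type u} [CommRing S] [Algebra k S] {n : ℕ}

theorem exists_presentation_atPrime (φ : MvPolynomial (Fin n) k →ₐ[k] S) (hφ : Function.Surjective φ)
    (q : Ideal S) [q.IsPrime] :
    ∃ π : Localization.AtPrime (q.comap φ.toRingHom) →ₐ[k] Localization.AtPrime q,
      Function.Surjective π ∧
        RingHom.ker π.toRingHom = (RingHom.ker φ.toRingHom).map (algebraMap _ _) := by
  have hmap : (q.comap φ.toRingHom).primeCompl.map φ.toRingHom = q.primeCompl := by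
    ext y
    refine ⟨fun ⟨x, hx, e⟩ => e ▸ hx, fun hy => ?_⟩
    obtain ⟨x, rfl⟩ := hφ y
    exact ⟨x, hy, rfl⟩
  haveI : IsLocalization ((q.comap φ.toRingHom).primeCompl.map φ.toRingHom) (Localization.AtPrime q) :=
    by rw [hmap]; infer_instance
  let π₀ := Localization.localRingHom (q.comap φ.toRingHom) q φ.toRingHom rfl
  let π : Localization.AtPrime (q.comap φ.toRingHom) →ₐ[k] Localization.AtPrime q :=
    { toRingHom := π₀
      commutes' := fun a => by
        show π₀ (algebraMap k _ a) = _
        rw [IsScalarTower.algebraMap_apply k (MvPolynomial (Fin n) k) (Localization.AtPrime (q.comap φ.toRingHom)),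
          Localization.localRingHom_to_map, IsScalarTower.algebraMap_apply k S (Localization.AtPrime q)]
        exact congrArg _ (φ.commutes a) }
  refine ⟨π, IsLocalization.map_surjective_of_surjective (M := (q.comap φ.toRingHom).primeCompl) (g := φ.toRingHom)
    (S := Localization.AtPrime (q.comap φ.toRingHom)) (Q := Localization.AtPrime q) hφ, ?_⟩
  exact IsLocalization.ker_map (S := Localization.AtPrime (q.comap φ.toRingHom)) (Localization.AtPrime q) φ.toRingHom hmap

theorem isCIOver_atPrime_of_isGlobalCI (h : Synt.IsGlobalCI k S) (q : Ideal S) [q.IsPrime] :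
    Synt.IsCIOver k (Localization.AtPrime q) := by
  rcases h with h | ⟨n, c, hcn, φ, r, hφ, hker, hdim⟩
  · exact absurd (Subsingleton.elim q ⊤) (Ideal.IsPrime.ne_top ‹_›)
  obtain ⟨π, hπ, hkπ⟩ := exists_presentation_atPrime φ hφ q
  let P := q.comap φ.toRingHom
  let fs := List.ofFn r
  have hofList : Ideal.ofList fs = RingHom.ker φ.toRingHom := (ofList_ofFn r).trans hker.symm
  have hd : ringKrullDim (MvPolynomial (Fin n) k ⧸ Ideal.ofList fs) ≤ ((n - fs.length : ℕ) : WithBot ℕ∞) := by
    rw [hofList, List.length_ofFn, ← hdim]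
    exact le_of_eq (ringKrullDim_eq_of_ringEquiv (RingHom.quotientKerEquivOfSurjective (f := φ.toRingHom) hφ))
  have hle : Ideal.ofList fs ≤ P := hofList.trans_le (Ideal.comap_mono bot_le)
  have hw := isWeaklyRegular_localization k fs (by simpa [fs] using hcn) hd P hle
  haveI : IsNoetherianRing S := isNoetherianRing_of_surjective _ S φ.toRingHom hφ
  refine isCIOver_of_surjection π hπ ⟨_, ?_, by rw [hkπ, ← hofList, Ideal.map_ofList]⟩
  refine DepthLib.isRegular_of_isWeaklyRegular (I := maximalIdeal (Localization.AtPrime P)) hw ?_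
    (by rw [smul_eq_mul, Ideal.mul_top]; exact (maximalIdeal.isMaximal _).ne_top)
  intro x hx
  obtain ⟨f, hf, rfl⟩ := List.mem_map.mp hx
  exact (IsLocalization.AtPrime.to_map_mem_maximal_iff _ P f).mpr (hle (Ideal.subset_span hf))

/-- The height of a minimal prime of an ideal generated, at `P`, by a regular sequence. -/
theorem height_minimalPrime {A : Type u} [CommRing A] [IsNoetherianRing A] (fs : List A) (P : Ideal A) [P.IsPrime]
    (hreg : IsRegular (Localization.AtPrime P) (fs.map (algebraMap A (Localization.AtPrime P))))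
    (Q : Ideal A) (hQ : Q ∈ (Ideal.ofList fs).minimalPrimes) (hQP : Q ≤ P) : Q.height = fs.length := by
  haveI := hQ.1.1
  let L := Localization.AtPrime P
  let M := Localization.AtPrime Q
  letI : Algebra L M := IsLocalization.localizationAlgebraOfSubmonoidLe L M P.primeCompl Q.primeCompl
    (fun x hx h => hx (hQP h))
  haveI : IsScalarTower A L M := IsLocalization.localization_isScalarTower_of_submonoid_le L M P.primeCompl Q.primeCompl
    (fun x hx h => hx (hQP h))
  haveI : IsLocalization (Q.primeCompl.map (algebraMap A L)) M :=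
    IsLocalization.isLocalization_of_submonoid_le L M P.primeCompl Q.primeCompl (fun x hx h => hx (hQP h))
  haveI : Module.Flat L M := IsLocalization.flat M (Q.primeCompl.map (algebraMap A L))
  have hw : IsWeaklyRegular M ((fs.map (algebraMap A L)).map (algebraMap L M)) :=
    IsWeaklyRegular.of_flat hreg.toIsWeaklyRegular
  rw [List.map_map, show (algebraMap L M : L → M) ∘ (algebraMap A L) = algebraMap A M from
    funext fun x => (IsScalarTower.algebraMap_apply A L M x).symm] at hw
  have hmem : ∀ x ∈ fs.map (algebraMap A M), x ∈ maximalIdeal M := by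
    intro x hx
    obtain ⟨f, hf, rfl⟩ := List.mem_map.mp hx
    exact (IsLocalization.AtPrime.to_map_mem_maximal_iff _ Q f).mpr (hQ.1.2 (Ideal.subset_span hf))
  have hr : IsRegular M (fs.map (algebraMap A M)) :=
    DepthLib.isRegular_of_isWeaklyRegular (I := maximalIdeal M) hw hmem
      (by rw [smul_eq_mul, Ideal.mul_top]; exact (maximalIdeal.isMaximal M).ne_top)
  have h := ringKrullDim_add_length_eq_ringKrullDim_of_isRegular _ hr
  have hrad : maximalIdeal M ≤ (Ideal.ofList (fs.map (algebraMap A M))).radical := by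
    rw [← Ideal.map_ofList, IsLocalization.AtPrime.radical_map_of_mem_minimalPrimes M Q _ hQ, IsLocalization.AtPrime.map_eq_maximalIdeal Q M]
  rw [EmbDef.ringKrullDim_quotient_eq_of_radical (show Ideal.ofList _ ≤ maximalIdeal M from Ideal.span_le.2 hmem) hrad,
    IsLocalization.AtPrime.ringKrullDim_eq_height Q M, List.length_map,
    ringKrullDim_eq_zero_of_isField ((Ideal.Quotient.maximal_ideal_iff_isField_quotient _).mp inferInstance),
    zero_add] at h
  exact_mod_cast h.symm

/-- A presentation up to torsion, with components of the expected height, gives a global complete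
intersection after localisation. -/
theorem isGlobalCI_away_of_relations {c : ℕ} (φ : MvPolynomial (Fin n) k →ₐ[k] S) (hφ : Function.Surjective φ)
    (f : Fin c → MvPolynomial (Fin n) k) (hf : ∀ i, f i ∈ RingHom.ker φ.toRingHom)
    (g : MvPolynomial (Fin n) k) (hker : ∀ x ∈ RingHom.ker φ.toRingHom, g * x ∈ Ideal.span (Set.range f))
    (hht : ∀ Q ∈ (Ideal.span (Set.range f)).minimalPrimes, g ∉ Q → Q.height = c) :
    Synt.IsGlobalCI k (Localization.Away (φ g)) := by
  let A := MvPolynomial (Fin n) k
  let J := Ideal.span (Set.range f)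
  let B := A ⧸ J
  let gb : B := Ideal.Quotient.mk J g
  let T := Localization.Away gb
  let ψ : B →ₐ[k] S := Ideal.Quotient.liftₐ J φ fun x hx =>
    RingHom.mem_ker.mp (Ideal.span_le.mpr (by rintro _ ⟨i, rfl⟩; exact hf i) hx)
  have hψ : Function.Surjective ψ := fun y => by
    obtain ⟨x, rfl⟩ := hφ y
    exact ⟨Ideal.Quotient.mk J x, rfl⟩
  have hψker : ∀ b ∈ RingHom.ker ψ.toRingHom, algebraMap B T b = 0 := by
    intro b hb
    obtain ⟨x, rfl⟩ := Ideal.Quotient.mk_surjective b
    refine (IsLocalization.map_eq_zero_iff (Submonoid.powers gb) T _).mpr ⟨⟨gb, Submonoid.mem_powers gb⟩, ?_⟩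
    show gb * Ideal.Quotient.mk J x = 0
    rw [← map_mul]
    exact Ideal.Quotient.eq_zero_iff_mem.mpr (hker x hb)
  let j : S →+* T := RingHom.liftOfSurjective ψ.toRingHom hψ ⟨algebraMap B T, fun b hb => hψker b hb⟩
  have hj : ∀ b, j (ψ b) = algebraMap B T b := fun b =>
    RingHom.liftOfRightInverse_comp_apply ψ.toRingHom (Function.surjInv hψ) (Function.rightInverse_surjInv hψ)
      ⟨algebraMap B T, fun b hb => hψker b hb⟩ b
  letI : Algebra S T := j.toAlgebra
  haveI : IsScalarTower k S T := IsScalarTower.of_algebraMap_eq fun a => by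
    rw [← ψ.commutes a]
    exact (IsScalarTower.algebraMap_apply k B T a).trans (hj _).symm
  haveI : IsLocalization ((Submonoid.powers gb).map ψ.toRingHom) T := by
    refine IsLocalization.of_surjective (Submonoid.powers gb) T ψ.toRingHom hψ (RingHom.id T) Function.surjective_id
      (RingHom.ext fun b => (hj b).symm) ?_
    rw [RingHom.ker_coe_equiv (RingEquiv.refl T) |> fun _ => show RingHom.ker (RingHom.id T) = ⊥ from Ideal.ext fun _ => Iff.rfl]
    exact bot_le
  haveI : IsLocalization.Away (φ g) T := by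
    show IsLocalization (Submonoid.powers (φ g)) T
    rwa [Submonoid.map_powers] at *
  refine isGlobalCI_congr ((IsLocalization.algEquiv (Submonoid.powers (φ g)) T (Localization.Away (φ g))).restrictScalars k) ?_
  rcases subsingleton_or_nontrivial T with hT | hT
  · exact Or.inl hT
  -- dimension bound
  let κ : PrimeSpectrum T → PrimeSpectrum A := fun x =>
    PrimeSpectrum.comap ((algebraMap B T).comp (Ideal.Quotient.mk J)) x
  have hκ : StrictMono κ := fun a b hab => by
    refine Monotone.strictMono_of_injective (f := κ) (fun _ _ h => Ideal.comap_mono h) (fun x y hxy => ?_) hab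
    refine PrimeSpectrum.localization_comap_injective T (Submonoid.powers gb) ?_
    exact PrimeSpectrum.comap_injective_of_surjective _ Ideal.Quotient.mk_surjective hxy
  have hcn : ∀ x : PrimeSpectrum T, c ≤ n ∧ Order.coheight (κ x) ≤ ((n - c : ℕ) : ℕ∞) := by
    intro x
    have hJx : J ≤ (κ x).asIdeal := fun a ha => by
      show algebraMap B T (Ideal.Quotient.mk J a) ∈ x.asIdeal
      rw [Ideal.Quotient.eq_zero_iff_mem.mpr ha, map_zero]
      exact zero_mem _
    obtain ⟨Q, hQ, hQx⟩ := Ideal.exists_minimalPrimes_le hJx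
    haveI := hQ.1.1
    have hgQ : g ∉ Q := fun hg => x.2.ne_top (Ideal.eq_top_of_isUnit_mem _ (hQx hg)
      (IsLocalization.Away.algebraMap_isUnit gb))
    have h1 := hht Q hQ hgQ
    have h2 := VarDim.height_add_coheight_mvPolynomial k n (⟨Q, inferInstance⟩ : PrimeSpectrum A)
    rw [← PrimeSpectrum.height_eq_orderHeight] at h2
    have h1' : (⟨Q, inferInstance⟩ : PrimeSpectrum A).asIdeal.height = c := h1
    rw [h1'] at h2
    have hle : Order.coheight (κ x) ≤ Order.coheight (⟨Q, inferInstance⟩ : PrimeSpectrum A) :=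
      Order.coheight_anti hQx
    cases hc : Order.coheight (⟨Q, inferInstance⟩ : PrimeSpectrum A) with
    | top => rw [hc] at h2; simp at h2
    | coe a =>
      rw [hc] at h2 hle
      have : c + a = n := by exact_mod_cast h2
      exact ⟨by omega, hle.trans (by exact_mod_cast (by omega : a ≤ n - c))⟩
  obtain ⟨m, hm⟩ := Ideal.exists_maximal T
  have hcn' := (hcn ⟨m, hm.isPrime⟩).1
  have hdim : ringKrullDim T ≤ ((n - c : ℕ) : WithBot ℕ∞) := by
    rw [ringKrullDim, Order.krullDim_eq_iSup_coheight]
    refine iSup_le fun x => ?_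
    exact WithBot.coe_le_coe.mpr ((Order.coheight_le_coheight_apply_of_strictMono _ hκ x).trans (hcn x).2)
  let P₀ : Algebra.Presentation k B (Fin n) (Fin c) :=
    { __ := Algebra.Generators.ofSurjective (fun x => Ideal.Quotient.mk J (.X x)) (by
        convert! (Ideal.Quotient.mkₐ_surjective k J); ext; simp)
      relation := f
      span_range_relation_eq_ker := by
        exact (Ideal.mk_ker (I := J)).symm.trans (by
          congr 1
          refine MvPolynomial.ringHom_ext (fun a => ?_) fun i => ?_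
          · refine Eq.trans ?_ (MvPolynomial.aeval_C (fun x => Ideal.Quotient.mk J (MvPolynomial.X x)) a).symm
            rfl
          · exact (MvPolynomial.aeval_X (R := k) (fun x => Ideal.Quotient.mk J (MvPolynomial.X x)) i).symm) }
  let Q : Algebra.Presentation k T (Unit ⊕ Fin n) (Unit ⊕ Fin c) :=
    (Algebra.Presentation.localizationAway T gb).comp P₀
  refine isGlobalCI_of_presentation Q (by simp; omega) (hdim.trans (le_of_eq ?_))
  rw [show Nat.card (Unit ⊕ Fin n) - Nat.card (Unit ⊕ Fin c) = n - c by simp; omega]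

/-- A complete intersection local ring spreads out to a global complete intersection. -/
theorem exists_away_isGlobalCI [Algebra.FiniteType k S] (q : Ideal S) [q.IsPrime]
    (h : Synt.IsCIOver k (Localization.AtPrime q)) :
    ∃ g : S, g ∉ q ∧ Synt.IsGlobalCI k (Localization.Away g) := by
  classical
  obtain ⟨n, φ, hφ⟩ := Algebra.FiniteType.iff_quotient_mvPolynomial''.mp ‹Algebra.FiniteType k S›
  obtain ⟨π, hπ, hkπ⟩ := exists_presentation_atPrime φ hφ q
  let P := q.comap φ.toRingHom
  let A := MvPolynomial (Fin n) k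
  let L := Localization.AtPrime P
  let I := RingHom.ker φ.toRingHom
  haveI : IsNoetherianRing S := Algebra.FiniteType.isNoetherianRing k S
  obtain ⟨rs, hrs, hrsI⟩ := isRegularIdeal_ker_of_isCIOver h π hπ
  rw [hkπ] at hrsI
  have hIP : I ≤ P := Ideal.comap_mono bot_le
  -- generators in `I`
  have hlift : ∀ i : Fin rs.length, ∃ f ∈ I, ∃ w : Lˣ, algebraMap A L f = w * rs.get i := by
    intro i
    obtain ⟨⟨⟨f, hf⟩, s⟩, he⟩ := (IsLocalization.mem_map_algebraMap_iff P.primeCompl L).mp
      (hrsI.le (Ideal.subset_span (rs.get_mem i)))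
    exact ⟨f, hf, (IsLocalization.map_units L s).unit, by rw [IsUnit.unit_spec, mul_comm]; exact he.symm⟩
  choose f hfI w hw using hlift
  have hspan : (Ideal.span (Set.range f)).map (algebraMap A L) = I.map (algebraMap A L) := by
    refine le_antisymm (Ideal.map_mono (Ideal.span_le.2 (by rintro _ ⟨i, rfl⟩; exact hfI i))) ?_
    rw [← hrsI, Ideal.ofList, Ideal.span_le]
    intro x hx
    obtain ⟨i, rfl⟩ := List.mem_iff_get.mp hx
    have h1 : algebraMap A L (f i) ∈ (Ideal.span (Set.range f)).map (algebraMap A L) :=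
      Ideal.mem_map_of_mem _ (Ideal.subset_span ⟨i, rfl⟩)
    have h2 := Ideal.mul_mem_left _ ((w i)⁻¹ : Lˣ).1 h1
    rwa [hw, Units.inv_mul_cancel_left] at h2
  let fs := List.ofFn f
  have hofList : Ideal.ofList fs = Ideal.span (Set.range f) := ofList_ofFn f
  have hmemL : ∀ x ∈ fs.map (algebraMap A L), x ∈ maximalIdeal L := by
    intro x hx
    obtain ⟨y, hy, rfl⟩ := List.mem_map.mp hx
    obtain ⟨i, rfl⟩ := List.mem_ofFn.mp hy
    exact (IsLocalization.AtPrime.to_map_mem_maximal_iff _ P _).mpr (hIP (hfI i))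
  have hregL : IsRegular L (fs.map (algebraMap A L)) := by
    haveI : LocCoh.IsCohenMacaulayLocalRing L := DepthLib.isCohenMacaulayLocalRing_of_isRegularLocalRing
    refine DepthLib.isRegular_of_isWeaklyRegular (I := maximalIdeal L) (EmbDef.isWeaklyRegular_of_dim _ hmemL ?_) hmemL
      (by rw [smul_eq_mul, Ideal.mul_top]; exact (maximalIdeal.isMaximal _).ne_top)
    rw [← Ideal.map_ofList, hofList, hspan, ← hrsI, List.length_map, List.length_ofFn]
    exact ringKrullDim_add_length_eq_ringKrullDim_of_isRegular rs hrs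
  -- an element clearing `I` into the span
  have hclear : ∀ x ∈ I, ∃ s ∉ P, s * x ∈ Ideal.span (Set.range f) := by
    intro x hx
    obtain ⟨s, hs, hsx⟩ := (IsLocalization.algebraMap_mem_map_algebraMap_iff P.primeCompl L _ x).mp
      (hspan.ge (Ideal.mem_map_of_mem _ hx))
    exact ⟨s, hs, hsx⟩
  obtain ⟨G, hG⟩ := IsNoetherian.noetherian I
  choose! s hs hsx using hclear
  let h0 := ∏ x ∈ G, s x
  have hh0 : h0 ∉ P := fun hm => by
    obtain ⟨x, hx, hxm⟩ := (inferInstance : P.IsPrime).prod_mem_iff.mp hm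
    exact hs x (hG ▸ Submodule.subset_span hx) hxm
  have hh0I : ∀ x ∈ I, h0 * x ∈ Ideal.span (Set.range f) := by
    intro x hx
    have : I ≤ (Ideal.span (Set.range f)).colon {h0} := by
      rw [show I = Submodule.span A (G : Set A) from hG.symm, Submodule.span_le]
      intro y hy
      rw [SetLike.mem_coe, Submodule.mem_colon_singleton, smul_eq_mul, mul_comm]
      show (∏ x ∈ G, s x) * y ∈ _
      rw [← Finset.prod_erase_mul _ _ hy, mul_assoc]
      exact Ideal.mul_mem_left _ _ (hsx y (hG ▸ Submodule.subset_span hy))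
    have := Submodule.mem_colon_singleton.mp (this hx)
    rwa [smul_eq_mul, mul_comm] at this
  -- an element avoiding the components away from `P`
  let MP := ((Ideal.ofList fs).finite_minimalPrimes_of_isNoetherianRing).toFinset
  have hg1 : ∃ g ∉ P, ∀ Q ∈ MP, ¬ Q ≤ P → g ∈ Q := by
    have hch : ∀ Q : Ideal A, ¬ Q ≤ P → ∃ x ∈ Q, x ∉ P := fun Q hQ => Set.not_subset.mp hQ
    choose! t htQ htP using hch
    refine ⟨∏ Q ∈ MP.filter (fun Q => ¬ Q ≤ P), t Q, fun hm => ?_, fun Q hQ hQP => ?_⟩
    · obtain ⟨Q, hQ, hm⟩ := (inferInstance : P.IsPrime).prod_mem_iff.mp hm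
      exact htP Q (Finset.mem_filter.mp hQ).2 hm
    · rw [← Finset.prod_erase_mul _ _ (Finset.mem_filter.mpr ⟨hQ, hQP⟩)]
      exact Ideal.mul_mem_left _ _ (htQ Q hQP)
  obtain ⟨g1, hg1P, hg1⟩ := hg1
  let g := h0 * g1
  have hgP : g ∉ P := fun hm => ((inferInstance : P.IsPrime).mem_or_mem hm).elim hh0 hg1P
  refine ⟨φ g, hgP, ?_⟩
  exact isGlobalCI_away_of_relations φ hφ f (fun i => hfI i) g
    (fun x hx => by rw [show g * x = g1 * (h0 * x) by ring]; exact Ideal.mul_mem_left _ _ (hh0I x hx))
    (fun Q hQ hgQ => by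
      rw [← hofList] at hQ
      have hQP : Q ≤ P := by
        by_contra hne
        exact hgQ (Ideal.mul_mem_left _ _ (hg1 Q ((Set.Finite.mem_toFinset _).mpr hQ) hne))
      rw [height_minimalPrime fs P hregL Q hQ hQP, List.length_ofFn])

theorem isCIOver_congr {A B : Type u} [CommRing A] [IsLocalRing A] [Algebra k A] [CommRing B] [IsLocalRing B]
    [Algebra k B] (e : A ≃ₐ[k] B) (h : Synt.IsCIOver k A) : Synt.IsCIOver k B := by
  obtain ⟨R, _, _, _, he, rs, hm, hr, ⟨e'⟩⟩ := h
  exact ⟨R, inferInstance, inferInstance, inferInstance, he, rs, hm, hr, ⟨e.symm.trans e'⟩⟩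

/-- The local ring of a localisation at `g` is the original local ring. -/
theorem exists_atPrime_away_equiv (q : Ideal S) [q.IsPrime] (g : S) (hg : g ∉ q) :
    ∃ (Q : Ideal (Localization.Away g)) (_ : Q.IsPrime),
      Nonempty (Localization.AtPrime Q ≃ₐ[k] Localization.AtPrime q) := by
  have hd : Disjoint (Submonoid.powers g : Set S) (q : Set S) := Set.disjoint_left.2 fun x ⟨i, hi⟩ hx =>
    hg ((inferInstance : q.IsPrime).mem_of_pow_mem i (show g ^ i ∈ q by rw [show g ^ i = x from hi]; exact hx))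
  let Q := q.map (algebraMap S (Localization.Away g))
  haveI : Q.IsPrime := IsLocalization.isPrime_of_isPrime_disjoint (Submonoid.powers g) _ q inferInstance hd
  have hc : Q.comap (algebraMap S (Localization.Away g)) = q :=
    IsLocalization.under_map_of_isPrime_disjoint (Submonoid.powers g) _ inferInstance hd
  haveI : IsLocalization q.primeCompl (Localization.AtPrime Q) := by
    have := IsLocalization.isLocalization_isLocalization_atPrime_isLocalization (Submonoid.powers g)
      (T := Localization.AtPrime Q) Q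
    convert this using 2
    exact hc.symm
  exact ⟨Q, inferInstance, ⟨(IsLocalization.algEquiv q.primeCompl (Localization.AtPrime Q) _).restrictScalars k⟩⟩

theorem isCIOver_atPrime_of_away (q : Ideal S) [q.IsPrime] (g : S) (hg : g ∉ q)
    (h : Synt.IsLCIOver k (Localization.Away g)) : Synt.IsCIOver k (Localization.AtPrime q) := by
  obtain ⟨Q, _, ⟨e⟩⟩ := exists_atPrime_away_equiv (k := k) q g hg
  obtain ⟨x, hx, hci⟩ := h.2 ⟨Q, inferInstance⟩
  obtain ⟨Q', _, ⟨e'⟩⟩ := exists_atPrime_away_equiv (k := k) Q x hx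
  exact isCIOver_congr (e'.trans e) (isCIOver_atPrime_of_isGlobalCI hci Q')

theorem isCIOver_atPrime_of_isLCIOver (h : Synt.IsLCIOver k S) (q : Ideal S) [q.IsPrime] :
    Synt.IsCIOver k (Localization.AtPrime q) := by
  obtain ⟨g, hg, hci⟩ := h.2 ⟨q, inferInstance⟩
  haveI := h.1
  haveI : Algebra.FiniteType S (Localization.Away g) := IsLocalization.finiteType_of_monoid_fg (Submonoid.powers g) _
  haveI : Algebra.FiniteType k (Localization.Away g) := Algebra.FiniteType.trans (R := k) (S := S) inferInstance inferInstance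
  exact isCIOver_atPrime_of_away q g hg (isLCIOver_of_isGlobalCI hci)

theorem isLCIOver_of_forall_maximal [Algebra.FiniteType k S]
    (h : ∀ (m : Ideal S) [m.IsMaximal], Synt.IsCIOver k (Localization.AtPrime m)) : Synt.IsLCIOver k S := by
  refine ⟨inferInstance, fun p => ?_⟩
  obtain ⟨m, hm, hpm⟩ := Ideal.exists_le_maximal p.asIdeal p.2.ne_top
  obtain ⟨g, hg, hci⟩ := exists_away_isGlobalCI m (h m)
  exact ⟨g, fun hgp => hg (hpm hgp), hci⟩

/-- A local ring essentially of finite type is the local ring of a finite type algebra. -/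
theorem exists_finiteType_atPrime {A : Type u} [CommRing A] [IsLocalRing A] [Algebra k A] [Algebra.EssFiniteType k A] :
    ∃ (B : Type u) (_ : CommRing B) (_ : Algebra k B) (_ : Algebra.FiniteType k B) (b : Ideal B) (_ : b.IsPrime),
      Nonempty (A ≃ₐ[k] Localization.AtPrime b) := by
  let B := Algebra.EssFiniteType.subalgebra k A
  let b : Ideal B := (maximalIdeal A).comap (algebraMap B A)
  haveI : b.IsPrime := Ideal.IsPrime.comap _
  have hM : Algebra.EssFiniteType.submonoid k A = b.primeCompl := by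
    ext x
    show IsUnit (algebraMap B A x) ↔ algebraMap B A x ∉ maximalIdeal A
    exact notMem_maximalIdeal.symm
  haveI : IsLocalization b.primeCompl A := hM ▸ Algebra.EssFiniteType.isLocalization k A
  exact ⟨B, inferInstance, inferInstance, inferInstance, b, inferInstance,
    ⟨(IsLocalization.algEquiv b.primeCompl A (Localization.AtPrime b)).restrictScalars k⟩⟩

/-- Every local ring essentially of finite type is a quotient of a regular one. -/
theorem exists_regular_presentation {A : Type u} [CommRing A] [IsLocalRing A] [Algebra k A] [Algebra.EssFiniteType k A] :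
    ∃ (R : Type u) (_ : CommRing R) (_ : IsRegularLocalRing R) (_ : Algebra k R) (_ : Algebra.EssFiniteType k R)
      (π : R →ₐ[k] A), Function.Surjective π := by
  obtain ⟨B, _, _, _, b, _, ⟨e⟩⟩ := exists_finiteType_atPrime (k := k) (A := A)
  obtain ⟨n, φ, hφ⟩ := Algebra.FiniteType.iff_quotient_mvPolynomial''.mp ‹Algebra.FiniteType k B›
  obtain ⟨π, hπ, -⟩ := exists_presentation_atPrime φ hφ b
  haveI : Algebra.EssFiniteType (MvPolynomial (Fin n) k) (Localization.AtPrime (b.comap φ.toRingHom)) :=
    Algebra.EssFiniteType.of_isLocalization _ (b.comap φ.toRingHom).primeCompl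
  exact ⟨Localization.AtPrime (b.comap φ.toRingHom), inferInstance, inferInstance, inferInstance,
    Algebra.EssFiniteType.comp k (MvPolynomial (Fin n) k) _, e.symm.toAlgHom.comp π, e.symm.surjective.comp hπ⟩

end AtPrime

end Groth.Agent.CI2
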