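import Groth.Agent.Lib.CI2.KoszulComp
import Groth.Agent.Lib.CI2.SyntScheme
import Groth.Agent.Lib.CI2.Complete
import Groth.Agent.Lib.CI2.FlatLCI
import Groth.Agent.S2169
import Groth.Agent.S9368
import Groth.Prelude.Def_CInt
import Mathlib

/-!
Flat Koszul morphisms are the complete intersection morphisms.
-/

set_option autoImplicit false
set_option linter.style.haveILetI false
universe u

open CategoryTheory CategoryTheory.Limits AlgebraicGeometry

namespace Groth.Agent.CI2

theorem isCIOver_iff_completeIntersection {k A : Type u} [Field k] [CommRing A] [IsLocalRing A] [Algebra k A]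
    [Algebra.EssFiniteType k A] : Synt.IsCIOver k A ↔ Pi1.IsCompleteIntersection A := by
  haveI : IsNoetherianRing A := Algebra.EssFiniteType.isNoetherianRing k A
  obtain ⟨R, _, _, _, _, π, hπ⟩ := exists_regular_presentation (k := k) (A := A)
  let I := RingHom.ker π.toRingHom
  have hI : I ≠ ⊤ := RingHom.ker_ne_top π.toRingHom
  haveI : IsLocalRing (R ⧸ I) := RegLoc.isLocalRing_quotient hI
  let e : R ⧸ I ≃+* A := RingHom.quotientKerEquivOfSurjective (f := π.toRingHom) hπ
  refine ⟨fun h => ?_, fun h => isCIOver_of_surjection π hπ ?_⟩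
  · exact S2169.isCI_congr e.symm ((isCompleteIntersection_quotient_iff I hI).2 (isRegularIdeal_ker_of_isCIOver h π hπ))
  · exact (isCompleteIntersection_quotient_iff I hI).1 (S2169.isCI_congr e h)

theorem stalk_isCIOver_iff_completeIntersection {k : Type u} [Field k] {X : Scheme.{u}}
    (p : X ⟶ Spec (CommRingCat.of k)) [LocallyOfFiniteType p] (x : X) :
    letI := ((Scheme.ΓSpecIso (CommRingCat.of k)).inv ≫ p.appLE ⊤ ⊤ le_top ≫ X.presheaf.germ ⊤ x trivial).hom.toAlgebra
    Synt.IsCIOver k (X.presheaf.stalk x) ↔ Pi1.IsCompleteIntersection (X.presheaf.stalk x) := by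
  obtain ⟨U, hU, hxU, -⟩ := exists_isAffineOpen_mem_and_subset (X := X) (U := ⊤) (x := x) trivial
  rw [S9368.stalk_isCIOver_iff p ⟨U, hU⟩ x hxU]
  letI := (S9368.str p U).hom.toAlgebra
  haveI : Algebra.FiniteType k Γ(X, U) := by
    have h1 : (p.appLE ⊤ U le_top).hom.FiniteType :=
      HasRingHomProperty.appLE @LocallyOfFiniteType p ‹_› ⟨⊤, isAffineOpen_top _⟩ ⟨U, hU⟩ le_top
    have h2 : (S9368.str p U).hom.FiniteType := by
      rw [S9368.str, CommRingCat.hom_comp]
      exact h1.comp (RingHom.FiniteType.of_surjective _ (ConcreteCategory.bijective_of_isIso _).surjective)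
    exact h2
  let q := (hU.primeIdealOf ⟨x, hxU⟩).asIdeal
  haveI : Algebra.EssFiniteType Γ(X, U) (Localization.AtPrime q) := Algebra.EssFiniteType.of_isLocalization _ q.primeCompl
  haveI : Algebra.EssFiniteType k (Localization.AtPrime q) := Algebra.EssFiniteType.comp k Γ(X, U) _
  refine isCIOver_iff_completeIntersection.trans ?_
  letI : Algebra Γ(X, U) (X.presheaf.stalk x) := (X.presheaf.germ U x hxU).hom.toAlgebra
  haveI : IsLocalization.AtPrime (X.presheaf.stalk x) q := hU.isLocalization_stalk ⟨x, hxU⟩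
  let e : X.presheaf.stalk x ≃ₐ[Γ(X, U)] Localization.AtPrime q := IsLocalization.algEquiv q.primeCompl _ _
  haveI : IsNoetherianRing (Localization.AtPrime q) := Algebra.EssFiniteType.isNoetherianRing k _
  haveI : IsNoetherianRing (X.presheaf.stalk x) := isNoetherianRing_of_ringEquiv _ e.symm.toRingEquiv
  exact ⟨S2169.isCI_congr e.toRingEquiv, S2169.isCI_congr e.symm.toRingEquiv⟩

theorem syntMor_of_isPullback_iso' {P X Y Z : Scheme.{u}} {fst : P ⟶ X} {snd : P ⟶ Y} {f : X ⟶ Z} {g : Y ⟶ Z}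
    (h : IsPullback fst snd f g) [IsIso g] (hsnd : syntMor snd) : syntMor f := by
  haveI := h.isIso_fst_of_isIso
  exact (MorphismProperty.arrow_mk_iso_iff syntMor (Arrow.isoMk (asIso fst) (asIso g) h.w)).1 hsnd

theorem pullback_fst_comp_snd {A B C D : Scheme.{u}} (f : B ⟶ C) (g : D ⟶ C) (j : A ⟶ B) :
    ((pullbackSymmetry (pullback.fst f g) j).hom ≫ (pullbackRightPullbackFstIso f g j).hom) ≫
      pullback.snd (j ≫ f) g = pullback.fst (pullback.fst f g) j ≫ pullback.snd f g := by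
  rw [Category.assoc, ← pullbackRightPullbackFstIso_inv_snd_snd f g j, Iso.hom_inv_id_assoc,
    pullbackSymmetry_hom_comp_snd_assoc]

theorem syntMor_fibre {X Y : Scheme.{u}} (f : X ⟶ Y) (hf : syntMor f) (y : Y) :
    syntMor (f.fiberToSpecResidueField y) := by
  wlog h : ∃ R, Y = Spec R generalizing X Y
  · obtain ⟨i, y', rfl⟩ := Y.affineCover.exists_eq y
    have hp := isPullback_fiberToSpecResidueField_of_isPullback (IsPullback.of_hasPullback f (Y.affineCover.f i)) y'
    have h1 := this (pullback.snd f (Y.affineCover.f _))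
      ((IsZariskiLocalAtTarget.iff_of_openCover (P := syntMor) Y.affineCover).1 hf _) y' ⟨_, rfl⟩
    haveI : IsOpenImmersion (Y.affineCover.f i) := Y.affineCover.map_prop i
    exact syntMor_of_isPullback_iso' hp h1
  obtain ⟨R, rfl⟩ := h
  wlog h : ∃ S, X = Spec S generalizing f X
  · have key : ∀ {W : Scheme.{u}} (j : W ⟶ X), syntMor ((j ≫ f).fiberToSpecResidueField y) →
        syntMor (pullback.fst (f.fiberι y) j ≫ f.fiberToSpecResidueField y) := by
      intro W j hj
      let e : pullback (f.fiberι y) j ≅ (j ≫ f).fiber y :=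
        pullbackSymmetry _ _ ≪≫ pullbackRightPullbackFstIso f ((Spec R).fromSpecResidueField y) j
      have h2 : e.hom ≫ (j ≫ f).fiberToSpecResidueField y =
          pullback.fst (f.fiberι y) j ≫ f.fiberToSpecResidueField y := by
        exact pullback_fst_comp_snd f ((Spec R).fromSpecResidueField y) j
      rw [← h2]
      exact (MorphismProperty.cancel_left_of_respectsIso syntMor e.hom _).2 hj
    refine (IsZariskiLocalAtSource.iff_of_openCover (P := syntMor)
      (X.affineCover.pullback₁ (f.fiberι y))).2 fun i => key _ ?_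
    haveI hoi : IsOpenImmersion (X.affineCover.f i) := X.affineCover.map_prop i
    exact this (X.affineCover.f i ≫ f) (IsZariskiLocalAtSource.comp (P := syntMor) hf _) ⟨_, rfl⟩
  obtain ⟨S, rfl⟩ := h
  obtain ⟨φ, rfl⟩ := Spec.map_surjective f
  have hφ : SyntHom φ.hom := (HasRingHomProperty.Spec_iff (P := syntMor)).1 hf
  algebraize [φ.hom]
  have hS : Synt.IsSyntomic R S := syntHom_algebraMap.1 hφ
  refine (MorphismProperty.arrow_mk_iso_iff syntMor (Spec.fiberToSpecResidueFieldIso R S y)).2 ?_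
  rw [HasRingHomProperty.Spec_iff (P := syntMor), CommRingCat.hom_ofHom, syntHom_algebraMap]
  exact S9368.isSyntomic_of_isLCIOver (hS.2.2 y)

theorem syntMor_iff_isCIMorphism {X Y : Scheme.{u}} (f : X ⟶ Y) [Flat f] [LocallyOfFinitePresentation f] :
    Synt.IsSyntomicMor f ↔ CInt.IsCIMorphism f := by
  constructor
  · intro hf
    refine ⟨inferInstance, inferInstance, fun x => ?_⟩
    let k := Y.residueField (f x)
    let p : f.fiber (f x) ⟶ Spec (CommRingCat.of k) := f.fiberToSpecResidueField (f x)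
    haveI : LocallyOfFiniteType p := by
      show LocallyOfFiniteType (pullback.snd f (Y.fromSpecResidueField (f x)))
      infer_instance
    have h := ((S9368.result k (f.fiber (f x)) p).out 0 2 rfl rfl).1 (syntMor_fibre f hf (f x)) (f.asFiber x)
    exact (stalk_isCIOver_iff_completeIntersection p (f.asFiber x)).1 h
  · rintro ⟨-, -, hci⟩
    refine syntMor_of_fibres f fun y => ?_
    let k := Y.residueField y
    let p : f.fiber y ⟶ Spec (CommRingCat.of k) := f.fiberToSpecResidueField y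
    haveI : LocallyOfFiniteType p := by
      show LocallyOfFiniteType (pullback.snd f (Y.fromSpecResidueField y))
      infer_instance
    refine ((S9368.result k (f.fiber y) p).out 0 2 rfl rfl).2 fun z => ?_
    refine (stalk_isCIOver_iff_completeIntersection p z).2 ?_
    obtain ⟨x, rfl⟩ : ∃ x, f x = y := ⟨f.fiberι y z, by
      have hz : f.fiberι y z ∈ Set.range (f.fiberι y) := ⟨z, rfl⟩
      rw [Scheme.Hom.range_fiberι] at hz
      exact hz⟩
    have hy : f (f.fiberι (f x) z) = f x := by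
      have hz : f.fiberι (f x) z ∈ Set.range (f.fiberι (f x)) := ⟨z, rfl⟩
      rw [Scheme.Hom.range_fiberι] at hz
      exact hz
    have key : ∀ (y : Y) (x : X) (z : f.fiber y), f x = y → f.fiberι y z = x →
        Pi1.IsCompleteIntersection ((f.fiber y).presheaf.stalk z) := by
      rintro y x z rfl hz
      obtain rfl : z = f.asFiber x := (f.fiberι (f x)).isEmbedding.injective (hz.trans (f.fiberι_asFiber x).symm)
      exact hci x
    exact key (f x) _ z hy rfl

theorem isLCI_appLE_of_isKoszulAt {X Y : Scheme.{u}} (f : X ⟶ Y) (hf : ∀ x, Synt.IsKoszulAt f x) {U : X.Opens}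
    (hU : IsAffineOpen U) {V : Y.Opens} (hV : IsAffineOpen V) (hUV : U ≤ f ⁻¹ᵁ V) :
    letI := (f.appLE V U hUV).hom.toAlgebra
    LCI.IsLCI Γ(Y, V) Γ(X, U) := by
  letI : Algebra Γ(Y, V) Γ(X, U) := (f.appLE V U hUV).hom.toAlgebra
  haveI := locallyOfFiniteType_of_isKoszulAt f hf
  haveI hft : Algebra.FiniteType Γ(Y, V) Γ(X, U) := Scheme.Hom.finiteType_appLE f hV hU hUV
  obtain ⟨n, φ, hφ⟩ := Algebra.FiniteType.iff_quotient_mvPolynomial''.1 hft
  refine ⟨hft, n, φ, hφ, ?_⟩
  let e : Γ(Y, V) ⟶ CommRingCat.of (MvPolynomial (Fin n) Γ(Y, V)) :=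
    CommRingCat.ofHom (algebraMap Γ(Y, V) (MvPolynomial (Fin n) Γ(Y, V)))
  let ψ : CommRingCat.of (MvPolynomial (Fin n) Γ(Y, V)) ⟶ Γ(X, U) := CommRingCat.ofHom φ.toRingHom
  haveI : IsClosedImmersion (Spec.map ψ) := IsClosedImmersion.spec_of_surjective ψ hφ
  haveI : Smooth (Spec.map e) := by
    rw [HasRingHomProperty.Spec_iff (P := @Smooth)]
    exact RingHom.smooth_algebraMap.2
      (show Algebra.Smooth Γ(Y, V) (MvPolynomial (Fin n) Γ(Y, V)) from ⟨inferInstance, inferInstance⟩)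
  have hψ : e ≫ ψ = f.appLE V U hUV := CommRingCat.hom_ext (AlgHom.comp_algebraMap φ)
  have hfac : (hU.isoSpec.hom ≫ Spec.map ψ) ≫ Spec.map e ≫ hV.fromSpec = U.ι ≫ f := by
    rw [Category.assoc, ← Spec.map_comp_assoc, hψ, IsAffineOpen.SpecMap_appLE_fromSpec f hV hU hUV,
      ← Category.assoc, ← hU.isoSpec_inv_ι, Iso.hom_inv_id_assoc]
  have h1 := isRegularImmersion_comp_open _ (koszul_of_isKoszulAt (hU.isoSpec.hom ≫ Spec.map ψ) (U.ι ≫ f)
    (isKoszulAt_comp_open f hf U.ι) (Spec.map e ≫ hV.fromSpec) hfac) hU.isoSpec.inv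
  rw [Iso.inv_hom_id_assoc] at h1
  exact (koszul_spec_iff ψ hφ).1 h1

theorem isKoszulAt_of_isLCI {X Y : Scheme.{u}} (f : X ⟶ Y) {U : X.Opens}
    (hU : IsAffineOpen U) {V : Y.Opens} (hV : IsAffineOpen V) (hUV : U ≤ f ⁻¹ᵁ V) {x : X} (hx : x ∈ U)
    (h : letI := (f.appLE V U hUV).hom.toAlgebra; LCI.IsLCI Γ(Y, V) Γ(X, U)) : Synt.IsKoszulAt f x := by
  letI : Algebra Γ(Y, V) Γ(X, U) := (f.appLE V U hUV).hom.toAlgebra
  obtain ⟨hft, n, φ, hφ, hKR⟩ := h
  let e : Γ(Y, V) ⟶ CommRingCat.of (MvPolynomial (Fin n) Γ(Y, V)) :=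
    CommRingCat.ofHom (algebraMap Γ(Y, V) (MvPolynomial (Fin n) Γ(Y, V)))
  let ψ : CommRingCat.of (MvPolynomial (Fin n) Γ(Y, V)) ⟶ Γ(X, U) := CommRingCat.ofHom φ.toRingHom
  haveI : IsClosedImmersion (Spec.map ψ) := IsClosedImmersion.spec_of_surjective ψ hφ
  haveI : Smooth (Spec.map e) := by
    rw [HasRingHomProperty.Spec_iff (P := @Smooth)]
    exact RingHom.smooth_algebraMap.2
      (show Algebra.Smooth Γ(Y, V) (MvPolynomial (Fin n) Γ(Y, V)) from ⟨inferInstance, inferInstance⟩)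
  have hψ : e ≫ ψ = f.appLE V U hUV := CommRingCat.hom_ext (AlgHom.comp_algebraMap φ)
  have hfac : (hU.isoSpec.hom ≫ Spec.map ψ) ≫ Spec.map e ≫ hV.fromSpec = U.ι ≫ f := by
    rw [Category.assoc, ← Spec.map_comp_assoc, hψ, IsAffineOpen.SpecMap_appLE_fromSpec f hV hU hUV,
      ← Category.assoc, ← hU.isoSpec_inv_ι, Iso.hom_inv_id_assoc]
  refine ⟨U, _, hU.isoSpec.hom ≫ Spec.map ψ, Spec.map e ≫ hV.fromSpec, hx, ?_,
    isRegularImmersion_comp_open _ ((koszul_spec_iff ψ hφ).2 hKR) _, inferInstance, hfac⟩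
  rw [← hfac]
  infer_instance

theorem forall_isKoszulAt_iff_isCIMorphism {X Y : Scheme.{u}} (f : X ⟶ Y) [Flat f] [LocallyOfFinitePresentation f] :
    (∀ x : X, Synt.IsKoszulAt f x) ↔ CInt.IsCIMorphism f := by
  rw [← syntMor_iff_isCIMorphism f]
  refine ⟨fun hf x => ?_, fun hf x => ?_⟩
  · obtain ⟨V, hV, hxV, -⟩ := exists_isAffineOpen_mem_and_subset (X := Y) (U := ⊤) (x := f x) trivial
    obtain ⟨U, hU, hxU, hUV⟩ := exists_isAffineOpen_mem_and_subset (U := f ⁻¹ᵁ V) (show x ∈ f ⁻¹ᵁ V from hxV)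
    refine ⟨⟨U, hU⟩, ⟨V, hV⟩, hUV, hxU, ?_⟩
    letI : Algebra Γ(Y, V) Γ(X, U) := (f.appLE V U hUV).hom.toAlgebra
    haveI : Module.Flat Γ(Y, V) Γ(X, U) := Scheme.Hom.flat_appLE f hV hU hUV
    exact isSyntomic_of_flat_of_isLCI (isLCI_appLE_of_isKoszulAt f hf hU hV hUV)
  · obtain ⟨⟨U, hU⟩, ⟨V, hV⟩, hUV, hxU, h⟩ := hf x
    exact isKoszulAt_of_isLCI f hU hV hUV hxU (letI := (f.appLE V U hUV).hom.toAlgebra; isLCI_of_isSyntomic h)

end Groth.Agent.CI2
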