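import Groth.Agent.Lib.CI2.BaseField
import Groth.Agent.Lib.CI2.KoszulFlat
import Groth.Agent.Lib.FlatDepth.FibreStalk

/-!
Complete intersection stalks under extension of the base field, for schemes and fibres.
-/

set_option autoImplicit false
set_option linter.style.haveILetI false
universe u

open CategoryTheory CategoryTheory.Limits AlgebraicGeometry

namespace Groth.Agent.CI2

theorem stalk_ci_iff {R : CommRingCat.{u}} [IsNoetherianRing R] {X : Scheme.{u}} (j : Spec R ⟶ X)
    [IsOpenImmersion j] (p : PrimeSpectrum R) :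
    Pi1.IsCompleteIntersection (X.presheaf.stalk (j p)) ↔
      Pi1.IsCompleteIntersection (Localization.AtPrime p.asIdeal) := by
  let e : X.presheaf.stalk (j p) ≃+* Localization.AtPrime p.asIdeal :=
    (@asIso _ _ _ _ (j.stalkMap (show ↥(Spec R) from p)) inferInstance ≪≫ Spec.stalkIso R p).commRingCatIsoToRingEquiv
  haveI : IsNoetherianRing (Localization.AtPrime p.asIdeal) := inferInstance
  haveI : IsNoetherianRing (X.presheaf.stalk (j p)) := isNoetherianRing_of_ringEquiv _ e.symm
  exact ⟨S2169.isCI_congr e.symm, S2169.isCI_congr e⟩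

/-- Complete intersection stalks under extension of the base field. -/
theorem ci_stalk_iff_of_isPullback {k k' : Type u} [Field k] [Field k'] (φ : CommRingCat.of k ⟶ CommRingCat.of k')
    {X X' : Scheme.{u}} {p : X' ⟶ X} {q : X' ⟶ Spec (CommRingCat.of k')} {f : X ⟶ Spec (CommRingCat.of k)}
    [LocallyOfFiniteType f] (h : IsPullback p q f (Spec.map φ)) (x' : X') :
    Pi1.IsCompleteIntersection (X.presheaf.stalk (p x')) ↔ Pi1.IsCompleteIntersection (X'.presheaf.stalk x') := by
  letI : Algebra k k' := φ.hom.toAlgebra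
  obtain ⟨U, hU, hxU, -⟩ := exists_isAffineOpen_mem_and_subset (X := X) (U := ⊤) (x := p x') trivial
  let A := Γ(X, U)
  let j : Spec A ⟶ X := hU.fromSpec
  obtain ⟨ψ, hψ⟩ := Spec.map_surjective (j ≫ f)
  letI : Algebra k A := ψ.hom.toAlgebra
  haveI : Algebra.FiniteType k A := by
    have h : LocallyOfFiniteType (Spec.map ψ) := hψ ▸ inferInstance
    exact (HasRingHomProperty.Spec_iff (P := @LocallyOfFiniteType)).1 h
  haveI : IsNoetherianRing A := Algebra.FiniteType.isNoetherianRing k A
  let T := CommRingCat.of (TensorProduct k k' A)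
  let inl : CommRingCat.of k' ⟶ T := CommRingCat.ofHom Algebra.TensorProduct.includeLeftRingHom
  let inr : A ⟶ T := CommRingCat.ofHom Algebra.TensorProduct.includeRight.toRingHom
  have hbig : IsPullback (Spec.map inl) (Spec.map inr) (Spec.map φ) (j ≫ f) := by
    rw [← hψ]
    exact isPullback_SpecMap_of_isPushout _ _ _ _ (CommRingCat.isPushout_tensorProduct k k' A)
  let J : Spec T ⟶ X' := h.lift (Spec.map inr ≫ j) (Spec.map inl) (by
    rw [Category.assoc]; exact hbig.w.symm)
  have sq : IsPullback J (Spec.map inr) p j := by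
    refine IsPullback.of_right ?_ (h.lift_fst _ _ _) h.flip
    rw [h.lift_snd]
    exact hbig
  haveI : IsOpenImmersion J := MorphismProperty.of_isPullback sq.flip inferInstance
  obtain ⟨y, hy⟩ : x' ∈ Set.range J := by
    have hr : Set.range (pullback.fst p j) = p ⁻¹ᵁ j.opensRange := IsOpenImmersion.range_pullbackFst _ _
    rw [← sq.isoPullback_hom_fst, Scheme.Hom.comp_base, TopCat.coe_comp, Set.range_comp,
      Set.range_eq_univ.2 sq.isoPullback.hom.surjective, Set.image_univ, hr]
    exact ⟨hU.primeIdealOf ⟨_, hxU⟩, hU.fromSpec_primeIdealOf _⟩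
  subst hy
  have hj : p (J y) = j (Spec.map inr y) := by
    rw [← Scheme.Hom.comp_apply, sq.w, Scheme.Hom.comp_apply]
  rw [hj]
  refine (stalk_ci_iff j (Spec.map inr y)).trans ?_
  haveI : IsNoetherianRing T := by
    show IsNoetherianRing (TensorProduct k k' A)
    haveI : Algebra.FiniteType k' (TensorProduct k k' A) := inferInstance
    exact Algebra.FiniteType.isNoetherianRing k' _
  refine Iff.trans ?_ (stalk_ci_iff J y).symm
  haveI : (show Ideal (TensorProduct k k' A) from y.asIdeal).IsPrime := y.isPrime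
  exact ci_iff_baseChange_field A (show Ideal (TensorProduct k k' A) from y.asIdeal)

/-- The fibre local ring does not depend on the presentation of the point. -/
theorem ci_fiber_stalk_iff {X S : Scheme.{u}} (f : X ⟶ S) [LocallyOfFiniteType f] (x : X) {y : S} (hx : f x = y)
    (z : ↥(f.fiber y)) (hz : f.fiberι y z = x) :
    Pi1.IsCompleteIntersection ((f.fiber y).presheaf.stalk z) ↔
      Pi1.IsCompleteIntersection ((f.fiber (f x)).presheaf.stalk (f.asFiber x)) := by
  subst hx
  haveI : LocallyOfFiniteType (f.fiberToSpecResidueField (f x)) := inferInstanceAs (LocallyOfFiniteType (pullback.snd f _))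
  haveI : IsLocallyNoetherian (f.fiber (f x)) := LocallyOfFiniteType.isLocallyNoetherian (f.fiberToSpecResidueField (f x))
  obtain ⟨e₁⟩ := FlatDepth.fiber_stalk_aux f x rfl specializes_rfl z hz
  obtain ⟨e₂⟩ := FlatDepth.fiber_stalk_aux f x rfl specializes_rfl (f.asFiber x) (f.fiberι_asFiber x)
  exact ⟨S2169.isCI_congr (e₂.symm.trans e₁), S2169.isCI_congr (e₁.symm.trans e₂)⟩

/-- Being a complete intersection in the fibre is compatible with base change. -/
theorem ci_fiber_iff_baseChange {X S X' S' : Scheme.{u}} (f : X ⟶ S) [LocallyOfFiniteType f] (g : S' ⟶ S)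
    (g' : X' ⟶ X) (f' : X' ⟶ S') (hsq : IsPullback g' f' f g) (x' : X') :
    Pi1.IsCompleteIntersection ((f'.fiber (f' x')).presheaf.stalk (f'.asFiber x')) ↔
      Pi1.IsCompleteIntersection ((f.fiber (f (g' x'))).presheaf.stalk (f.asFiber (g' x'))) := by
  have hfib := isPullback_fiberToSpecResidueField_of_isPullback hsq (f' x')
  let μ : f'.fiber (f' x') ⟶ f.fiber (g (f' x')) :=
    pullback.map _ _ _ _ g' (Spec.map (g.residueFieldMap (f' x'))) g hsq.w.symm (by simp)
  have hx : f (g' x') = g (f' x') := by rw [← Scheme.Hom.comp_apply, hsq.w, Scheme.Hom.comp_apply]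
  have hz : f.fiberι (g (f' x')) (μ (f'.asFiber x')) = g' x' := by
    rw [← Scheme.Hom.comp_apply, show μ ≫ f.fiberι _ = f'.fiberι _ ≫ g' from pullback.lift_fst _ _ _,
      Scheme.Hom.comp_apply, f'.fiberι_asFiber]
  rw [← ci_fiber_stalk_iff f (g' x') hx (μ (f'.asFiber x')) hz]
  have hlft : LocallyOfFiniteType (f.fiberToSpecResidueField (g (f' x'))) := inferInstanceAs (LocallyOfFiniteType (pullback.snd f _))
  exact (@ci_stalk_iff_of_isPullback (S.residueField (g (f' x'))) (S'.residueField (f' x')) _ _
    (g.residueFieldMap (f' x')) _ _ _ _ _ hlft hfib (f'.asFiber x')).symm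

end Groth.Agent.CI2
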