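import Mathlib

/-!
# Reflexive modules with no endomorphisms but scalars over reduced one-dimensional local rings
-/

set_option autoImplicit false
set_option linter.style.haveILetI false

universe u

namespace Groth.Agent.CI2.BassEnd

variable {R : Type u} [CommRing R]

theorem exists_nonZeroDivisor_mem [IsLocalRing R] [IsNoetherianRing R] [IsReduced R]
    (hm : IsLocalRing.maximalIdeal R ≠ ⊥) :
    ∃ x ∈ IsLocalRing.maximalIdeal R, x ∈ nonZeroDivisors R ∧ ∀ q ∈ minimalPrimes R, x ∉ q := by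
  classical
  have hfin : (minimalPrimes R).Finite := minimalPrimes.finite_of_isNoetherianRing R
  by_contra! h
  have hsub : (IsLocalRing.maximalIdeal R : Set R) ⊆ ⋃ q ∈ (hfin.toFinset : Set (Ideal R)), (q : Set R) := by
    intro x hx
    by_contra hx'
    simp only [Set.Finite.coe_toFinset, Set.mem_iUnion, exists_prop, not_exists, not_and] at hx'
    obtain ⟨q, hq, hxq⟩ := h x hx (mem_nonZeroDivisors_iff_right.2 fun z hz => by
      have : z ∈ nilradical R := by
        rw [nilradical, Ideal.radical_eq_sInf, Submodule.mem_sInf]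
        rintro q ⟨-, hq⟩
        obtain ⟨q0, hq0, hle⟩ := Ideal.exists_minimalPrimes_le (I := ⊥) (J := q) bot_le
        exact hle ((hq0.1.1.mem_or_mem (by rw [hz]; exact zero_mem _)).resolve_right (hx' q0 hq0))
      rwa [nilradical_eq_zero, Ideal.zero_eq_bot, Submodule.mem_bot] at this)
    exact hx' q hq hxq
  obtain ⟨q, hq, hle⟩ := (Ideal.subset_union_prime ⊥ ⊥ fun q hq _ _ => (hfin.mem_toFinset.1 hq).1.1).1 hsub
  have hqm : q = IsLocalRing.maximalIdeal R :=
    le_antisymm (IsLocalRing.le_maximalIdeal (hfin.mem_toFinset.1 hq).1.1.ne_top) hle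
  apply hm
  rw [eq_bot_iff, ← Ideal.zero_eq_bot, ← nilradical_eq_zero R]
  intro z hz
  rw [nilradical, Ideal.radical_eq_sInf, Submodule.mem_sInf]
  rintro Q ⟨-, hQ⟩
  have := (hfin.mem_toFinset.1 hq).2 ⟨hQ, bot_le⟩ (hqm ▸ IsLocalRing.le_maximalIdeal hQ.ne_top)
  exact this (hqm ▸ hz)

theorem exists_socle [IsLocalRing R] [IsNoetherianRing R] (hdim : ringKrullDim R ≤ 1)
    {x : R} (hx : x ∈ IsLocalRing.maximalIdeal R) (hmin : ∀ q ∈ minimalPrimes R, x ∉ q) :
    ∃ a, a ∉ Ideal.span {x} ∧ ∀ t ∈ IsLocalRing.maximalIdeal R, t * a ∈ Ideal.span {x} := by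
  classical
  set m := IsLocalRing.maximalIdeal R
  have hrad : m ≤ (Ideal.span {x}).radical := by
    rw [Ideal.radical_eq_sInf]
    refine le_sInf ?_
    rintro Q ⟨hQ, hQp⟩
    by_contra hne
    obtain ⟨q, hq, hqQ⟩ := Ideal.exists_minimalPrimes_le (I := ⊥) (J := Q) bot_le
    have h1 : q < Q := lt_of_le_of_ne hqQ fun h => hmin q hq (h ▸ hQ (Ideal.mem_span_singleton_self x))
    have h2 : Q < m := lt_of_le_of_ne (IsLocalRing.le_maximalIdeal hQp.ne_top) fun h => hne (h ▸ le_rfl)
    let s : LTSeries (PrimeSpectrum R) :=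
      ((RelSeries.singleton _ ⟨q, hq.1.1⟩).snoc ⟨Q, hQp⟩ h1).snoc ⟨m, inferInstance⟩ (by
        simp only [RelSeries.last_snoc]; exact h2)
    have h3 : (s.length : WithBot ℕ∞) ≤ 1 := (Order.LTSeries.length_le_krullDim s).trans hdim
    have h4 : s.length = 2 := rfl
    rw [h4] at h3
    exact absurd h3 (by decide)
  obtain ⟨k, hk⟩ := Ideal.exists_pow_le_of_le_radical_of_fg hrad (IsNoetherian.noetherian m)
  have hex : ∃ n, m ^ n ≤ Ideal.span {x} := ⟨k, hk⟩
  let n := Nat.find hex
  have hn : m ^ n ≤ Ideal.span {x} := Nat.find_spec hex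
  have hn0 : n ≠ 0 := fun h0 => by
    rw [h0, pow_zero, Ideal.one_eq_top, top_le_iff, Ideal.span_singleton_eq_top] at hn
    exact hx hn
  obtain ⟨a, ha, hax⟩ := SetLike.not_le_iff_exists.1
    (Nat.find_min hex (Nat.sub_lt (Nat.pos_of_ne_zero hn0) one_pos))
  exact ⟨a, hax, fun t ht => hn (by
    rw [show n = n - 1 + 1 by omega, pow_succ']; exact Ideal.mul_mem_mul ht ha)⟩

theorem dual_eq_zero_of_principal [IsLocalRing R] [IsNoetherianRing R] {t : R} (ht : t ∈ nonZeroDivisors R)
    (hm : ∀ s ∈ IsLocalRing.maximalIdeal R, t ∣ s) (htm : t ∈ IsLocalRing.maximalIdeal R)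
    {M : Type u} [AddCommGroup M] [Module R M]
    (hf : ∀ (f : M →ₗ[R] R) (z : M), f z ∈ IsLocalRing.maximalIdeal R) (f : M →ₗ[R] R) : f = 0 := by
  have key : ∀ (n : ℕ) (f : M →ₗ[R] R) (z : M), t ^ n ∣ f z := by
    intro n
    induction n with
    | zero => intro f z; simp
    | succ n ih =>
      intro f z
      choose g hg using fun z => hm _ (hf f z)
      have hreg : ∀ {a b : R}, t * a = t * b → a = b := fun {a b} h =>
        (isRegular_iff_mem_nonZeroDivisors.2 ht).left h
      let G : M →ₗ[R] R :=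
        { toFun := g
          map_add' := fun a b => hreg (by rw [← hg, map_add, mul_add, ← hg, ← hg])
          map_smul' := fun r a => hreg (by
            rw [← hg, map_smul, smul_eq_mul, smul_eq_mul, RingHom.id_apply, hg a]; ring) }
      rw [hg z, pow_succ']
      exact mul_dvd_mul_left t (ih G z)
  refine LinearMap.ext fun z => ?_
  have : f z ∈ ⨅ n : ℕ, (Ideal.span {t}) ^ n := by
    refine Submodule.mem_iInf _ |>.2 fun n => ?_
    rw [Ideal.span_singleton_pow, Ideal.mem_span_singleton]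
    exact key n f z
  rwa [Ideal.iInf_pow_eq_bot_of_isLocalRing _ (fun h => by
    rw [Ideal.span_singleton_eq_top] at h; exact htm h), Submodule.mem_bot] at this

/-- Bass: a reflexive module with scalar endomorphisms only is free of rank one. -/
theorem nonempty_equiv_self [IsLocalRing R] [IsNoetherianRing R] [IsReduced R] (hdim : ringKrullDim R ≤ 1)
    (M : Type u) [AddCommGroup M] [Module R M]
    (hrefl : Function.Bijective (Module.Dual.eval R M))
    (hend : Function.Bijective (algebraMap R (Module.End R M))) : Nonempty (M ≃ₗ[R] R) := by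
  classical
  by_cases hsur : ∃ f : M →ₗ[R] R, Function.Surjective f
  · obtain ⟨f, hf⟩ := hsur
    obtain ⟨y, hy⟩ := hf 1
    let e : Module.End R M := (LinearMap.toSpanSingleton R M y).comp f
    obtain ⟨a, ha⟩ := hend.2 e
    have h1 : ∀ z, a • z = f z • y := fun z => LinearMap.congr_fun ha z
    have ha1 : a = 1 := by
      have := congrArg f (h1 y)
      rwa [map_smul, map_smul, hy, smul_eq_mul, mul_one, smul_eq_mul, mul_one] at this
    refine ⟨LinearEquiv.ofBijective f ⟨(injective_iff_map_eq_zero f).2 fun z hz => ?_, hf⟩⟩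
    have := h1 z
    rwa [ha1, one_smul, hz, zero_smul] at this
  exfalso
  push Not at hsur
  have hfm : ∀ (f : M →ₗ[R] R) (z : M), f z ∈ IsLocalRing.maximalIdeal R := fun f z => by
    by_contra hu
    rw [IsLocalRing.mem_maximalIdeal, mem_nonunits_iff, not_not] at hu
    exact hsur f fun r => ⟨(r * (hu.unit⁻¹ : Rˣ)) • z, by
      rw [map_smul, smul_eq_mul, mul_assoc, IsUnit.val_inv_mul, mul_one]⟩
  have hne : ∃ f : M →ₗ[R] R, f ≠ 0 := by
    by_contra! h
    haveI : Subsingleton (Module.Dual R M) := ⟨fun a b => (h a).trans (h b).symm⟩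
    have h1 : (1 : R) = 0 := hend.1 (LinearMap.ext fun z => hrefl.1 (LinearMap.ext fun f => by
      simp [Subsingleton.elim f 0]))
    exact one_ne_zero h1
  obtain ⟨x, hx, hxnzd, hxmin⟩ := exists_nonZeroDivisor_mem (R := R) (fun h => by
    obtain ⟨f, hf⟩ := hne
    exact hf (LinearMap.ext fun z => by simpa [h] using hfm f z))
  obtain ⟨a, hax, hat⟩ := exists_socle hdim hx hxmin
  have hreg : ∀ {c d : R}, x * c = x * d → c = d := fun {c d} h =>
    (isRegular_iff_mem_nonZeroDivisors.2 hxnzd).left h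
  choose φ hφ using fun t : IsLocalRing.maximalIdeal R => Ideal.mem_span_singleton.1 (hat t t.2)
  by_cases hu : ∃ t, IsUnit (φ t)
  · obtain ⟨t, hu⟩ := hu
    have hta : (t : R) * a ∈ nonZeroDivisors R := by
      rw [hφ t]; exact mul_mem hxnzd hu.mem_nonZeroDivisors
    obtain ⟨f, hf⟩ := hne
    refine hf (dual_eq_zero_of_principal (t := (t : R)) (mul_mem_nonZeroDivisors.1 hta).1 (fun s hs => ?_) t.2 hfm f)
    refine ⟨φ ⟨s, hs⟩ * (hu.unit⁻¹ : Rˣ), ?_⟩
    have h1 : a * (s * φ t) = a * (t * φ ⟨s, hs⟩) := by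
      have e1 := hφ ⟨s, hs⟩
      have e2 := hφ t
      linear_combination φ t * e1 - φ ⟨s, hs⟩ * e2
    have h2 := (isRegular_iff_mem_nonZeroDivisors.2 (mul_mem_nonZeroDivisors.1 hta).2).left h1
    rw [← mul_assoc, ← h2, mul_assoc, IsUnit.mul_val_inv, mul_one]
  push Not at hu
  let Φ : (IsLocalRing.maximalIdeal R) →ₗ[R] R :=
    { toFun := φ
      map_add' := fun s t => hreg (by rw [← hφ, mul_add, ← hφ, ← hφ, Submodule.coe_add, add_mul])
      map_smul' := fun r s => hreg (by
        rw [← hφ, smul_eq_mul, RingHom.id_apply, mul_left_comm x r, ← hφ, Submodule.coe_smul, smul_eq_mul, mul_assoc]) }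
  let Ψ : Module.Dual R M →ₗ[R] Module.Dual R M :=
    { toFun := fun f => Φ.comp (LinearMap.codRestrict (IsLocalRing.maximalIdeal R) f (hfm f))
      map_add' := fun f g => LinearMap.ext fun z => by
        show Φ _ = Φ _ + Φ _
        rw [← map_add]; rfl
      map_smul' := fun r f => LinearMap.ext fun z => by
        show Φ _ = r • Φ _
        rw [← map_smul]; rfl }
  let E := LinearEquiv.ofBijective (Module.Dual.eval R M) hrefl
  let h : Module.End R M := E.symm.toLinearMap.comp ((Ψ.dualMap).comp E.toLinearMap)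
  obtain ⟨a0, ha0⟩ := hend.2 h
  have key : ∀ (f : M →ₗ[R] R) (z : M), f z * a = f z * (x * a0) := fun f z => by
    have h1 : E (h z) = Ψ.dualMap (E z) := by simp [h]
    have h2 : f (h z) = Ψ f z := LinearMap.congr_fun h1 f
    rw [← ha0, Module.algebraMap_end_apply, map_smul, smul_eq_mul] at h2
    have h3 : x * Ψ f z = f z * a := (hφ ⟨f z, hfm f z⟩).symm
    rw [← h3, ← h2]; ring
  apply hax
  rw [Ideal.mem_span_singleton]
  refine ⟨a0, sub_eq_zero.1 (hend.1 (LinearMap.ext fun z => hrefl.1 (LinearMap.ext fun f => ?_)))⟩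
  simp only [Module.algebraMap_end_apply, map_zero, LinearMap.zero_apply, map_smul, LinearMap.smul_apply,
    Module.Dual.eval_apply, smul_eq_mul]
  linear_combination key f z

end Groth.Agent.CI2.BassEnd
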