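import Groth.Prelude.Def_Koszul
import Groth.Prelude.Def_LCI2
import Groth.Agent.Lib.CanElt.Koszul
import Mathlib

/-!
The mapping-cone Koszul complex in terms of the elementary model `CanElt.KObj`.
-/

set_option autoImplicit false
set_option linter.style.haveILetI false
universe u

open CategoryTheory CategoryTheory.Limits CochainComplex
open Groth.Agent.CanElt (KObj kd)

namespace Groth.Agent.CI2

variable (A : Type u) [CommRing A]

/-- The cone defining the Koszul complex of `f :: l`. -/
noncomputable abbrev cmap (f : A) (l : List A) : Koszul.koszul A l ⟶ Koszul.koszul A l := f • 𝟙 _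

theorem isZero_X_of_pos : ∀ (l : List A) (i : ℤ), 0 < i → IsZero ((Koszul.koszul A l).X i)
  | [], i, hi => HomologicalComplex.isZero_single_obj_X (ComplexShape.up ℤ) 0 _ i hi.ne'
  | f :: l, i, hi => (mappingCone.isZero_X_iff (cmap A f l) i).mpr
      ⟨isZero_X_of_pos l (i + 1) (by omega), isZero_X_of_pos l i hi⟩

/-- Splitting of a term of a mapping cone. -/
noncomputable def coneEquiv {K L : CochainComplex (ModuleCat.{u} A) ℤ} (φ : K ⟶ L) (i j : ℤ) (hij : i + 1 = j) :
    (mappingCone φ).X i ≃ₗ[A] (L.X i × K.X j) :=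
  LinearEquiv.ofLinearMap
    (((mappingCone.snd φ).v i i (add_zero i)).hom.prod ((mappingCone.fst φ).1.v i j hij).hom)
    (((mappingCone.inr φ).f i).hom.coprod ((mappingCone.inl φ).v j i (by omega)).hom)
    (by
      have h1 := congrArg ModuleCat.Hom.hom (mappingCone.inr_f_snd_v φ i)
      have h2 := congrArg ModuleCat.Hom.hom (mappingCone.inl_v_snd_v φ j i (by omega))
      have h3 := congrArg ModuleCat.Hom.hom (mappingCone.inr_f_fst_v φ i j hij)
      have h4 := congrArg ModuleCat.Hom.hom (mappingCone.inl_v_fst_v φ j i hij)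
      refine LinearMap.ext fun z => Prod.ext ?_ ?_
      · show ((mappingCone.snd φ).v i i (add_zero i)).hom
          (((mappingCone.inr φ).f i).hom z.1 + ((mappingCone.inl φ).v j i (by omega)).hom z.2) = z.1
        rw [map_add]
        exact (congrArg₂ (· + ·) (LinearMap.congr_fun h1 z.1) (LinearMap.congr_fun h2 z.2)).trans (add_zero _)
      · show ((mappingCone.fst φ).1.v i j hij).hom
          (((mappingCone.inr φ).f i).hom z.1 + ((mappingCone.inl φ).v j i (by omega)).hom z.2) = z.2
        rw [map_add]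
        exact (congrArg₂ (· + ·) (LinearMap.congr_fun h3 z.1) (LinearMap.congr_fun h4 z.2)).trans (zero_add _))
    (by
      refine LinearMap.ext fun z => ?_
      have h := congrArg ModuleCat.Hom.hom (mappingCone.id_X φ i j hij)
      have := LinearMap.congr_fun h z
      show ((mappingCone.inr φ).f i).hom (((mappingCone.snd φ).v i i (add_zero i)).hom z) +
        ((mappingCone.inl φ).v j i (by omega)).hom (((mappingCone.fst φ).1.v i j hij).hom z) = z
      rw [add_comm]
      simpa using this)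

theorem coneEquiv_apply {K L : CochainComplex (ModuleCat.{u} A) ℤ} (φ : K ⟶ L) (i j : ℤ) (hij : i + 1 = j)
    (z : (mappingCone φ).X i) : coneEquiv A φ i j hij z =
      (((mappingCone.snd φ).v i i (add_zero i)).hom z, ((mappingCone.fst φ).1.v i j hij).hom z) := rfl

theorem coneEquiv_d {K L : CochainComplex (ModuleCat.{u} A) ℤ} (φ : K ⟶ L) (i j k : ℤ) (hij : i + 1 = j) (hjk : j + 1 = k)
    (z : (mappingCone φ).X i) : coneEquiv A φ j k hjk (((mappingCone φ).d i j).hom z) =
      ((L.d i j).hom (coneEquiv A φ i j hij z).1 + (φ.f j).hom (coneEquiv A φ i j hij z).2,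
        -(K.d j k).hom (coneEquiv A φ i j hij z).2) := by
  have h1 := LinearMap.congr_fun (congrArg ModuleCat.Hom.hom (mappingCone.d_snd_v φ i j hij)) z
  have h2 := LinearMap.congr_fun (congrArg ModuleCat.Hom.hom (mappingCone.d_fst_v φ i j k hij hjk)) z
  rw [coneEquiv_apply, coneEquiv_apply]
  refine Prod.ext ?_ ?_
  · simpa [add_comm] using h1
  · simpa using h2

/-- The degree `-n` term is the elementary model. -/
noncomputable def kEquiv : ∀ (l : List A) (n : ℕ) (i : ℤ), i + n = 0 →
    ((Koszul.koszul A l).X i ≃ₗ[A] KObj A A l n)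
  | [], 0, i, h =>
    (eqToIso (congrArg ((Koszul.koszul A []).X) (show i = 0 by omega)) ≪≫
      HomologicalComplex.singleObjXSelf (ComplexShape.up ℤ) 0 (ModuleCat.of A A)).toLinearEquiv
  | [], n + 1, i, h =>
    haveI := ModuleCat.subsingleton_of_isZero (M := (Koszul.koszul A []).X i)
      (HomologicalComplex.isZero_single_obj_X (ComplexShape.up ℤ) 0 _ i (by omega))
    haveI : Subsingleton (KObj A A ([] : List A) (n + 1)) := inferInstanceAs (Subsingleton PUnit)
    LinearEquiv.ofSubsingleton _ _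
  | f :: l, 0, i, h =>
    haveI := ModuleCat.subsingleton_of_isZero (isZero_X_of_pos A l (i + 1) (by omega))
    haveI : Unique ((Koszul.koszul A l).X (i + 1)) := uniqueOfSubsingleton 0
    coneEquiv A (cmap A f l) i (i + 1) rfl ≪≫ₗ LinearEquiv.prodUnique ≪≫ₗ kEquiv l 0 i h
  | f :: l, n + 1, i, h =>
    coneEquiv A (cmap A f l) i (i + 1) rfl ≪≫ₗ (kEquiv l (n + 1) i h).prodCongr (kEquiv l n (i + 1) (by omega))

theorem kEquiv_cons_zero (f : A) (l : List A) (i : ℤ) (h : i + (0 : ℕ) = 0) (z : (Koszul.koszul A (f :: l)).X i) :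
    kEquiv A (f :: l) 0 i h z = kEquiv A l 0 i h (coneEquiv A (cmap A f l) i (i + 1) rfl z).1 := rfl

theorem kEquiv_cons_succ (f : A) (l : List A) (n : ℕ) (i : ℤ) (h : i + (n + 1 : ℕ) = 0) (z : (Koszul.koszul A (f :: l)).X i) :
    kEquiv A (f :: l) (n + 1) i h z =
      (kEquiv A l (n + 1) i h (coneEquiv A (cmap A f l) i (i + 1) rfl z).1,
        kEquiv A l n (i + 1) (by omega) (coneEquiv A (cmap A f l) i (i + 1) rfl z).2) := rfl

theorem cmap_f (f : A) (l : List A) (j : ℤ) (x : (Koszul.koszul A l).X j) :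
    ((cmap A f l).f j).hom x = f • x := by
  simp [cmap]

theorem kEquiv_d : ∀ (l : List A) (n : ℕ) (i : ℤ) (h : i + (n + 1 : ℕ) = 0) (z : (Koszul.koszul A l).X i),
    kEquiv A l n (i + 1) (by omega) (((Koszul.koszul A l).d i (i + 1)).hom z) = kd A A l n (kEquiv A l (n + 1) i h z)
  | [], n, i, h, z => by
    have : (Koszul.koszul A ([] : List A)).d i (i + 1) = 0 :=
      HomologicalComplex.single_obj_d (ComplexShape.up ℤ) 0 _ i (i + 1)
    rw [this]
    simp [kd]
  | f :: l, 0, i, h, z => by
    rw [kEquiv_cons_succ, CanElt.kd_zero_apply, kEquiv_cons_zero]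
    erw [coneEquiv_d A (cmap A f l) i (i + 1) (i + 1 + 1) rfl rfl z]
    rw [map_add, cmap_f, map_smul, kEquiv_d l 0 i h]
  | f :: l, n + 1, i, h, z => by
    rw [kEquiv_cons_succ A f l (n + 1) i, CanElt.kd_succ_apply, kEquiv_cons_succ A f l n (i + 1)]
    erw [coneEquiv_d A (cmap A f l) i (i + 1) (i + 1 + 1) rfl rfl z]
    rw [map_add, cmap_f, map_smul, kEquiv_d l (n + 1) i h, map_neg, kEquiv_d l n (i + 1) (by omega)]

/-- Exactness in homological degree `n+1` of the elementary model. -/
def ExactAt (l : List A) (n : ℕ) : Prop :=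
  ∀ z : KObj A A l (n + 1), kd A A l n z = 0 → ∃ w, kd A A l (n + 1) w = z

theorem isZero_homology_iff (l : List A) (n : ℕ) (i : ℤ) (h : i + (n + 1 : ℕ) = 0) :
    IsZero ((Koszul.koszul A l).homology i) ↔ ExactAt A l n := by
  rw [← HomologicalComplex.exactAt_iff_isZero_homology,
    HomologicalComplex.exactAt_iff' _ (i - 1) i (i + 1) (by simp) (by simp), ShortComplex.moduleCat_exact_iff]
  change (∀ x : (Koszul.koszul A l).X i, ((Koszul.koszul A l).d i (i + 1)).hom x = 0 →
    ∃ y : (Koszul.koszul A l).X (i - 1), ((Koszul.koszul A l).d (i - 1) i).hom y = x) ↔ _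
  constructor
  · intro hx z hz
    obtain ⟨y, hy⟩ := hx ((kEquiv A l (n + 1) i h).symm z) ((kEquiv A l n (i + 1) (by omega)).injective (by
      rw [kEquiv_d A l n i h, LinearEquiv.apply_symm_apply, hz, map_zero]))
    obtain ⟨j, rfl⟩ : ∃ j, i = j + 1 := ⟨i - 1, by omega⟩
    obtain ⟨y', hy'⟩ : ∃ y' : (Koszul.koszul A l).X j, ((Koszul.koszul A l).d j (j + 1)).hom y' =
        (kEquiv A l (n + 1) (j + 1) h).symm z := by
      rw [add_sub_cancel_right] at y
      exact exists_of_eq (show j + 1 - 1 = j by omega) hy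
    refine ⟨kEquiv A l (n + 2) j (by omega) y', ?_⟩
    rw [← kEquiv_d A l (n + 1) j (by omega), hy', LinearEquiv.apply_symm_apply]
  · intro hz x hx
    obtain ⟨j, rfl⟩ : ∃ j, i = j + 1 := ⟨i - 1, by omega⟩
    obtain ⟨w, hw⟩ := hz (kEquiv A l (n + 1) (j + 1) h x) (by rw [← kEquiv_d A l n (j + 1) h, hx, map_zero])
    refine exists_of_eq' (show j + 1 - 1 = j by omega) ⟨(kEquiv A l (n + 2) j (by omega)).symm w,
      (kEquiv A l (n + 1) (j + 1) h).injective ?_⟩
    rw [kEquiv_d A l (n + 1) j (by omega), LinearEquiv.apply_symm_apply, hw]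
where
  exists_of_eq {l : List A} {a b c : ℤ} (e : a = b) {y : (Koszul.koszul A l).X a} {x : (Koszul.koszul A l).X c}
      (hy : ((Koszul.koszul A l).d a c).hom y = x) : ∃ y' : (Koszul.koszul A l).X b, ((Koszul.koszul A l).d b c).hom y' = x := by
    subst e; exact ⟨y, hy⟩
  exists_of_eq' {l : List A} {a b c : ℤ} (e : a = b) {x : (Koszul.koszul A l).X c}
      (hy : ∃ y : (Koszul.koszul A l).X b, ((Koszul.koszul A l).d b c).hom y = x) :
      ∃ y' : (Koszul.koszul A l).X a, ((Koszul.koszul A l).d a c).hom y' = x := by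
    subst e; exact hy

theorem isKoszulRegularSeq_iff (l : List A) : LCI.IsKoszulRegularSeq A l ↔ ∀ n, ExactAt A l n := by
  constructor
  · intro h n
    exact (isZero_homology_iff A l n (-(n + 1 : ℕ)) (by omega)).mp (h _ (by omega))
  · intro h i hi
    rcases lt_or_gt_of_ne hi with hneg | hpos
    · exact (isZero_homology_iff A l ((-i).toNat - 1) i (by omega)).mpr (h _)
    · rw [← HomologicalComplex.exactAt_iff_isZero_homology]
      exact ShortComplex.exact_of_isZero_X₂ _ (isZero_X_of_pos A l i hpos)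

end Groth.Agent.CI2
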