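import Mathlib
import Groth.Prelude.Def_DTen
import Groth.Prelude.Def_Koszul

set_option autoImplicit false

universe u

open CategoryTheory CategoryTheory.Limits MonoidalCategory
open CochainComplex CochainComplex.HomComplex

namespace Groth.Agent.CI2.ConeTensor

variable {A : Type u} [CommRing A] {G G' L : CochainComplex (ModuleCat.{u} A) ℤ}

/-- Tensor product of cochain complexes. -/
noncomputable abbrev T (K L : CochainComplex (ModuleCat.{u} A) ℤ) : CochainComplex (ModuleCat.{u} A) ℤ :=
  HomologicalComplex.tensorObj K L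

/-- The summand inclusion. -/
noncomputable abbrev ιT (K L : CochainComplex (ModuleCat.{u} A) ℤ) (p q n : ℤ) (h : p + q = n) :
    K.X p ⊗ L.X q ⟶ (T K L).X n :=
  HomologicalComplex.ιTensorObj K L p q n h

lemma ιT_d (K L : CochainComplex (ModuleCat.{u} A) ℤ) (p q n p' q' n' : ℤ) (h : p + q = n)
    (hp : p + 1 = p') (hq : q + 1 = q') (hn : n + 1 = n') :
    ιT K L p q n h ≫ (T K L).d n n' =
      (K.d p p' ▷ L.X q) ≫ ιT K L p' q n' (by omega) +
        p.negOnePow • ((K.X p ◁ L.d q q') ≫ ιT K L p q' n' (by omega)) := by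
  rw [HomologicalComplex.mapBifunctor.d_eq, Preadditive.comp_add,
    HomologicalComplex.mapBifunctor.ι_D₁, HomologicalComplex.mapBifunctor.ι_D₂]
  rw [HomologicalComplex.mapBifunctor.d₁_eq _ _ _ _ (show (ComplexShape.up ℤ).Rel p p' from hp) _ _ (by dsimp; omega),
    HomologicalComplex.mapBifunctor.d₂_eq _ _ _ _ _ (show (ComplexShape.up ℤ).Rel q q' from hq) _ (by dsimp; omega)]
  congr 1
  exact one_smul _ _

lemma ιT_map {K K' : CochainComplex (ModuleCat.{u} A) ℤ} (φ : K ⟶ K') (L : CochainComplex (ModuleCat.{u} A) ℤ)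
    (p q n : ℤ) (h : p + q = n) :
    ιT K L p q n h ≫ (HomologicalComplex.tensorHom φ (𝟙 L)).f n = (φ.f p ▷ L.X q) ≫ ιT K' L p q n h := by
  rw [HomologicalComplex.ι_mapBifunctorMap]
  simp

variable (φ : G ⟶ G') (L)

noncomputable abbrev φT : T G L ⟶ T G' L := HomologicalComplex.tensorHom φ (𝟙 L)

noncomputable def α : Cochain (T G L) (T (mappingCone φ) L) (-1) :=
  Cochain.mk fun n m hnm => HomologicalComplex.mapBifunctorDesc fun a b h =>
    ((mappingCone.inl φ).v a (a - 1) (by omega) ▷ L.X b) ≫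
      ιT (mappingCone φ) L (a - 1) b m (by dsimp at h; omega)

lemma ι_α (a b n m : ℤ) (h : a + b = n) (hnm : n + (-1) = m) :
    ιT G L a b n h ≫ (α L φ).v n m hnm =
      ((mappingCone.inl φ).v a (a - 1) (by omega) ▷ L.X b) ≫
        ιT (mappingCone φ) L (a - 1) b m (by omega) := by
  rw [α, Cochain.mk_v]
  exact HomologicalComplex.ι_mapBifunctorDesc _ _ _ _

lemma ι_α' (a a' b n m : ℤ) (h : a + b = n) (hnm : n + (-1) = m) (ha : a + (-1) = a') :
    ιT G L a b n h ≫ (α L φ).v n m hnm =
      ((mappingCone.inl φ).v a a' ha ▷ L.X b) ≫ ιT (mappingCone φ) L a' b m (by omega) := by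
  obtain rfl : a' = a - 1 := by omega
  exact ι_α L φ a b n m h hnm

noncomputable abbrev β : T G' L ⟶ T (mappingCone φ) L := HomologicalComplex.tensorHom (mappingCone.inr φ) (𝟙 L)

theorem δα : δ (-1) 0 (α L φ) = Cochain.ofHom (φT L φ ≫ β L φ) := by
  refine Cochain.ext₀ _ _ fun n => ?_
  rw [δ_v (-1) 0 (by norm_num) _ n n (add_zero n) (n - 1) (n + 1) rfl rfl]
  apply HomologicalComplex.mapBifunctor.hom_ext
  intro a b h
  dsimp at h
  have e0 : ((0 : ℤ).negOnePow) = 1 := Int.negOnePow_zero
  rw [e0, one_smul, Preadditive.comp_add, Cochain.ofHom_v, HomologicalComplex.comp_f]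
  erw [reassoc_of% (ι_α' L φ a (a - 1) b n (n - 1) h (by omega) (by omega)),
    reassoc_of% (ιT_map φ L a b n h), ιT_map (mappingCone.inr φ) L a b n h,
    ιT_d (mappingCone φ) L (a - 1) b (n - 1) a (b + 1) n (by omega) (by omega) rfl (by omega),
    reassoc_of% (ιT_d G L a b n (a + 1) (b + 1) (n + 1) h rfl rfl rfl)]
  simp only [Preadditive.comp_add, Preadditive.add_comp, Category.assoc, Linear.comp_units_smul,
    Linear.units_smul_comp]
  erw [ι_α' L φ (a + 1) a b (n + 1) n (by omega) (by omega) (by omega),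
    ι_α' L φ a (a - 1) (b + 1) (n + 1) n (by omega) (by omega) (by omega)]
  rw [← comp_whiskerRight_assoc, ← whisker_exchange_assoc,
    mappingCone.inl_v_d φ a (a - 1) (a + 1) (by omega) (by omega)]
  rw [sub_eq_add_neg, MonoidalPreadditive.add_whiskerRight]
  simp only [← comp_whiskerRight_assoc, Preadditive.add_comp, Int.negOnePow_sub, Int.negOnePow_one, mul_neg, mul_one, Units.neg_smul]
  have hn : ∀ {X Y : ModuleCat.{u} A} (f : X ⟶ Y) (Z : ModuleCat.{u} A), (-f) ▷ Z = -(f ▷ Z) := fun f Z =>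
    (tensorRight Z).map_neg
  rw [hn]
  simp only [Preadditive.neg_comp, comp_whiskerRight, Category.assoc]
  abel

/-- The comparison map `cone (φ ⊗ L) ⟶ cone φ ⊗ L`. -/
noncomputable def comparison : mappingCone (φT L φ) ⟶ T (mappingCone φ) L :=
  mappingCone.desc (φT L φ) (α L φ) (β L φ) (δα L φ)

noncomputable def invf (n : ℤ) : (T (mappingCone φ) L).X n ⟶ (mappingCone (φT L φ)).X n :=
  HomologicalComplex.mapBifunctorDesc fun p q h =>
    ((mappingCone.fst φ).1.v p (p + 1) rfl ▷ L.X q) ≫ ιT G L (p + 1) q (n + 1) (by dsimp at h; omega) ≫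
      (mappingCone.inl (φT L φ)).v (n + 1) n (by omega) +
    ((mappingCone.snd φ).v p p (add_zero p) ▷ L.X q) ≫ ιT G' L p q n (by dsimp at h; omega) ≫
      (mappingCone.inr (φT L φ)).f n

lemma ι_invf (p p' q n : ℤ) (h : p + q = n) (hp : p + 1 = p') :
    ιT (mappingCone φ) L p q n h ≫ invf L φ n =
    ((mappingCone.fst φ).1.v p p' hp ▷ L.X q) ≫ ιT G L p' q (n + 1) (by omega) ≫
      (mappingCone.inl (φT L φ)).v (n + 1) n (by omega) +
    ((mappingCone.snd φ).v p p (add_zero p) ▷ L.X q) ≫ ιT G' L p q n h ≫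
      (mappingCone.inr (φT L φ)).f n := by
  subst hp
  exact HomologicalComplex.ι_mapBifunctorDesc _ _ _ _

lemma zero_whisker {X Y : ModuleCat.{u} A} (Z : ModuleCat.{u} A) : (0 : X ⟶ Y) ▷ Z = 0 :=
  (tensorRight Z).map_zero _ _

theorem comparison_invf (n : ℤ) : (comparison L φ).f n ≫ invf L φ n = 𝟙 _ := by
  apply mappingCone.ext_from _ (n + 1) n rfl
  · rw [comparison, mappingCone.inl_v_desc_f_assoc, Category.comp_id]
    apply HomologicalComplex.mapBifunctor.hom_ext
    intro a b h
    dsimp at h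
    erw [reassoc_of% (ι_α' L φ a (a - 1) b (n + 1) n h (by omega) (by omega)),
      ι_invf L φ (a - 1) a b n (by omega) (by omega)]
    rw [Preadditive.comp_add]
    simp only [← comp_whiskerRight_assoc, mappingCone.inl_v_fst_v, mappingCone.inl_v_snd_v,
      id_whiskerRight, zero_whisker, Category.id_comp, zero_comp, add_zero]
  · rw [comparison, mappingCone.inr_f_desc_f_assoc, Category.comp_id]
    apply HomologicalComplex.mapBifunctor.hom_ext
    intro a b h
    dsimp at h
    erw [reassoc_of% (ιT_map (mappingCone.inr φ) L a b n h), ι_invf L φ a (a + 1) b n h rfl]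
    rw [Preadditive.comp_add]
    simp only [← comp_whiskerRight_assoc, mappingCone.inr_f_fst_v, mappingCone.inr_f_snd_v,
      id_whiskerRight, zero_whisker, Category.id_comp, zero_comp, zero_add]

theorem invf_comparison (n : ℤ) : invf L φ n ≫ (comparison L φ).f n = 𝟙 _ := by
  apply HomologicalComplex.mapBifunctor.hom_ext
  intro p q h
  dsimp at h
  erw [reassoc_of% (ι_invf L φ p (p + 1) q n h rfl)]
  rw [Preadditive.add_comp, Category.comp_id, comparison]
  simp only [Category.assoc, mappingCone.inl_v_desc_f, mappingCone.inr_f_desc_f]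
  erw [ι_α' L φ (p + 1) p q (n + 1) n (by omega) (by omega) (by omega),
    ιT_map (mappingCone.inr φ) L p q n h]
  rw [← comp_whiskerRight_assoc, ← comp_whiskerRight_assoc, ← Preadditive.add_comp,
    ← MonoidalPreadditive.add_whiskerRight, mappingCone.id_X, id_whiskerRight, Category.id_comp]

/-- `cone (φ ⊗ L) ≅ cone φ ⊗ L`. -/
noncomputable def iso : mappingCone (φT L φ) ≅ T (mappingCone φ) L :=
  haveI : ∀ n, IsIso ((comparison L φ).f n) := fun n =>
    ⟨⟨invf L φ n, comparison_invf L φ n, invf_comparison L φ n⟩⟩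
  HomologicalComplex.Hom.isoOfComponents (fun n => asIso ((comparison L φ).f n))

theorem φT_smul (f : A) (K : CochainComplex (ModuleCat.{u} A) ℤ) : φT L (f • 𝟙 K) = f • 𝟙 (T K L) := by
  ext1 n
  apply HomologicalComplex.mapBifunctor.hom_ext
  intro a b h
  erw [ιT_map (f • 𝟙 K) L a b n h]
  simp only [HomologicalComplex.smul_f_apply, HomologicalComplex.id_f, MonoidalLinear.smul_whiskerRight, id_whiskerRight]
  simp only [Linear.smul_comp, Linear.comp_smul, Category.comp_id, Category.id_comp]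

/-- Transport of the cone of multiplication along an isomorphism. -/
noncomputable def coneMap {X Y : CochainComplex (ModuleCat.{u} A) ℤ} (e : X ≅ Y) (f : A) :
    mappingCone (f • 𝟙 X) ≅ mappingCone (f • 𝟙 Y) where
  hom := mappingCone.map _ _ e.hom e.hom (by simp)
  inv := mappingCone.map _ _ e.inv e.inv (by simp)
  hom_inv_id := by
    rw [← mappingCone.map_comp]
    simp [mappingCone.map_id]
  inv_hom_id := by
    rw [← mappingCone.map_comp]
    simp [mappingCone.map_id]

theorem koszul_tensor (f g : List A) :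
    Nonempty (T (Koszul.koszul A f) (Koszul.koszul A g) ≅ Koszul.koszul A (f ++ g)) := by
  induction f with
  | nil => exact ⟨HomologicalComplex.leftUnitor (Koszul.koszul A g)⟩
  | cons a f ih =>
    obtain ⟨e⟩ := ih
    refine ⟨(iso (Koszul.koszul A g) (a • 𝟙 (Koszul.koszul A f))).symm ≪≫ ?_⟩
    rw [φT_smul]
    exact coneMap e a

end Groth.Agent.CI2.ConeTensor
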