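import Mathlib
import Groth.Agent.S9651

set_option autoImplicit false

universe u

namespace Groth.Agent.CI2.ConstrJac
open Topology

variable {R S : Type u} [CommRing R] [CommRing S] [Algebra R S]

theorem piece {E : Set (PrimeSpectrum S)} (hE : IsConstructible E) {y : PrimeSpectrum S} (hy : y ∈ E) :
    ∃ P : Set (PrimeSpectrum S), IsLocallyClosed P ∧ P ⊆ E ∧ y ∈ P := by
  obtain ⟨cs, rfl⟩ := PrimeSpectrum.exists_constructibleSetData_iff.mpr hE
  simp only [PrimeSpectrum.ConstructibleSetData.toSet, Set.mem_iUnion] at hy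
  obtain ⟨C, hC, hyC⟩ := hy
  refine ⟨C.toSet, ?_, Set.subset_biUnion_of_mem (u := fun C : PrimeSpectrum.BasicConstructibleSetData S => C.toSet) hC, hyC⟩
  rw [PrimeSpectrum.BasicConstructibleSetData.toSet, Set.sdiff_eq]
  exact (PrimeSpectrum.isClosed_zeroLocus _).isLocallyClosed.inter
    (PrimeSpectrum.isClosed_zeroLocus _).isOpen_compl.isLocallyClosed

theorem closed_of_closedIn [IsJacobsonRing S] {E : Set (PrimeSpectrum S)} (hE : IsConstructible E)
    {y : PrimeSpectrum S} (hy : y ∈ E) (h : closure {y} ∩ E = {y}) : IsClosed ({y} : Set (PrimeSpectrum S)) := by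
  haveI := PrimeSpectrum.isJacobsonRing_iff_jacobsonSpace.mp ‹IsJacobsonRing S›
  obtain ⟨P, hP, hPE, hyP⟩ := piece hE hy
  refine isClosed_singleton_of_isLocallyClosed_singleton ?_
  have : ({y} : Set (PrimeSpectrum S)) = closure {y} ∩ P := by
    refine Set.Subset.antisymm (Set.singleton_subset_iff.mpr ⟨subset_closure rfl, hyP⟩) ?_
    exact fun a ha => h ▸ (⟨ha.1, hPE ha.2⟩ : a ∈ closure {y} ∩ E)
  rw [this]
  exact isClosed_closure.isLocallyClosed.inter hP

theorem closedIn_of_closed {E : Set (PrimeSpectrum S)} {y : PrimeSpectrum S} (hy : y ∈ E)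
    (h : IsClosed ({y} : Set (PrimeSpectrum S))) : closure {y} ∩ E = {y} := by
  rw [h.closure_eq]; exact Set.inter_eq_left.mpr (Set.singleton_subset_iff.mpr hy)

theorem comap_closed [IsJacobsonRing R] [Algebra.FiniteType R S]
    {y : PrimeSpectrum S} (h : IsClosed ({y} : Set (PrimeSpectrum S))) :
    IsClosed ({PrimeSpectrum.comap (algebraMap R S) y} : Set (PrimeSpectrum R)) := by
  rw [PrimeSpectrum.isClosed_singleton_iff_isMaximal] at h ⊢
  let k := S ⧸ y.asIdeal
  letI : Field k := Ideal.Quotient.field _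
  haveI : Algebra.FiniteType R k := Algebra.FiniteType.trans ‹Algebra.FiniteType R S› inferInstance
  haveI : Module.Finite R k := finite_of_finite_type_of_isJacobsonRing R k
  haveI : Algebra.IsIntegral R k := Algebra.IsIntegral.of_finite R k
  have hm := Ideal.isMaximal_comap_of_isIntegral_of_isMaximal (R := R) (⊥ : Ideal k)
  have hk : (⊥ : Ideal k).comap (algebraMap R k) = y.asIdeal.comap (algebraMap R S) := by
    ext r
    rw [Ideal.mem_comap, Ideal.mem_comap, Ideal.mem_bot]
    exact Ideal.Quotient.eq_zero_iff_mem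
  show (y.asIdeal.comap (algebraMap R S)).IsMaximal
  rw [← hk]; exact hm

theorem closed_mem_image [IsJacobsonRing S] {E : Set (PrimeSpectrum S)} (hE : IsConstructible E)
    {x : PrimeSpectrum R} (hx : x ∈ PrimeSpectrum.comap (algebraMap R S) '' E)
    (h : IsClosed ({x} : Set (PrimeSpectrum R))) :
    x ∈ PrimeSpectrum.comap (algebraMap R S) '' {y | y ∈ E ∧ closure {y} ∩ E = {y}} := by
  haveI := PrimeSpectrum.isJacobsonRing_iff_jacobsonSpace.mp ‹IsJacobsonRing S›
  obtain ⟨y, hy, rfl⟩ := hx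
  obtain ⟨P, hP, hPE, hyP⟩ := piece hE hy
  obtain ⟨z, ⟨hz, hzP⟩, hzc⟩ := nonempty_inter_closedPoints
    (Z := PrimeSpectrum.comap (algebraMap R S) ⁻¹' {PrimeSpectrum.comap (algebraMap R S) y} ∩ P)
    ⟨y, rfl, hyP⟩ ((h.preimage (by fun_prop)).isLocallyClosed.inter hP)
  exact ⟨z, ⟨hPE hzP, closedIn_of_closed (hPE hzP) hzc⟩, hz⟩

theorem image_closedIn_closed [IsJacobsonRing R] [Algebra.FiniteType R S]
    {E : Set (PrimeSpectrum S)} (hE : IsConstructible E)
    {x : PrimeSpectrum R} (hx : x ∈ PrimeSpectrum.comap (algebraMap R S) '' E)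
    (h : closure {x} ∩ PrimeSpectrum.comap (algebraMap R S) '' E = {x}) :
    IsClosed ({x} : Set (PrimeSpectrum R)) := by
  haveI := PrimeSpectrum.isJacobsonRing_iff_jacobsonSpace.mp ‹IsJacobsonRing R›
  obtain ⟨U, hU, hdense, hsub⟩ := Groth.Agent.S9651.result E hE x hx
  obtain ⟨w, hwU, hwc⟩ : (U ∩ closure {x}).Nonempty :=
    closure_nonempty_iff.mp ⟨x, hdense (subset_closure rfl)⟩
  obtain ⟨z, hzU, hz⟩ := mem_closure_iff.mp hwc U hU hwU
  rw [Set.mem_singleton_iff] at hz; subst hz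
  refine isClosed_singleton_of_isLocallyClosed_singleton ?_
  have : ({z} : Set (PrimeSpectrum R)) = U ∩ closure {z} := by
    refine Set.Subset.antisymm (Set.singleton_subset_iff.mpr ⟨hzU, subset_closure rfl⟩) ?_
    conv_rhs => rw [← h]
    exact fun a ha => ⟨ha.2, hsub ha⟩
  rw [this]
  exact hU.isLocallyClosed.inter isClosed_closure.isLocallyClosed

end Groth.Agent.CI2.ConstrJac
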