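/-
The conormal module of a Koszul-regular ideal is finite projective.
-/
import Groth.Prelude.Def_LCI2
import Groth.Agent.Lib.CI2.Conormal
import Mathlib.RingTheory.LocalProperties.FinitePresentation
import Mathlib.RingTheory.Flat.Localization
import Mathlib.RingTheory.Flat.EquationalCriterion

set_option linter.style.haveILetI false

universe u

namespace Groth.Agent.CI2

open Ideal

/-- `I/I²` is free over `R/I` when `I` is generated by a Koszul-regular sequence. -/
theorem free_cotangent_of_seq {R : Type u} [CommRing R] {I : Ideal R} (l : List R)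
    (hl : LCI.IsKoszulRegularSeq R l) (hI : I = Ideal.span {x | x ∈ l}) :
    Module.Free (R ⧸ I) I.Cotangent ∧ Module.Finite (R ⧸ I) I.Cotangent := by
  classical
  let f : Fin l.length → I := fun i =>
    ⟨l[i], hI.ge (Ideal.subset_span (List.getElem_mem i.2))⟩
  have hofn : List.ofFn (fun i => (f i : R)) = l := List.ofFn_getElem
  have hspan : Ideal.span (Set.range fun i => (f i : R)) = I := by
    refine Eq.trans (congrArg Ideal.span ?_) hI.symm
    ext x
    exact ⟨fun ⟨i, hi⟩ => hi ▸ List.getElem_mem i.2,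
      fun hx => let ⟨i, hi, hix⟩ := List.mem_iff_getElem.mp hx; ⟨⟨i, hi⟩, hix⟩⟩
  have hex := (isKoszulRegularSeq_iff_ex _).mp (hofn.symm ▸ hl)
  have hli : LinearIndependent (R ⧸ I) fun i => I.toCotangent (f i) := by
    rw [Fintype.linearIndependent_iff]
    intro g hg i
    choose a ha using fun i => Ideal.Quotient.mk_surjective (g i)
    have h0 : I.toCotangent (∑ i, a i • f i) = 0 := by
      rw [map_sum, ← hg]
      refine Finset.sum_congr rfl fun j _ => ?_
      rw [map_smul, ← ha j]
      rfl
    rw [Ideal.toCotangent_eq_zero] at h0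
    rw [← ha i, Ideal.Quotient.eq_zero_iff_mem, ← hspan]
    refine mem_of_sq_relation hex a ?_ i
    rw [hspan]
    simpa using h0
  have hsp : ⊤ ≤ Submodule.span (R ⧸ I) (Set.range fun i => I.toCotangent (f i)) := by
    rintro x -
    obtain ⟨⟨y, hy⟩, rfl⟩ := I.toCotangent_surjective x
    have hy' := hy
    rw [← hspan, Ideal.mem_span_range_iff_exists_fun] at hy'
    obtain ⟨c, hc⟩ := hy'
    have : (⟨y, hy⟩ : I) = ∑ i, c i • f i := Subtype.ext (by simp [hc])
    rw [this, map_sum]
    refine sum_mem fun i _ => ?_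
    rw [map_smul]
    exact Submodule.smul_of_tower_mem _ (c i) (Submodule.subset_span ⟨i, rfl⟩)
  exact ⟨.of_basis (Module.Basis.mk hli hsp), .of_basis (Module.Basis.mk hli hsp)⟩

set_option maxHeartbeats 800000 in
/-- The conormal module of a Koszul-regular ideal is finitely presented and projective. -/
theorem projective_cotangent_of_isKR {R : Type u} [CommRing R] {I : Ideal R}
    (hI : LCI.IsKoszulRegularIdeal I) :
    Module.FinitePresentation (R ⧸ I) I.Cotangent ∧ Module.Projective (R ⧸ I) I.Cotangent := by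
  classical
  let s : Set (R ⧸ I) := {x | ∃ g : R, Ideal.Quotient.mk I g = x ∧
    ∃ l : List (Localization.Away g), LCI.IsKoszulRegularSeq (Localization.Away g) l ∧
      I.map (algebraMap R (Localization.Away g)) = Ideal.span {x | x ∈ l}}
  have hs : Ideal.span s = ⊤ := by
    by_contra hne
    obtain ⟨m, hm, hle⟩ := Ideal.exists_le_maximal _ hne
    obtain ⟨g, hg, hl⟩ := hI ⟨m.comap (Ideal.Quotient.mk I), inferInstance⟩
      (fun x hx => by
        change Ideal.Quotient.mk I x ∈ m
        rw [Ideal.Quotient.eq_zero_iff_mem.2 hx]; exact m.zero_mem)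
    exact hg (hle (Ideal.subset_span ⟨g, rfl, hl⟩))
  choose g hg l hl hspan using fun r : s => r.2
  let S := fun r : s => Localization.Away (g r)
  let J := fun r : s => I.map (algebraMap R (S r))
  let Q := fun r : s => S r ⧸ J r
  have hloc : ∀ r : s, IsLocalization.Away r.1 (Q r) := fun r => by
    have h := IsLocalization.of_surjective (M := Submonoid.powers (g r)) (S := S r)
      (R' := R ⧸ I) (S' := Q r) (Ideal.Quotient.mk I) Ideal.Quotient.mk_surjective
      (Ideal.Quotient.mk (J r)) Ideal.Quotient.mk_surjective rfl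
      (by rw [Ideal.mk_ker, Ideal.mk_ker])
    rw [Submonoid.map_powers, hg r] at h
    exact h
  let N := fun r : s => (J r).Cotangent
  letI : ∀ r : s, Module (R ⧸ I) (N r) := fun r => Module.compHom _ (algebraMap (R ⧸ I) (Q r))
  haveI : ∀ r : s, IsScalarTower (R ⧸ I) (Q r) (N r) := fun r =>
    IsScalarTower.of_algebraMap_smul fun _ _ => rfl
  have hsm : ∀ (r : s) (a : R) (z : N r),
      Ideal.Quotient.mk I a • z = algebraMap R (S r) a • z := fun r a z => rfl
  -- the comparison map
  let f0 : ∀ r : s, ↥I →ₗ[R] N r := fun r =>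
    ((J r).toCotangent.restrictScalars R).comp (Algebra.idealMap I (S := S r))
  have hf0 : ∀ r : s, (I • ⊤ : Submodule R I) ≤ LinearMap.ker (f0 r) := fun r =>
    Submodule.smul_le.2 fun a ha z _ => by
      rw [LinearMap.mem_ker, map_smul, ← algebraMap_smul (S r) a]
      exact Ideal.Cotangent.smul_eq_zero_of_mem (Ideal.mem_map_of_mem _ ha) _
  let f1 : ∀ r : s, I.Cotangent →ₗ[R] N r := fun r => Submodule.liftQ _ (f0 r) (hf0 r)
  have hf1 : ∀ (r : s) (z : I), f1 r (I.toCotangent z) =
      (J r).toCotangent (Algebra.idealMap I (S := S r) z) := fun r z => rfl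
  let f : ∀ r : s, I.Cotangent →ₗ[R ⧸ I] N r := fun r =>
    { toFun := f1 r
      map_add' := map_add _
      map_smul' := fun c z => by
        obtain ⟨a, rfl⟩ := Ideal.Quotient.mk_surjective c
        rw [RingHom.id_apply, hsm, algebraMap_smul]
        exact (f1 r).map_smul a z }
  haveI : ∀ r : s, IsLocalizedModule (Submonoid.powers r.1) (f r) := fun r => by
    refine ⟨fun x => ?_, fun y => ?_, fun {z₁ z₂} h => ?_⟩
    · have hu : IsUnit (algebraMap (R ⧸ I) (Q r) x.1) := by
        haveI := hloc r
        exact IsLocalization.map_units (Q r) (M := Submonoid.powers r.1) x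
      obtain ⟨u, hu⟩ := hu
      rw [Module.End.isUnit_iff]
      refine Function.bijective_iff_has_inverse.2 ⟨fun v => (↑u⁻¹ : Q r) • v, fun v => ?_, fun v => ?_⟩
      · change (↑u⁻¹ : Q r) • (x.1 • v) = v
        rw [← algebraMap_smul (Q r) x.1 v, smul_smul, ← hu, Units.inv_mul, one_smul]
      · change x.1 • ((↑u⁻¹ : Q r) • v) = v
        rw [← algebraMap_smul (Q r) x.1, smul_smul, ← hu, Units.mul_inv, one_smul]
    · obtain ⟨w, rfl⟩ := (J r).toCotangent_surjective y
      obtain ⟨⟨z, t⟩, ht⟩ := IsLocalizedModule.surj (Submonoid.powers (g r))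
        (Algebra.idealMap I (S := S r)) w
      obtain ⟨n, hn⟩ := t.2
      refine ⟨(I.toCotangent z, ⟨r.1 ^ n, n, rfl⟩), ?_⟩
      change r.1 ^ n • (J r).toCotangent w = f1 r (I.toCotangent z)
      rw [hf1, ← ht, ← hg r, ← map_pow, hsm, algebraMap_smul, Submonoid.smul_def, ← hn,
        LinearMap.map_smul_of_tower]
    · obtain ⟨z₁, rfl⟩ := I.toCotangent_surjective z₁
      obtain ⟨z₂, rfl⟩ := I.toCotangent_surjective z₂
      change f1 r _ = f1 r _ at h
      rw [hf1, hf1, Ideal.toCotangent_eq, ← Ideal.map_pow] at h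
      have h' : algebraMap R (S r) ((z₁ : R) - z₂) ∈ (I ^ 2).map (algebraMap R (S r)) := by
        rw [map_sub]; exact h
      obtain ⟨⟨t, ht⟩, hmem⟩ := (IsLocalization.algebraMap_mem_map_algebraMap_iff
        (Submonoid.powers (g r)) (S r) (I ^ 2) ((z₁ : R) - z₂)).1 h' |> fun ⟨t, h₁, h₂⟩ =>
          (⟨⟨t, h₁⟩, h₂⟩ : ∃ t : Submonoid.powers (g r), t.1 * ((z₁ : R) - z₂) ∈ I ^ 2)
      obtain ⟨n, rfl⟩ := ht
      refine ⟨⟨r.1 ^ n, n, rfl⟩, ?_⟩
      change r.1 ^ n • I.toCotangent z₁ = r.1 ^ n • I.toCotangent z₂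
      rw [← hg r, ← map_pow]
      change g r ^ n • I.toCotangent z₁ = g r ^ n • I.toCotangent z₂
      rw [← map_smul, ← map_smul, Ideal.toCotangent_eq]
      simpa [mul_sub] using hmem
  have hfree : ∀ r : s, Module.Free (Q r) (N r) ∧ Module.Finite (Q r) (N r) := fun r =>
    free_cotangent_of_seq (l r) (hl r) (hspan r)
  haveI := fun r => hloc r
  have hfp : Module.FinitePresentation (R ⧸ I) I.Cotangent := by
    refine Module.FinitePresentation.of_localizationSpan' s hs (Rₚ := Q) (Mₚ := N) f fun r => ?_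
    haveI := (hfree r).1
    haveI := (hfree r).2
    exact Module.finitePresentation_of_projective _ _
  refine ⟨hfp, ?_⟩
  haveI : Module.Flat (R ⧸ I) I.Cotangent := by
    refine Module.flat_of_isLocalized_span (R := R ⧸ I) (S := R ⧸ I) _ s hs N f fun r => ?_
    haveI := (hfree r).1
    haveI : Module.Flat (R ⧸ I) (Q r) := IsLocalization.flat (Q r) (Submonoid.powers r.1)
    exact Module.Flat.trans (R ⧸ I) (Q r) (N r)
  exact Module.Flat.projective_of_finitePresentation

end Groth.Agent.CI2
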