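/-
A flat local algebra, essentially of finite type, with diagonal of finite tor dimension, is a local ring of a
smooth algebra.
-/
import Groth.Agent.Lib.CI2.DiagSmooth
import Groth.Agent.Lib.Descend.SmoothAtRing
import Groth.Agent.Lib.InfSmooth4.Ring
import Groth.Agent.Lib.RegSmooth17.Basic

universe u

open CategoryTheory TensorProduct IsLocalRing

set_option linter.style.haveILetI false

namespace Groth.Agent.CI2

/-- A point with a finite tor dimension residue field is regular. -/
theorem isRegularLocalRing_of_point {T K : Type u} [CommRing T] [IsNoetherianRing T] [Field K] [Algebra T K]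
    (hsurj : Function.Surjective (algebraMap T K)) {d : ℕ} (hd : DRing.HasTorDimLE T d K)
    (m : Ideal T) [m.IsPrime] (hm : m = RingHom.ker (algebraMap T K)) :
    IsRegularLocalRing (Localization.AtPrime m) := by
  haveI : Module.Finite T K := Module.Finite.of_surjective (Algebra.linearMap T K) hsurj
  have hpd : Groth.Agent.RegLoc.PD T K d := pd_le_of_torDim d K hd
  let eQ : K ≃ₗ[T] T ⧸ m :=
    (LinearEquiv.ofBijective
      (Submodule.liftQ m (Algebra.linearMap T K) fun x hx => by rw [hm] at hx; exact hx)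
      ⟨fun a b hab => by
        obtain ⟨a, rfl⟩ := Submodule.Quotient.mk_surjective _ a
        obtain ⟨b, rfl⟩ := Submodule.Quotient.mk_surjective _ b
        rw [Submodule.Quotient.eq, hm, RingHom.mem_ker, map_sub]
        exact sub_eq_zero.2 hab,
      fun c => by
        obtain ⟨x, rfl⟩ := hsurj c
        exact ⟨Submodule.Quotient.mk x, rfl⟩⟩).symm
  haveI : m.IsMaximal := hm ▸ RingHom.ker_isMaximal_of_surjective _ hsurj
  have hq := Groth.Agent.RegLoc.pd_localizedModule m.primeCompl (T ⧸ m) (hpd.congr eQ)
  haveI := IsLocalization.isNoetherianRing m.primeCompl (Localization.AtPrime m) inferInstance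
  refine Groth.Agent.RegLoc.isRegularLocalRing_of_pd _ d (hq.congr ?_)
  exact ((LocalizedModule.equivTensorProduct m.primeCompl (T ⧸ m)).trans
    (Ideal.qoutMapEquivTensorQout (Localization.AtPrime m)).symm).trans
    (Submodule.quotEquivOfEq _ _ Localization.AtPrime.map_eq_maximalIdeal)

/-- The residue field of a rational point is the base field. -/
theorem formallySmooth_residueField_of_point {K T : Type u} [Field K] [CommRing T] [Algebra K T]
    (g : T →ₐ[K] K) (m : Ideal T) [m.IsPrime] (hm : m = RingHom.ker g.toRingHom) :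
    Algebra.FormallySmooth K m.ResidueField := by
  haveI : m.IsMaximal := hm ▸ RingHom.ker_isMaximal_of_surjective g.toRingHom
    (fun c => ⟨algebraMap K T c, g.commutes c⟩)
  have hsurj : Function.Surjective (Algebra.ofId K m.ResidueField) := fun z => by
    obtain ⟨t, rfl⟩ := m.algebraMap_residueField_surjective z
    refine ⟨g t, ?_⟩
    change algebraMap K m.ResidueField (g t) = _
    rw [IsScalarTower.algebraMap_apply K T m.ResidueField, ← sub_eq_zero, ← map_sub,
      Ideal.algebraMap_residueField_eq_zero, hm, RingHom.mem_ker, map_sub, sub_eq_zero]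
    exact g.commutes _
  exact .of_equiv (AlgEquiv.ofBijective (Algebra.ofId K m.ResidueField)
    ⟨(algebraMap K m.ResidueField).injective, hsurj⟩)

theorem atPrime_of_away {C₀ C B : Type u} [CommRing C₀] [CommRing C] [CommRing B] [Algebra C₀ C]
    [Algebra C₀ B] [Algebra C B] [IsScalarTower C₀ C B] (x : C₀) [IsLocalization.Away x C] [IsLocalRing B]
    (q₀ : Ideal C₀) [q₀.IsPrime] [IsLocalization.AtPrime B q₀] (hx : x ∉ q₀) :
    IsLocalization.AtPrime B ((maximalIdeal B).comap (algebraMap C B)) := by
  haveI : IsLocalization (q₀.primeCompl.map (algebraMap C₀ C)) B :=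
    IsLocalization.isLocalization_of_submonoid_le C B (Submonoid.powers x) q₀.primeCompl
      (Submonoid.powers_le.2 hx)
  refine IsLocalization.of_le (q₀.primeCompl.map (algebraMap C₀ C)) _ ?_ ?_
  · rintro _ ⟨y, hy, rfl⟩ hmem
    rw [SetLike.mem_coe, Ideal.mem_comap, ← IsScalarTower.algebraMap_apply] at hmem
    exact hmem (IsLocalization.map_units B (⟨y, hy⟩ : q₀.primeCompl))
  · intro r hr
    exact notMem_maximalIdeal.1 hr

set_option maxHeartbeats 1000000 in
/-- The closed fibre is smooth at the point, seen over a big field. -/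
theorem mem_smoothLocus_fibre {A B C κ : Type u} [CommRing A] [CommRing B] [Algebra A B]
    [IsLocalRing B] [Module.Flat A B]
    [Algebra (B ⊗[A] B) B] (hmul : ∀ x y : B, algebraMap (B ⊗[A] B) B (x ⊗ₜ[A] y) = x * y)
    {d : ℕ} (h : DRing.HasTorDimLE (B ⊗[A] B) d B)
    [CommRing C] [Algebra A C] [Algebra.FiniteType A C] [Algebra C B] [IsScalarTower A C B]
    (q₀ : Ideal C) [q₀.IsPrime] [IsLocalization.AtPrime B q₀]
    [Field κ] [Algebra A κ] [Algebra κ (ResidueField B)] [IsScalarTower A κ (ResidueField B)]
    [Algebra.FinitePresentation κ (κ ⊗[A] C)] :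
    ∃ Q ∈ Algebra.smoothLocus κ (κ ⊗[A] C),
      Q.asIdeal.comap (Algebra.TensorProduct.includeRight (R := A) (A := κ) (B := C)).toRingHom = q₀ := by
  let K := AlgebraicClosure (ResidueField B)
  haveI : IsScalarTower A κ K := IsScalarTower.of_algebraMap_eq fun a => by
    rw [IsScalarTower.algebraMap_apply A (ResidueField B) K, IsScalarTower.algebraMap_apply κ (ResidueField B) K,
      ← IsScalarTower.algebraMap_apply A κ (ResidueField B)]
  haveI : IsScalarTower A B K := IsScalarTower.of_algebraMap_eq fun a => by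
    rw [IsScalarTower.algebraMap_apply A (ResidueField B) K, IsScalarTower.algebraMap_apply B (ResidueField B) K,
      ← IsScalarTower.algebraMap_apply A B (ResidueField B)]
  let χC : C →ₐ[A] K := (IsScalarTower.toAlgHom A B K).comp (IsScalarTower.toAlgHom A C B)
  let gT : K ⊗[A] C →ₐ[K] K :=
    Algebra.TensorProduct.lift (AlgHom.id K K) χC fun _ _ => Commute.all _ _
  let gB : K ⊗[A] B →ₐ[K] K :=
    Algebra.TensorProduct.lift (AlgHom.id K K) (IsScalarTower.toAlgHom A B K) fun _ _ => Commute.all _ _
  let φ : K ⊗[A] C →ₐ[K] K ⊗[A] B := Algebra.TensorProduct.map (AlgHom.id K K) (IsScalarTower.toAlgHom A C B)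
  letI : Algebra (K ⊗[A] C) (K ⊗[A] B) := φ.toRingHom.toAlgebra
  haveI : IsScalarTower K (K ⊗[A] C) (K ⊗[A] B) := IsScalarTower.of_algebraMap_eq fun c => (φ.commutes c).symm
  haveI := IsLocalization.tensorProduct_tensorProduct_right A K q₀.primeCompl B (by
    ext x
    change φ (1 ⊗ₜ[A] x) = 1 ⊗ₜ[A] algebraMap C B x
    simp [φ])
  haveI : IsNoetherianRing (K ⊗[A] C) := Algebra.FiniteType.isNoetherianRing K (K ⊗[A] C)
  haveI : IsNoetherianRing (K ⊗[A] B) := IsLocalization.isNoetherianRing
    (q₀.primeCompl.map (Algebra.TensorProduct.includeRight (R := A) (A := K))) _ inferInstance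
  letI : Algebra (K ⊗[A] B) K := gB.toRingHom.toAlgebra
  haveI : IsScalarTower B (B ⊗[A] B) B := IsScalarTower.of_algebraMap_smul fun b b' => by
    rw [Algebra.TensorProduct.algebraMap_apply, Algebra.smul_def, hmul]
    simp
  have hk : ∀ (c : K) (b : B), algebraMap (K ⊗[A] B) K (c ⊗ₜ[A] b) = c * algebraMap B K b := fun c b => by
    change gB (c ⊗ₜ[A] b) = _
    simp [gB]
  have hd := torDim_point B h 1
    (fun b => ⟨b, by rw [Algebra.smul_def, hmul, mul_one, mul_one]⟩) hk (algebraMap B K).toAddMonoidHom
    (algebraMap B K).map_one (fun x y b => by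
      change algebraMap B K ((x ⊗ₜ[A] y) • b) = algebraMap B K x * algebraMap B K y * algebraMap B K b
      rw [Algebra.smul_def, hmul, map_mul, map_mul])
  have hgB : Function.Surjective gB := fun c => ⟨algebraMap K _ c, gB.commutes c⟩
  let mB : Ideal (K ⊗[A] B) := RingHom.ker gB.toRingHom
  haveI : mB.IsPrime := RingHom.ker_isPrime _
  haveI : IsRegularLocalRing (Localization.AtPrime mB) := isRegularLocalRing_of_point hgB hd mB rfl
  let m : Ideal (K ⊗[A] C) := mB.comap (algebraMap (K ⊗[A] C) (K ⊗[A] B))
  haveI : m.IsPrime := Ideal.IsPrime.comap _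
  haveI : IsLocalization.AtPrime (Localization.AtPrime mB) m :=
    IsLocalization.isLocalization_isLocalization_atPrime_isLocalization
      (q₀.primeCompl.map (Algebra.TensorProduct.includeRight (R := A) (A := K))) (Localization.AtPrime mB) mB
  haveI : IsRegularLocalRing (Localization.AtPrime m) := IsRegularLocalRing.of_ringEquiv
    (IsLocalization.algEquiv m.primeCompl (Localization.AtPrime mB) (Localization.AtPrime m)).toRingEquiv
  have hmg : m = RingHom.ker gT.toRingHom := by
    have : gB.comp φ = gT := by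
      ext x
      simp [gB, φ, gT, χC]
    ext x
    rw [RingHom.mem_ker]
    change gB (φ x) = 0 ↔ gT x = 0
    rw [← this]; rfl
  haveI := formallySmooth_residueField_of_point gT m hmg
  haveI hsm : Algebra.IsSmoothAt K m :=
    Groth.Agent.RegSmooth17.isSmoothAt_of_isRegularLocalRing K (K ⊗[A] C) m
  -- transport to the base change of the fibre
  let e : K ⊗[κ] (κ ⊗[A] C) ≃ₐ[K] K ⊗[A] C := Algebra.TensorProduct.cancelBaseChange A κ K K C
  let m' : Ideal (K ⊗[κ] (κ ⊗[A] C)) := m.comap e.toRingEquiv.toRingHom
  haveI : m'.IsPrime := Ideal.IsPrime.comap _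
  haveI : Algebra.IsSmoothAt K m' := by
    letI : Algebra (K ⊗[κ] (κ ⊗[A] C)) (Localization.AtPrime m) :=
      ((algebraMap (K ⊗[A] C) (Localization.AtPrime m)).comp e.toRingEquiv.toRingHom).toAlgebra
    haveI : IsScalarTower K (K ⊗[κ] (κ ⊗[A] C)) (Localization.AtPrime m) :=
      IsScalarTower.of_algebraMap_eq (R := K) (S := K ⊗[κ] (κ ⊗[A] C)) (A := Localization.AtPrime m) fun c => by
        change _ = algebraMap (K ⊗[A] C) (Localization.AtPrime m) (e (algebraMap K _ c))
        rw [AlgEquiv.commutes, ← IsScalarTower.algebraMap_apply]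
    haveI : IsLocalization.AtPrime (Localization.AtPrime m) m' := by
      have h := IsLocalization.isLocalization_of_base_ringEquiv m.primeCompl (Localization.AtPrime m)
        e.toRingEquiv.symm
      have hM : m.primeCompl.map e.toRingEquiv.symm = m'.primeCompl := by
        ext x
        constructor
        · rintro ⟨y, hy, rfl⟩ hx
          exact hy (by simpa [m'] using hx)
        · intro hx
          exact ⟨e x, hx, e.toRingEquiv.symm_apply_apply x⟩
      rw [hM] at h
      exact h
    exact Algebra.FormallySmooth.of_equiv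
      ((IsLocalization.algEquiv m'.primeCompl (Localization.AtPrime m) (Localization.AtPrime m')).restrictScalars K)
  refine ⟨_, Groth.Agent.Descend.smoothLocus_of_baseChange (A := κ) (B := κ ⊗[A] C) (A' := K) ⟨m', inferInstance⟩
    ‹Algebra.IsSmoothAt K m'›, ?_⟩
  ext x
  have hmem : x ∈ q₀ ↔ algebraMap C B x ∈ maximalIdeal B := by
    rw [← not_iff_not]
    exact (IsLocalization.AtPrime.isUnit_to_map_iff B q₀ x).symm.trans notMem_maximalIdeal.symm
  rw [hmem]
  change e (1 ⊗ₜ[κ] ((1 : κ) ⊗ₜ[A] x)) ∈ m ↔ _
  have he : e (1 ⊗ₜ[κ] ((1 : κ) ⊗ₜ[A] x)) = (1 : K) ⊗ₜ[A] x := by simp [e]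
  rw [he, hmg, RingHom.mem_ker]
  have hg : gT.toRingHom ((1 : K) ⊗ₜ[A] x) = algebraMap B K (algebraMap C B x) := by
    simp [gT, χC]
  rw [hg, IsScalarTower.algebraMap_apply B (ResidueField B) K,
    map_eq_zero_iff _ (algebraMap (ResidueField B) K).injective]
  exact residue_eq_zero_iff _

set_option maxHeartbeats 1000000 in
theorem exists_smooth_of_diagonal {A B : Type u} [CommRing A] [CommRing B] [Algebra A B] [IsNoetherianRing A]
    [IsLocalRing A] [IsLocalRing B] [IsLocalHom (algebraMap A B)] [Module.Flat A B] [Algebra.EssFiniteType A B]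
    [Algebra (B ⊗[A] B) B] (hmul : ∀ x y : B, algebraMap (B ⊗[A] B) B (x ⊗ₜ[A] y) = x * y)
    (h : DRing.HasFiniteTorDim (B ⊗[A] B) B) :
    ∃ (C : Type u) (_ : CommRing C) (_ : Algebra A C) (_ : Algebra C B) (_ : IsScalarTower A C B)
      (q : Ideal C) (_ : q.IsPrime), Algebra.Smooth A C ∧ IsLocalization.AtPrime B q := by
  obtain ⟨d, hd⟩ := h
  let C₀ := Algebra.EssFiniteType.subalgebra A B
  let q₀ : Ideal C₀ := (maximalIdeal B).comap (algebraMap C₀ B)
  haveI : q₀.IsPrime := Ideal.IsPrime.comap _
  have hM : Algebra.EssFiniteType.submonoid A B = q₀.primeCompl := by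
    ext x
    show IsUnit (algebraMap C₀ B x) ↔ algebraMap C₀ B x ∉ maximalIdeal B
    exact notMem_maximalIdeal.symm
  haveI : IsLocalization.AtPrime B q₀ := by
    rw [IsLocalization.AtPrime, ← hM]
    exact Algebra.EssFiniteType.isLocalization A B
  let p : Ideal A := maximalIdeal A
  -- the map from the residue field
  have hker : ∀ a ∈ p, algebraMap A (ResidueField B) a = 0 := fun a ha => by
    rw [IsScalarTower.algebraMap_apply A B (ResidueField B)]
    exact (residue_eq_zero_iff _).2 (fun hu => ha ((isUnit_map_iff (algebraMap A B) a).1 hu))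
  let σ : p.ResidueField →ₐ[A] ResidueField B :=
    Ideal.ResidueField.liftₐ p (Algebra.ofId A (ResidueField B)) (fun a ha => hker a ha) fun a ha => by
      have hu : IsUnit a := IsLocalRing.notMem_maximalIdeal.1 ha
      exact hu.map _
  letI : Algebra p.ResidueField (ResidueField B) := σ.toRingHom.toAlgebra
  haveI : IsScalarTower A p.ResidueField (ResidueField B) :=
    IsScalarTower.of_algebraMap_eq fun a => (σ.commutes a).symm
  haveI : Algebra.FinitePresentation A C₀ := Algebra.FinitePresentation.of_finiteType.mp inferInstance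
  obtain ⟨Q, hQ, hQeq⟩ := mem_smoothLocus_fibre (κ := p.ResidueField) (C := C₀) hmul hd q₀
  -- spread out in the fibre
  obtain ⟨_, ⟨_, ⟨h', rfl⟩, rfl⟩, hh', hsub⟩ :=
    PrimeSpectrum.isBasis_basic_opens.exists_subset_of_mem_open hQ Algebra.isOpen_smoothLocus
  have hsurjR : Function.Surjective
      (Algebra.TensorProduct.includeRight (R := A) (A := p.ResidueField) (B := C₀)) := fun z => by
    induction z using TensorProduct.induction_on with
    | zero => exact ⟨0, map_zero _⟩
    | add a b ha hb =>
      obtain ⟨a, rfl⟩ := ha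
      obtain ⟨b, rfl⟩ := hb
      exact ⟨a + b, map_add _ _ _⟩
    | tmul c y =>
      obtain ⟨a, rfl⟩ := p.algebraMap_residueField_surjective c
      refine ⟨a • y, ?_⟩
      simp [Algebra.algebraMap_eq_smul_one, TensorProduct.smul_tmul]
  obtain ⟨x, rfl⟩ := hsurjR h'
  have hxq : x ∉ q₀ := fun hx => hh' (by rw [← hQeq] at hx; exact hx)
  have hu : IsUnit (algebraMap C₀ B x) := IsLocalization.map_units B (⟨x, hxq⟩ : q₀.primeCompl)
  let C₁ := Localization.Away x
  letI : Algebra C₁ B := (IsLocalization.Away.lift x hu).toAlgebra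
  haveI : IsScalarTower C₀ C₁ B := IsScalarTower.of_algebraMap_eq fun y => (IsLocalization.Away.lift_eq x hu y).symm
  haveI : IsScalarTower A C₁ B := IsScalarTower.of_algebraMap_eq (R := A) (S := C₁) (A := B) fun a => by
    rw [IsScalarTower.algebraMap_apply A C₀ B, IsScalarTower.algebraMap_apply A C₀ C₁,
      ← IsScalarTower.algebraMap_apply C₀ C₁ B]
  let q₁ : Ideal C₁ := (maximalIdeal B).comap (algebraMap C₁ B)
  haveI : q₁.IsPrime := Ideal.IsPrime.comap _
  haveI : IsLocalization.AtPrime B q₁ := atPrime_of_away x q₀ hxq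
  haveI : Algebra.FinitePresentation C₀ C₁ := IsLocalization.Away.finitePresentation x
  haveI : Algebra.FinitePresentation A C₁ := .trans A C₀ C₁
  haveI : q₁.LiesOver p := ⟨by
    ext a
    rw [Ideal.under_def, Ideal.mem_comap, Ideal.mem_comap, ← IsScalarTower.algebraMap_apply]
    refine ⟨fun ha hu => ha ((isUnit_map_iff (algebraMap A B) a).1 hu), fun ha => ?_⟩
    by_contra hap
    exact ha ((IsLocalRing.notMem_maximalIdeal.1 hap).map _)⟩
  haveI : Algebra.FormallySmooth p.ResidueField (p.Fiber C₁) := by
    let φ : p.ResidueField ⊗[A] C₀ →ₐ[p.ResidueField] p.ResidueField ⊗[A] C₁ :=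
      Algebra.TensorProduct.map (AlgHom.id _ _) (IsScalarTower.toAlgHom A C₀ C₁)
    letI : Algebra (p.ResidueField ⊗[A] C₀) (p.ResidueField ⊗[A] C₁) := φ.toRingHom.toAlgebra
    haveI : IsScalarTower p.ResidueField (p.ResidueField ⊗[A] C₀) (p.ResidueField ⊗[A] C₁) :=
      IsScalarTower.of_algebraMap_eq fun c => (φ.commutes c).symm
    have hloc := IsLocalization.tensorProduct_tensorProduct_right A p.ResidueField (Submonoid.powers x) C₁ (by
      ext y
      change φ (1 ⊗ₜ[A] y) = 1 ⊗ₜ[A] algebraMap C₀ C₁ y
      simp [φ])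
    rw [Submonoid.map_powers] at hloc
    haveI : IsLocalization.Away (Algebra.TensorProduct.includeRight (R := A) (A := p.ResidueField) x)
      (p.ResidueField ⊗[A] C₁) := hloc
    haveI := Algebra.basicOpen_subset_smoothLocus_iff.1 hsub
    exact Algebra.FormallySmooth.of_equiv ((IsLocalization.algEquiv
      (Submonoid.powers (Algebra.TensorProduct.includeRight (R := A) (A := p.ResidueField) x))
      (Localization.Away (Algebra.TensorProduct.includeRight (R := A) (A := p.ResidueField) x))
      (p.ResidueField ⊗[A] C₁)).restrictScalars p.ResidueField)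
  haveI : Module.Flat A (Localization.AtPrime q₁) := Module.Flat.of_linearEquiv
    (((IsLocalization.algEquiv q₁.primeCompl (Localization.AtPrime q₁) B).restrictScalars A).toLinearEquiv)
  haveI : Algebra.IsSmoothAt A q₁ := Groth.Agent.InfSmooth4.isSmoothAt_of_formallySmooth_fiber p q₁
  obtain ⟨y, hy, hsmooth⟩ := Algebra.IsSmoothAt.exists_notMem_smooth A q₁
  have huy : IsUnit (algebraMap C₁ B y) := IsLocalization.map_units B (⟨y, hy⟩ : q₁.primeCompl)
  letI : Algebra (Localization.Away y) B := (IsLocalization.Away.lift y huy).toAlgebra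
  haveI : IsScalarTower C₁ (Localization.Away y) B :=
    IsScalarTower.of_algebraMap_eq (R := C₁) (S := Localization.Away y) (A := B)
      fun z => (IsLocalization.Away.lift_eq y huy z).symm
  exact ⟨Localization.Away y, inferInstance, inferInstance, inferInstance,
    IsScalarTower.of_algebraMap_eq (R := A) (S := Localization.Away y) (A := B) (fun a => by
      rw [IsScalarTower.algebraMap_apply A C₁ B, IsScalarTower.algebraMap_apply A C₁ (Localization.Away y),
        ← IsScalarTower.algebraMap_apply C₁ (Localization.Away y) B]),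
    (maximalIdeal B).comap (algebraMap (Localization.Away y) B), Ideal.IsPrime.comap _, hsmooth,
    atPrime_of_away y q₁ hy⟩

end Groth.Agent.CI2
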