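import Mathlib

set_option autoImplicit false

universe u v

namespace Groth.Agent.CI2.Eakin

variable {B : Type u} {A : Type v} [CommRing B] [CommRing A] [Algebra B A]

theorem isNoetherian_of [IsNoetherianRing A] [Module.Finite B A] :
    ∀ J : Ideal A, IsNoetherian B (A ⧸ J) := by
  intro J
  induction J using WellFoundedGT.induction with
  | ind J IH => ?_
  obtain ⟨s, hs⟩ := (Module.Finite.fg_top : (⊤ : Submodule B (A ⧸ J)).FG)
  -- submodules containing no nonzero b • M
  let Sset : Set (Submodule B (A ⧸ J)) := {N | ∀ b : B, (∀ m, b • m ∈ N) → ∀ m : A ⧸ J, b • m = 0}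
  obtain ⟨N, -, hN⟩ := zorn_le_nonempty₀ Sset (fun c hcS hc y hy => by
    refine ⟨sSup c, fun b hb => ?_, fun z hz => le_sSup hz⟩
    have key : ∀ t : Finset (A ⧸ J), ∃ N ∈ c, ∀ m ∈ t, b • m ∈ N := by
      intro t
      classical
      induction t using Finset.induction_on with
      | empty => exact ⟨y, hy, by simp⟩
      | @insert m t _ ih =>
        obtain ⟨N, hN, hNt⟩ := ih
        obtain ⟨N', hN', hm⟩ := (Submodule.mem_sSup_of_directed ⟨y, hy⟩ hc.directedOn).mp (hb m)
        rcases hc.total hN hN' with h | h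
        · exact ⟨N', hN', fun z hz => (Finset.mem_insert.mp hz).elim (fun e => e ▸ hm) (fun e => h (hNt z e))⟩
        · exact ⟨N, hN, fun z hz => (Finset.mem_insert.mp hz).elim (fun e => e ▸ h hm) (fun e => hNt z e)⟩
    obtain ⟨N, hNc, hNs⟩ := key s
    refine hcS hNc b fun m => ?_
    have hm : m ∈ Submodule.span B (s : Set (A ⧸ J)) := hs ▸ Submodule.mem_top
    induction hm using Submodule.span_induction with
    | mem z hz => exact hNs z hz
    | zero => rw [smul_zero]; exact zero_mem _
    | add p q _ _ hp hq => rw [smul_add]; exact add_mem hp hq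
    | smul r p _ hp => rw [smul_comm]; exact N.smul_mem r hp) ⊥ (fun b hb m => (Submodule.mem_bot B).mp (hb m))
  haveI : IsNoetherian B ((A ⧸ J) ⧸ N) := by
    refine ⟨fun P => ?_⟩
    by_cases hP : P = ⊥
    · subst hP; exact Submodule.fg_bot
    let P' := P.comap N.mkQ
    have hlt : N < P' := by
      refine lt_of_le_of_ne (fun z hz => by simp [P', (Submodule.Quotient.mk_eq_zero N).mpr hz]) fun h => hP ?_
      rw [← Submodule.map_comap_eq_of_surjective N.mkQ_surjective P, show P.comap N.mkQ = N from h.symm,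
        Submodule.mkQ_map_self]
    have hPS : P' ∉ Sset := fun hS => (hN.2 hS hlt.le).not_gt hlt
    simp only [Sset, Set.mem_ofPred_eq, not_forall] at hPS
    obtain ⟨b, hbP, m, hm⟩ := hPS
    let J' : Ideal A := J ⊔ Ideal.span {algebraMap B A b}
    have hJJ : J < J' := by
      refine lt_of_le_of_ne le_sup_left fun h => hm ?_
      obtain ⟨m, rfl⟩ := Ideal.Quotient.mk_surjective m
      rw [Algebra.smul_def]
      have : algebraMap B A b * m ∈ J := J.mul_mem_right _ (h ▸ Submodule.mem_sup_right (Ideal.mem_span_singleton_self _))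
      exact Ideal.Quotient.eq_zero_iff_mem.mpr this
    haveI := IH J' hJJ
    let f : (A ⧸ J) →ₗ[B] A ⧸ J' := (Ideal.Quotient.factorₐ B (le_sup_left : J ≤ J')).toLinearMap
    let μ : (A ⧸ J) →ₗ[B] A ⧸ J := LinearMap.lsmul B (A ⧸ J) b
    have hker : LinearMap.ker f = LinearMap.range μ := by
      ext z
      obtain ⟨z, rfl⟩ := Ideal.Quotient.mk_surjective z
      constructor
      · intro hz
        have hz' : z ∈ J' := Ideal.Quotient.eq_zero_iff_mem.mp hz
        obtain ⟨j, hj, w, hw, rfl⟩ := Submodule.mem_sup.mp hz'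
        obtain ⟨w, rfl⟩ := Ideal.mem_span_singleton'.mp hw
        refine ⟨Ideal.Quotient.mk J w, ?_⟩
        show b • Ideal.Quotient.mk J w = _
        rw [map_add, Ideal.Quotient.eq_zero_iff_mem.mpr hj, zero_add, Algebra.smul_def, mul_comm w, map_mul]
        rfl
      · rintro ⟨w, hw⟩
        obtain ⟨w, rfl⟩ := Ideal.Quotient.mk_surjective w
        rw [LinearMap.mem_ker, ← hw]
        show Ideal.Quotient.factorₐ B (le_sup_left : J ≤ J') (b • Ideal.Quotient.mk J w) = 0
        rw [map_smul, Algebra.smul_def]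
        show Ideal.Quotient.mk J' (algebraMap B A b) * Ideal.Quotient.mk J' w = 0
        rw [Ideal.Quotient.eq_zero_iff_mem.mpr (Submodule.mem_sup_right (Ideal.mem_span_singleton_self _)), zero_mul]
    have hP' : P'.FG := by
      refine Submodule.fg_of_fg_map_of_fg_inf_ker f (IsNoetherian.noetherian _) ?_
      have hle : LinearMap.range μ ≤ P' := by rintro _ ⟨w, rfl⟩; exact hbP w
      rw [hker, inf_eq_right.mpr hle, LinearMap.range_eq_map]
      exact Module.Finite.fg_top.map _
    have := hP'.map N.mkQ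
    rwa [Submodule.map_comap_eq_of_surjective N.mkQ_surjective] at this
  let e : B →ₗ[B] (↥s → (A ⧸ J) ⧸ N) := LinearMap.pi fun i => N.mkQ ∘ₗ LinearMap.toSpanSingleton B (A ⧸ J) i
  have he : ∀ b, e b = 0 → ∀ m : A ⧸ J, b • m = 0 := by
    intro b hb
    refine hN.1 b fun m => ?_
    have hm : m ∈ Submodule.span B (s : Set (A ⧸ J)) := hs ▸ Submodule.mem_top
    induction hm using Submodule.span_induction with
    | mem z hz => exact (Submodule.Quotient.mk_eq_zero N).mp (congrFun hb ⟨z, hz⟩)
    | zero => rw [smul_zero]; exact zero_mem _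
    | add p q _ _ hp hq => rw [smul_add]; exact add_mem hp hq
    | smul r p _ hp => rw [smul_comm]; exact N.smul_mem r hp
  haveI : IsNoetherian B (↥s → (A ⧸ J) ⧸ N) := isNoetherian_pi
  haveI : IsNoetherian B (B ⧸ LinearMap.ker e) :=
    isNoetherian_of_injective ((LinearMap.ker e).liftQ e le_rfl)
      (LinearMap.ker_eq_bot.mp (Submodule.ker_liftQ_eq_bot _ _ _ le_rfl))
  let g : (↥s → B ⧸ LinearMap.ker e) →ₗ[B] A ⧸ J :=
    ∑ i : ↥s, ((LinearMap.ker e).liftQ (LinearMap.toSpanSingleton B (A ⧸ J) i) (fun b hb => he b hb _)) ∘ₗ LinearMap.proj i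
  refine isNoetherian_of_surjective g ?_
  rw [eq_top_iff, ← hs, Submodule.span_le]
  intro z hz
  classical
  refine ⟨Pi.single ⟨z, hz⟩ (Submodule.Quotient.mk 1), ?_⟩
  simp only [g, LinearMap.sum_apply, LinearMap.coe_comp, Function.comp_apply, LinearMap.proj_apply]
  rw [Finset.sum_eq_single (⟨z, hz⟩ : ↥s)]
  · rw [Pi.single_eq_same]; exact one_smul B z
  · intro i _ hi; rw [Pi.single_eq_of_ne hi, map_zero]
  · simp

/-- Eakin–Nagata. -/
theorem isNoetherianRing [IsNoetherianRing A] [Module.Finite B A]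
    (hinj : Function.Injective (algebraMap B A)) : IsNoetherianRing B := by
  haveI := isNoetherian_of (B := B) (A := A) ⊥
  refine isNoetherian_of_injective ((Ideal.Quotient.mkₐ B (⊥ : Ideal A)).toLinearMap ∘ₗ Algebra.linearMap B A) ?_
  intro x y h
  have h2 := Ideal.Quotient.eq.mp h
  rw [Ideal.mem_bot, sub_eq_zero] at h2
  exact hinj h2

end Groth.Agent.CI2.Eakin
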