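import Mathlib
import Groth.Prelude.Def_FlatCA

set_option autoImplicit false

universe u

namespace Groth.Agent.CI2.FibAss

open TensorProduct

attribute [local instance] Algebra.TensorProduct.rightAlgebra

theorem mem_ass_iff {R : Type*} [CommRing R] {M : Type*} [AddCommGroup M] [Module R M] {q : Ideal R} :
    q ∈ FlatCA.ass R M ↔ q.IsPrime ∧ ∃ m : M, ∀ a, a ∈ q ↔ a • m = 0 := by
  refine and_congr Iff.rfl (exists_congr fun m => ?_)
  rw [SetLike.ext_iff]
  simp only [Submodule.mem_annihilator_span_singleton]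

theorem ass_linearEquiv {R : Type*} [CommRing R] {A B : Type*} [AddCommGroup A] [Module R A]
    [AddCommGroup B] [Module R B] (e : A ≃ₗ[R] B) {q : Ideal R} :
    q ∈ FlatCA.ass R A ↔ q ∈ FlatCA.ass R B := by
  rw [mem_ass_iff, mem_ass_iff]
  refine and_congr Iff.rfl ⟨fun ⟨m, hm⟩ => ⟨e m, fun a => ?_⟩, fun ⟨m, hm⟩ => ⟨e.symm m, fun a => ?_⟩⟩
  · rw [hm, ← map_smul, e.map_eq_zero_iff]
  · rw [hm, ← map_smul, e.symm.map_eq_zero_iff]

theorem ass_of_injective {R : Type*} [CommRing R] {A B : Type*} [AddCommGroup A] [Module R A]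
    [AddCommGroup B] [Module R B] (f : A →ₗ[R] B) (hf : Function.Injective f) {q : Ideal R}
    (h : q ∈ FlatCA.ass R A) : q ∈ FlatCA.ass R B := by
  rw [mem_ass_iff] at h ⊢
  obtain ⟨hq, m, hm⟩ := h
  exact ⟨hq, f m, fun a => by rw [hm, ← map_smul, map_eq_zero_iff f hf]⟩

theorem ass_of_exact {R : Type*} [CommRing R] {A B C : Type*} [AddCommGroup A] [Module R A]
    [AddCommGroup B] [Module R B] [AddCommGroup C] [Module R C] (f : A →ₗ[R] B) (g : B →ₗ[R] C)
    (hf : Function.Injective f) (he : Function.Exact f g) {q : Ideal R}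
    (h : q ∈ FlatCA.ass R B) : q ∈ FlatCA.ass R A ∨ q ∈ FlatCA.ass R C := by
  rw [mem_ass_iff] at h
  obtain ⟨hq, m, hm⟩ := h
  by_cases hc : ∃ a, a ∉ q ∧ g (a • m) = 0
  · obtain ⟨a, ha, hga⟩ := hc
    obtain ⟨x, hx⟩ := (he _).mp hga
    refine Or.inl (mem_ass_iff.mpr ⟨hq, x, fun b => ?_⟩)
    rw [← map_eq_zero_iff f hf, map_smul, hx, smul_smul, ← hm]
    exact ⟨fun hb => q.mul_mem_right a hb, fun hb => (hq.mem_or_mem hb).resolve_right ha⟩
  · push Not at hc
    refine Or.inr (mem_ass_iff.mpr ⟨hq, g m, fun b => ⟨fun hb => ?_, fun hb => ?_⟩⟩)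
    · rw [← map_smul, (hm b).mp hb, map_zero]
    · by_contra hbq; exact hc b hbq (by rw [map_smul]; exact hb)

variable {R S : Type u} [CommRing R] [CommRing S] [Algebra R S] (p : Ideal R) [p.IsPrime]

section fib

variable (N : Type u) [AddCommGroup N] [Module S N] [Module R N] [IsScalarTower R S N]

/-- The image of `S` in the fibre ring. -/
noncomputable abbrev inc : S →+* p.Fiber S :=
  (Algebra.TensorProduct.includeRight (R := R) (A := p.ResidueField) (B := S)).toRingHom

theorem smul_eq_inc (a : S) (z : FlatCA.fiberMod p S N) : a • z = inc p a • z := by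
  let w : (p.Fiber S) ⊗[S] N := z
  exact (algebraMap_smul (p.Fiber S) a w).symm

theorem fib_frac (f : p.Fiber S) :
    ∃ s : R, s ∉ p ∧ ∃ a : S, inc p (algebraMap R S s) * f = inc p a := by
  induction f using TensorProduct.induction_on with
  | zero => exact ⟨1, fun h => ‹p.IsPrime›.ne_top ((Ideal.eq_top_iff_one p).mpr h), 0, by simp⟩
  | tmul x b =>
    obtain ⟨r, s, hs, hx⟩ := IsFractionRing.div_surjective (A := R ⧸ p) x
    obtain ⟨r, rfl⟩ := Ideal.Quotient.mk_surjective r
    obtain ⟨s, rfl⟩ := Ideal.Quotient.mk_surjective s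
    have hs' : s ∉ p := fun h => nonZeroDivisors.ne_zero hs (Ideal.Quotient.eq_zero_iff_mem.mpr h)
    refine ⟨s, hs', r • b, ?_⟩
    have hinc : inc p (algebraMap R S s) = (algebraMap R p.ResidueField s) ⊗ₜ[R] (1 : S) := by
      show (1 : p.ResidueField) ⊗ₜ[R] (algebraMap R S s) = _
      rw [Algebra.algebraMap_eq_smul_one, Algebra.algebraMap_eq_smul_one, TensorProduct.tmul_smul,
        TensorProduct.smul_tmul']
    rw [hinc, Algebra.TensorProduct.tmul_mul_tmul, one_mul]
    show _ = (1 : p.ResidueField) ⊗ₜ[R] (r • b)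
    rw [TensorProduct.tmul_smul, TensorProduct.smul_tmul', ← hx,
      ← Algebra.algebraMap_eq_smul_one]
    congr 1
    rw [show algebraMap R p.ResidueField s = algebraMap (R ⧸ p) p.ResidueField (Ideal.Quotient.mk p s) from
        IsScalarTower.algebraMap_apply R (R ⧸ p) p.ResidueField s,
      show algebraMap R p.ResidueField r = algebraMap (R ⧸ p) p.ResidueField (Ideal.Quotient.mk p r) from
        IsScalarTower.algebraMap_apply R (R ⧸ p) p.ResidueField r]
    rw [mul_div_cancel₀]
    exact fun h => nonZeroDivisors.ne_zero hs (IsFractionRing.injective (R ⧸ p) p.ResidueField (h.trans (map_zero _).symm))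
  | add f g hf hg =>
    obtain ⟨s, hs, a, ha⟩ := hf
    obtain ⟨t, ht, b, hb⟩ := hg
    refine ⟨s * t, fun h => (‹p.IsPrime›.mem_or_mem h).elim hs ht, algebraMap R S t * a + algebraMap R S s * b, ?_⟩
    simp only [map_add, map_mul, ← ha, ← hb]; ring

theorem isUnit_inc {s : R} (hs : s ∉ p) : IsUnit (inc (S := S) p (algebraMap R S s)) := by
  have h : inc (S := S) p (algebraMap R S s) = algebraMap p.ResidueField (p.Fiber S) (algebraMap R p.ResidueField s) := by
    rw [show inc (S := S) p (algebraMap R S s) = algebraMap R (p.Fiber S) s from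
      (Algebra.TensorProduct.includeRight (R := R) (A := p.ResidueField) (B := S)).commutes s]
    exact IsScalarTower.algebraMap_apply R p.ResidueField (p.Fiber S) s
  rw [h]
  refine (isUnit_iff_ne_zero.mpr ?_).map _
  rwa [ne_eq, Ideal.algebraMap_residueField_eq_zero]

theorem inc_eq_zero {s : R} (hs : s ∈ p) : inc (S := S) p (algebraMap R S s) = 0 := by
  rw [show inc (S := S) p (algebraMap R S s) = algebraMap R (p.Fiber S) s from
      (Algebra.TensorProduct.includeRight (R := R) (A := p.ResidueField) (B := S)).commutes s,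
    IsScalarTower.algebraMap_apply R p.ResidueField (p.Fiber S) s,
    Ideal.algebraMap_residueField_eq_zero.mpr hs, map_zero]

theorem surj0 (z : (p.Fiber S) ⊗[S] N) :
    ∃ s : R, s ∉ p ∧ ∃ n : N, algebraMap R S s • z = (1 : p.Fiber S) ⊗ₜ[S] n := by
  induction z using TensorProduct.induction_on with
  | zero => exact ⟨1, fun h => ‹p.IsPrime›.ne_top ((Ideal.eq_top_iff_one p).mpr h), 0, by rw [smul_zero, TensorProduct.tmul_zero]⟩
  | tmul f n =>
    obtain ⟨s, hs, a, ha⟩ := fib_frac p f
    refine ⟨s, hs, a • n, ?_⟩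
    rw [TensorProduct.tmul_smul, TensorProduct.smul_tmul', TensorProduct.smul_tmul']
    congr 1
    rw [Algebra.smul_def, Algebra.smul_def, mul_one]
    exact ha
  | add z w hz hw =>
    obtain ⟨s, hs, a, ha⟩ := hz
    obtain ⟨t, ht, b, hb⟩ := hw
    refine ⟨s * t, fun h => (‹p.IsPrime›.mem_or_mem h).elim hs ht, algebraMap R S t • a + algebraMap R S s • b, ?_⟩
    rw [TensorProduct.tmul_add, TensorProduct.tmul_smul, TensorProduct.tmul_smul, ← ha, ← hb, smul_smul, smul_smul, smul_add, map_mul, mul_comm (algebraMap R S t)]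

theorem surj (z : FlatCA.fiberMod p S N) :
    ∃ s : R, s ∉ p ∧ ∃ n : N, algebraMap R S s • z = FlatCA.toFiberMod p S N n := surj0 p N z

/-- The comparison `fiberMod → N ⊗ κ(p)`. -/
noncomputable def psiG : p.ResidueField →ₗ[R] S →ₗ[R] (N →ₗ[S] N ⊗[R] p.ResidueField) :=
  LinearMap.mk₂ R
    (fun x b => b • ((TensorProduct.AlgebraTensorModule.mk R S N p.ResidueField).flip x))
    (fun x y b => by ext n; simp [TensorProduct.tmul_add])
    (fun c x b => by ext n; show b • (n ⊗ₜ[R] (c • x)) = c • (b • (n ⊗ₜ[R] x)); rw [TensorProduct.tmul_smul, smul_comm])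
    (fun x a b => by ext n; simp [add_smul, TensorProduct.add_tmul])
    (fun c x b => by ext n; simp [TensorProduct.smul_tmul'])

noncomputable def psiB : p.Fiber S →ₗ[S] (N →ₗ[S] N ⊗[R] p.ResidueField) :=
  { toFun := TensorProduct.lift (psiG p N)
    map_add' := map_add _
    map_smul' := fun a f => by
      simp only [RingHom.id_apply]
      induction f using TensorProduct.induction_on with
      | zero => simp
      | tmul x b =>
        have h : a • (x ⊗ₜ[R] b : p.Fiber S) = x ⊗ₜ[R] (a * b) := by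
          rw [Algebra.smul_def]
          show ((1 : p.ResidueField) ⊗ₜ[R] a) * (x ⊗ₜ[R] b) = _
          rw [Algebra.TensorProduct.tmul_mul_tmul, one_mul]
        rw [h, TensorProduct.lift.tmul, TensorProduct.lift.tmul]
        simp [psiG, mul_smul]
      | add f h hf hh => simp [smul_add, hf, hh] }

noncomputable def psi : FlatCA.fiberMod p S N →ₗ[S] N ⊗[R] p.ResidueField :=
  TensorProduct.lift (psiB p N)

theorem psi_ι (n : N) : psi p N (FlatCA.toFiberMod p S N n) = n ⊗ₜ[R] (1 : p.ResidueField) := by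
  show TensorProduct.lift _ ((1 : p.Fiber S) ⊗ₜ[S] n) = _
  rw [TensorProduct.lift.tmul]
  simp [psiB, psiG, Algebra.TensorProduct.one_def]

theorem pS_eq : (p.map (algebraMap R S)) • (⊤ : Submodule S N) = (p.map (algebraMap R S)) • ⊤ := rfl

theorem pR_le {x : N} (hx : x ∈ p • (⊤ : Submodule R N)) :
    x ∈ (p.map (algebraMap R S)) • (⊤ : Submodule S N) := by
  refine Submodule.smul_induction_on hx (fun r hr n _ => ?_) fun a b ha hb => add_mem ha hb
  rw [← algebraMap_smul S r n]
  exact Submodule.smul_mem_smul (Ideal.mem_map_of_mem _ hr) trivial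

theorem ι_pS {x : N} (hx : x ∈ (p.map (algebraMap R S)) • (⊤ : Submodule S N)) :
    FlatCA.toFiberMod p S N x = 0 := by
  refine Submodule.smul_induction_on hx (fun r hr n _ => ?_) fun a b ha hb => by rw [map_add, ha, hb, add_zero]
  rw [map_smul, smul_eq_inc]
  have : inc (S := S) p r = 0 := by
    have hle : p.map (algebraMap R S) ≤ RingHom.ker (inc (S := S) p) :=
      Ideal.map_le_iff_le_comap.mpr fun s hs => inc_eq_zero p hs
    exact hle hr
  rw [this, zero_smul]

theorem ι_zero {n : N} (h : FlatCA.toFiberMod p S N n = 0) :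
    ∃ s : R, s ∉ p ∧ algebraMap R S s • n ∈ (p.map (algebraMap R S)) • (⊤ : Submodule S N) := by
  have h1 := congrArg (psi p N) h
  rw [psi_ι, map_zero] at h1
  let g : (R ⧸ p) →ₗ[R] p.ResidueField := (IsScalarTower.toAlgHom R (R ⧸ p) p.ResidueField).toLinearMap
  have hg : IsLocalizedModule p.primeCompl g := by
    refine ⟨fun s => ?_, fun x => ?_, fun {a b} h => ⟨1, ?_⟩⟩
    · have hu : IsUnit (algebraMap R p.ResidueField (s : R)) :=
        isUnit_iff_ne_zero.mpr fun h => s.2 (Ideal.algebraMap_residueField_eq_zero.mp h)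
      have := hu.map (Algebra.lmul R p.ResidueField)
      have e : Algebra.lmul R p.ResidueField (algebraMap R p.ResidueField (s : R)) =
          algebraMap R (Module.End R p.ResidueField) (s : R) := AlgHom.commutes _ _
      rwa [e] at this
    · obtain ⟨r, s, hs, hx⟩ := IsFractionRing.div_surjective (A := R ⧸ p) x
      obtain ⟨s, rfl⟩ := Ideal.Quotient.mk_surjective s
      refine ⟨⟨r, ⟨s, fun h => nonZeroDivisors.ne_zero hs (Ideal.Quotient.eq_zero_iff_mem.mpr h)⟩⟩, ?_⟩
      show s • x = algebraMap (R ⧸ p) p.ResidueField r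
      rw [← hx, ← algebraMap_smul (R ⧸ p) s, Algebra.smul_def]
      exact mul_div_cancel₀ _ fun h => nonZeroDivisors.ne_zero hs
        (IsFractionRing.injective (R ⧸ p) p.ResidueField (h.trans (map_zero _).symm))
    · rw [IsFractionRing.injective (R ⧸ p) p.ResidueField h]
  haveI := hg
  have h2 : (TensorProduct.AlgebraTensorModule.rTensor R N g) ((1 : R ⧸ p) ⊗ₜ[R] n) = 0 := by
    have : (TensorProduct.AlgebraTensorModule.rTensor R N g) ((1 : R ⧸ p) ⊗ₜ[R] n) =
        TensorProduct.comm R N p.ResidueField (n ⊗ₜ[R] (1 : p.ResidueField)) := by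
      rw [TensorProduct.comm_tmul]
      show g 1 ⊗ₜ[R] n = _
      simp [g]
    rw [this, h1, map_zero]
  obtain ⟨⟨s, hs⟩, hs0⟩ := (IsLocalizedModule.eq_zero_iff p.primeCompl _).mp h2
  refine ⟨s, hs, pR_le p N ?_⟩
  have h3 := congrArg (TensorProduct.quotTensorEquivQuotSMul N p) hs0
  rw [map_zero, Submonoid.mk_smul, map_smul,
    show ((1 : R ⧸ p) ⊗ₜ[R] n) = Ideal.Quotient.mk p 1 ⊗ₜ[R] n by rw [map_one],
    TensorProduct.quotTensorEquivQuotSMul_mk_tmul, one_smul] at h3
  rw [algebraMap_smul]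
  exact (Submodule.Quotient.mk_eq_zero (p • (⊤ : Submodule R N))).mp (by rw [Submodule.Quotient.mk_smul]; exact h3)

/-- Quotient comparison `N/pN ≅ N ⊗ R/p`. -/
theorem pS_iff {x : N} : x ∈ (p.map (algebraMap R S)) • (⊤ : Submodule S N) ↔ x ∈ p • (⊤ : Submodule R N) := by
  refine ⟨fun hx => ?_, pR_le p N⟩
  refine Submodule.smul_induction_on hx (fun r hr n _ => ?_) fun a b ha hb => add_mem ha hb
  induction hr using Submodule.span_induction generalizing n with
  | mem r hr =>
    obtain ⟨t, ht, rfl⟩ := hr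
    rw [algebraMap_smul]; exact Submodule.smul_mem_smul ht trivial
  | zero => rw [zero_smul]; exact zero_mem _
  | add a b _ _ ha hb => rw [add_smul]; exact add_mem (ha n trivial) (hb n trivial)
  | smul c a _ ha =>
    rw [smul_eq_mul, mul_comm, mul_smul]; exact ha (c • n) trivial

theorem regular_of_flat [Module.Flat R N] {s : R} (hs : s ∉ p) {n : N}
    (h : algebraMap R S s • n ∈ (p.map (algebraMap R S)) • (⊤ : Submodule S N)) :
    n ∈ (p.map (algebraMap R S)) • (⊤ : Submodule S N) := by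
  rw [pS_iff, algebraMap_smul] at h
  rw [pS_iff]
  let μ : (R ⧸ p) →ₗ[R] (R ⧸ p) := LinearMap.lsmul R (R ⧸ p) s
  have hμ : Function.Injective μ := by
    rw [← LinearMap.ker_eq_bot, eq_bot_iff]
    intro x hx
    obtain ⟨x, rfl⟩ := Ideal.Quotient.mk_surjective x
    have hx' : Ideal.Quotient.mk p (s * x) = 0 := by
      rw [map_mul]; exact hx
    rw [Ideal.Quotient.eq_zero_iff_mem] at hx'
    exact (Submodule.mem_bot R).mpr (Ideal.Quotient.eq_zero_iff_mem.mpr ((‹p.IsPrime›.mem_or_mem hx').resolve_left hs))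
  have hinj := Module.Flat.rTensor_preserves_injective_linearMap (M := N) μ hμ
  have h0 : μ.rTensor N ((TensorProduct.quotTensorEquivQuotSMul N p).symm (Submodule.Quotient.mk n)) = 0 := by
    have hμ2 : ∀ w, μ.rTensor N w = s • w := fun w => by
      induction w using TensorProduct.induction_on with
      | zero => simp
      | tmul a b => simp [μ, TensorProduct.smul_tmul']
      | add a b ha hb => rw [map_add, ha, hb, smul_add]
    rw [hμ2, ← map_smul, ← Submodule.Quotient.mk_smul, (Submodule.Quotient.mk_eq_zero _).mpr h, map_zero]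
  rw [map_eq_zero_iff _ hinj, LinearEquiv.map_eq_zero_iff, Submodule.Quotient.mk_eq_zero] at h0
  exact h0

theorem ι_eq_zero_iff [Module.Flat R N] {n : N} :
    FlatCA.toFiberMod p S N n = 0 ↔ n ∈ (p.map (algebraMap R S)) • (⊤ : Submodule S N) := by
  refine ⟨fun h => ?_, ι_pS p N⟩
  obtain ⟨s, hs, h⟩ := ι_zero p N h
  exact regular_of_flat p N hs h

theorem smul_eq_zero {s : R} (hs : s ∉ p) (z : FlatCA.fiberMod p S N) : algebraMap R S s • z = 0 ↔ z = 0 := by
  rw [smul_eq_inc]
  exact (isUnit_inc (S := S) p hs).smul_eq_zero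

end fib

variable (N : Type u) [AddCommGroup N] [Module S N] [Module R N] [IsScalarTower R S N]

theorem ass_fib_repr {q : Ideal S} (h : q ∈ FlatCA.ass S (FlatCA.fiberMod p S N)) :
    q.comap (algebraMap R S) = p ∧ ∃ n : N, ∀ a, a ∈ q ↔ FlatCA.toFiberMod p S N (a • n) = 0 := by
  rw [mem_ass_iff] at h
  obtain ⟨hq, z, hz⟩ := h
  refine ⟨?_, ?_⟩
  · ext s
    rw [Ideal.mem_comap, hz]
    constructor
    · intro h0
      by_contra hs
      rw [smul_eq_zero p N hs] at h0
      exact hq.ne_top ((Ideal.eq_top_iff_one q).mpr ((hz 1).mpr (by rw [h0, smul_zero])))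
    · intro hs
      rw [smul_eq_inc, inc_eq_zero p hs, zero_smul]
  · obtain ⟨s, hs, n, hn⟩ := surj p N z
    refine ⟨n, fun a => ?_⟩
    rw [map_smul, ← hn, smul_comm, smul_eq_zero p N hs, hz]

theorem ass_quot_eq [Module.Flat R N] :
    FlatCA.ass S (N ⧸ (p.map (algebraMap R S)) • (⊤ : Submodule S N)) = FlatCA.ass S (FlatCA.fiberMod p S N) ∧
      ∀ q ∈ FlatCA.ass S (N ⧸ (p.map (algebraMap R S)) • (⊤ : Submodule S N)), q.comap (algebraMap R S) = p := by
  have h1 : ∀ {a : S} {n : N}, a • (Submodule.Quotient.mk n : N ⧸ (p.map (algebraMap R S)) • (⊤ : Submodule S N)) = 0 ↔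
      FlatCA.toFiberMod p S N (a • n) = 0 := fun {a n} => by
    rw [← Submodule.Quotient.mk_smul, Submodule.Quotient.mk_eq_zero, ι_eq_zero_iff]
  have h2 : ∀ q, q ∈ FlatCA.ass S (N ⧸ (p.map (algebraMap R S)) • (⊤ : Submodule S N)) ↔
      q ∈ FlatCA.ass S (FlatCA.fiberMod p S N) := by
    intro q
    constructor
    · intro h
      rw [mem_ass_iff] at h
      obtain ⟨hq, m, hm⟩ := h
      obtain ⟨n, rfl⟩ := Submodule.Quotient.mk_surjective _ m
      exact mem_ass_iff.mpr ⟨hq, FlatCA.toFiberMod p S N n, fun a => by rw [hm, h1, map_smul]⟩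
    · intro h
      obtain ⟨-, n, hn⟩ := ass_fib_repr p N h
      exact mem_ass_iff.mpr ⟨h.1, Submodule.Quotient.mk n, fun a => by rw [hn, h1]⟩
  exact ⟨Set.ext h2, fun q hq => (ass_fib_repr p N ((h2 q).mp hq)).1⟩

end Groth.Agent.CI2.FibAss

namespace Groth.Agent.CI2.FibAss

open TensorProduct

variable {R S : Type u} [CommRing R] [CommRing S] [Algebra R S] (p : Ideal R)
  (N : Type u) [AddCommGroup N] [Module S N] [Module R N] [IsScalarTower R S N]

theorem tensorQuot [p.IsPrime] {q : Ideal S} :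
    q ∈ FlatCA.ass S (N ⊗[R] (R ⧸ p)) ↔
      q ∈ FlatCA.ass S (N ⧸ (p.map (algebraMap R S)) • (⊤ : Submodule S N)) := by
  let f : N →ₗ[S] N ⊗[R] (R ⧸ p) := (TensorProduct.AlgebraTensorModule.mk R S N (R ⧸ p)).flip 1
  have hfa : ∀ n, f n = n ⊗ₜ[R] (1 : R ⧸ p) := fun n => rfl
  have hf : Function.Surjective f := by
    intro z
    induction z using TensorProduct.induction_on with
    | zero => exact ⟨0, map_zero f⟩
    | tmul n x =>
      obtain ⟨r, rfl⟩ := Ideal.Quotient.mk_surjective x
      refine ⟨r • n, ?_⟩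
      rw [hfa, TensorProduct.smul_tmul]
      congr 1
      rw [Algebra.smul_def, mul_one]
      rfl
    | add a b ha hb =>
      obtain ⟨a, rfl⟩ := ha; obtain ⟨b, rfl⟩ := hb; exact ⟨a + b, map_add f a b⟩
  have hk : LinearMap.ker f = (p.map (algebraMap R S)) • (⊤ : Submodule S N) := by
    ext n
    rw [LinearMap.mem_ker, pS_iff, hfa, ← (TensorProduct.comm R N (R ⧸ p)).map_eq_zero_iff,
      TensorProduct.comm_tmul, ← (TensorProduct.quotTensorEquivQuotSMul N p).map_eq_zero_iff,
      show (1 : R ⧸ p) = Ideal.Quotient.mk p 1 from rfl, TensorProduct.quotTensorEquivQuotSMul_mk_tmul, one_smul,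
      Submodule.Quotient.mk_eq_zero]
  exact ass_linearEquiv ((f.quotKerEquivOfSurjective hf).symm.trans (Submodule.quotEquivOfEq _ _ hk))

end Groth.Agent.CI2.FibAss
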