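/-
Base change of a flat conormal module along an arbitrary base change of a flat algebra.
-/
import Mathlib.RingTheory.Ideal.CotangentBaseChange
import Mathlib.RingTheory.Flat.Equalizer
import Mathlib.RingTheory.Flat.Stability
import Mathlib.RingTheory.Ideal.Over

universe u

open TensorProduct

set_option linter.style.haveILetI false

namespace Groth.Agent.CI2

theorem tensorCotangentHom_injective {A P : Type u} [CommRing A] [CommRing P] [Algebra A P] (I : Ideal P)
    [Module.Flat A (P ⧸ I)] (T : Type u) [CommRing T] [Algebra A T] :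
    Function.Injective (I.tensorCotangentHom A T) := by
  let a : P →+* T ⊗[A] P := Algebra.TensorProduct.includeRight.toRingHom
  let f : (I.map a).Cotangent →ₗ[T] T ⊗[A] P ⧸ (I.map a) ^ 2 :=
    (Ideal.cotangentToQuotientSquare _).restrictScalars T
  suffices h : Function.Injective (f ∘ₗ I.tensorCotangentHom A T) from .of_comp h
  let g : T ⊗[A] I.Cotangent →ₗ[T] T ⊗[A] (P ⧸ I ^ 2) :=
    AlgebraTensorModule.lTensor T T (I.cotangentToQuotientSquare.restrictScalars A)
  let hₐ : T ⊗[A] (P ⧸ I ^ 2) ≃ₐ[T] T ⊗[A] P ⧸ (I.map a) ^ 2 :=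
    (Algebra.TensorProduct.tensorQuotientEquiv _ _ _ _).trans
      (Ideal.quotientEquivAlgOfEq T (Ideal.map_pow _ _ _))
  have hcomp : f ∘ₗ I.tensorCotangentHom A T = hₐ.toLinearMap ∘ₗ g := by
    refine LinearMap.ext fun z => ?_
    induction z using TensorProduct.induction_on with
    | zero => simp
    | add y z hy hz => rw [map_add, map_add, hy, hz]
    | tmul t m =>
      obtain ⟨x, rfl⟩ := I.toCotangent_surjective m
      rw [← mul_one t, ← smul_eq_mul, ← TensorProduct.smul_tmul', map_smul, map_smul]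
      congr 1
      rw [LinearMap.comp_apply, LinearMap.comp_apply, Ideal.tensorCotangentHom_tmul, map_smul, one_smul]
      simp only [f, g, hₐ, LinearMap.restrictScalars_apply, AlgebraTensorModule.lTensor_tmul,
        Ideal.toCotangent_to_quotient_square]
      rw [AlgEquiv.toLinearMap_apply, AlgEquiv.trans_apply]
      rfl
  rw [hcomp, LinearMap.coe_comp]
  refine hₐ.injective.comp ?_
  let π : P ⧸ I ^ 2 →ₗ[P] P ⧸ I := Submodule.mapQ _ _ LinearMap.id (Ideal.pow_le_self two_ne_zero)
  refine LinearMap.lTensor_injective_of_exact_of_flat (π.restrictScalars A) ?_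
    (I.cotangentToQuotientSquare.restrictScalars A) I.cotangentToQuotientSquare_injective ?_ T
  · intro y
    obtain ⟨y, rfl⟩ := Submodule.Quotient.mk_surjective _ y
    exact ⟨Submodule.Quotient.mk y, rfl⟩
  · intro y
    obtain ⟨y, rfl⟩ := Submodule.Quotient.mk_surjective _ y
    constructor
    · intro hy
      exact ⟨I.toCotangent ⟨y, (Submodule.Quotient.mk_eq_zero I).1 hy⟩, rfl⟩
    · rintro ⟨z, hz⟩
      obtain ⟨z, rfl⟩ := I.toCotangent_surjective z
      rw [← hz]
      exact (Submodule.Quotient.mk_eq_zero I).2 z.2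

attribute [local instance] Algebra.TensorProduct.rightAlgebra in
set_option maxHeartbeats 1000000 in
theorem flat_cotangent_map {A P : Type u} [CommRing A] [CommRing P] [Algebra A P] (I : Ideal P)
    [Module.Flat A (P ⧸ I)] [Module.Flat (P ⧸ I) I.Cotangent] (T : Type u) [CommRing T] [Algebra A T] :
    Module.Flat ((T ⊗[A] P) ⧸ I.map (algebraMap P (T ⊗[A] P))) (I.map (algebraMap P (T ⊗[A] P))).Cotangent := by
  let Q := T ⊗[A] P
  let J : Ideal Q := I.map (algebraMap P Q)
  let C := Q ⧸ J
  let N := J.Cotangent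
  letI : Module (P ⧸ I) N := Module.compHom _ (algebraMap (P ⧸ I) C)
  haveI : IsScalarTower (P ⧸ I) C N := IsScalarTower.of_algebraMap_smul fun _ _ => rfl
  let f0 : ↥I →ₗ[P] N := (J.toCotangent.restrictScalars P).comp (Algebra.idealMap I (S := Q))
  have hf0 : (I • ⊤ : Submodule P I) ≤ LinearMap.ker f0 :=
    Submodule.smul_le.2 fun a ha z _ => by
      rw [LinearMap.mem_ker, map_smul, ← algebraMap_smul Q a]
      exact Ideal.Cotangent.smul_eq_zero_of_mem (Ideal.mem_map_of_mem _ ha) _
  let f1 : I.Cotangent →ₗ[P] N := Submodule.liftQ _ f0 hf0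
  let f : I.Cotangent →ₗ[P ⧸ I] N :=
    { toFun := f1
      map_add' := map_add _
      map_smul' := fun c z => by
        obtain ⟨a, rfl⟩ := Ideal.Quotient.mk_surjective c
        rw [RingHom.id_apply]
        refine (f1.map_smul a z).trans ?_
        rw [← algebraMap_smul Q a]
        rfl }
  let Φ : C ⊗[P ⧸ I] I.Cotangent →ₗ[C] N := LinearMap.liftBaseChange C f
  let q : T →+* C := (Ideal.Quotient.mk J).comp Algebra.TensorProduct.includeLeftRingHom
  let ψ : T →+ I.Cotangent →+ C ⊗[P ⧸ I] I.Cotangent :=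
    { toFun := fun t => (TensorProduct.mk (P ⧸ I) C I.Cotangent (q t)).toAddMonoidHom
      map_zero' := by ext; simp
      map_add' := fun s t => by ext; simp [add_tmul] }
  have hψ : ∀ (a : A) (t : T) (m : I.Cotangent), ψ (a • t) m = ψ t (a • m) := fun a t m => by
    change q (a • t) ⊗ₜ[P ⧸ I] m = q t ⊗ₜ[P ⧸ I] (a • m)
    rw [← algebraMap_smul P a m, ← algebraMap_smul (P ⧸ I) (algebraMap A P a) m, ← TensorProduct.smul_tmul]
    congr 1
    change Ideal.Quotient.mk J ((a • t) ⊗ₜ[A] (1 : P)) =
      Ideal.Quotient.mk J ((1 : T) ⊗ₜ[A] algebraMap A P a) * Ideal.Quotient.mk J (t ⊗ₜ[A] (1 : P))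
    rw [← map_mul, Algebra.TensorProduct.tmul_mul_tmul, one_mul, mul_one, TensorProduct.smul_tmul,
      Algebra.smul_def, mul_one]
  let Ψ : T ⊗[A] I.Cotangent →+ C ⊗[P ⧸ I] I.Cotangent := TensorProduct.liftAddHom ψ hψ
  have hΨ : Function.Surjective Ψ := by
    intro y
    induction y using TensorProduct.induction_on with
    | zero => exact ⟨0, map_zero _⟩
    | add a b ha hb =>
      obtain ⟨a, rfl⟩ := ha
      obtain ⟨b, rfl⟩ := hb
      exact ⟨a + b, map_add _ _ _⟩
    | tmul c m =>
      obtain ⟨c, rfl⟩ := Ideal.Quotient.mk_surjective c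
      induction c using TensorProduct.induction_on with
      | zero => exact ⟨0, by simp⟩
      | add a b ha hb =>
        obtain ⟨x, hx⟩ := ha
        obtain ⟨y, hy⟩ := hb
        exact ⟨x + y, by rw [map_add, hx, hy, map_add, add_tmul]⟩
      | tmul t b =>
        refine ⟨t ⊗ₜ[A] (Ideal.Quotient.mk I b • m), ?_⟩
        rw [TensorProduct.liftAddHom_tmul]
        change q t ⊗ₜ[P ⧸ I] (Ideal.Quotient.mk I b • m) = _
        rw [← TensorProduct.smul_tmul]
        congr 1
        change Ideal.Quotient.mk J ((1 : T) ⊗ₜ[A] b) * Ideal.Quotient.mk J (t ⊗ₜ[A] (1 : P)) = _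
        rw [← map_mul, Algebra.TensorProduct.tmul_mul_tmul, one_mul, mul_one]
  have hcomp : ∀ x, Φ (Ψ x) = I.tensorCotangentHom A T x := fun x => by
    induction x using TensorProduct.induction_on with
    | zero => rw [map_zero, map_zero]; exact (map_zero (I.tensorCotangentHom A T)).symm
    | add a b ha hb => rw [map_add, map_add, map_add, ha, hb]
    | tmul t m =>
      obtain ⟨z, rfl⟩ := I.toCotangent_surjective m
      rw [TensorProduct.liftAddHom_tmul, Ideal.tensorCotangentHom_tmul, ← algebraMap_smul Q t]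
      exact LinearMap.liftBaseChange_tmul _ _ _ _
  have hbij : Function.Bijective Φ := by
    refine ⟨fun y₁ y₂ h => ?_, fun y => ?_⟩
    · obtain ⟨x₁, rfl⟩ := hΨ y₁
      obtain ⟨x₂, rfl⟩ := hΨ y₂
      rw [hcomp, hcomp] at h
      rw [tensorCotangentHom_injective I T h]
    · obtain ⟨x, hx⟩ := I.tensorCotangentHom_surjective A T y
      exact ⟨Ψ x, (hcomp x).trans hx⟩
  exact Module.Flat.of_linearEquiv (LinearEquiv.ofBijective Φ hbij).symm

end Groth.Agent.CI2
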