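import Groth.Agent.Lib.CI2.Ops
import Groth.Agent.Lib.EmbDef.Regular
import Groth.Agent.Lib.VarDim.Alg
import Groth.Agent.Lib.Depth.CM
import Mathlib

/-!
Few equations cutting out a small subscheme of affine space form a regular sequence.
-/

set_option autoImplicit false
set_option linter.style.haveILetI false
universe u

open RingTheory.Sequence Order

namespace Groth.Agent.CI2

theorem height_head_add_length_le {α : Type*} [Preorder α] (p : LTSeries α) :
    height p.head + p.length ≤ height p.last := by
  suffices ∀ i : Fin (p.length + 1), height p.head + (i : ℕ) ≤ height (p i) from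
    this (Fin.last _)
  intro i
  induction i using Fin.induction with
  | zero => simp [RelSeries.head]
  | succ i ih =>
    refine le_trans ?_ (Order.height_add_one_le (p.strictMono (Fin.castSucc_lt_succ (i := i))))
    rw [Fin.val_succ, Nat.cast_add, Nat.cast_one, ← add_assoc]
    exact add_le_add_left ih 1

theorem ringKrullDim_le_quotient_add_length {L : Type u} [CommRing L] [IsNoetherianRing L] [IsLocalRing L]
    (ys : List L) (h : ∀ x ∈ ys, x ∈ IsLocalRing.maximalIdeal L) :
    ringKrullDim L ≤ ringKrullDim (L ⧸ Ideal.ofList ys) + (ys.length : WithBot ℕ∞) := by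
  classical
  have hcard : ({x | x ∈ ys} : Set L).encard ≤ ys.length := by
    rw [show ({x | x ∈ ys} : Set L) = (ys.toFinset : Set L) by simp, Set.encard_coe_eq_coe_finsetCard]
    exact_mod_cast ys.toFinset_card_le
  have hle := ringKrullDim_le_ringKrullDim_quotient_add_encard {x | x ∈ ys}
    (fun x hx => (IsLocalRing.ringJacobson_eq_maximalIdeal (R := L)).ge (h x hx))
  rw [show Ideal.span {x | x ∈ ys} = Ideal.ofList ys from rfl] at hle
  exact le_trans hle (add_le_add_right (α := WithBot ℕ∞) (WithBot.coe_le_coe.mpr hcard : ((({x | x ∈ ys} : Set L).encard : ℕ∞) : WithBot ℕ∞) ≤ ((ys.length : ℕ∞) : WithBot ℕ∞)) _)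

section

variable (k : Type u) [Field k] {n : ℕ}

/-- Primes containing an ideal of dimension at most `d` have height at least `n - d`. -/
theorem le_height_of_dim (I : Ideal (MvPolynomial (Fin n) k)) (d : ℕ) (hd : d ≤ n)
    (hdim : ringKrullDim (MvPolynomial (Fin n) k ⧸ I) ≤ (d : WithBot ℕ∞))
    (P : PrimeSpectrum (MvPolynomial (Fin n) k)) (hP : I ≤ P.asIdeal) :
    ((n - d : ℕ) : ℕ∞) ≤ height P := by
  have h1 : coheight P ≤ (d : ℕ∞) := by
    rw [← WithBot.coe_le_coe, coheight_eq_krullDim_Ici]
    refine le_trans ?_ hdim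
    rw [ringKrullDim_quotient]
    exact krullDim_le_of_strictMono (fun x => ⟨x.1, hP.trans x.2⟩) (fun _ _ h => h)
  have h2 := VarDim.height_add_coheight_mvPolynomial k n P
  have h3 : (n : ℕ∞) ≤ height P + d := h2 ▸ add_le_add_right h1 _
  cases hh : height P with
  | top => simp
  | coe a =>
    rw [hh] at h3
    have : n ≤ a + d := by exact_mod_cast h3
    exact_mod_cast (by omega : n - d ≤ a)

theorem ringKrullDim_localization_quotient (fs : List (MvPolynomial (Fin n) k)) (hc : fs.length ≤ n)
    (hdim : ringKrullDim (MvPolynomial (Fin n) k ⧸ Ideal.ofList fs) ≤ ((n - fs.length : ℕ) : WithBot ℕ∞))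
    (q : Ideal (MvPolynomial (Fin n) k)) [q.IsPrime] (hq : Ideal.ofList fs ≤ q) :
    ringKrullDim (Localization.AtPrime q ⧸ Ideal.ofList (fs.map (algebraMap _ (Localization.AtPrime q)))) + fs.length
      = ringKrullDim (Localization.AtPrime q) := by
  classical
  let L := Localization.AtPrime q
  have hmem : ∀ x ∈ fs.map (algebraMap _ L), x ∈ IsLocalRing.maximalIdeal L := by
    intro x hx
    obtain ⟨f, hf, rfl⟩ := List.mem_map.mp hx
    exact (IsLocalization.AtPrime.to_map_mem_maximal_iff L q f).mpr (hq (Ideal.subset_span hf))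
  apply le_antisymm
  · rw [ringKrullDim_quotient]
    haveI : Nonempty (PrimeSpectrum.zeroLocus (R := L) (Ideal.ofList (fs.map (algebraMap _ L)))) :=
      ⟨⟨IsLocalRing.closedPoint L, Ideal.span_le.mpr hmem⟩⟩
    rw [krullDim_eq_iSup_length, show ((fs.length : ℕ) : WithBot ℕ∞) = ((fs.length : ℕ∞) : WithBot ℕ∞) from rfl,
      ← WithBot.coe_add, ENat.iSup_add, IsLocalization.AtPrime.ringKrullDim_eq_height q L, WithBot.coe_le_coe]
    refine iSup_le fun s => ?_
    let g : PrimeSpectrum.zeroLocus (R := L) (Ideal.ofList (fs.map (algebraMap _ L))) → PrimeSpectrum (MvPolynomial (Fin n) k) :=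
      fun x => PrimeSpectrum.comap (algebraMap _ L) x.1
    have hg : StrictMono g := fun a b h => (Monotone.strictMono_of_injective (f := PrimeSpectrum.comap (algebraMap _ L)) (fun x y hxy => Ideal.comap_mono hxy) (PrimeSpectrum.localization_comap_injective L q.primeCompl)) h
    let t := s.map g hg
    have hhead : Ideal.ofList fs ≤ t.head.asIdeal := by
      rw [LTSeries.head_map]
      intro x hx
      refine s.head.2 ?_
      rw [← Ideal.map_ofList]
      exact Ideal.mem_map_of_mem _ hx
    have h1 : ((fs.length : ℕ) : ℕ∞) ≤ height t.head := by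
      have := le_height_of_dim k (Ideal.ofList fs) (n - fs.length) (Nat.sub_le _ _) hdim t.head hhead
      rwa [Nat.sub_sub_self hc] at this
    have h2 : t.last ≤ ⟨q, inferInstance⟩ := by
      rw [LTSeries.last_map]
      intro x hx
      exact (IsLocalization.AtPrime.to_map_mem_maximal_iff L q x).mp (IsLocalRing.le_maximalIdeal s.last.1.2.ne_top hx)
    have h3 := (height_head_add_length_le t).trans (Order.height_mono h2)
    calc (s.length : ℕ∞) + fs.length ≤ height t.head + t.length := by
            rw [add_comm]; exact add_le_add h1 le_rfl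
      _ ≤ _ := h3.trans (PrimeSpectrum.height_eq_orderHeight ⟨q, inferInstance⟩).ge
  · simpa using ringKrullDim_le_quotient_add_length (fs.map (algebraMap _ L)) hmem

/-- Few equations cutting out a small subscheme form a regular sequence at each of its primes. -/
theorem isWeaklyRegular_localization (fs : List (MvPolynomial (Fin n) k)) (hc : fs.length ≤ n)
    (hdim : ringKrullDim (MvPolynomial (Fin n) k ⧸ Ideal.ofList fs) ≤ ((n - fs.length : ℕ) : WithBot ℕ∞))
    (q : Ideal (MvPolynomial (Fin n) k)) [q.IsPrime] (hq : Ideal.ofList fs ≤ q) :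
    IsWeaklyRegular (Localization.AtPrime q) (fs.map (algebraMap _ (Localization.AtPrime q))) := by
  haveI : IsRegularRing (MvPolynomial (Fin n) k) := inferInstance
  haveI : LocCoh.IsCohenMacaulayLocalRing (Localization.AtPrime q) :=
    DepthLib.isCohenMacaulayLocalRing_of_isRegularLocalRing
  refine EmbDef.isWeaklyRegular_of_dim _ ?_ ?_
  · intro x hx
    obtain ⟨f, hf, rfl⟩ := List.mem_map.mp hx
    exact (IsLocalization.AtPrime.to_map_mem_maximal_iff _ q f).mpr (hq (Ideal.subset_span hf))
  · rw [List.length_map]
    exact ringKrullDim_localization_quotient k fs hc hdim q hq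

end

end Groth.Agent.CI2
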