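import Groth.Agent.Lib.Goren.Basic
import Groth.Agent.Lib.Depth.ReflexiveLoc
import Groth.Agent.Lib.CI2.BassEnd
import Mathlib

/-!
# Torsionless modules over one-dimensional Gorenstein rings
-/

set_option autoImplicit false
set_option linter.style.haveILetI false

universe u

open CategoryTheory Pointwise

namespace Groth.Agent.CI2.GorOneRefl

variable {R : Type u} [CommRing R] {x : R}

theorem injective_quotient [LocCoh.IsGorensteinLocalRing R] (hdim : ringKrullDim R ≤ 1)
    (hx : x ∈ IsLocalRing.maximalIdeal R) (hreg : IsSMulRegular R x) :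
    Module.Injective (R ⧸ Ideal.span {x}) (R ⧸ Ideal.span {x}) := by
  haveI := GorenLib.isLocalRing_quotient hx
  obtain ⟨n, hn⟩ := LocCoh.IsGorensteinLocalRing.exists_hasInjectiveDimensionLT (A := R)
  haveI : LocCoh.IsGorensteinLocalRing (R ⧸ Ideal.span {x}) :=
    { exists_hasInjectiveDimensionLT := ⟨n + 1, GorenLib.exists_hasInjectiveDimensionLT_quotient hreg
        (hasInjectiveDimensionLT_of_ge _ n (n + 2) (by omega))⟩ }
  have h1 := GorenLib.ringKrullDim_quotient_add_one hx hreg
  have h2 : ringKrullDim (R ⧸ Ideal.span {x}) = ((0 : ℕ) : WithBot ℕ∞) := by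
    refine le_antisymm ?_ ringKrullDim_nonneg_of_nontrivial
    have : ringKrullDim (R ⧸ Ideal.span {x}) + 1 ≤ 1 := h1.le.trans hdim
    revert this
    generalize ringKrullDim (R ⧸ Ideal.span {x}) = d
    intro this
    induction d with
    | bot => simp
    | coe d =>
      have h3 : d + 1 ≤ 0 + 1 := by rw [zero_add]; exact_mod_cast this
      exact_mod_cast (ENat.add_le_add_iff_right ENat.one_ne_top).1 h3
  obtain ⟨-, h3, -⟩ := GorenLib.gorenstein_of_dim h2
  rw [zero_add, ← injective_iff_hasInjectiveDimensionLT_one] at h3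
  exact (Module.injective_iff_injective_object _ _).2 h3

theorem eq_top_of_sup_smul [IsLocalRing R] (hx : x ∈ IsLocalRing.maximalIdeal R) {K : Type u} [AddCommGroup K]
    [Module R K] [Module.Finite R K] (N : Submodule R K) (h : ∀ k : K, ∃ a ∈ N, ∃ b, k = a + x • b) : N = ⊤ := by
  rw [eq_top_iff]
  refine Submodule.le_of_le_smul_of_le_jacobson_bot (Module.finite_def.1 inferInstance)
    (I := Ideal.span {x}) (by
      rw [IsLocalRing.jacobson_eq_maximalIdeal ⊥ bot_ne_top, Ideal.span_singleton_le_iff_mem]; exact hx) fun k _ => ?_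
  obtain ⟨a, ha, b, rfl⟩ := h k
  exact Submodule.add_mem_sup ha (Submodule.smul_mem_smul (Ideal.mem_span_singleton_self x) trivial)

theorem exists_extend [IsLocalRing R] [IsNoetherianRing R] (hx : x ∈ IsLocalRing.maximalIdeal R)
    (hxreg : x ∈ nonZeroDivisors R)
    (hinj : Module.Injective (R ⧸ Ideal.span {x}) (R ⧸ Ideal.span {x}))
    {F : Type u} [AddCommGroup F] [Module R F] [Module.Finite R F] [Module.Projective R F] (K : Submodule R F)
    (hK : ∀ z : F, x • z ∈ K → z ∈ K) (g : K →ₗ[R] R) : ∃ G : F →ₗ[R] R, G.comp K.subtype = g := by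
  let res : (F →ₗ[R] R) →ₗ[R] (K →ₗ[R] R) := LinearMap.lcomp R R K.subtype
  suffices h : LinearMap.range res = ⊤ by
    obtain ⟨G, hG⟩ := (h ▸ Submodule.mem_top : g ∈ LinearMap.range res)
    exact ⟨G, hG⟩
  haveI : Module.Finite R (K →ₗ[R] R) :=
    haveI := Module.finitePresentation_of_finite R K
    inferInstance
  refine eq_top_of_sup_smul hx _ fun g => ?_
  let I : Ideal R := Ideal.span {x}
  let q : (K ⧸ I • (⊤ : Submodule R K)) →ₗ[R] (F ⧸ I • (⊤ : Submodule R F)) :=
    Submodule.mapQ _ _ K.subtype fun z hz => by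
      rw [Submodule.ideal_span_singleton_smul, Submodule.mem_smul_pointwise_iff_exists] at hz
      obtain ⟨w, -, rfl⟩ := hz
      exact Submodule.smul_mem_smul (Ideal.mem_span_singleton_self x) trivial
  have hq : Function.Injective q := (injective_iff_map_eq_zero q).2 fun z hz => by
    obtain ⟨k, rfl⟩ := Submodule.Quotient.mk_surjective _ z
    have h1 : (k : F) ∈ I • (⊤ : Submodule R F) := (Submodule.Quotient.mk_eq_zero _).1 hz
    rw [Submodule.ideal_span_singleton_smul, Submodule.mem_smul_pointwise_iff_exists] at h1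
    obtain ⟨w, -, hw⟩ := h1
    rw [Submodule.Quotient.mk_eq_zero, show k = x • (⟨w, hK w (hw ▸ k.2)⟩ : K) from Subtype.ext hw.symm]
    exact Submodule.smul_mem_smul (Ideal.mem_span_singleton_self x) trivial
  let gb : (K ⧸ I • (⊤ : Submodule R K)) →ₗ[R] R ⧸ I :=
    Submodule.liftQ _ (I.mkQ.comp g) fun z hz => by
      rw [Submodule.ideal_span_singleton_smul, Submodule.mem_smul_pointwise_iff_exists] at hz
      obtain ⟨w, -, rfl⟩ := hz
      rw [LinearMap.mem_ker, LinearMap.comp_apply, Submodule.mkQ_apply, Submodule.Quotient.mk_eq_zero, map_smul, smul_eq_mul]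
      exact I.mul_mem_right _ (Ideal.mem_span_singleton_self x)
  let q' : (K ⧸ I • (⊤ : Submodule R K)) →ₗ[R ⧸ I] (F ⧸ I • (⊤ : Submodule R F)) :=
    LinearMap.extendScalarsOfSurjective Ideal.Quotient.mk_surjective q
  let gb' : (K ⧸ I • (⊤ : Submodule R K)) →ₗ[R ⧸ I] R ⧸ I :=
    LinearMap.extendScalarsOfSurjective Ideal.Quotient.mk_surjective gb
  obtain ⟨H, hH⟩ := Module.Injective.extension_property (R ⧸ I) (R ⧸ I) _ _ q' hq gb' (inj := hinj)
  obtain ⟨G, hG⟩ := Module.projective_lifting_property I.mkQ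
    ((H.restrictScalars R).comp (Submodule.mkQ (I • (⊤ : Submodule R F)))) I.mkQ_surjective
  have hdiv : ∀ k : K, x ∣ g k - G k := fun k => by
    rw [← Ideal.mem_span_singleton, ← Submodule.Quotient.eq]
    have h1 : Submodule.Quotient.mk (p := I) (G k) = H (Submodule.Quotient.mk (k : F)) :=
      LinearMap.congr_fun hG (k : F)
    rw [h1]
    exact (LinearMap.congr_fun hH (Submodule.Quotient.mk k)).symm
  choose b hb using hdiv
  have hreg : ∀ {c d : R}, x * c = x * d → c = d := fun {c d} h =>
    (isRegular_iff_mem_nonZeroDivisors.2 hxreg).left h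
  let B : K →ₗ[R] R :=
    { toFun := b
      map_add' := fun s t => hreg (by
        rw [← hb, mul_add, ← hb, ← hb, map_add, Submodule.coe_add, map_add]; ring)
      map_smul' := fun r s => hreg (by
        rw [← hb, map_smul, Submodule.coe_smul, map_smul, RingHom.id_apply, smul_eq_mul, smul_eq_mul, smul_eq_mul,
          mul_left_comm, ← hb]; ring) }
  refine ⟨res G, ⟨G, rfl⟩, B, LinearMap.ext fun k => ?_⟩
  show g k = G k + x * b k
  rw [← hb k]; ring

theorem exists_lift [IsLocalRing R] [IsNoetherianRing R] (hx : x ∈ IsLocalRing.maximalIdeal R)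
    (hxreg : x ∈ nonZeroDivisors R)
    (hinj : Module.Injective (R ⧸ Ideal.span {x}) (R ⧸ Ideal.span {x}))
    {M : Type u} [AddCommGroup M] [Module R M] [Module.Finite R M] (hM : IsSMulRegular M x)
    (h : M →ₗ[R] R ⧸ Ideal.span {x}) : ∃ f : M →ₗ[R] R, ∀ m, h m = Ideal.Quotient.mk _ (f m) := by
  obtain ⟨n, π, hπ⟩ := Module.Finite.exists_fin' R M
  let I : Ideal R := Ideal.span {x}
  obtain ⟨g, hg⟩ := Module.projective_lifting_property I.mkQ (h.comp π) I.mkQ_surjective
  have hker : ∀ k : LinearMap.ker π, x ∣ g k := fun k => by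
    rw [← Ideal.mem_span_singleton, ← Submodule.Quotient.mk_eq_zero]
    have := LinearMap.congr_fun hg (k : Fin n → R)
    rw [LinearMap.comp_apply, LinearMap.comp_apply, LinearMap.mem_ker.1 k.2, map_zero] at this
    exact this
  choose b hb using hker
  have hreg : ∀ {c d : R}, x * c = x * d → c = d := fun {c d} h =>
    (isRegular_iff_mem_nonZeroDivisors.2 hxreg).left h
  let B : LinearMap.ker π →ₗ[R] R :=
    { toFun := b
      map_add' := fun s t => hreg (by rw [← hb, mul_add, ← hb, ← hb, Submodule.coe_add, map_add])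
      map_smul' := fun r s => hreg (by
        rw [← hb, Submodule.coe_smul, map_smul, RingHom.id_apply, smul_eq_mul, smul_eq_mul, mul_left_comm, ← hb]) }
  obtain ⟨G, hG⟩ := exists_extend hx hxreg hinj (LinearMap.ker π) (fun z hz => by
    rw [LinearMap.mem_ker, map_smul] at hz
    exact LinearMap.mem_ker.2 (hM.right_eq_zero_of_smul hz)) B
  let L : ((Fin n → R) ⧸ LinearMap.ker π) →ₗ[R] R := (LinearMap.ker π).liftQ (g - x • G) fun z hz => by
      rw [LinearMap.mem_ker, LinearMap.sub_apply, LinearMap.smul_apply, smul_eq_mul]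
      have := LinearMap.congr_fun hG ⟨z, hz⟩
      rw [LinearMap.comp_apply, Submodule.subtype_apply] at this
      rw [this, sub_eq_zero]
      exact hb ⟨z, hz⟩
  refine ⟨L.comp (π.quotKerEquivOfSurjective hπ).symm.toLinearMap, fun m => ?_⟩
  obtain ⟨z, rfl⟩ := hπ m
  have e : (π.quotKerEquivOfSurjective hπ).symm (π z) = Submodule.Quotient.mk z := by
    rw [LinearEquiv.symm_apply_eq]; rfl
  show _ = Ideal.Quotient.mk _ (L ((π.quotKerEquivOfSurjective hπ).symm (π z)))
  rw [e]
  rw [Submodule.liftQ_apply, LinearMap.sub_apply, LinearMap.smul_apply, smul_eq_mul, map_sub, map_mul,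
    Ideal.Quotient.eq_zero_iff_mem.2 (Ideal.mem_span_singleton_self x), zero_mul, sub_zero]
  exact (LinearMap.congr_fun hg z).symm

theorem exists_hom_ne_zero [IsLocalRing R] [IsNoetherianRing R] (hdim : ringKrullDim R ≤ 1)
    (hx : x ∈ IsLocalRing.maximalIdeal R) (hxmin : ∀ q ∈ minimalPrimes R, x ∉ q)
    (hinj : Module.Injective (R ⧸ Ideal.span {x}) (R ⧸ Ideal.span {x}))
    {N : Type u} [AddCommGroup N] [Module R N] {y : N} (hy : y ∉ Ideal.span {x} • (⊤ : Submodule R N)) :
    ∃ h : N →ₗ[R] R ⧸ Ideal.span {x}, h y ≠ 0 := by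
  obtain ⟨a, hax, hat⟩ := BassEnd.exists_socle hdim hx hxmin
  let I : Ideal R := Ideal.span {x}
  let P := N ⧸ I • (⊤ : Submodule R N)
  let z : P := Submodule.Quotient.mk y
  have hz : z ≠ 0 := fun h => hy ((Submodule.Quotient.mk_eq_zero _).1 h)
  let s : R →ₗ[R] P := LinearMap.toSpanSingleton R P z
  let g : R →ₗ[R] R ⧸ I := LinearMap.toSpanSingleton R (R ⧸ I) (Ideal.Quotient.mk I a)
  have hsg : LinearMap.ker s ≤ LinearMap.ker g := fun r hr => by
    rw [LinearMap.mem_ker, LinearMap.toSpanSingleton_apply] at hr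
    rw [LinearMap.mem_ker, LinearMap.toSpanSingleton_apply]
    have hrm : r ∈ IsLocalRing.maximalIdeal R := by
      by_contra hu
      rw [IsLocalRing.mem_maximalIdeal, mem_nonunits_iff, not_not] at hu
      exact hz (hu.smul_eq_zero.1 hr)
    show Ideal.Quotient.mk I (r * a) = 0
    rw [Ideal.Quotient.eq_zero_iff_mem]
    exact hat r hrm
  let e := s.quotKerEquivRange
  let h0 : LinearMap.range s →ₗ[R] R ⧸ I := ((LinearMap.ker s).liftQ g hsg).comp e.symm.toLinearMap
  let q' : LinearMap.range s →ₗ[R] P := (LinearMap.range s).subtype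
  letI : Module (R ⧸ I) (LinearMap.range s) := Module.IsTorsionBySet.module (R := R) (I := I) (by
    rintro w ⟨c, hc⟩
    obtain ⟨v, hv⟩ := Submodule.Quotient.mk_surjective _ (w : P)
    refine Subtype.ext ?_
    show c • (w : P) = 0
    rw [← hv, ← Submodule.Quotient.mk_smul, Submodule.Quotient.mk_eq_zero]
    exact Submodule.smul_mem_smul hc trivial)
  haveI : IsScalarTower R (R ⧸ I) (LinearMap.range s) := ⟨fun r b w => by
    obtain ⟨b, rfl⟩ := Ideal.Quotient.mk_surjective b
    exact smul_assoc r b w⟩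
  let q'' : LinearMap.range s →ₗ[R ⧸ I] P := LinearMap.extendScalarsOfSurjective Ideal.Quotient.mk_surjective q'
  let h0' : LinearMap.range s →ₗ[R ⧸ I] R ⧸ I := LinearMap.extendScalarsOfSurjective Ideal.Quotient.mk_surjective h0
  obtain ⟨H, hH⟩ := Module.Injective.extension_property (R ⧸ I) (R ⧸ I) _ _ q'' Subtype.val_injective h0' (inj := hinj)
  refine ⟨(H.restrictScalars R).comp (Submodule.mkQ _), fun h => hax ?_⟩
  have h1 := LinearMap.congr_fun hH ⟨s 1, ⟨1, rfl⟩⟩
  have h2 : e.symm ⟨s 1, ⟨1, rfl⟩⟩ = Submodule.Quotient.mk 1 := by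
    rw [LinearEquiv.symm_apply_eq]; rfl
  rw [← Ideal.Quotient.eq_zero_iff_mem]
  have h3 : h0 ⟨s 1, ⟨1, rfl⟩⟩ = Ideal.Quotient.mk I a := by
    show ((LinearMap.ker s).liftQ g hsg) (e.symm _) = _
    rw [h2, Submodule.liftQ_apply]
    exact one_smul _ _
  rw [← h3]
  refine (h1.symm.trans ?_)
  show H ((1 : R) • z) = 0
  rw [one_smul]
  exact h

/-- A torsionless module over a one-dimensional Gorenstein local ring is reflexive. -/
theorem surjective_eval [IsLocalRing R] [IsNoetherianRing R] (hdim : ringKrullDim R ≤ 1)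
    (hx : x ∈ IsLocalRing.maximalIdeal R) (hxreg : x ∈ nonZeroDivisors R) (hxmin : ∀ q ∈ minimalPrimes R, x ∉ q)
    (hinj : Module.Injective (R ⧸ Ideal.span {x}) (R ⧸ Ideal.span {x}))
    {M : Type u} [AddCommGroup M] [Module R M] [Module.Finite R M]
    (hM : Function.Injective (Module.Dual.eval R M)) : Function.Surjective (Module.Dual.eval R M) := by
  intro φ
  haveI : Module.Finite R (M →ₗ[R] R) :=
    haveI := Module.finitePresentation_of_finite R M
    inferInstance
  obtain ⟨n, σ, hσ⟩ := Module.Finite.exists_fin' R (Module.Dual R M)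
  let fs : Fin n → Module.Dual R M := fun i => σ (Pi.single i 1)
  let ι : M →ₗ[R] (Fin n → R) := LinearMap.pi fs
  have hσc : ∀ c : Fin n → R, σ c = ∑ i, c i • fs i := fun c => by
    conv_lhs => rw [pi_eq_sum_univ' c, map_sum]
    simp [fs, map_smul]
  have hreg : ∀ {c d : R}, x * c = x * d → c = d := fun {c d} h =>
    (isRegular_iff_mem_nonZeroDivisors.2 hxreg).left h
  have hMreg : IsSMulRegular M x := by
    intro a b hab
    refine hM (LinearMap.ext fun f => hreg ?_)
    simp only [Module.Dual.eval_apply]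
    rw [← smul_eq_mul, ← smul_eq_mul, ← map_smul, ← map_smul]
    exact congrArg f hab
  have hdiv : ∀ (m : M) (y : Fin n → R), ι m = x • y → m ∈ Ideal.span {x} • (⊤ : Submodule R M) := by
    intro m y hmy
    by_contra hm
    obtain ⟨h, hh⟩ := exists_hom_ne_zero hdim hx hxmin hinj hm
    obtain ⟨f, hf⟩ := exists_lift hx hxreg hinj hMreg h
    obtain ⟨c, rfl⟩ := hσ f
    refine hh ?_
    rw [hf, Ideal.Quotient.eq_zero_iff_mem, hσc, LinearMap.sum_apply]
    refine Submodule.sum_mem _ fun i _ => ?_
    have : fs i m = x * y i := congrFun hmy i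
    rw [LinearMap.smul_apply, this, smul_eq_mul]
    exact Ideal.mul_mem_left _ _ (Ideal.mul_mem_right _ _ (Ideal.mem_span_singleton_self x))
  let Q := (Fin n → R) ⧸ LinearMap.range ι
  have hQreg : IsSMulRegular Q x := IsSMulRegular.of_right_eq_zero_of_smul fun q hq => by
    obtain ⟨y, rfl⟩ := Submodule.Quotient.mk_surjective _ q
    rw [← Submodule.Quotient.mk_smul, Submodule.Quotient.mk_eq_zero] at hq
    obtain ⟨m, hm⟩ := hq
    have := hdiv m y hm
    rw [Submodule.ideal_span_singleton_smul, Submodule.mem_smul_pointwise_iff_exists] at this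
    obtain ⟨m', -, rfl⟩ := this
    rw [map_smul] at hm
    exact (Submodule.Quotient.mk_eq_zero _).2 ⟨m', funext fun i => hreg (congrFun hm i)⟩
  -- vectors orthogonal to all relations
  let Z : Set (Fin n → R) := {y | ∀ c : Fin n → R, σ c = 0 → ∑ i, c i * y i = 0}
  have step : ∀ y ∈ Z, ∃ m : M, ∃ y' ∈ Z, y = ι m + x • y' := by
    intro y hy
    have hmem : (Submodule.Quotient.mk y : Q) ∈ Ideal.span {x} • (⊤ : Submodule R Q) := by
      by_contra hne
      obtain ⟨h, hh⟩ := exists_hom_ne_zero hdim hx hxmin hinj hne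
      obtain ⟨F, hF⟩ := exists_lift hx hxreg hinj hQreg h
      apply hh
      let c : Fin n → R := fun i => F (Submodule.Quotient.mk (Pi.single i 1))
      have hF' : ∀ v : Fin n → R, F (Submodule.Quotient.mk v) = ∑ i, c i * v i := fun v => by
        conv_lhs => rw [pi_eq_sum_univ' v]
        rw [← Submodule.mkQ_apply, map_sum, map_sum]
        refine Finset.sum_congr rfl fun i _ => ?_
        rw [map_smul, map_smul, smul_eq_mul, mul_comm]
        rfl
      have hc : σ c = 0 := by
        rw [hσc]
        refine LinearMap.ext fun m => ?_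
        rw [LinearMap.sum_apply, LinearMap.zero_apply]
        have h0 := hF' (ι m)
        rw [(Submodule.Quotient.mk_eq_zero (LinearMap.range ι)).2 ⟨m, rfl⟩, map_zero] at h0
        exact h0.symm
      rw [hF, hF', hy c hc, map_zero]
    rw [Submodule.ideal_span_singleton_smul, Submodule.mem_smul_pointwise_iff_exists] at hmem
    obtain ⟨q, -, hq⟩ := hmem
    obtain ⟨y', rfl⟩ := Submodule.Quotient.mk_surjective _ q
    rw [← Submodule.Quotient.mk_smul, eq_comm, Submodule.Quotient.eq] at hq
    obtain ⟨m, hm⟩ := hq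
    have e : y = ι m + x • y' := by rw [hm]; abel
    refine ⟨m, y', fun c hc => hreg ?_, e⟩
    have h1 := hy c hc
    have h2 : ∑ i, c i * ι m i = 0 := by
      have := LinearMap.congr_fun ((hσc c).symm.trans hc) m
      rw [LinearMap.sum_apply, LinearMap.zero_apply] at this
      exact this
    rw [e] at h1
    simp only [Pi.add_apply, Pi.smul_apply, smul_eq_mul, mul_add, Finset.sum_add_distrib, h2, zero_add] at h1
    rw [mul_zero, Finset.mul_sum]
    rw [← h1]
    exact Finset.sum_congr rfl fun i _ => by ring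
  have iter : ∀ (k : ℕ), ∀ y ∈ Z, ∃ m : M, ∃ y' : Fin n → R, y = ι m + x ^ k • y' := by
    intro k
    induction k with
    | zero => intro y hy; exact ⟨0, y, by simp⟩
    | succ k ih =>
      intro y hy
      obtain ⟨m, y', hy', rfl⟩ := step y hy
      obtain ⟨m', y'', rfl⟩ := ih y' hy'
      exact ⟨m + x • m', y'', by rw [map_add, map_smul, smul_add, smul_smul, pow_succ', add_assoc]⟩
  let y : Fin n → R := fun i => φ (fs i)
  have hy : y ∈ Z := fun c hc => by
    have := congrArg φ ((hσc c).symm.trans hc)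
    rw [map_sum, map_zero] at this
    simpa [map_smul] using this
  have hyI : (Submodule.Quotient.mk y : Q) ∈ ⨅ k : ℕ, Ideal.span {x} ^ k • (⊤ : Submodule R Q) := by
    refine Submodule.mem_iInf _ |>.2 fun k => ?_
    obtain ⟨m, y', hk⟩ := iter k y hy
    rw [hk, Submodule.Quotient.mk_add, (Submodule.Quotient.mk_eq_zero (LinearMap.range ι)).2 ⟨m, rfl⟩, zero_add,
      Submodule.Quotient.mk_smul]
    exact Submodule.smul_mem_smul (Ideal.pow_mem_pow (Ideal.mem_span_singleton_self x) k) trivial
  rw [Ideal.iInf_pow_smul_eq_bot_of_le_jacobson _ (by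
    rw [IsLocalRing.jacobson_eq_maximalIdeal ⊥ bot_ne_top, Ideal.span_singleton_le_iff_mem]; exact hx),
    Submodule.mem_bot, Submodule.Quotient.mk_eq_zero] at hyI
  obtain ⟨m, hm⟩ := hyI
  refine ⟨m, LinearMap.ext fun f => ?_⟩
  obtain ⟨c, rfl⟩ := hσ f
  rw [Module.Dual.eval_apply, hσc, map_sum, LinearMap.sum_apply]
  refine Finset.sum_congr rfl fun i _ => ?_
  rw [map_smul, LinearMap.smul_apply]
  exact congrArg (c i • ·) (congrFun hm i)

theorem injective_eval_localized {A : Type u} [CommRing A] [IsNoetherianRing A]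
    {G : Type u} [AddCommGroup G] [Module A G] [Module.Finite A G] (S : Submonoid A)
    (h : Function.Injective (Module.Dual.eval A G)) :
    Function.Injective (Module.Dual.eval (Localization S) (LocalizedModule S G)) := by
  have : Module.FinitePresentation A G := Module.finitePresentation_of_finite A G
  let mk := LocalizedModule.mkLinearMap S G
  let lm := Algebra.linearMap A (Localization S)
  rw [injective_iff_map_eq_zero]
  intro y hy
  obtain ⟨⟨g, s⟩, hs⟩ := IsLocalizedModule.surj S mk y
  have : Module.Finite A (G →ₗ[A] A) :=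
    haveI := Module.finitePresentation_of_finite A G
    inferInstance
  obtain ⟨n, σ, hσ⟩ := Module.Finite.exists_fin' A (Module.Dual A G)
  have hkill : ∀ f : G →ₗ[A] A, ∃ t : S, (t : A) * f g = 0 := fun f => by
    let F : LocalizedModule S G →ₗ[Localization S] Localization S :=
      IsLocalizedModule.mapExtendScalars S mk lm (Localization S) f
    have e : F (mk g) = algebraMap A (Localization S) (f g) := IsLocalizedModule.map_apply S mk lm f g
    have h0 : F (mk g) = 0 := by
      rw [← hs]
      show F ((s : A) • y) = 0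
      rw [LinearMap.map_smul_of_tower, show F y = 0 from LinearMap.congr_fun hy F, smul_zero]
    rw [e] at h0
    exact (IsLocalization.map_eq_zero_iff S (Localization S) (f g)).1 h0
  choose t ht using fun i : Fin n => hkill (σ (Pi.single i 1))
  have hkillall : ((∏ i, t i : S) : A) • g = 0 := h (by
    rw [map_zero]
    refine LinearMap.ext fun f => ?_
    obtain ⟨c, rfl⟩ := hσ f
    rw [LinearMap.zero_apply, Module.Dual.eval_apply, map_smul, pi_eq_sum_univ' c, map_sum, LinearMap.sum_apply]
    rw [Finset.smul_sum]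
    refine Finset.sum_eq_zero fun i _ => ?_
    rw [map_smul, LinearMap.smul_apply, smul_comm, smul_eq_mul ((_ : S) : A), Submonoid.coe_finsetProd,
      ← Finset.prod_erase_mul _ _ (Finset.mem_univ i), mul_assoc, ht i, mul_zero, smul_zero])
  have h4 : mk g = 0 := (IsLocalizedModule.eq_zero_iff S mk).2 ⟨∏ i, t i, hkillall⟩
  exact (IsLocalizedModule.smul_inj mk s y 0).1 (by rw [smul_zero]; exact hs.trans h4)

/-- Torsionless modules over one-dimensional reduced Gorenstein rings are reflexive. -/
theorem isReflexive_of_injective_eval (S : Type u) [CommRing S] [IsReduced S] [LocCoh.IsGorensteinRing S]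
    (hdim : ringKrullDim S ≤ 1) (M : Type u) [AddCommGroup M] [Module S M] [Module.Finite S M]
    (hM : Function.Injective (Module.Dual.eval S M)) : Module.IsReflexive S M := by
  classical
  refine ⟨⟨hM, fun φ => ?_⟩⟩
  suffices hI : (LinearMap.range (Module.Dual.eval S M)).comap (LinearMap.toSpanSingleton S _ φ) = ⊤ by
    have h1 : (1 : S) ∈ (LinearMap.range (Module.Dual.eval S M)).comap (LinearMap.toSpanSingleton S _ φ) :=
      hI ▸ Submodule.mem_top
    simpa using h1
  by_contra hne
  obtain ⟨P, hP, hle⟩ := Ideal.exists_le_maximal _ hne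
  let R := Localization.AtPrime P
  let MP := LocalizedModule P.primeCompl M
  haveI : LocCoh.IsGorensteinLocalRing R := LocCoh.IsGorensteinRing.isGorensteinLocalRing_localization P
  haveI : IsReduced R := inferInstance
  have hd : ringKrullDim R ≤ 1 := by
    rw [IsLocalization.AtPrime.ringKrullDim_eq_height P R]
    exact (Ideal.height_le_ringKrullDim_of_ne_top hP.ne_top).trans hdim
  have hinjP : Function.Injective (Module.Dual.eval R MP) := injective_eval_localized P.primeCompl hM
  have hbij : Module.IsReflexive R MP := by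
    refine ⟨⟨hinjP, ?_⟩⟩
    by_cases hm : IsLocalRing.maximalIdeal R = ⊥
    · have hf : IsField R := IsLocalRing.isField_iff_maximalIdeal_eq.2 hm
      letI := hf.toField
      haveI : Module.Finite R MP := Module.Finite.of_isLocalizedModule P.primeCompl (LocalizedModule.mkLinearMap _ M)
      exact (Module.bijective_dual_eval R MP).2
    · obtain ⟨y, hy, hyreg, hymin⟩ := BassEnd.exists_nonZeroDivisor_mem hm
      haveI : Module.Finite R MP := Module.Finite.of_isLocalizedModule P.primeCompl (LocalizedModule.mkLinearMap _ M)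
      exact surjective_eval hd hy hyreg hymin
        (injective_quotient hd hy (isRegular_iff_mem_nonZeroDivisors.2 hyreg).left) hinjP
  obtain ⟨s, hs, hsφ⟩ := (DepthLib.eval_locally_bijective P.primeCompl hbij).2 φ
  exact hs (hle hsφ)

end Groth.Agent.CI2.GorOneRefl
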