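import Groth.Agent.Lib.K0Cat.FiniteModules
import Mathlib

/-!
# The numerical polynomial of a graded module in `K₀`
-/

set_option autoImplicit false

universe u

open DirectSum

namespace Groth.Agent.CI2.GrHilb

section Poly

variable {H : Type*} [AddCommGroup H]

/-- `f` is eventually killed by `r` forward differences. -/
def PolyDeg : ℕ → (ℕ → H) → Prop
  | 0, f => ∃ N, ∀ n, N ≤ n → f n = 0
  | r + 1, f => PolyDeg r fun n => f (n + 1) - f n

theorem polyDeg_sub : ∀ (r : ℕ) {f g : ℕ → H}, PolyDeg r f → PolyDeg r g → PolyDeg r (fun n => f n - g n)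
  | 0, f, g, ⟨N, hf⟩, ⟨N', hg⟩ =>
    ⟨max N N', fun n hn => by
      show f n - g n = 0
      rw [hf n (le_trans (le_max_left _ _) hn), hg n (le_trans (le_max_right _ _) hn), sub_zero]⟩
  | r + 1, f, g, hf, hg => by
    show PolyDeg r fun n => (f (n + 1) - g (n + 1)) - (f n - g n)
    simp only [sub_sub_sub_comm]
    exact polyDeg_sub r hf hg

theorem polyDeg_shift : ∀ (r : ℕ) {f : ℕ → H}, PolyDeg r f → PolyDeg r (fun n => f (n + 1))
  | 0, f, ⟨N, hf⟩ => ⟨N, fun n hn => hf _ (by omega)⟩
  | r + 1, f, hf => polyDeg_shift r (f := fun n => f (n + 1) - f n) hf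

/-- A function killed by `r` differences is a combination of binomial coefficients. -/
theorem exists_choose : ∀ (r : ℕ) {f : ℕ → H}, PolyDeg r f →
    ∃ (a : Fin r → H) (N : ℕ), ∀ n, N ≤ n → f n = ∑ i : Fin r, ((n.choose (i : ℕ) : ℕ) : ℤ) • a i
  | 0, f, ⟨N, hf⟩ => ⟨fun i => i.elim0, N, fun n hn => by simp [hf n hn]⟩
  | r + 1, f, hf => by
    obtain ⟨b, N, hb⟩ := exists_choose r (f := fun n => f (n + 1) - f n) hf
    let c := f N - ∑ i : Fin r, ((N.choose ((i : ℕ) + 1) : ℕ) : ℤ) • b i
    refine ⟨Fin.cons c b, N, fun n hn => ?_⟩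
    rw [Fin.sum_univ_succ]
    simp only [Fin.cons_zero, Fin.cons_succ, Fin.val_zero, Fin.val_succ, Nat.choose_zero_right, Nat.cast_one, one_smul]
    induction n, hn using Nat.le_induction with
    | base => simp [c]
    | succ n hn ih =>
      have h1 : f (n + 1) = f n + ∑ i : Fin r, ((n.choose (i : ℕ) : ℕ) : ℤ) • b i := by
        rw [← hb n hn, add_sub_cancel]
      rw [h1, ih, add_assoc, ← Finset.sum_add_distrib]
      congr 1
      refine Finset.sum_congr rfl fun i _ => ?_
      rw [← add_smul, ← Nat.cast_add, Nat.choose_succ_succ n i, Nat.add_comm]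

end Poly

variable {A S M : Type u} [CommRing A] [CommRing S] [Algebra A S] [AddCommGroup M] [Module A M] [Module S M]
  [IsScalarTower A S M] (𝒜 : ℕ → Submodule A S) [GradedAlgebra 𝒜] (ℳ : ℕ → Submodule A M)
  [DirectSum.Decomposition ℳ] [SetLike.GradedSMul 𝒜 ℳ]

/-- The homogeneous component. -/
noncomputable def comp (n : ℕ) : M →+ M :=
  { toFun := fun m => (decompose ℳ m n : M)
    map_zero' := by simp
    map_add' := fun x y => by simp }

theorem comp_mem (n : ℕ) (m : M) : comp ℳ n m ∈ ℳ n := (decompose ℳ m n).2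

theorem comp_same {n : ℕ} {m : M} (h : m ∈ ℳ n) : comp ℳ n m = m := decompose_of_mem_same ℳ h

theorem comp_ne {i n : ℕ} {m : M} (h : m ∈ ℳ i) (hne : i ≠ n) : comp ℳ n m = 0 := decompose_of_mem_ne ℳ h hne

theorem comp_smul {i : ℕ} {a : S} (ha : a ∈ 𝒜 i) (n : ℕ) (m : M) :
    comp ℳ n (a • m) = if i ≤ n then a • comp ℳ (n - i) m else 0 := by
  classical
  induction m using DirectSum.Decomposition.inductionOn ℳ with
  | zero => simp
  | @homogeneous j x =>
    have hax : a • (x : M) ∈ ℳ (i + j) := SetLike.GradedSMul.smul_mem ha x.2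
    by_cases h : i + j = n
    · rw [if_pos (by omega), ← h, comp_same ℳ hax, Nat.add_sub_cancel_left, comp_same ℳ x.2]
    · rw [comp_ne ℳ hax h]
      split_ifs with hle
      · rw [comp_ne ℳ x.2 (by omega), smul_zero]
      · rfl
  | add x y hx hy =>
    rw [smul_add, map_add, hx, hy, map_add]
    split_ifs <;> simp [smul_add]

/-- A submodule closed under taking components. -/
def Homog (P : Submodule S M) : Prop := ∀ m ∈ P, ∀ n, comp ℳ n m ∈ P

/-- The degree `n` part. -/
def piece (P : Submodule S M) (n : ℕ) : Submodule A M := P.restrictScalars A ⊓ ℳ n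

section Finite

variable (h0 : ∀ s ∈ 𝒜 0, s ∈ Set.range (algebraMap A S))

include h0 in
theorem comp_span {n : ℕ} (U : Submodule A M) (hU : U ≤ ℳ n) {z : M} (hz : z ∈ Submodule.span S (U : Set M)) :
    comp ℳ n z ∈ U := by
  classical
  induction hz using Submodule.span_induction with
  | mem x hx => rw [comp_same ℳ (hU hx)]; exact hx
  | zero => rw [map_zero]; exact U.zero_mem
  | add x y _ _ hx hy => rw [map_add]; exact U.add_mem hx hy
  | smul a x hxs hx =>
    induction a using DirectSum.Decomposition.inductionOn 𝒜 with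
    | zero => rw [zero_smul, map_zero]; exact U.zero_mem
    | @homogeneous i a =>
      rw [comp_smul 𝒜 ℳ a.2]
      split_ifs with hle
      · rcases Nat.eq_zero_or_pos i with rfl | hi
        · obtain ⟨c, hc⟩ := h0 _ a.2
          rw [Nat.sub_zero, ← hc, algebraMap_smul]
          exact U.smul_mem c hx
        · have : comp ℳ (n - i) x = 0 := by
            clear hx
            induction hxs using Submodule.span_induction with
            | mem y hy => exact comp_ne ℳ (hU hy) (by omega)
            | zero => exact map_zero _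
            | add y z _ _ h1 h2 => rw [map_add, h1, h2, add_zero]
            | smul b y hys h1 =>
              suffices ∀ k, k < n → ∀ w ∈ Submodule.span S (U : Set M), comp ℳ k w = 0 from
                this _ (by omega) _ (Submodule.smul_mem _ _ hys)
              intro k hk w hw
              induction hw using Submodule.span_induction generalizing k with
              | mem y hy => exact comp_ne ℳ (hU hy) (by omega)
              | zero => exact map_zero _
              | add y z _ _ h1 h2 => rw [map_add, h1 k hk, h2 k hk, add_zero]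
              | smul c y _ h1 =>
                induction c using DirectSum.Decomposition.inductionOn 𝒜 with
                | zero => rw [zero_smul, map_zero]
                | @homogeneous l c =>
                  rw [comp_smul 𝒜 ℳ c.2]
                  split_ifs
                  · rw [h1 _ (by omega), smul_zero]
                  · rfl
                | add c c' h3 h4 => rw [add_smul, map_add, h3, h4, add_zero]
          rw [this, smul_zero]
          exact U.zero_mem
      · exact U.zero_mem
    | add a b ha hb => rw [add_smul, map_add]; exact U.add_mem ha hb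

variable [IsNoetherianRing S] [Module.Finite S M]

include h0 in
theorem isNoetherian_piece (n : ℕ) : IsNoetherian A (ℳ n) := by
  rw [isNoetherian_iff']
  have hM : IsNoetherian S M := inferInstance
  rw [isNoetherian_iff'] at hM
  refine StrictMono.wellFoundedGT (f := fun U : Submodule A (ℳ n) => Submodule.span S ((U.map (ℳ n).subtype : Submodule A M) : Set M)) ?_
  intro U V hUV
  refine lt_of_le_of_ne (Submodule.span_mono (Submodule.map_mono hUV.le)) fun heq => hUV.ne ?_
  refine le_antisymm hUV.le fun v hv => ?_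
  have h1 : (v : M) ∈ Submodule.span S ((U.map (ℳ n).subtype : Submodule A M) : Set M) := by
    rw [show Submodule.span S ((U.map (ℳ n).subtype : Submodule A M) : Set M) = _ from heq]
    exact Submodule.subset_span ⟨v, hv, rfl⟩
  have h2 := comp_span 𝒜 ℳ h0 _ (Submodule.map_subtype_le _ _) h1
  rw [comp_same ℳ v.2] at h2
  obtain ⟨u, hu, huv⟩ := h2
  rwa [← Subtype.ext huv]

include h0 in
theorem finite_piece (P : Submodule S M) (n : ℕ) : Module.Finite A (piece ℳ P n) :=
  haveI := isNoetherian_piece 𝒜 ℳ h0 n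
  Module.Finite.of_injective (Submodule.inclusion (inf_le_right : piece ℳ P n ≤ ℳ n)) (Submodule.inclusion_injective _)

/-- The class of a piece. -/
noncomputable def c (P : Submodule S M) (n : ℕ) : KZero.K0sub (K0Cat.finMods A) :=
  KZero.clSub (K0Cat.finMods A) (ModuleCat.of A (piece ℳ P n))

include h0 in
theorem four_term {x : S} (hx : x ∈ 𝒜 1) {P Q : Submodule S M} (hP : Homog ℳ P) (hQ : Homog ℳ Q) (n : ℕ) :
    c ℳ P n + c ℳ Q (n + 1) =
      c ℳ (P.map (LinearMap.lsmul S M x) ⊔ Q) (n + 1) + c ℳ (P ⊓ Q.comap (LinearMap.lsmul S M x)) n := by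
  haveI := finite_piece 𝒜 ℳ h0 P n
  haveI := finite_piece 𝒜 ℳ h0 Q (n + 1)
  haveI := finite_piece 𝒜 ℳ h0 (P.map (LinearMap.lsmul S M x) ⊔ Q) (n + 1)
  haveI := finite_piece 𝒜 ℳ h0 (P ⊓ Q.comap (LinearMap.lsmul S M x)) n
  have hxm : ∀ {k : ℕ} {m : M}, m ∈ ℳ k → x • m ∈ ℳ (k + 1) := fun {k m} h => by
    rw [Nat.add_comm]; exact SetLike.GradedSMul.smul_mem hx h
  let Φ : piece ℳ P n × piece ℳ Q (n + 1) →ₗ[A] piece ℳ (P.map (LinearMap.lsmul S M x) ⊔ Q) (n + 1) :=
    { toFun := fun pq => ⟨x • (pq.1 : M) + (pq.2 : M),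
        Submodule.add_mem_sup (Submodule.mem_map_of_mem pq.1.2.1) pq.2.2.1,
        (ℳ (n + 1)).add_mem (hxm pq.1.2.2) pq.2.2.2⟩
      map_add' := fun a b => Subtype.ext (by simp [smul_add]; abel)
      map_smul' := fun r a => Subtype.ext (by simp [smul_add, smul_comm x r]) }
  let ι : piece ℳ (P ⊓ Q.comap (LinearMap.lsmul S M x)) n →ₗ[A] piece ℳ P n × piece ℳ Q (n + 1) :=
    { toFun := fun k => (⟨k.1, k.2.1.1, k.2.2⟩, ⟨-(x • k.1), Q.neg_mem k.2.1.2, (ℳ (n + 1)).neg_mem (hxm k.2.2)⟩)
      map_add' := fun a b => Prod.ext (Subtype.ext rfl) (Subtype.ext (by simp [smul_add]; abel))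
      map_smul' := fun r a => Prod.ext (Subtype.ext rfl) (Subtype.ext (by simp [smul_comm x r])) }
  have hι : Function.Injective ι := fun a b h => Subtype.ext (congrArg (fun z => (z.1 : M)) h)
  have hΦ : Function.Surjective Φ := by
    rintro ⟨z, hz, hzn⟩
    obtain ⟨_, ⟨p, hp, rfl⟩, q, hq, rfl⟩ := Submodule.mem_sup.1 hz
    refine ⟨(⟨comp ℳ n p, hP p hp n, comp_mem ℳ n p⟩, ⟨comp ℳ (n + 1) q, hQ q hq _, comp_mem ℳ _ q⟩), Subtype.ext ?_⟩
    have := comp_same ℳ hzn
    rw [map_add, LinearMap.lsmul_apply, comp_smul 𝒜 ℳ hx, if_pos (by omega), Nat.add_sub_cancel] at this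
    exact this
  have hex : Function.Exact ι Φ := by
    rintro ⟨⟨p, hp, hpn⟩, ⟨q, hq, hqn⟩⟩
    constructor
    · intro h
      have h' : x • p + q = 0 := congrArg Subtype.val h
      refine ⟨⟨p, ⟨hp, ?_⟩, hpn⟩, Prod.ext rfl (Subtype.ext (neg_eq_of_add_eq_zero_right h'))⟩
      show x • p ∈ Q
      rw [eq_neg_of_add_eq_zero_left h']
      exact Q.neg_mem hq
    · rintro ⟨k, hk⟩
      rw [← hk]
      exact Subtype.ext (add_neg_cancel _)
  have h1 := K0Cat.clSub_linear ι Φ hι hΦ hex
  have h2 := K0Cat.clSub_linear (LinearMap.inl A (piece ℳ P n) (piece ℳ Q (n + 1))) (LinearMap.snd A _ _)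
    LinearMap.inl_injective LinearMap.snd_surjective Function.Exact.inl_snd
  rw [c, c, c, c, ← h2, h1, add_comm]

include h0 in
/-- The main induction. -/
theorem polyDeg_aux (G : List S) (hG : ∀ y ∈ G, y ∈ 𝒜 1)
    (hgen : ∀ i, 0 < i → ∀ a ∈ 𝒜 i, a ∈ Ideal.span {y | y ∈ G}) :
    ∀ (l : List S), l ⊆ G → ∀ (P Q : Submodule S M), Homog ℳ P → Homog ℳ Q → Q ≤ P →
      (∀ y ∈ G, y ∉ l → ∀ p ∈ P, y • p ∈ Q) → PolyDeg l.length (fun n => c ℳ P n - c ℳ Q n) := by
  classical
  intro l
  induction l with
  | nil =>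
    intro _ P Q hP hQ hle hkill
    have hkill' : ∀ {i : ℕ}, 0 < i → ∀ a ∈ 𝒜 i, ∀ p ∈ P, a • p ∈ Q := by
      intro i hi a ha p hp
      have h1 : Ideal.span {y | y ∈ G} ≤ (Submodule.colon Q {p}) := by
        rw [Ideal.span_le]
        intro y hy
        rw [SetLike.mem_coe, Submodule.mem_colon_singleton]
        exact hkill y hy (by simp) p hp
      exact Submodule.mem_colon_singleton.1 (h1 (hgen i hi a ha))
    obtain ⟨s, hs⟩ := (IsNoetherian.noetherian P : P.FG)
    let N := (s.biUnion fun g => (decompose ℳ g).support).sup id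
    have hW : ∀ z ∈ P, ∀ k, N < k → comp ℳ k z ∈ Q := by
      intro z hz
      rw [← hs] at hz
      induction hz using Submodule.span_induction with
      | mem g hg =>
        intro k hk
        by_cases hgk : k ∈ (decompose ℳ g).support
        · exact absurd (Finset.le_sup (f := id) (Finset.mem_biUnion.2 ⟨g, hg, hgk⟩)) (not_le.2 hk)
        · rw [DFinsupp.notMem_support_iff] at hgk
          show (decompose ℳ g k : M) ∈ Q
          rw [hgk]
          exact Q.zero_mem
      | zero => intro k _; rw [map_zero]; exact Q.zero_mem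
      | add x y _ _ h1 h2 => intro k hk; rw [map_add]; exact Q.add_mem (h1 k hk) (h2 k hk)
      | smul a x hxs h1 =>
        intro k hk
        induction a using DirectSum.Decomposition.inductionOn 𝒜 with
        | zero => rw [zero_smul, map_zero]; exact Q.zero_mem
        | @homogeneous i a =>
          rw [comp_smul 𝒜 ℳ a.2]
          split_ifs
          · by_cases hki : N < k - i
            · exact Q.smul_mem _ (h1 _ hki)
            · exact hkill' (by omega) _ a.2 _ (hP x (hs ▸ hxs) _)
          · exact Q.zero_mem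
        | add a b ha hb => rw [add_smul, map_add]; exact Q.add_mem ha hb
    refine ⟨N + 1, fun n hn => ?_⟩
    have : piece ℳ P n = piece ℳ Q n := by
      refine le_antisymm (fun z hz => ⟨?_, hz.2⟩) (inf_le_inf_right _ fun z hz => hle hz)
      have := hW z hz.1 n (by omega)
      rwa [comp_same ℳ hz.2] at this
    show c ℳ P n - c ℳ Q n = 0
    rw [c, c, this, sub_self]
  | cons x l ih =>
    intro hl P Q hP hQ hle hkill
    have hx : x ∈ 𝒜 1 := hG x (hl (by simp))
    let R := P.map (LinearMap.lsmul S M x) ⊔ Q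
    let K := P ⊓ Q.comap (LinearMap.lsmul S M x)
    have hR : Homog ℳ R := by
      intro z hz k
      obtain ⟨_, ⟨p, hp, rfl⟩, q, hq, rfl⟩ := Submodule.mem_sup.1 hz
      rw [map_add, LinearMap.lsmul_apply, comp_smul 𝒜 ℳ hx]
      refine Submodule.add_mem_sup ?_ (hQ q hq k)
      split_ifs
      · exact Submodule.mem_map_of_mem (f := LinearMap.lsmul S M x) (hP p hp _)
      · exact zero_mem _
    have hK : Homog ℳ K := by
      intro z hz k
      refine ⟨hP z hz.1 k, ?_⟩
      show x • comp ℳ k z ∈ Q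
      have := hQ _ hz.2 (k + 1)
      rwa [LinearMap.lsmul_apply, comp_smul 𝒜 ℳ hx, if_pos (by omega), Nat.add_sub_cancel] at this
    have hRP : R ≤ P := sup_le (by rintro _ ⟨p, hp, rfl⟩; exact P.smul_mem _ hp) hle
    have hQK : Q ≤ K := le_inf hle fun q hq => Q.smul_mem _ hq
    have i1 := ih (fun y hy => hl (List.mem_cons_of_mem _ hy)) P R hP hR hRP fun y hy hyl p hp => by
      by_cases hyx : y = x
      · subst hyx; exact Submodule.mem_sup_left (Submodule.mem_map_of_mem (f := LinearMap.lsmul S M y) hp)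
      · exact Submodule.mem_sup_right (hkill y hy (by simp [hyx, hyl]) p hp)
    have i2 := ih (fun y hy => hl (List.mem_cons_of_mem _ hy)) K Q hK hQ hQK fun y hy hyl p hp => by
      by_cases hyx : y = x
      · subst hyx; exact hp.2
      · exact hkill y hy (by simp [hyx, hyl]) p hp.1
    show PolyDeg l.length fun n => (c ℳ P (n + 1) - c ℳ Q (n + 1)) - (c ℳ P n - c ℳ Q n)
    convert polyDeg_sub _ (polyDeg_shift _ i1) i2 using 2 with n
    rw [eq_sub_of_add_eq (four_term 𝒜 ℳ h0 hx hP hQ n)]
    show _ = (c ℳ P (n + 1) - c ℳ R (n + 1)) - (c ℳ K n - c ℳ Q n)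
    abel

end Finite

end Groth.Agent.CI2.GrHilb
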