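import Groth.Agent.Lib.InjHull.Basic
import Mathlib

/-!
# Injective modules as unions of modules finite over Artinian rings
-/

set_option autoImplicit false
set_option linter.style.haveILetI false

universe u

namespace Groth.Agent.CI2.InjColim

open InjHull

variable {A : Type u} [CommRing A] [IsNoetherianRing A]

/-- The property of being a finite module over an Artinian algebra. -/
def IsGood (A : Type u) [CommRing A] (P : Type u) [AddCommGroup P] [Module A P] : Prop :=
  ∃ (B : Type u) (_ : CommRing B) (_ : Algebra A B) (_ : IsArtinianRing B)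
    (_ : Module B P) (_ : IsScalarTower A B P), Module.Finite B P

theorem IsGood.of_equiv {P Q : Type u} [AddCommGroup P] [Module A P] [AddCommGroup Q] [Module A Q]
    (h : IsGood A P) (e : P ≃ₗ[A] Q) : IsGood A Q := by
  obtain ⟨B, iB, aB, hB, mB, tB, hfin⟩ := h
  letI : Module B Q := AddEquiv.module B e.symm.toAddEquiv
  have hdef : ∀ (b : B) (q : Q), b • q = e (b • e.symm q) := fun _ _ => rfl
  haveI : IsScalarTower A B Q := ⟨fun a b q => by rw [hdef, hdef, smul_assoc, map_smul]⟩
  let eB : P ≃ₗ[B] Q := { e.toAddEquiv with map_smul' := fun b p => by simp [hdef] }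
  exact ⟨B, iB, aB, hB, inferInstance, inferInstance, Module.Finite.equiv eB⟩

theorem isGood_pi {ι : Type u} [Finite ι] (P : ι → Type u) [∀ i, AddCommGroup (P i)] [∀ i, Module A (P i)]
    (h : ∀ i, IsGood A (P i)) : IsGood A (∀ i, P i) := by
  classical
  cases nonempty_fintype ι
  choose B iB aB hB mB tB hfin using h
  haveI : IsScalarTower A (∀ i, B i) (∀ i, P i) := ⟨fun a b p => funext fun i => smul_assoc a (b i) (p i)⟩
  refine ⟨∀ i, B i, inferInstance, inferInstance, inferInstance, inferInstance, inferInstance, ?_⟩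
  choose s hs using fun i => (hfin i).fg_top
  refine ⟨⟨Finset.univ.biUnion fun i => (s i).image fun x => Pi.single i x, ?_⟩⟩
  rw [eq_top_iff]
  intro p _
  rw [← Finset.univ_sum_single p]
  refine Submodule.sum_mem _ fun i _ => ?_
  have : p i ∈ Submodule.span (B i) (s i : Set (P i)) := by rw [hs]; trivial
  generalize p i = q at this ⊢
  induction this using Submodule.span_induction with
  | mem x hx => exact Submodule.subset_span (Finset.mem_coe.2 (Finset.mem_biUnion.2
      ⟨i, Finset.mem_univ _, Finset.mem_image_of_mem _ hx⟩))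
  | zero => rw [Pi.single_zero]; exact zero_mem _
  | add x y _ _ hx hy => rw [Pi.single_add]; exact add_mem hx hy
  | smul b x _ hx =>
    have e : Pi.single i (b • x) = (Pi.single i b : ∀ j, B j) • (Pi.single i x : ∀ j, P j) := by
      funext j
      show _ = (Pi.single i b : ∀ j, B j) j • (Pi.single i x : ∀ j, P j) j
      rcases eq_or_ne j i with rfl | hj
      · simp
      · simp [hj]
    rw [e]
    exact Submodule.smul_mem _ _ hx

/-- Saturation of a submodule for a submonoid. -/
def sat (S : Submonoid A) {E : Type u} [AddCommGroup E] [Module A E] (G : Submodule A E) : Submodule A E where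
  carrier := {y | ∃ s ∈ S, s • y ∈ G}
  zero_mem' := ⟨1, S.one_mem, by simp⟩
  add_mem' := by
    rintro a b ⟨s, hs, ha⟩ ⟨t, ht, hb⟩
    refine ⟨s * t, S.mul_mem hs ht, ?_⟩
    rw [smul_add]
    exact add_mem (by rw [mul_comm, mul_smul]; exact G.smul_mem _ ha) (by rw [mul_smul]; exact G.smul_mem _ hb)
  smul_mem' := by
    rintro c a ⟨s, hs, ha⟩
    exact ⟨s, hs, by rw [smul_comm]; exact G.smul_mem _ ha⟩

theorem le_sat (S : Submonoid A) {E : Type u} [AddCommGroup E] [Module A E] (G : Submodule A E) : G ≤ sat S G :=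
  fun x hx => ⟨1, S.one_mem, by rwa [one_smul]⟩

theorem sat_mono (S : Submonoid A) {E : Type u} [AddCommGroup E] [Module A E] {G H : Submodule A E} (h : G ≤ H) :
    sat S G ≤ sat S H :=
  fun _ ⟨s, hs, hx⟩ => ⟨s, hs, h hx⟩

theorem bijective_smul {E : Type u} [AddCommGroup E] [Module A E] (hE : IsIndecomposable A E)
    (hinj : Module.Injective A E) {s : A} (hs : ∀ x : E, s • x = 0 → x = 0) :
    Function.Bijective fun x : E => s • x := by
  let f : E →ₗ[A] E := LinearMap.lsmul A E s
  have hf : Function.Injective f := (injective_iff_map_eq_zero f).2 hs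
  obtain ⟨g, hg⟩ := Module.Injective.extension_property A E _ _ f hf LinearMap.id (inj := hinj)
  refine ⟨hf, fun y => ?_⟩
  have hc : IsCompl (LinearMap.range f) (LinearMap.ker g) := by
    refine ⟨disjoint_iff.2 ?_, codisjoint_iff.2 ?_⟩
    · rw [eq_bot_iff]
      rintro _ ⟨⟨x, rfl⟩, hx⟩
      have h1 : g (f x) = x := LinearMap.congr_fun hg x
      rw [LinearMap.mem_ker.1 hx] at h1
      rw [Submodule.mem_bot, ← h1, map_zero]
    · rw [eq_top_iff]
      intro x _
      have h1 : g (f (g x)) = g x := LinearMap.congr_fun hg (g x)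
      exact Submodule.mem_sup.2 ⟨f (g x), ⟨g x, rfl⟩, x - f (g x),
        by rw [LinearMap.mem_ker, map_sub, h1, sub_self], add_sub_cancel _ _⟩
  rcases hE.2 _ _ hc with h | h
  · haveI := hE.1
    obtain ⟨x, hx⟩ := exists_ne (0 : E)
    exact absurd (hs x (show f x = 0 from (Submodule.mem_bot A).1 (h ▸ ⟨x, rfl⟩))) hx
  · have h2 : LinearMap.range f = ⊤ := by
      have := hc.sup_eq_top
      rwa [h, sup_bot_eq] at this
    exact LinearMap.range_eq_top.1 h2 y

theorem exists_pow_smul {E : Type u} [AddCommGroup E] [Module A E] (hE : IsIndecomposable A E)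
    (hinj : Module.Injective A E) (p : Ideal A)
    (hp : (p : Set A) = {r : A | ∃ x : E, x ≠ 0 ∧ r • x = 0}) (G : Submodule A E) (hG : G.FG) :
    ∃ n : ℕ, ∀ a ∈ p ^ n, ∀ x ∈ G, a • x = 0 := by
  have h1 : ∀ x : E, p ≤ (Submodule.span A {x}).annihilator.radical := fun x a ha => by
    rw [Ideal.radical_eq_sInf, Submodule.mem_sInf]
    rintro q ⟨hq, hqp⟩
    by_cases hx : x = 0
    · exact absurd (eq_top_iff.2 (le_trans (by simp [hx, Submodule.annihilator_bot]) hq)) hqp.ne_top
    by_contra haq
    obtain ⟨y, hy, hay⟩ := (show a ∈ {r : A | ∃ x : E, x ≠ 0 ∧ r • x = 0} from hp ▸ ha)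
    obtain ⟨z, ⟨hz1, hz2⟩, hz0⟩ := Submodule.exists_mem_ne_zero_of_ne_bot
      (Groth.Agent.InjHullLib.uniform_of_indecomposable hE hinj (Submodule.span A {x}) (Submodule.span A {y})
        (by simpa using hx) (by simpa using hy))
    obtain ⟨c, rfl⟩ := Submodule.mem_span_singleton.1 hz2
    obtain ⟨d, hd⟩ := Submodule.mem_span_singleton.1 hz1
    -- use the minimal prime below `q`
    obtain ⟨m, hm, hmq⟩ := Ideal.exists_minimalPrimes_le hq
    have hass : IsAssociatedPrime m (Submodule.span A {x}) :=
      Module.associatedPrimes.minimalPrimes_annihilator_subset_associatedPrimes A _ hm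
    obtain ⟨hmp, w, hw⟩ := (isAssociatedPrime_iff (R := A)).1 hass
    have hw0 : (w : E) ≠ 0 := fun h0 => hmp.ne_top (by
      rw [Ideal.eq_top_iff_one, hw, Submodule.mem_colon_singleton, Submodule.mem_bot, one_smul]
      exact Subtype.ext h0)
    obtain ⟨v, ⟨hv1, hv2⟩, hv0⟩ := Submodule.exists_mem_ne_zero_of_ne_bot
      (Groth.Agent.InjHullLib.uniform_of_indecomposable hE hinj (Submodule.span A {(w : E)}) (Submodule.span A {y})
        (by simpa using hw0) (by simpa using hy))
    obtain ⟨e, rfl⟩ := Submodule.mem_span_singleton.1 hv1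
    obtain ⟨g, hg⟩ := Submodule.mem_span_singleton.1 hv2
    have h3 : (a * e) ∈ m := by
      rw [hw, Submodule.mem_colon_singleton, Submodule.mem_bot]
      refine Subtype.ext ?_
      show (a * e) • (w : E) = 0
      rw [mul_smul, ← hg, smul_comm, hay, smul_zero]
    rcases hmp.mem_or_mem h3 with h4 | h4
    · exact haq (hmq h4)
    · apply hv0
      rw [hw, Submodule.mem_colon_singleton, Submodule.mem_bot] at h4
      exact congrArg Subtype.val h4
  obtain ⟨n, hn⟩ : ∃ n, p ^ n ≤ G.annihilator := by
    refine Ideal.exists_pow_le_of_le_radical_of_fg (fun a ha => ?_) (IsNoetherian.noetherian p)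
    obtain ⟨t, rfl⟩ := hG
    choose k hk using fun x : E => (h1 x ha : ∃ k, a ^ k ∈ (Submodule.span A {x}).annihilator)
    refine ⟨t.sup k, Submodule.mem_annihilator.2 fun z hz => ?_⟩
    induction hz using Submodule.span_induction with
    | mem x hx =>
      rw [← Nat.sub_add_cancel (Finset.le_sup (f := k) hx), pow_add, mul_smul,
        (Submodule.mem_annihilator.1 (hk x)) x (Submodule.mem_span_singleton_self x), smul_zero]
    | zero => rw [smul_zero]
    | add x y _ _ hx hy => rw [smul_add, hx, hy, add_zero]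
    | smul c x _ hx => rw [smul_comm, hx, smul_zero]
  exact ⟨n, fun a ha x hx => Submodule.mem_annihilator.1 (hn ha) x hx⟩

theorem isGood_sat {E : Type u} [AddCommGroup E] [Module A E] (hE : IsIndecomposable A E)
    (hinj : Module.Injective A E) (p : Ideal A) [p.IsPrime]
    (hp : (p : Set A) = {r : A | ∃ x : E, x ≠ 0 ∧ r • x = 0}) (G : Submodule A E) (hG : G.FG) :
    IsGood A (sat p.primeCompl G) := by
  obtain ⟨n, hn⟩ := exists_pow_smul hE hinj p hp G hG
  have hreg : ∀ s ∈ p.primeCompl, ∀ x : E, s • x = 0 → x = 0 := fun s hs x hx => by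
    by_contra hx0
    exact hs (show s ∈ (p : Set A) from hp ▸ ⟨x, hx0, hx⟩)
  let ι : G →ₗ[A] sat p.primeCompl G := Submodule.inclusion (le_sat _ G)
  haveI : IsLocalizedModule p.primeCompl ι := by
    refine ⟨fun s => ?_, fun y => ?_, fun {x y} h => ⟨1, by rw [Submodule.inclusion_injective (le_sat _ G) h]⟩⟩
    · rw [Module.End.isUnit_iff]
      refine ⟨fun a b h => Subtype.ext ((bijective_smul hE hinj (hreg s.1 s.2)).1 (congrArg Subtype.val h)), fun y => ?_⟩
      obtain ⟨z, hz⟩ := (bijective_smul hE hinj (hreg s.1 s.2)).2 (y : E)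
      obtain ⟨t, ht, hty⟩ := y.2
      refine ⟨⟨z, t * s.1, mul_mem ht s.2, ?_⟩, Subtype.ext hz⟩
      rw [mul_smul]
      exact (congrArg (t • ·) hz).symm ▸ hty
    · obtain ⟨s, hs, hy⟩ := y.2
      exact ⟨⟨⟨s • (y : E), hy⟩, ⟨s, hs⟩⟩, Subtype.ext rfl⟩
  refine IsGood.of_equiv ?_ (IsLocalizedModule.iso p.primeCompl ι)
  let R := Localization.AtPrime p
  let I : Ideal R := (p ^ n).map (algebraMap A R)
  let L := LocalizedModule p.primeCompl G
  haveI : Module.Finite A G := Module.Finite.iff_fg.2 hG
  haveI : Module.Finite R L := Module.Finite.of_isLocalizedModule p.primeCompl (LocalizedModule.mkLinearMap p.primeCompl G)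
  have hI : Module.IsTorsionBySet R L I := by
    have h : I ≤ (⊤ : Submodule R L).annihilator := by
      rw [Ideal.map_le_iff_le_comap]
      intro a ha
      rw [Ideal.mem_comap, Submodule.mem_annihilator]
      intro z _
      induction z using LocalizedModule.induction_on with
      | _ m s =>
        rw [algebraMap_smul, LocalizedModule.smul'_mk, show a • m = 0 from Subtype.ext (hn a ha m m.2),
          LocalizedModule.zero_mk]
    rintro z ⟨a, ha⟩
    exact Submodule.mem_annihilator.1 (h ha) z trivial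
  letI : Module (R ⧸ I) L := Module.IsTorsionBySet.module hI
  haveI : IsScalarTower A (R ⧸ I) L := ⟨fun a b z => by
    obtain ⟨b, rfl⟩ := Ideal.Quotient.mk_surjective b
    exact smul_assoc a b z⟩
  haveI : IsScalarTower R (R ⧸ I) L := ⟨fun a b z => by
    obtain ⟨b, rfl⟩ := Ideal.Quotient.mk_surjective b
    exact smul_assoc a b z⟩
  haveI : Ring.KrullDimLE 0 (R ⧸ I) := Ring.krullDimLE_zero_iff.2 fun q hq => by
    have h1 : IsLocalRing.maximalIdeal R ≤ q.comap (Ideal.Quotient.mk I) := by
      rw [← IsLocalization.AtPrime.map_eq_maximalIdeal p R]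
      refine hq.comap _ |>.le_of_pow_le (n := n) ?_
      rw [← Ideal.map_pow]
      exact fun x hx => by
        rw [Ideal.mem_comap, Ideal.Quotient.eq_zero_iff_mem.2 hx]; exact zero_mem _
    haveI : (q.comap (Ideal.Quotient.mk I)).IsMaximal :=
      ((IsLocalRing.maximalIdeal.isMaximal R).eq_of_le (hq.comap _).ne_top h1) ▸ IsLocalRing.maximalIdeal.isMaximal R
    rw [← Ideal.map_comap_of_surjective _ Ideal.Quotient.mk_surjective q]
    refine (Ideal.map_eq_top_or_isMaximal_of_surjective _ Ideal.Quotient.mk_surjective this).resolve_left ?_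
    rw [Ideal.map_comap_of_surjective _ Ideal.Quotient.mk_surjective q]
    exact hq.ne_top
  exact ⟨R ⧸ I, inferInstance, inferInstance, IsNoetherianRing.isArtinianRing_of_krullDimLE_zero, inferInstance,
    inferInstance, Module.Finite.of_restrictScalars_finite R (R ⧸ I) L⟩

theorem exists_family (J : Type u) [AddCommGroup J] [Module A J] (hJ : Module.Injective A J) :
    ∃ (ι : Type u) (_ : Preorder ι) (_ : IsDirectedOrder ι) (_ : Nonempty ι) (D : ι → Submodule A J),
      Monotone D ∧ (∀ x : J, ∃ i, x ∈ D i) ∧ ∀ i, IsGood A (D i) := by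
  classical
  obtain ⟨S, hind, htop, hS⟩ := Groth.Agent.InjHullLib.exists_isInternal_indecomposable J hJ
  choose p hpp hp using fun N : S => Groth.Agent.InjHullLib.zeroDivisors_prime (hS N N.2).1 (hS N N.2).2
  haveI := hpp
  let G : Finset (Σ N : S, (N : Submodule A J)) → (N : S) → Submodule A (N : Submodule A J) := fun T N =>
    Submodule.span A {x | (⟨N, x⟩ : Σ N : S, (N : Submodule A J)) ∈ T}
  let P : Finset (Σ N : S, (N : Submodule A J)) → (N : S) → Submodule A J := fun T N =>
    (sat (p N).primeCompl (G T N)).map (N : Submodule A J).subtype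
  let D : Finset (Σ N : S, (N : Submodule A J)) → Submodule A J := fun T =>
    ⨆ i : {N : S // N ∈ T.image Sigma.fst}, P T i.1
  refine ⟨_, inferInstance, inferInstance, inferInstance, D, fun T T' h => ?_, fun x => ?_, fun T => ?_⟩
  · refine iSup_le fun i => le_trans ?_ (le_iSup _ ⟨i.1, Finset.image_subset_image h i.2⟩)
    exact Submodule.map_mono (sat_mono _ (Submodule.span_mono fun z hz => h hz))
  · have hx : x ∈ ⨆ N : S, (N : Submodule A J) := by rw [← sSup_eq_iSup', htop]; trivial
    obtain ⟨f, rfl⟩ := (Submodule.mem_iSup_iff_exists_dfinsupp _ _).1 hx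
    refine ⟨f.support.image fun N => ⟨N, f N⟩, ?_⟩
    rw [DFinsupp.lsum_apply_apply, DFinsupp.sumAddHom_apply]
    refine Submodule.sum_mem _ fun N hN => ?_
    refine Submodule.mem_iSup_of_mem ⟨N, Finset.mem_image.2 ⟨_, Finset.mem_image_of_mem _ hN, rfl⟩⟩ ?_
    exact Submodule.mem_map_of_mem (le_sat _ _ (Submodule.subset_span (Finset.mem_image.2 ⟨N, hN, rfl⟩)))
  · let K := {N : S // N ∈ T.image Sigma.fst}
    have hgood : ∀ i : K, IsGood A (P T i.1) := fun i => by
      refine (isGood_sat (hS i.1 i.1.2).1 (hS i.1 i.1.2).2 (p i.1) (hp i.1) (G T i.1) ?_).of_equiv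
        (Submodule.equivMapOfInjective _ Subtype.val_injective _)
      exact Submodule.fg_span (Set.Finite.preimage (sigma_mk_injective.injOn) T.finite_toSet)
    have hind' : iSupIndep fun i : K => P T i.1 :=
      (((sSupIndep_iff S).1 hind).comp Subtype.val_injective).mono fun i => Submodule.map_subtype_le _ _
    let φ : (∀ i : K, P T i.1) →ₗ[A] J :=
      (DFinsupp.lsum ℕ fun i : K => (P T i.1).subtype).comp DFinsupp.linearEquivFunOnFintype.symm.toLinearMap
    have hφ : Function.Injective φ :=
      hind'.dfinsupp_lsum_injective.comp DFinsupp.linearEquivFunOnFintype.symm.injective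
    have hr : LinearMap.range φ = D T := by
      rw [LinearMap.range_comp, LinearEquiv.range, Submodule.map_top]
      exact (Submodule.iSup_eq_range_dfinsupp_lsum _).symm
    exact (isGood_pi _ hgood).of_equiv ((LinearEquiv.ofInjective φ hφ).trans (LinearEquiv.ofEq _ _ hr))

end Groth.Agent.CI2.InjColim
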