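import Groth.Agent.Lib.CI2.RImmSmooth
import Groth.Prelude.Def_RegImm
import Mathlib

/-!
Charts and faithfully flat descent for Koszul morphisms.
-/

set_option autoImplicit false
set_option linter.style.haveILetI false
universe u

open CategoryTheory CategoryTheory.Limits AlgebraicGeometry

namespace Groth.Agent.CI2

theorem locallyOfFiniteType_of_isKoszulAt {X Y : Scheme.{u}} (f : X ⟶ Y) (hf : ∀ x : X, Synt.IsKoszulAt f x) :
    LocallyOfFiniteType f := by
  choose O P i π hxO hft _ _ _ using hf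
  haveI := HasRingHomProperty.instIsZariskiLocalAtSource (P := @LocallyOfFiniteType.{u}) (Q := RingHom.FiniteType)
  refine (IsZariskiLocalAtSource.iff_of_iSup_eq_top (P := @LocallyOfFiniteType.{u}) O
    (top_le_iff.1 fun x _ => TopologicalSpace.Opens.mem_iSup.2 ⟨x, hxO x⟩)).2 fun x => hft x

/-- Restricting a Koszul regular immersion to an open of the source. -/
theorem isRegularImmersion_comp_open {Z X V : Scheme.{u}} (j : X ⟶ V) (hj : RegImm.IsRegularImmersion .koszul j)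
    (r : Z ⟶ X) [IsOpenImmersion r] : RegImm.IsRegularImmersion .koszul (r ≫ j) := by
  haveI := hj.1
  refine isRegularImmersion_of_forall_isKR _ fun z => ?_
  obtain ⟨O', hO', hpre⟩ := j.isEmbedding.isInducing.isOpen_iff.1 r.opensRange.2
  have hzO' : j (r z) ∈ (⟨O', hO'⟩ : V.Opens) := by
    show r z ∈ j ⁻¹' O'
    rw [hpre]; exact ⟨z, rfl⟩
  obtain ⟨U, hU, hzU, hUO, hcl⟩ := exists_affine_closed j (r z) hzO'
  haveI := hcl
  have hle : j ⁻¹ᵁ U ≤ r.opensRange := fun x hx => by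
    have : x ∈ j ⁻¹' O' := hUO hx
    rw [hpre] at this
    exact this
  haveI : IsClosedImmersion ((r ≫ j) ∣_ U) := by
    refine isClosedImmersion_restrict_of_range _ ?_
    have h1 : IsClosed (U.ι ⁻¹' Set.range j) := by rw [← range_restrict]; exact (j ∣_ U).isClosedEmbedding.isClosed_range
    convert h1 using 1
    ext x
    refine ⟨fun ⟨y, hy⟩ => ⟨r y, hy⟩, fun ⟨y, hy⟩ => ?_⟩
    obtain ⟨y', rfl⟩ := hle (show j y ∈ U by rw [hy]; exact x.2)
    exact ⟨y', hy⟩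
  refine ⟨U, hU, hzU, inferInstance, ?_⟩
  have hKR := isKR_of_isRegularImmersion j hj hU
  convert hKR using 1
  ext x
  rw [RingHom.mem_ker, RingHom.mem_ker, Scheme.Hom.comp_app]
  show (r.app (j ⁻¹ᵁ U)).hom ((j.app U).hom x) = 0 ↔ _
  haveI : IsIso (r.app (j ⁻¹ᵁ U)) := r.isIso_app _ hle
  exact map_eq_zero_iff _ (ConcreteCategory.bijective_of_isIso (r.app (j ⁻¹ᵁ U))).1

/-- Locally a morphism of finite type embeds into affine space. -/
theorem exists_smooth_embedding {X Y : Scheme.{u}} (f : X ⟶ Y) [LocallyOfFiniteType f] (x : X) :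
    ∃ (U : X.Opens) (P : Scheme.{u}) (i : U.toScheme ⟶ P) (π : P ⟶ Y),
      x ∈ U ∧ IsImmersion i ∧ Smooth π ∧ i ≫ π = U.ι ≫ f := by
  obtain ⟨_, ⟨W, hW, rfl⟩, hxW, -⟩ :=
    Y.isBasis_affineOpens.exists_subset_of_mem_open (Set.mem_univ (f x)) isOpen_univ
  obtain ⟨_, ⟨U, hU, rfl⟩, hxU, hUW⟩ :=
    X.isBasis_affineOpens.exists_subset_of_mem_open (show x ∈ f ⁻¹ᵁ W from hxW) (f ⁻¹ᵁ W).2
  replace hW : IsAffineOpen W := hW
  replace hU : IsAffineOpen U := hU
  letI : Algebra Γ(Y, W) Γ(X, U) := (f.appLE W U hUW).hom.toAlgebra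
  haveI : Algebra.FiniteType Γ(Y, W) Γ(X, U) := Scheme.Hom.finiteType_appLE f hW hU hUW
  obtain ⟨n, φ, hφ⟩ :=
    Algebra.FiniteType.iff_quotient_mvPolynomial''.1 (inferInstance : Algebra.FiniteType Γ(Y, W) Γ(X, U))
  let e : Γ(Y, W) ⟶ CommRingCat.of (MvPolynomial (Fin n) Γ(Y, W)) :=
    CommRingCat.ofHom (algebraMap Γ(Y, W) (MvPolynomial (Fin n) Γ(Y, W)))
  let ψ : CommRingCat.of (MvPolynomial (Fin n) Γ(Y, W)) ⟶ Γ(X, U) := CommRingCat.ofHom φ.toRingHom
  haveI : IsClosedImmersion (Spec.map ψ) := IsClosedImmersion.spec_of_surjective ψ hφ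
  haveI : Smooth (Spec.map e) := by
    rw [HasRingHomProperty.Spec_iff (P := @Smooth)]
    exact RingHom.smooth_algebraMap.2 (show Algebra.Smooth Γ(Y, W) (MvPolynomial (Fin n) Γ(Y, W)) from ⟨inferInstance, inferInstance⟩)
  refine ⟨U, Spec (CommRingCat.of (MvPolynomial (Fin n) Γ(Y, W))), hU.isoSpec.hom ≫ Spec.map ψ,
    Spec.map e ≫ hW.fromSpec, hxU, inferInstance, inferInstance, ?_⟩
  have hψ : e ≫ ψ = f.appLE W U hUW := CommRingCat.hom_ext (AlgHom.comp_algebraMap φ)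
  rw [Category.assoc, ← Spec.map_comp_assoc, hψ, IsAffineOpen.SpecMap_appLE_fromSpec f hW hU hUW, ← Category.assoc]
  congr 1
  rw [← hU.isoSpec_inv_ι, Iso.hom_inv_id_assoc]

theorem isKoszulAt_descent {X Y X' Y' : Scheme.{u}} (f : X ⟶ Y) (g : Y' ⟶ Y) [Flat g] [Surjective g] [QuasiCompact g]
    (f' : X' ⟶ Y') (g' : X' ⟶ X) (hsq : IsPullback g' f' f g)
    (hf' : ∀ x' : X', Synt.IsKoszulAt f' x') (x : X) : Synt.IsKoszulAt f x := by
  haveI : LocallyOfFiniteType f' := locallyOfFiniteType_of_isKoszulAt f' hf'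
  haveI : LocallyOfFiniteType f :=
    MorphismProperty.of_isPullback_of_descendsAlong (P := @LocallyOfFiniteType)
      (Q := @Surjective ⊓ @Flat ⊓ @QuasiCompact) hsq.flip ⟨⟨inferInstance, inferInstance⟩, inferInstance⟩ inferInstance
  obtain ⟨U, P, i, π, hxU, hi, hπ, hcomp⟩ := exists_smooth_embedding f x
  haveI := hi
  haveI := hπ
  refine ⟨U, P, i, π, hxU, inferInstance, ?_, hπ, hcomp⟩
  have h1 : IsPullback (g' ∣_ U) ((g' ⁻¹ᵁ U).ι ≫ f') (U.ι ≫ f) g :=
    (isPullback_morphismRestrict g' U).paste_vert hsq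
  let i' : (g' ⁻¹ᵁ U).toScheme ⟶ pullback π g := pullback.lift ((g' ∣_ U) ≫ i) ((g' ⁻¹ᵁ U).ι ≫ f')
    (by rw [Category.assoc, hcomp, h1.w])
  have h2 : IsPullback (g' ∣_ U) i' i (pullback.fst π g) := by
    refine IsPullback.of_bot ?_ (pullback.lift_fst _ _ _).symm (IsPullback.of_hasPullback π g)
    rw [pullback.lift_snd, hcomp]
    exact h1
  haveI : IsImmersion i' := MorphismProperty.of_isPullback (P := @IsImmersion) h2 hi
  haveI : Smooth (pullback.snd π g) := inferInstance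
  have hres : ∀ y, Synt.IsKoszulAt ((g' ⁻¹ᵁ U).ι ≫ f') y := by
    intro y
    obtain ⟨O, Q, j, ρ, hyO, hft, hj, hρ, hjρ⟩ := hf' y.1
    haveI := hft
    haveI := hρ
    let O' := (g' ⁻¹ᵁ U).ι ⁻¹ᵁ O
    let r : O'.toScheme ⟶ O.toScheme := (g' ⁻¹ᵁ U).ι ∣_ O
    haveI : Flat r := inferInstance
    refine ⟨O', Q, r ≫ j, ρ, hyO, ?_, ?_, hρ, ?_⟩
    · rw [← Category.assoc, ← morphismRestrict_ι, Category.assoc]
      exact inferInstance
    · exact isRegularImmersion_comp_open j hj r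
    · rw [Category.assoc, hjρ, ← Category.assoc, morphismRestrict_ι, Category.assoc]
  exact isRegularImmersion_descent i (pullback.fst π g) i' (g' ∣_ U) h2
    (koszul_of_isKoszulAt i' _ hres (pullback.snd π g) (pullback.lift_snd _ _ _))

end Groth.Agent.CI2
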