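import Groth.Agent.Lib.CI2.Bridge
import Mathlib

set_option autoImplicit false
universe u

open CategoryTheory CategoryTheory.Limits CochainComplex

namespace Groth.Agent.CI2.KoszulScale

variable {A : Type u} [CommRing A]

/-- Degreewise identification of the Koszul complexes of `x • l` and `l`. -/
noncomputable def e (x : A) : ∀ (l : List A) (i : ℤ),
    (Koszul.koszul A (l.map (fun f => x * f))).X i ≃ₗ[A] (Koszul.koszul A l).X i
  | [], i => LinearEquiv.refl A _
  | f :: l, i =>
    coneEquiv A (cmap A (x * f) (l.map (fun f => x * f))) i (i + 1) rfl ≪≫ₗ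
      (e x l i).prodCongr (e x l (i + 1)) ≪≫ₗ (coneEquiv A (cmap A f l) i (i + 1) rfl).symm

theorem cone_e (x f : A) (l : List A) (i : ℤ) (z : (mappingCone (cmap A (x * f) (l.map (fun f => x * f)))).X i) :
    coneEquiv A (cmap A f l) i (i + 1) rfl (e x (f :: l) i z) =
      (e x l i (coneEquiv A (cmap A (x * f) (l.map (fun f => x * f))) i (i + 1) rfl z).1,
        e x l (i + 1) (coneEquiv A (cmap A (x * f) (l.map (fun f => x * f))) i (i + 1) rfl z).2) :=
  (coneEquiv A (cmap A f l) i (i + 1) rfl).apply_symm_apply _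

theorem e_d (x : A) : ∀ (l : List A) (i j : ℤ) (_ : i + 1 = j) (z : (Koszul.koszul A (l.map (fun f => x * f))).X i),
    e x l j (((Koszul.koszul A (l.map (fun f => x * f))).d i j).hom z) =
      x • ((Koszul.koszul A l).d i j).hom (e x l i z)
  | [], i, j, h, z => by
    have : (Koszul.koszul A ([] : List A)).d i j = 0 :=
      HomologicalComplex.single_obj_d (ComplexShape.up ℤ) 0 _ i j
    show ((Koszul.koszul A ([] : List A)).d i j).hom z = x • ((Koszul.koszul A ([] : List A)).d i j).hom z
    rw [this]; simp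
  | f :: l, i, j, h, z => by
    subst h
    apply (coneEquiv A (cmap A f l) (i + 1) (i + 1 + 1) rfl).injective
    refine Eq.trans ?_ ((coneEquiv A (cmap A f l) (i + 1) (i + 1 + 1) rfl).map_smul x _).symm
    erw [coneEquiv_d A (cmap A f l) i (i + 1) (i + 1 + 1) rfl rfl]
    refine (cone_e x f l (i + 1) _).trans ?_
    erw [cone_e x f l i z]
    erw [coneEquiv_d A (cmap A (x * f) (l.map (fun f => x * f))) i (i + 1) (i + 1 + 1) rfl rfl z]
    simp only [map_add, map_neg, Prod.smul_mk, smul_add, smul_neg]
    rw [e_d x l i (i + 1) rfl, e_d x l (i + 1) (i + 1 + 1) rfl, cmap_f, cmap_f, map_smul, smul_smul]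

theorem torsion_free (x : A) (hx : x ∈ nonZeroDivisors A) : ∀ (l : List A) (i : ℤ) (z : (Koszul.koszul A l).X i),
    x • z = 0 → z = 0
  | [], i, z, h => by
    by_cases hi : i = 0
    · subst hi
      let w := (HomologicalComplex.singleObjXSelf (ComplexShape.up ℤ) 0 (ModuleCat.of A A)).toLinearEquiv
      refine w.injective (Eq.trans ?_ w.map_zero.symm)
      have h2 : x • w z = 0 := (w.map_smul x z).symm.trans ((congrArg w h).trans w.map_zero)
      exact (mem_nonZeroDivisors_iff.mp hx).1 _ h2
    · haveI := ModuleCat.subsingleton_of_isZero (M := (Koszul.koszul A []).X i)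
        (HomologicalComplex.isZero_single_obj_X (ComplexShape.up ℤ) 0 _ i hi)
      exact Subsingleton.elim _ _
  | f :: l, i, z, h => by
    let w := coneEquiv A (cmap A f l) i (i + 1) rfl
    refine w.injective (Eq.trans ?_ w.map_zero.symm)
    have h2 : x • w z = 0 := (w.map_smul x z).symm.trans ((congrArg w h).trans w.map_zero)
    exact Prod.ext (torsion_free x hx l i _ (congrArg Prod.fst h2)) (torsion_free x hx l (i + 1) _ (congrArg Prod.snd h2))

theorem homology_iso (l : List A) (x : A) (hx : x ∈ nonZeroDivisors A) (q : ℤ) :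
    Nonempty ((Koszul.koszul A (l.map (fun f => x * f))).homology q ≅
      ModuleCat.of A (↥(LinearMap.ker ((Koszul.koszul A l).d q (q + 1)).hom) ⧸
        Submodule.comap (LinearMap.ker ((Koszul.koszul A l).d q (q + 1)).hom).subtype
          (Ideal.span {x} • LinearMap.range ((Koszul.koszul A l).d (q - 1) q).hom))) := by
  let K' := Koszul.koszul A (l.map (fun f => x * f))
  let K := Koszul.koszul A l
  let S := K'.sc' (q - 1) q (q + 1)
  have hker : (LinearMap.ker S.g.hom).map (e x l q : K'.X q →ₗ[A] K.X q) = LinearMap.ker (K.d q (q + 1)).hom := by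
    ext w
    simp only [Submodule.mem_map, LinearMap.mem_ker]
    constructor
    · rintro ⟨z, hz, rfl⟩
      refine torsion_free x hx l (q + 1) _ ?_
      have := e_d x l q (q + 1) rfl z
      erw [hz, map_zero] at this
      exact this.symm
    · intro hw
      refine ⟨(e x l q).symm w, ?_, (e x l q).apply_symm_apply w⟩
      apply (e x l (q + 1)).injective
      erw [e_d x l q (q + 1) rfl]
      rw [LinearEquiv.apply_symm_apply, hw, smul_zero]
      exact (e x l (q + 1)).map_zero.symm
  let eZ : LinearMap.ker S.g.hom ≃ₗ[A] LinearMap.ker (K.d q (q + 1)).hom :=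
    (e x l q).ofSubmodules _ _ hker
  have hrange : (LinearMap.range S.moduleCatToCycles).map (eZ : _ →ₗ[A] _) =
      Submodule.comap (LinearMap.ker (K.d q (q + 1)).hom).subtype
        (Ideal.span {x} • LinearMap.range (K.d (q - 1) q).hom) := by
    ext w
    rw [Submodule.mem_comap, Submodule.ideal_span_singleton_smul, Submodule.mem_smul_pointwise_iff_exists, Submodule.mem_map]
    constructor
    · rintro ⟨z, ⟨y, rfl⟩, rfl⟩
      exact ⟨_, ⟨e x l (q - 1) y, rfl⟩, (e_d x l (q - 1) q (by omega) y).symm⟩
    · rintro ⟨v, ⟨y, rfl⟩, hw⟩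
      refine ⟨_, ⟨(e x l (q - 1)).symm y, rfl⟩, Subtype.ext ?_⟩
      refine Eq.trans (e_d x l (q - 1) q (by omega) ((e x l (q - 1)).symm y)) ?_
      rw [LinearEquiv.apply_symm_apply]
      exact hw
  exact ⟨K'.homologyIsoSc' (q - 1) q (q + 1) (by simp) (by simp) ≪≫ S.moduleCatHomologyIso ≪≫
    (Submodule.Quotient.equiv _ _ eZ hrange).toModuleIso⟩

end Groth.Agent.CI2.KoszulScale
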