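/-
The naive cotangent complex of an lci ring map is perfect of tor amplitude `[-1, 0]`.
-/
import Groth.Prelude.Def_LCI2
import Groth.Agent.Lib.CI2.CotProj
import Mathlib.RingTheory.Extension.Cotangent.Basic
import Mathlib.Algebra.Homology.HomotopyCofiber

universe u

open CategoryTheory CategoryTheory.Limits HomologicalComplex

set_option linter.style.haveILetI false

namespace Groth.Agent.CI2

attribute [local instance] HasDerivedCategory.standard

section Double

variable {R : Type u} [CommRing R]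

theorem rel_m1 : (ComplexShape.up ℤ).Rel (-1 : ℤ) 0 := by simp

/-- The two term complex in degrees `-1, 0`. -/
noncomputable abbrev two {M N : ModuleCat.{u} R} (f : M ⟶ N) : CochainComplex (ModuleCat.{u} R) ℤ :=
  double f rel_m1

/-- A morphism of two term complexes. -/
noncomputable def twoMap {M N M' N' : ModuleCat.{u} R} (f : M ⟶ N) (f' : M' ⟶ N') (a : M ⟶ M')
    (b : N ⟶ N') (w : a ≫ f' = f ≫ b) : two f ⟶ two f' :=
  mkHomFromDouble rel_m1 (by decide) (a ≫ (doubleXIso₀ f' rel_m1).inv)
    (b ≫ (doubleXIso₁ f' rel_m1 (by decide)).inv)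
    (by
      rw [double_d f' rel_m1 (by decide), Category.assoc, Iso.inv_hom_id_assoc, ← Category.assoc,
        ← Category.assoc, w])
    (fun k hk => by
      rw [double_d_eq_zero₀ f' rel_m1 0 k (by decide), comp_zero])

theorem twoMap_comp {M N M' N' M'' N'' : ModuleCat.{u} R} (f : M ⟶ N) (f' : M' ⟶ N') (f'' : M'' ⟶ N'')
    (a : M ⟶ M') (b : N ⟶ N') (w : a ≫ f' = f ≫ b) (a' : M' ⟶ M'') (b' : N' ⟶ N'')
    (w' : a' ≫ f'' = f' ≫ b') :
    twoMap f f' a b w ≫ twoMap f' f'' a' b' w' =
      twoMap f f'' (a ≫ a') (b ≫ b') (by rw [Category.assoc, w', ← Category.assoc, w, Category.assoc]) := by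
  apply from_double_hom_ext <;> simp [twoMap]

theorem twoMap_id {M N : ModuleCat.{u} R} (f : M ⟶ N) :
    twoMap f f (𝟙 _) (𝟙 _) (by simp) = 𝟙 _ := by
  apply from_double_hom_ext <;> simp [twoMap]

/-- A homotopy between maps of two term complexes. -/
noncomputable def twoHomotopy {M N M' N' : ModuleCat.{u} R} (f : M ⟶ N) (f' : M' ⟶ N')
    (a₁ a₂ : M ⟶ M') (b₁ b₂ : N ⟶ N') (w₁ : a₁ ≫ f' = f ≫ b₁) (w₂ : a₂ ≫ f' = f ≫ b₂)
    (h : N ⟶ M') (ha : a₁ = f ≫ h + a₂) (hb : b₁ = h ≫ f' + b₂) :
    Homotopy (twoMap f f' a₁ b₁ w₁) (twoMap f f' a₂ b₂ w₂) where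
  hom i j :=
    if hij : i = 0 ∧ j = -1 then
      eqToHom (by rw [hij.1]) ≫ (doubleXIso₁ f rel_m1 (by decide)).hom ≫ h ≫
        (doubleXIso₀ f' rel_m1).inv ≫ eqToHom (by rw [hij.2])
    else 0
  zero i j hij := by
    rw [dif_neg]
    rintro ⟨rfl, rfl⟩
    exact hij rel_m1
  comm i := by
    rw [dNext_eq _ (show (ComplexShape.up ℤ).Rel i (i + 1) by simp),
      prevD_eq _ (show (ComplexShape.up ℤ).Rel (i - 1) i by simp)]
    by_cases h0 : i = -1
    · subst h0
      rw [dif_pos ⟨by norm_num, rfl⟩, dif_neg (by omega), zero_comp, add_zero]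
      simp [twoMap, double_d f rel_m1 (by decide), ha]
    · by_cases h1 : i = 0
      · subst h1
        rw [dif_neg (by omega), dif_pos ⟨rfl, by norm_num⟩, comp_zero, zero_add]
        simp [twoMap, double_d f' rel_m1 (by decide), hb]
      · exact (isZero_double_X f rel_m1 i h0 h1).eq_of_src _ _

/-- Two term complexes which are homotopy equivalent are isomorphic in the derived category. -/
theorem two_iso {M N M' N' : ModuleCat.{u} R} (f : M ⟶ N) (f' : M' ⟶ N')
    (a : M ⟶ M') (b : N ⟶ N') (w : a ≫ f' = f ≫ b)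
    (a' : M' ⟶ M) (b' : N' ⟶ N) (w' : a' ≫ f = f' ≫ b')
    (h : N ⟶ M) (ha : a ≫ a' = f ≫ h + 𝟙 M) (hb : b ≫ b' = h ≫ f + 𝟙 N)
    (h' : N' ⟶ M') (ha' : a' ≫ a = f' ≫ h' + 𝟙 M') (hb' : b' ≫ b = h' ≫ f' + 𝟙 N') :
    Nonempty (DRing.toD (two f) ≅ DRing.toD (two f')) := by
  let e : HomotopyEquiv (two f) (two f') :=
    { hom := twoMap f f' a b w
      inv := twoMap f' f a' b' w'
      homotopyHomInvId := ((Homotopy.ofEq (twoMap_comp f f' f a b w a' b' w')).trans
        (twoHomotopy f f _ _ _ _ _ (by simp) h ha hb)).trans (Homotopy.ofEq (twoMap_id f))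
      homotopyInvHomId := ((Homotopy.ofEq (twoMap_comp f' f f' a' b' w' a b w)).trans
        (twoHomotopy f' f' _ _ _ _ _ (by simp) h' ha' hb')).trans (Homotopy.ofEq (twoMap_id f')) }
  haveI : IsIso (DerivedCategory.Q.map e.hom) :=
    (DerivedCategory.isIso_Q_map_iff_quasiIso _ e.hom).2 ((HomologicalComplex.mem_quasiIso_iff _).1 (homotopyEquivalences_le_quasiIso _ _ _ ⟨e, rfl⟩))
  exact ⟨asIso (DerivedCategory.Q.map e.hom)⟩

/-- `two_iso` in terms of linear maps. -/
theorem two_iso_lin {M N M' N' : Type u} [AddCommGroup M] [Module R M] [AddCommGroup N] [Module R N]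
    [AddCommGroup M'] [Module R M'] [AddCommGroup N'] [Module R N'] (f : M →ₗ[R] N) (f' : M' →ₗ[R] N')
    (a : M →ₗ[R] M') (b : N →ₗ[R] N') (w : ∀ x, f' (a x) = b (f x))
    (a' : M' →ₗ[R] M) (b' : N' →ₗ[R] N) (w' : ∀ x, f (a' x) = b' (f' x))
    (h : N →ₗ[R] M) (ha : ∀ x, a' (a x) = h (f x) + x) (hb : ∀ y, b' (b y) = f (h y) + y)
    (h' : N' →ₗ[R] M') (ha' : ∀ x, a (a' x) = h' (f' x) + x) (hb' : ∀ y, b (b' y) = f' (h' y) + y) :
    Nonempty (DRing.toD (two (ModuleCat.ofHom f)) ≅ DRing.toD (two (ModuleCat.ofHom f'))) :=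
  two_iso (ModuleCat.ofHom f) (ModuleCat.ofHom f')
    (ModuleCat.ofHom a) (ModuleCat.ofHom b) (ModuleCat.hom_ext (LinearMap.ext w))
    (ModuleCat.ofHom a') (ModuleCat.ofHom b') (ModuleCat.hom_ext (LinearMap.ext w'))
    (ModuleCat.ofHom h) (ModuleCat.hom_ext (LinearMap.ext ha)) (ModuleCat.hom_ext (LinearMap.ext hb))
    (ModuleCat.ofHom h') (ModuleCat.hom_ext (LinearMap.ext ha')) (ModuleCat.hom_ext (LinearMap.ext hb'))

theorem vanishesOutside_two {M N : ModuleCat.{u} R} (f : M ⟶ N) :
    DRing.VanishesOutside (two f) (-1) 0 := fun i hi =>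
  isZero_double_X f rel_m1 i (by omega) (by omega)

theorem two_termwise (P : ModuleCat.{u} R → Prop) (hP : ∀ {X Y : ModuleCat.{u} R}, (X ≅ Y) → P X → P Y)
    {M N : ModuleCat.{u} R} (f : M ⟶ N) (hM : P M) (hN : P N)
    (h0 : ∀ X : ModuleCat.{u} R, IsZero X → P X) (i : ℤ) : P ((two f).X i) := by
  by_cases hi : i = -1
  · subst hi; exact hP (doubleXIso₀ f rel_m1).symm hM
  · by_cases hi' : i = 0
    · subst hi'; exact hP (doubleXIso₁ f rel_m1 (by decide)).symm hN
    · exact h0 _ (isZero_double_X f rel_m1 i hi hi')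

end Double

section NL

open Algebra

variable (A B : Type u) [CommRing A] [CommRing B] [Algebra A B]

/-- The cotangent complex of a presentation. -/
noncomputable abbrev genCx {ι : Type} (P : Generators A B ι) :
    CochainComplex (ModuleCat.{u} B) ℤ :=
  two (ModuleCat.ofHom P.toExtension.cotangentComplex)

theorem cot_homotopic {X Y : Extension A B} (p : X.Hom Y) (q : Y.Hom X) (x : X.Cotangent) :
    Extension.Cotangent.map q (Extension.Cotangent.map p x) =
      (q.comp p).sub (Extension.Hom.id X) (X.cotangentComplex x) + x := by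
  have h := LinearMap.congr_fun
    (Extension.Cotangent.map_sub_map (q.comp p) (Extension.Hom.id X)) x
  rw [Extension.Cotangent.map_id, Extension.Cotangent.map_comp] at h
  exact sub_eq_iff_eq_add.1 h

theorem cotSpace_homotopic {X Y : Extension A B} (p : X.Hom Y) (q : Y.Hom X) (x : X.CotangentSpace) :
    Extension.CotangentSpace.map q (Extension.CotangentSpace.map p x) =
      X.cotangentComplex ((q.comp p).sub (Extension.Hom.id X) x) + x := by
  have h := LinearMap.congr_fun
    (Extension.CotangentSpace.map_sub_map (q.comp p) (Extension.Hom.id X)) x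
  rw [Extension.CotangentSpace.map_id, Extension.CotangentSpace.map_comp] at h
  exact sub_eq_iff_eq_add.1 h

theorem ext_iso {X Y : Extension.{u} A B} (p : X.Hom Y) (q : Y.Hom X) :
    Nonempty (DRing.toD (two (ModuleCat.ofHom X.cotangentComplex)) ≅
      DRing.toD (two (ModuleCat.ofHom Y.cotangentComplex))) :=
  two_iso_lin X.cotangentComplex Y.cotangentComplex (Extension.Cotangent.map p)
    (Extension.CotangentSpace.map p)
    (fun x => (Extension.CotangentSpace.map_cotangentComplex p x).symm)
    (Extension.Cotangent.map q) (Extension.CotangentSpace.map q)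
    (fun x => (Extension.CotangentSpace.map_cotangentComplex q x).symm)
    ((q.comp p).sub (Extension.Hom.id X)) (cot_homotopic A B p q) (cotSpace_homotopic A B p q)
    ((p.comp q).sub (Extension.Hom.id Y)) (cot_homotopic A B q p) (cotSpace_homotopic A B q p)

theorem nl_iso {ι : Type} (P : Generators A B ι) :
    Nonempty (LCI.NL A B ≅ DRing.toD (genCx A B P)) :=
  ext_iso A B (X := (Generators.self A B).toExtension) (Y := P.toExtension)
    (Generators.defaultHom _ _).toExtensionHom (Generators.defaultHom _ _).toExtensionHom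

/-- `I/I²` of an extension with Koszul-regular kernel is finite projective. -/
theorem finite_projective_extCotangent (E : Extension.{u} A B) (h : LCI.IsKoszulRegularIdeal E.ker) :
    Module.Finite B E.Cotangent ∧ Module.Projective B E.Cotangent := by
  obtain ⟨hfp, hp⟩ := projective_cotangent_of_isKR h
  let σ : (E.Ring ⧸ E.ker) ≃+* B := RingHom.quotientKerEquivOfSurjective E.algebraMap_surjective
  letI : RingHomInvPair σ.toRingHom σ.symm.toRingHom :=
    ⟨RingHom.ext fun x => σ.symm_apply_apply x, RingHom.ext fun x => σ.apply_symm_apply x⟩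
  letI : RingHomInvPair σ.symm.toRingHom σ.toRingHom :=
    ⟨RingHom.ext fun x => σ.apply_symm_apply x, RingHom.ext fun x => σ.symm_apply_apply x⟩
  let e : E.ker.Cotangent ≃ₛₗ[σ.toRingHom] E.Cotangent :=
    { toFun := Extension.Cotangent.of
      invFun := Extension.Cotangent.val
      left_inv := fun _ => rfl
      right_inv := fun _ => rfl
      map_add' := fun _ _ => rfl
      map_smul' := fun c x => by
        obtain ⟨c, rfl⟩ := Ideal.Quotient.mk_surjective c
        have : σ.toRingHom (Ideal.Quotient.mk E.ker c) = algebraMap E.Ring B c := rfl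
        rw [this, algebraMap_smul]
        exact Extension.Cotangent.ext (by rw [Extension.Cotangent.val_smul']; rfl) }
  haveI : Module.Finite E.Ring E.ker.Cotangent := Module.Finite.trans (E.Ring ⧸ E.ker) _
  haveI : Module.Finite E.Ring E.Cotangent := Module.Finite.equiv E.cotangentEquivCotangentKer.symm
  exact ⟨Module.Finite.of_restrictScalars_finite E.Ring B _, Module.Projective.of_equiv e⟩

theorem nl_perfect_of_isLCI (h : LCI.IsLCI A B) :
    DRing.IsPerfect B (LCI.NL A B) ∧ DRing.HasTorAmplitudeIn B (-1) 0 (LCI.NL A B) := by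
  obtain ⟨-, n, f, hf, hker⟩ := h
  let P : Generators A B (Fin n) := Generators.ofAlgHom f hf
  have hP : P.toExtension.ker = RingHom.ker f.toRingHom := by
    have : MvPolynomial.aeval P.val = f := MvPolynomial.algHom_ext fun i => by
      rw [MvPolynomial.aeval_X]; rfl
    conv_rhs => rw [← this]
    exact P.ker_eq_ker_aeval_val
  obtain ⟨h1, h2⟩ := finite_projective_extCotangent A B P.toExtension (hP ▸ hker)
  have h3 : Module.Finite B P.toExtension.CotangentSpace := .of_basis P.cotangentSpaceBasis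
  have h4 : Module.Projective B P.toExtension.CotangentSpace := .of_basis P.cotangentSpaceBasis
  have hFP : DRing.TermwiseFiniteProjective (genCx A B P) := fun i =>
    two_termwise (fun X => Module.Finite B X ∧ Module.Projective B X)
      (fun e hX => by
        haveI := hX.1
        haveI := hX.2
        exact ⟨Module.Finite.equiv e.toLinearEquiv, Module.Projective.of_equiv e.toLinearEquiv⟩)
      (ModuleCat.ofHom P.toExtension.cotangentComplex) ⟨h1, h2⟩ ⟨h3, h4⟩
      (fun X hX => by
        haveI := ModuleCat.subsingleton_of_isZero hX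
        exact ⟨inferInstance, inferInstance⟩) i
  obtain ⟨e⟩ := nl_iso A B P
  refine ⟨⟨_, -1, 0, vanishesOutside_two _, hFP, ⟨e.symm⟩⟩, _, vanishesOutside_two _, fun i => ?_, ⟨e.symm⟩⟩
  haveI := (hFP i).2
  exact Module.Flat.of_projective

end NL

end Groth.Agent.CI2
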