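/-
A two term complex `M → N` with `N` projective and tor amplitude in `[-1, 0]` has `M` flat.
-/
import Groth.Prelude.Def_LCI2
import Groth.Agent.Lib.CI2.Bridge
import Groth.Agent.Lib.PCoh.Perfect
import Groth.Agent.Lib.CI2.NLPerf
import Mathlib.RingTheory.Flat.Equalizer

universe u

open CategoryTheory CategoryTheory.Limits HomologicalComplex

set_option linter.style.haveILetI false

namespace Groth.Agent.CI2

attribute [local instance] HasDerivedCategory.standard

variable {R : Type u} [CommRing R]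

theorem flat_ker_of_surjective {N P : Type u} [AddCommGroup N] [Module R N] [AddCommGroup P] [Module R P]
    [Module.Flat R N] [Module.Flat R P] (f : N →ₗ[R] P) (hf : Function.Surjective f) :
    Module.Flat R f.ker := by
  rw [Module.Flat.iff_rTensor_preserves_injective_linearMap]
  intro A B _ _ _ _ h hh
  have hA : Function.Injective (f.ker.subtype.lTensor A) :=
    LinearMap.lTensor_injective_of_exact_of_flat f hf _ f.ker.subtype_injective
      (LinearMap.exact_subtype_ker_map f) A
  have hN : Function.Injective (h.rTensor N) := Module.Flat.rTensor_preserves_injective_linearMap h hh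
  refine Function.Injective.of_comp (f := f.ker.subtype.lTensor B) ?_
  have h2 : (f.ker.subtype.lTensor B).comp (h.rTensor f.ker) =
      (h.rTensor N).comp (f.ker.subtype.lTensor A) := by
    rw [LinearMap.lTensor_comp_rTensor, LinearMap.rTensor_comp_lTensor]
  rw [← LinearMap.coe_comp, h2]
  exact hN.comp hA

/-- Element-wise acyclicity of the cone of a quasi-isomorphism. -/
theorem cone_elim {Z L : CochainComplex (ModuleCat.{u} R) ℤ} (φ : Z ⟶ L) [QuasiIso φ] (h i j k : ℤ)
    (hhi : h + 1 = i) (hij : i + 1 = j) (hjk : j + 1 = k) (l : L.X i) (z : Z.X j)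
    (h1 : (L.d i j).hom l + (φ.f j).hom z = 0) (h2 : (Z.d j k).hom z = 0) :
    ∃ (l' : L.X h) (z' : Z.X i), (L.d h i).hom l' + (φ.f i).hom z' = l ∧ -(Z.d i j).hom z' = z := by
  have hex := (Groth.Agent.PCoh.exactAt_mappingCone φ i)
  rw [HomologicalComplex.exactAt_iff' _ h i j (by simp; omega) (by simp; omega),
    ShortComplex.moduleCat_exact_iff] at hex
  obtain ⟨w, hw⟩ := hex ((coneEquiv R φ i j hij).symm (l, z)) ((coneEquiv R φ j k hjk).injective (by
    refine (coneEquiv_d R φ i j k hij hjk _).trans ?_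
    rw [LinearEquiv.apply_symm_apply]
    exact (Prod.ext h1 (neg_eq_zero.2 h2) : (_ : L.X j × Z.X k) = 0).trans
      (coneEquiv R φ j k hjk).map_zero.symm))
  have hw' : coneEquiv R φ i j hij (((CochainComplex.mappingCone φ).d h i).hom w) = (l, z) :=
    ((coneEquiv R φ i j hij).congr_arg hw).trans (LinearEquiv.apply_symm_apply _ _)
  replace hw' := (coneEquiv_d R φ h i j hhi hij w).symm.trans hw'
  exact ⟨_, _, congrArg Prod.fst hw', congrArg Prod.snd hw'⟩

section Data

variable {Z K : CochainComplex (ModuleCat.{u} R) ℤ} (φ : Z ⟶ K)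
  {F : Type u} [AddCommGroup F] [Module R F] (p : F →ₗ[R] Z.X 0)

/-- The pullback of `Z⁻¹ → Z⁰ ← F`. -/
def pbk : Submodule R (Z.X (-1) × F) :=
  LinearMap.ker ((Z.d (-1) 0).hom.comp (LinearMap.fst R _ _) - p.comp (LinearMap.snd R _ _))

theorem mem_pbk (x : Z.X (-1) × F) : x ∈ pbk p ↔ (Z.d (-1) 0).hom x.1 = p x.2 := by
  rw [pbk, LinearMap.mem_ker, LinearMap.sub_apply, sub_eq_zero]
  rfl

/-- The comparison map. -/
def μmap : pbk p →ₗ[R] K.X (-1) × F :=
  ((φ.f (-1)).hom.prodMap LinearMap.id).comp (pbk p).subtype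

/-- The augmentation. -/
def πmap : K.X (-1) × F →ₗ[R] K.X 0 :=
  (K.d (-1) 0).hom.comp (LinearMap.fst R _ _) - ((φ.f 0).hom.comp p).comp (LinearMap.snd R _ _)

variable {p}

theorem comm_apply (i j : ℤ) (z : Z.X i) :
    (K.d i j).hom ((φ.f i).hom z) = (φ.f j).hom ((Z.d i j).hom z) :=
  LinearMap.congr_fun (congrArg ModuleCat.Hom.hom (φ.comm i j)) z

theorem d_d_apply (L : CochainComplex (ModuleCat.{u} R) ℤ) (i j k : ℤ) (z : L.X i) :
    (L.d j k).hom ((L.d i j).hom z) = 0 :=
  LinearMap.congr_fun (congrArg ModuleCat.Hom.hom (L.d_comp_d i j k)) z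

variable [QuasiIso φ] (hK : DRing.VanishesOutside K (-1) 0)
  (hp : ∀ z : Z.X 0, (∃ w, p w = z) ↔ (Z.d 0 1).hom z = 0)

include hK hp

theorem πmap_surjective : Function.Surjective (πmap φ p) := fun n => by
  haveI := ModuleCat.subsingleton_of_isZero (hK 1 (Or.inr one_pos))
  obtain ⟨l, z, h1, h2⟩ := cone_elim φ (-1) 0 1 2 (by norm_num) (by norm_num) (by norm_num) n 0
    (Subsingleton.elim _ _) (map_zero _)
  obtain ⟨w, rfl⟩ := (hp z).2 (neg_eq_zero.1 h2)
  refine ⟨(l, -w), ?_⟩
  change (K.d (-1) 0).hom l - (φ.f 0).hom (p (-w)) = n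
  rw [map_neg, map_neg, sub_neg_eq_add]
  exact h1

theorem range_μmap : LinearMap.range (μmap φ p) = LinearMap.ker (πmap φ p) := by
  refine le_antisymm ?_ ?_
  · rintro - ⟨⟨⟨z, w⟩, hzw⟩, rfl⟩
    rw [mem_pbk] at hzw
    rw [LinearMap.mem_ker]
    change (K.d (-1) 0).hom ((φ.f (-1)).hom z) - (φ.f 0).hom (p w) = 0
    rw [comm_apply, hzw, sub_self]
  · rintro ⟨m, w⟩ hmw
    change (K.d (-1) 0).hom m - (φ.f 0).hom (p w) = 0 at hmw
    obtain ⟨l, z, h1, h2⟩ := cone_elim φ (-2) (-1) 0 1 (by norm_num) (by norm_num) (by norm_num) m (-p w)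
      (by rw [map_neg, ← sub_eq_add_neg]; exact hmw) (by rw [map_neg, (hp _).1 ⟨w, rfl⟩, neg_zero])
    haveI := ModuleCat.subsingleton_of_isZero (hK (-2) (Or.inl (by norm_num)))
    refine ⟨⟨(z, w), (mem_pbk _ _).2 (neg_injective h2)⟩, Prod.ext ?_ rfl⟩
    rw [Subsingleton.elim l 0, map_zero, zero_add] at h1
    exact h1

theorem μmap_eq_zero_iff (q : pbk p) :
    μmap φ p q = 0 ↔ q.1.2 = 0 ∧ ∃ y, (Z.d (-2) (-1)).hom y = q.1.1 := by
  haveI := ModuleCat.subsingleton_of_isZero (hK (-2) (Or.inl (by norm_num)))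
  obtain ⟨⟨z, w⟩, hzw⟩ := q
  rw [mem_pbk] at hzw
  constructor
  · intro h
    have hz : (φ.f (-1)).hom z = 0 := congrArg Prod.fst h
    have hw : w = 0 := congrArg Prod.snd h
    refine ⟨hw, ?_⟩
    obtain ⟨-, z', -, h2⟩ := cone_elim φ (-3) (-2) (-1) 0 (by norm_num) (by norm_num) (by norm_num) 0 z
      (by rw [map_zero, zero_add, hz]) (by rw [hzw, hw, map_zero])
    exact ⟨-z', by rw [map_neg]; exact h2⟩
  · rintro ⟨hw, y, rfl⟩
    refine Prod.ext ?_ hw
    change (φ.f (-1)).hom ((Z.d (-2) (-1)).hom y) = 0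
    rw [← comm_apply, Subsingleton.elim ((φ.f (-2)).hom y) 0, map_zero]

end Data

theorem flat_prod (X Y : Type u) [AddCommGroup X] [Module R X] [AddCommGroup Y] [Module R Y]
    [Module.Flat R X] [Module.Flat R Y] : Module.Flat R (X × Y) := by
  rw [Module.Flat.iff_rTensor_preserves_injective_linearMap]
  intro A B _ _ _ _ h hh
  have hX : Function.Injective (h.rTensor X) := Module.Flat.rTensor_preserves_injective_linearMap h hh
  have hY : Function.Injective (h.rTensor Y) := Module.Flat.rTensor_preserves_injective_linearMap h hh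
  have hc : (TensorProduct.prodRight R R B X Y).toLinearMap.comp (h.rTensor (X × Y)) =
      ((h.rTensor X).prodMap (h.rTensor Y)).comp (TensorProduct.prodRight R R A X Y).toLinearMap := by
    ext <;> simp
  refine Function.Injective.of_comp (f := (TensorProduct.prodRight R R B X Y).toLinearMap) ?_
  rw [← LinearMap.coe_comp, hc]
  exact (hX.prodMap hY).comp (TensorProduct.prodRight R R A X Y).injective

theorem flat_left_of_ker_flat {X F N : Type u} [AddCommGroup X] [Module R X] [AddCommGroup F] [Module R F]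
    [AddCommGroup N] [Module R N] [Module.Projective R N] (π : X × F →ₗ[R] N) (hπ : Function.Surjective π)
    [Module.Flat R (LinearMap.ker π)] : Module.Flat R X := by
  obtain ⟨σ, hσ⟩ := Module.projective_lifting_property π LinearMap.id hπ
  have hker' : ∀ x, x - σ (π x) ∈ LinearMap.ker π := fun x => by
    have := LinearMap.congr_fun hσ (π x)
    rw [LinearMap.comp_apply, LinearMap.id_apply] at this
    rw [LinearMap.mem_ker, map_sub, this, sub_self]
  haveI := flat_prod (R := R) (LinearMap.ker π) N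
  haveI : Module.Flat R (X × F) :=
    Module.Flat.of_retract (M := (LinearMap.ker π × N))
      ((((LinearMap.id : (X × F) →ₗ[R] _) - σ.comp π).codRestrict _ hker').prod π)
      (LinearMap.coprod (LinearMap.ker π).subtype σ)
      (LinearMap.ext fun x => by simp)
  exact Module.Flat.of_retract (LinearMap.inl R X F) (LinearMap.fst R X F) (LinearMap.ext fun x => rfl)

theorem equiv_of_range {P A B : Type u} [AddCommGroup P] [Module R P] [AddCommGroup A] [Module R A]
    [AddCommGroup B] [Module R B] (μ : P →ₗ[R] A) (ν : P →ₗ[R] B) (S : Submodule R A) (T : Submodule R B)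
    (hS : LinearMap.range μ = S) (hT : LinearMap.range ν = T) (h : LinearMap.ker μ = LinearMap.ker ν) :
    Nonempty (S ≃ₗ[R] T) :=
  ⟨(LinearEquiv.ofEq _ _ hS.symm) ≪≫ₗ μ.quotKerEquivRange.symm ≪≫ₗ
    Submodule.quotEquivOfEq _ _ h ≪≫ₗ ν.quotKerEquivRange ≪≫ₗ LinearEquiv.ofEq _ _ hT⟩

theorem flat_of_roof {Z E K : CochainComplex (ModuleCat.{u} R) ℤ} (s : Z ⟶ E) (g : Z ⟶ K) [QuasiIso s]
    [QuasiIso g] (hE : DRing.VanishesOutside E (-1) 0) (hK : DRing.VanishesOutside K (-1) 0)
    [Module.Flat R (E.X (-1))] [Module.Flat R (E.X 0)] [Module.Projective R (K.X 0)]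
    {F : Type u} [AddCommGroup F] [Module R F] [Module.Flat R F] (p : F →ₗ[R] Z.X 0)
    (hp : ∀ z : Z.X 0, (∃ w, p w = z) ↔ (Z.d 0 1).hom z = 0) :
    Module.Flat R (K.X (-1)) := by
  haveI := flat_prod (R := R) (E.X (-1)) F
  haveI : Module.Flat R (LinearMap.ker (πmap s p)) :=
    flat_ker_of_surjective _ (πmap_surjective s hE hp)
  have hker : LinearMap.ker (μmap s p) = LinearMap.ker (μmap g p) := by
    ext q
    rw [LinearMap.mem_ker, LinearMap.mem_ker, μmap_eq_zero_iff s hE hp, μmap_eq_zero_iff g hK hp]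
  obtain ⟨e₁⟩ := equiv_of_range (μmap s p) (μmap g p) _ _ (range_μmap s hE hp) (range_μmap g hK hp) hker
  haveI : Module.Flat R (LinearMap.ker (πmap g p)) := Module.Flat.of_linearEquiv e₁.symm
  exact flat_left_of_ker_flat (πmap g p) (πmap_surjective g hK hp)

/-- Two complexes in degrees `-1, 0` isomorphic in the derived category, one termwise flat and the other
with projective term in degree `0`: then the latter is flat in degree `-1`. -/
theorem flat_of_torAmplitude {K : CochainComplex (ModuleCat.{u} R) ℤ} (hK : DRing.VanishesOutside K (-1) 0)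
    (hN : Module.Projective R (K.X 0)) (h : DRing.HasTorAmplitudeIn R (-1) 0 (DRing.toD K)) :
    Module.Flat R (K.X (-1)) := by
  obtain ⟨E, hE, hflat, ⟨e⟩⟩ := h
  obtain ⟨Z, s, hs, g, hg⟩ := DerivedCategory.right_fac e.hom
  haveI : IsIso (DerivedCategory.Q.map g) := by
    have : DerivedCategory.Q.map g = DerivedCategory.Q.map s ≫ e.hom := by
      rw [hg, IsIso.hom_inv_id_assoc]
    rw [this]
    infer_instance
  haveI : QuasiIso s := (DerivedCategory.isIso_Q_map_iff_quasiIso _ s).1 hs
  haveI : QuasiIso g := (DerivedCategory.isIso_Q_map_iff_quasiIso _ g).1 inferInstance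
  classical
  let C : Submodule R (Z.X 0) := LinearMap.ker (Z.d 0 1).hom
  let p : (C →₀ R) →ₗ[R] Z.X 0 := C.subtype.comp (Finsupp.linearCombination R id)
  have hp : ∀ z : Z.X 0, (∃ w, p w = z) ↔ (Z.d 0 1).hom z = 0 := fun z => by
    refine ⟨?_, fun hz => ⟨Finsupp.single ⟨z, hz⟩ 1, ?_⟩⟩
    · rintro ⟨w, rfl⟩
      exact (Finsupp.linearCombination R id w : C).2
    · simp [p, Finsupp.linearCombination_single]
  haveI := hflat (-1)
  haveI := hflat 0
  exact flat_of_roof s g hE hK p hp

end Groth.Agent.CI2
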