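/-
A flat finitely presented algebra whose naive cotangent complex has tor amplitude `[-1, 0]` is lci.
-/
import Groth.Prelude.Def_LCI2
import Groth.Agent.Lib.CI2.NLFlat
import Groth.Agent.Lib.CI2.FibreCot
import Groth.Agent.Lib.CI2.FlatLCI
import Groth.Agent.Lib.CI2.KRStep
import Groth.Agent.Lib.CI2.SyntKoszul
import Groth.Agent.Lib.CI2.SyntScheme
import Groth.Agent.Lib.HomDim.LocalizePd
import Groth.Agent.S2189
import Mathlib.RingTheory.RegularLocalRing.Polynomial
import Mathlib.RingTheory.TensorProduct.MvPolynomial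

universe u

open CategoryTheory TensorProduct

set_option linter.style.haveILetI false

namespace Groth.Agent.CI2

attribute [local instance] HasDerivedCategory.standard

/-- An ideal of a regular ring with flat conormal module is Koszul regular. -/
theorem isKR_of_regular_of_flat_cotangent {Q : Type u} [CommRing Q] [IsRegularRing Q]
    (J : Ideal Q) [Module.Flat (Q ⧸ J) J.Cotangent] : LCI.IsKoszulRegularIdeal J := by
  haveI : Module.Finite Q J.Cotangent := Module.Finite.of_surjective J.toCotangent J.toCotangent_surjective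
  haveI : Module.Finite (Q ⧸ J) J.Cotangent := Module.Finite.of_restrictScalars_finite Q _ _
  haveI : Module.FinitePresentation (Q ⧸ J) J.Cotangent := Module.finitePresentation_of_finite _ _
  haveI : Module.Projective (Q ⧸ J) J.Cotangent := Module.Flat.projective_of_finitePresentation
  obtain ⟨d, hd⟩ := Groth.Agent.HomDim.exists_hasProjectiveDimensionLE_of_regular Q J
  intro p hp
  obtain ⟨g, hg, rs, hrs, heq⟩ := Groth.Agent.S2189.result J (d + 1) hd p.asIdeal hp
  exact ⟨g, hg, rs, (isKoszulRegularSeq_iff_ex rs).2 (ex_of_isWeaklyRegular rs _ hrs.toIsWeaklyRegular),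
    heq.symm⟩

/-- Over a field, the quotient of a polynomial ring by an ideal with flat conormal module is lci. -/
theorem isLCI_fibre {A P : Type u} [CommRing A] [CommRing P] [Algebra A P] (I : Ideal P)
    [Module.Flat A (P ⧸ I)] [Module.Flat (P ⧸ I) I.Cotangent] (k : Type u) [Field k] [Algebra A k]
    {n : ℕ} (e : MvPolynomial (Fin n) k ≃ₐ[k] k ⊗[A] P) :
    LCI.IsLCI k (k ⊗[A] (P ⧸ I)) := by
  let J : Ideal (k ⊗[A] P) := I.map (Algebra.TensorProduct.includeRight : P →ₐ[A] k ⊗[A] P)
  haveI : IsNoetherianRing (k ⊗[A] P) := isNoetherianRing_of_ringEquiv _ e.toRingEquiv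
  haveI : IsRegularRing (k ⊗[A] P) := IsRegularRing.of_ringEquiv e.toRingEquiv
  haveI : Module.Flat ((k ⊗[A] P) ⧸ J) J.Cotangent := flat_cotangent_map I k
  have hJ := isKR_of_regular_of_flat_cotangent J
  let π : MvPolynomial (Fin n) k →ₐ[k] k ⊗[A] (P ⧸ I) :=
    (Algebra.TensorProduct.tensorQuotientEquiv (R := A) k P k I).symm.toAlgHom.comp
      ((Ideal.Quotient.mkₐ k J).comp e.toAlgHom)
  have hπ : Function.Surjective π := (Algebra.TensorProduct.tensorQuotientEquiv (R := A) k P k I).symm.surjective.comp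
    (Ideal.Quotient.mk_surjective.comp e.surjective)
  refine ⟨Algebra.FiniteType.of_surjective π hπ, n, π, hπ, ?_⟩
  have hker : RingHom.ker π.toRingHom = J.comap e.toRingEquiv.toRingHom := by
    ext x
    rw [Ideal.mem_comap, RingHom.mem_ker]
    exact (map_eq_zero_iff _ (Algebra.TensorProduct.tensorQuotientEquiv (R := A) k P k I).symm.injective).trans
      Ideal.Quotient.eq_zero_iff_mem
  rw [hker]
  exact (isKR_map_equiv_iff e.toRingEquiv _).1
    ((Ideal.map_comap_of_surjective e.toRingEquiv.toRingHom e.toRingEquiv.surjective J).symm ▸ hJ)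

set_option maxHeartbeats 800000 in
theorem isLCI_of_torAmplitude {A B : Type u} [CommRing A] [CommRing B] [Algebra A B]
    [Module.Flat A B] [Algebra.FinitePresentation A B]
    (h : DRing.HasTorAmplitudeIn B (-1) 0 (LCI.NL A B)) : LCI.IsLCI A B := by
  obtain ⟨n, f, hf, -⟩ := (inferInstance : Algebra.FinitePresentation A B).out
  let G : Algebra.Generators A B (Fin n) := Algebra.Generators.ofAlgHom f hf
  let E := G.toExtension
  obtain ⟨e⟩ := nl_iso A B G
  obtain ⟨F, hF, hflat, ⟨e'⟩⟩ := h
  have h' : DRing.HasTorAmplitudeIn B (-1) 0 (DRing.toD (genCx A B G)) := ⟨F, hF, hflat, ⟨e' ≪≫ e⟩⟩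
  haveI : Module.Projective B E.CotangentSpace := .of_basis G.cotangentSpaceBasis
  haveI : Module.Flat B ((genCx A B G).X (-1)) := flat_of_torAmplitude (vanishesOutside_two _)
    (Module.Projective.of_equiv (HomologicalComplex.doubleXIso₁ (ModuleCat.ofHom E.cotangentComplex) rel_m1
      (by decide)).symm.toLinearEquiv) h'
  haveI : Module.Flat B E.Cotangent := Module.Flat.of_linearEquiv (M := (genCx A B G).X (-1))
    (HomologicalComplex.doubleXIso₀ (ModuleCat.ofHom E.cotangentComplex) rel_m1).symm.toLinearEquiv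
  let σ : (E.Ring ⧸ E.ker) ≃ₐ[A] B :=
    Ideal.quotientKerAlgEquivOfSurjective (f := IsScalarTower.toAlgHom A E.Ring B) E.algebraMap_surjective
  haveI : Module.Flat A (E.Ring ⧸ E.ker) := Module.Flat.of_linearEquiv σ.toLinearEquiv
  haveI : Module.Flat (E.Ring ⧸ E.ker) E.ker.Cotangent := by
    letI : Algebra (E.Ring ⧸ E.ker) B := σ.toRingEquiv.toRingHom.toAlgebra
    letI : Module (E.Ring ⧸ E.ker) E.Cotangent := Module.compHom _ (algebraMap (E.Ring ⧸ E.ker) B)
    haveI : IsScalarTower (E.Ring ⧸ E.ker) B E.Cotangent := IsScalarTower.of_algebraMap_smul fun _ _ => rfl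
    haveI : Module.Flat (E.Ring ⧸ E.ker) B :=
      Module.Flat.of_linearEquiv (R := E.Ring ⧸ E.ker) (M := E.Ring ⧸ E.ker)
        (LinearEquiv.ofBijective (Algebra.linearMap (E.Ring ⧸ E.ker) B) σ.bijective).symm
    haveI : Module.Flat (E.Ring ⧸ E.ker) E.Cotangent := Module.Flat.trans (E.Ring ⧸ E.ker) B E.Cotangent
    let c : E.ker.Cotangent ≃ₗ[E.Ring ⧸ E.ker] E.Cotangent :=
      { toFun := Algebra.Extension.Cotangent.of
        invFun := Algebra.Extension.Cotangent.val
        left_inv := fun _ => rfl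
        right_inv := fun _ => rfl
        map_add' := fun _ _ => rfl
        map_smul' := fun c x => by
          obtain ⟨c, rfl⟩ := Ideal.Quotient.mk_surjective c
          change _ = algebraMap E.Ring B c • Algebra.Extension.Cotangent.of x
          rw [algebraMap_smul]
          exact Algebra.Extension.Cotangent.ext (by rw [Algebra.Extension.Cotangent.val_smul']; rfl) }
    exact Module.Flat.of_linearEquiv c
  refine isLCI_of_isSyntomic ⟨inferInstance, inferInstance, fun p => ?_⟩
  have hlci : LCI.IsLCI p.asIdeal.ResidueField (p.asIdeal.ResidueField ⊗[A] (E.Ring ⧸ E.ker)) :=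
    isLCI_fibre E.ker p.asIdeal.ResidueField
      (MvPolynomial.algebraTensorAlgEquiv (R := A) (A := p.asIdeal.ResidueField) (σ := Fin n)).symm
  refine isLCIOver_congr (Algebra.TensorProduct.congr AlgEquiv.refl σ) ?_
  exact isLCIOver_of_isSyntomic_field (isSyntomic_of_flat_of_isLCI hlci)

end Groth.Agent.CI2
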