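/-
A finite type algebra of finite tor dimension over a Noetherian ring whose naive cotangent complex has tor
amplitude `[-1, 0]` is lci.
-/
import Groth.Agent.Lib.CI2.LCIofTor
import Groth.Agent.Lib.CI2.TorPoly

universe u

open CategoryTheory TensorProduct

set_option linter.style.haveILetI false

namespace Groth.Agent.CI2

attribute [local instance] HasDerivedCategory.standard

theorem pd_ker {A B : Type u} [CommRing A] [IsNoetherianRing A] [CommRing B] [Algebra A B] (n : ℕ)
    (f : MvPolynomial (Fin n) A →ₐ[A] B) (hf : Function.Surjective f) (d : ℕ) (hd : DRing.HasTorDimLE A d B) :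
    HasProjectiveDimensionLE (ModuleCat.of (MvPolynomial (Fin n) A) (RingHom.ker f.toRingHom)) (d + n) := by
  letI : Algebra (MvPolynomial (Fin n) A) B := f.toRingHom.toAlgebra
  haveI : IsScalarTower A (MvPolynomial (Fin n) A) B := IsScalarTower.of_algebraMap_eq fun a => (f.commutes a).symm
  haveI : Module.Finite (MvPolynomial (Fin n) A) B :=
    Module.Finite.of_surjective (Algebra.linearMap (MvPolynomial (Fin n) A) B) hf
  haveI : HasProjectiveDimensionLE (ModuleCat.of (MvPolynomial (Fin n) A) B) (d + n) :=
    pd_le_of_torDim (d + n) B (torDim_mvPolynomial n d B hd)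
  have hpd : HasProjectiveDimensionLE (ModuleCat.of (MvPolynomial (Fin n) A) B) (d + n + 1) :=
    hasProjectiveDimensionLT_of_ge (ModuleCat.of (MvPolynomial (Fin n) A) B) (d + n + 1) (d + n + 1 + 1) (by omega)
  refine (Groth.Agent.FlatSyz.hasProjectiveDimensionLE_succ_iff (RingHom.ker f.toRingHom).subtype
    (Submodule.injective_subtype _) (Algebra.linearMap (MvPolynomial (Fin n) A) B)
    (fun x => ⟨fun hx => ⟨⟨x, hx⟩, rfl⟩, ?_⟩) hf (d + n)).1 hpd
  rintro ⟨⟨y, hy⟩, rfl⟩
  exact hy

set_option maxHeartbeats 800000 in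
theorem isLCI_of_torAmplitude_of_finiteTorDim {A B : Type u} [CommRing A] [CommRing B]
    [Algebra A B] [IsNoetherianRing A] [Algebra.FiniteType A B] (hB : DRing.HasFiniteTorDim A B)
    (h : DRing.HasTorAmplitudeIn B (-1) 0 (LCI.NL A B)) : LCI.IsLCI A B := by
  obtain ⟨n, f, hf⟩ := Algebra.FiniteType.iff_quotient_mvPolynomial''.mp ‹Algebra.FiniteType A B›
  obtain ⟨d, hd⟩ := hB
  let G : Algebra.Generators A B (Fin n) := Algebra.Generators.ofAlgHom f hf
  let E := G.toExtension
  obtain ⟨e⟩ := nl_iso A B G
  obtain ⟨F, hF, hflat, ⟨e'⟩⟩ := h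
  have h' : DRing.HasTorAmplitudeIn B (-1) 0 (DRing.toD (genCx A B G)) := ⟨F, hF, hflat, ⟨e' ≪≫ e⟩⟩
  haveI : Module.Projective B E.CotangentSpace := .of_basis G.cotangentSpaceBasis
  haveI : Module.Flat B ((genCx A B G).X (-1)) := flat_of_torAmplitude (vanishesOutside_two _)
    (Module.Projective.of_equiv (HomologicalComplex.doubleXIso₁ (ModuleCat.ofHom E.cotangentComplex) rel_m1
      (by decide)).symm.toLinearEquiv) h'
  haveI : Module.Flat B E.Cotangent := Module.Flat.of_linearEquiv (M := (genCx A B G).X (-1))
    (HomologicalComplex.doubleXIso₀ (ModuleCat.ofHom E.cotangentComplex) rel_m1).symm.toLinearEquiv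
  haveI : IsNoetherianRing E.Ring := inferInstanceAs (IsNoetherianRing (MvPolynomial (Fin n) A))
  haveI : IsNoetherianRing B := isNoetherianRing_of_surjective _ _ (algebraMap E.Ring B) E.algebraMap_surjective
  -- the conormal module
  haveI : Module.Finite E.Ring E.ker.Cotangent :=
    Module.Finite.of_surjective E.ker.toCotangent E.ker.toCotangent_surjective
  haveI : Module.Finite E.Ring E.Cotangent := Module.Finite.equiv E.cotangentEquivCotangentKer.symm
  haveI : Module.Finite B E.Cotangent := Module.Finite.of_restrictScalars_finite E.Ring B _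
  haveI : Module.FinitePresentation B E.Cotangent := Module.finitePresentation_of_finite _ _
  haveI : Module.Projective B E.Cotangent := Module.Flat.projective_of_finitePresentation
  let σ : (E.Ring ⧸ E.ker) ≃+* B := RingHom.quotientKerEquivOfSurjective E.algebraMap_surjective
  haveI : Module.Projective (E.Ring ⧸ E.ker) E.ker.Cotangent := by
    letI : RingHomInvPair σ.toRingHom σ.symm.toRingHom :=
      ⟨RingHom.ext fun x => σ.symm_apply_apply x, RingHom.ext fun x => σ.apply_symm_apply x⟩
    letI : RingHomInvPair σ.symm.toRingHom σ.toRingHom :=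
      ⟨RingHom.ext fun x => σ.apply_symm_apply x, RingHom.ext fun x => σ.symm_apply_apply x⟩
    let c : E.ker.Cotangent ≃ₛₗ[σ.toRingHom] E.Cotangent :=
      { toFun := Algebra.Extension.Cotangent.of
        invFun := Algebra.Extension.Cotangent.val
        left_inv := fun _ => rfl
        right_inv := fun _ => rfl
        map_add' := fun _ _ => rfl
        map_smul' := fun c x => by
          obtain ⟨c, rfl⟩ := Ideal.Quotient.mk_surjective c
          have : σ.toRingHom (Ideal.Quotient.mk E.ker c) = algebraMap E.Ring B c := rfl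
          rw [this, algebraMap_smul]
          exact Algebra.Extension.Cotangent.ext (by rw [Algebra.Extension.Cotangent.val_smul']; rfl) }
    exact Module.Projective.of_equiv c.symm
  have hker : E.ker = RingHom.ker f.toRingHom := by
    have : MvPolynomial.aeval G.val = f := MvPolynomial.algHom_ext fun i => by
      rw [MvPolynomial.aeval_X]; rfl
    conv_rhs => rw [← this]
    exact G.ker_eq_ker_aeval_val
  haveI : Module.Projective ((MvPolynomial (Fin n) A) ⧸ RingHom.ker f.toRingHom)
      (RingHom.ker f.toRingHom).Cotangent := hker ▸ ‹Module.Projective (E.Ring ⧸ E.ker) E.ker.Cotangent›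
  have hI := pd_ker n f hf d hd
  have hKR : LCI.IsKoszulRegularIdeal (RingHom.ker f.toRingHom) := fun p hp => by
    obtain ⟨g, hg, rs, hrs, heq⟩ := Groth.Agent.S2189.result _ (d + n + 1) hI p.asIdeal hp
    exact ⟨g, hg, rs, (isKoszulRegularSeq_iff_ex rs).2 (ex_of_isWeaklyRegular rs _ hrs.toIsWeaklyRegular),
      heq.symm⟩
  exact ⟨inferInstance, n, f, hf, hKR⟩

end Groth.Agent.CI2
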