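import Groth.Agent.Lib.CI2.NLPerf
import Mathlib.RingTheory.Extension.Presentation.Basic
import Mathlib.Algebra.Category.ModuleCat.Projective
import Mathlib.Algebra.Homology.DerivedCategory.Ext.EnoughProjectives
import Mathlib.LinearAlgebra.Matrix.Adjugate

/-!
# Maximal minors of the Jacobian annihilate `Ext¹(NL, -)`
-/

universe u

open CategoryTheory CategoryTheory.Limits HomologicalComplex

set_option linter.style.haveILetI false

namespace Groth.Agent.CI2

attribute [local instance] HasDerivedCategory.standard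

variable {R : Type u} [CommRing R]

/-- The complex `0 → N` in degrees `-1, 0` is `N[0]`. -/
theorem two_zero_iso (N : ModuleCat.{u} R) (Z : ModuleCat.{u} R) (hZ : IsZero Z) :
    Nonempty ((DerivedCategory.singleFunctor (ModuleCat.{u} R) 0).obj N ≅ DRing.toD (two (0 : Z ⟶ N))) := by
  have hz : ∀ i, i ≠ 0 → IsZero ((two (0 : Z ⟶ N)).X i) := fun i hi => by
    by_cases h : i = -1
    · subst h; exact hZ.of_iso (doubleXIso₀ _ rel_m1)
    · exact isZero_double_X _ rel_m1 i h hi
  let ψ : two (0 : Z ⟶ N) ⟶ (single (ModuleCat.{u} R) (ComplexShape.up ℤ) 0).obj N :=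
    mkHomToSingle (j := (0 : ℤ)) (doubleXIso₁ (0 : Z ⟶ N) rel_m1 (by decide)).hom
      (fun i _ => by
        by_cases h : i = -1
        · subst h; exact (hZ.of_iso (doubleXIso₀ _ rel_m1)).eq_of_src _ _
        · rw [double_d_eq_zero₀ _ _ _ _ h, zero_comp])
  haveI : ∀ i, IsIso (ψ.f i) := by
    intro i
    by_cases hi : i = 0
    · subst hi
      simp only [ψ, mkHomToSingle_f]
      infer_instance
    · exact isIso_of_source_target_iso_zero _ (hz i hi).isoZero (isZero_single_obj_X _ _ _ _ hi).isoZero
  haveI : IsIso ψ := Hom.isIso_of_components _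
  exact ⟨((DerivedCategory.singleFunctorIsoCompQ (ModuleCat.{u} R) 0).app N).trans
    (DerivedCategory.Q.mapIso (asIso ψ)).symm⟩

/-- If `g = s ∘ d` in degree `-1` then `g` kills `Hom(C, N[1])`, and it is zero if also `g = d ∘ s`. -/
theorem smul_two {M P : Type u} [AddCommGroup M] [Module R M] [AddCommGroup P] [Module R P] [Module.Projective R P]
    (d : M →ₗ[R] P) (g : R) (s : P →ₗ[R] M) (hs : ∀ x, s (d x) = g • x) :
    (∀ (N : Type u) [AddCommGroup N] [Module R N]
      (φ : DRing.toD (two (ModuleCat.ofHom d)) ⟶ (Dual.inD R N)⟦(1 : ℤ)⟧), g • φ = 0) ∧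
    ((∀ y, d (s y) = g • y) → g • 𝟙 (DRing.toD (two (ModuleCat.ofHom d))) = 0) := by
  let D := ModuleCat.ofHom d
  let S : ModuleCat.of R P ⟶ ModuleCat.of R M := ModuleCat.ofHom s
  have hsd : D ≫ S = g • 𝟙 (ModuleCat.of R M) := ModuleCat.hom_ext (LinearMap.ext hs)
  let t0 : ModuleCat.of R P ⟶ ModuleCat.of R P := g • 𝟙 _ - S ≫ D
  have ht0 : D ≫ t0 = 0 := by
    rw [Preadditive.comp_sub, ← Category.assoc, hsd, Linear.comp_smul, Linear.smul_comp, Category.id_comp,
      Category.comp_id, sub_self]
  let t := twoMap D D 0 t0 (by rw [zero_comp, ht0])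
  have hgid : twoMap D D (g • 𝟙 _) (g • 𝟙 _) (by simp) = g • 𝟙 (two D) := by
    apply from_double_hom_ext <;> simp [twoMap]
  have hQ : g • 𝟙 (DRing.toD (two D)) = DerivedCategory.Q.map t := by
    rw [← CategoryTheory.Functor.map_id, ← CategoryTheory.Functor.map_smul, ← hgid]
    exact DerivedCategory.Q_map_eq_of_homotopy _ (twoHomotopy D D _ _ _ _ _ (by rw [zero_comp, ht0]) S
      (by rw [add_zero, hsd]) (by simp [t0]))
  refine ⟨fun N _ _ φ => ?_, fun hds => ?_⟩
  · let Z : ModuleCat.{u} R := ModuleCat.of R PUnit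
    have hZ : IsZero Z := ModuleCat.isZero_of_subsingleton _
    let u := twoMap D (0 : Z ⟶ ModuleCat.of R P) 0 t0 (by rw [zero_comp, ht0])
    let v := twoMap (0 : Z ⟶ ModuleCat.of R P) D 0 (𝟙 _) (by simp)
    have huv : u ≫ v = t := by
      rw [twoMap_comp]; apply from_double_hom_ext <;> simp [t, twoMap]
    have hv : DerivedCategory.Q.map v ≫ φ = 0 := by
      obtain ⟨e⟩ := two_zero_iso (ModuleCat.of R P) Z hZ
      rw [← cancel_epi e.hom, comp_zero]
      haveI : Projective (ModuleCat.of R P) := (IsProjective.iff_projective _).1 inferInstance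
      haveI : Subsingleton (Abelian.Ext.{u} (ModuleCat.of R P) (ModuleCat.of R N) 1) :=
        subsingleton_of_forall_eq 0 fun x => Abelian.Ext.eq_zero_of_projective x
      haveI := (Abelian.Ext.homEquiv (X := ModuleCat.of R P) (Y := ModuleCat.of R N) (n := 1)).symm.subsingleton
      exact Subsingleton.elim (α := ShiftedHom ((DerivedCategory.singleFunctor (ModuleCat.{u} R) 0).obj (ModuleCat.of R P))
        ((DerivedCategory.singleFunctor (ModuleCat.{u} R) 0).obj (ModuleCat.of R N)) ((1 : ℕ) : ℤ)) _ _
    calc g • φ = (g • 𝟙 (DRing.toD (two D))) ≫ φ := by rw [Linear.smul_comp, Category.id_comp]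
      _ = 0 := by rw [hQ, ← huv, Functor.map_comp, Category.assoc, hv, comp_zero]
  · rw [hQ]
    have h0 : t0 = 0 := sub_eq_zero.2 (ModuleCat.hom_ext (LinearMap.ext fun y => (hds y).symm))
    have : t = 0 := by apply from_double_hom_ext <;> simp [t, twoMap, h0]
    rw [this, Functor.map_zero]

open MvPolynomial Algebra in
/-- The Jacobian minor on the naive cotangent complex of a presentation. -/
theorem jacobian_splitting {A : Type u} [CommRing A] (n m : ℕ) (hmn : m ≤ n) (f : Fin m → MvPolynomial (Fin n) A) :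
    let P := Generators.naive (R := A) (I := Ideal.span (Set.range f))
    let g := Ideal.Quotient.mk (Ideal.span (Set.range f))
      (Matrix.det (Matrix.of (fun i j : Fin m => pderiv (Fin.castLE hmn i) (f j))))
    ∃ s : P.toExtension.CotangentSpace →ₗ[MvPolynomial (Fin n) A ⧸ Ideal.span (Set.range f)] P.toExtension.Cotangent,
      (∀ x, s (P.toExtension.cotangentComplex x) = g • x) ∧
      (n = m → ∀ y, P.toExtension.cotangentComplex (s y) = g • y) := by
  intro P g
  let B := MvPolynomial (Fin n) A ⧸ Ideal.span (Set.range f)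
  let J : Matrix (Fin m) (Fin m) B := fun i j => Ideal.Quotient.mk _ (pderiv (Fin.castLE hmn i) (f j))
  have hg : g = J.det := by
    simp only [g, RingHom.map_det]
    rfl
  have hker : P.toExtension.ker = Ideal.span (Set.range f) := Ideal.mk_ker (I := Ideal.span (Set.range f))
  let v : Fin m → P.toExtension.Cotangent := fun j =>
    Extension.Cotangent.mk ⟨f j, hker.ge (Ideal.subset_span ⟨j, rfl⟩)⟩
  let π : (Fin m → B) →ₗ[B] P.toExtension.Cotangent := Fintype.linearCombination B v
  let pr : P.toExtension.CotangentSpace →ₗ[B] (Fin m → B) :=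
    LinearMap.pi fun i => P.cotangentSpaceBasis.coord (Fin.castLE hmn i)
  let s := π ∘ₗ J.adjugate.mulVecLin ∘ₗ pr
  have hd : ∀ j i, P.cotangentSpaceBasis.repr (P.toExtension.cotangentComplex (v j)) i =
      Ideal.Quotient.mk _ (pderiv i (f j)) := fun j i => by
    show P.cotangentSpaceBasis.repr (P.toExtension.cotangentComplex (Extension.Cotangent.mk _)) i = _
    rw [Extension.cotangentComplex_mk]
    refine (P.cotangentSpaceBasis_repr_one_tmul _ _).trans ?_
    exact (Generators.algebraMap_apply (P := P) _).symm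
  have hv : Submodule.span B (Set.range v) = ⊤ := by
    rw [_root_.eq_top_iff]
    intro x _
    obtain ⟨⟨y, hy⟩, rfl⟩ := Extension.Cotangent.mk_surjective x
    let f' : Fin m → P.toExtension.Ring := f
    obtain ⟨c, hc⟩ := (Submodule.mem_span_range_iff_exists_fun P.toExtension.Ring).1
      (show y ∈ Submodule.span P.toExtension.Ring (Set.range f') from hker.le hy)
    have h1 : (⟨y, hy⟩ : P.toExtension.ker) =
        ∑ j, c j • (⟨f' j, hker.ge (Ideal.subset_span ⟨j, rfl⟩)⟩ : P.toExtension.ker) :=
      Subtype.ext (by rw [Submodule.coe_sum]; exact hc.symm)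
    rw [h1, map_sum]
    refine Submodule.sum_mem _ fun j _ => ?_
    rw [map_smul, ← algebraMap_smul B]
    exact Submodule.smul_mem _ _ (Submodule.subset_span ⟨j, rfl⟩)
  have hpr : ∀ j, pr (P.toExtension.cotangentComplex (v j)) = J.mulVec (Pi.single j 1) := fun j => by
    funext i
    rw [Matrix.mulVec_single_one]
    exact hd j _
  have hfst : ∀ x, s (P.toExtension.cotangentComplex x) = g • x := by
    have : s ∘ₗ P.toExtension.cotangentComplex = g • LinearMap.id := by
      refine LinearMap.ext_on_range hv fun j => ?_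
      show π (J.adjugate.mulVec (pr (P.toExtension.cotangentComplex (v j)))) = g • v j
      rw [hpr, Matrix.mulVec_mulVec, Matrix.adjugate_mul, Matrix.smul_mulVec, Matrix.one_mulVec, map_smul, ← hg,
        Fintype.linearCombination_apply_single, one_smul]
    exact fun x => LinearMap.congr_fun this x
  refine ⟨s, hfst, fun hnm y => ?_⟩
  subst hnm
  have hprd : ∀ w, pr (P.toExtension.cotangentComplex (π w)) = J.mulVec w := by
    have : pr ∘ₗ P.toExtension.cotangentComplex ∘ₗ π = J.mulVecLin := by
      refine (Pi.basisFun B (Fin n)).ext fun j => ?_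
      show pr (P.toExtension.cotangentComplex (π ((Pi.basisFun B (Fin n)) j))) = _
      rw [Pi.basisFun_apply, Fintype.linearCombination_apply_single, one_smul, hpr]
      rfl
    exact fun w => LinearMap.congr_fun this w
  have hinj : Function.Injective pr := by
    intro a b hab
    apply P.cotangentSpaceBasis.repr.injective
    ext i
    simpa [pr] using congrFun hab i
  refine hinj ?_
  show pr (P.toExtension.cotangentComplex (π (J.adjugate.mulVec (pr y)))) = _
  rw [hprd, Matrix.mulVec_mulVec, Matrix.mul_adjugate, Matrix.smul_mulVec, Matrix.one_mulVec, map_smul, ← hg]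

end Groth.Agent.CI2
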