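import Groth.Agent.Lib.CI2.Ops
import Groth.Agent.Lib.CAlgLow.TorNil
import Groth.Agent.Lib.FlatSyz.Kernel
import Groth.Agent.Lib.FlatSyz.ProjDim
import Mathlib

/-!
Lifting exactness through a nilpotent ideal: complexes of flat modules with flat cokernel.
-/

set_option autoImplicit false
set_option linter.style.haveILetI false
universe u

open TensorProduct

namespace Groth.Agent.CI2

variable {A : Type u} [CommRing A] {I : Ideal A}

theorem exists_one_tmul {M : Type u} [AddCommGroup M] [Module A M] (z : (A ⧸ I) ⊗[A] M) :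
    ∃ m : M, (1 : A ⧸ I) ⊗ₜ m = z := by
  induction z with
  | zero => exact ⟨0, tmul_zero _ _⟩
  | tmul r m =>
    obtain ⟨a, rfl⟩ := Ideal.Quotient.mk_surjective r
    exact ⟨a • m, by rw [← smul_tmul, Algebra.smul_def, mul_one]; rfl⟩
  | add x y hx hy =>
    obtain ⟨a, rfl⟩ := hx
    obtain ⟨b, rfl⟩ := hy
    exact ⟨a + b, tmul_add _ _ _⟩

theorem one_tmul_eq_zero {M : Type u} [AddCommGroup M] [Module A M] (m : M) :
    (1 : A ⧸ I) ⊗ₜ[A] m = 0 ↔ m ∈ I • (⊤ : Submodule A M) := by
  rw [← (TensorProduct.quotTensorEquivQuotSMul M I).map_eq_zero_iff,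
    show (1 : A ⧸ I) = Ideal.Quotient.mk I 1 from rfl, TensorProduct.quotTensorEquivQuotSMul_mk_tmul,
    one_smul, Submodule.Quotient.mk_eq_zero]

/-- A surjection onto a flat module which is injective modulo a nilpotent ideal is injective. -/
theorem injective_of_injective_mod_nilpotent (hI : IsNilpotent I) {M P : Type u} [AddCommGroup M] [Module A M]
    [AddCommGroup P] [Module A P] [Module.Flat A P] (q : M →ₗ[A] P) (hq : Function.Surjective q)
    (hmod : Function.Injective (q.lTensor (A ⧸ I))) : Function.Injective q := by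
  obtain ⟨n, hn⟩ := hI
  have hinj := FlatSyz.lTensor_subtype_injective_of_flat_quotient (LinearMap.ker q).subtype
    (LinearMap.ker q).injective_subtype q (LinearMap.exact_subtype_ker_map q) hq (A ⧸ I)
  have hN : ∀ x : LinearMap.ker q, x ∈ I • (⊤ : Submodule A (LinearMap.ker q)) := fun x => by
    rw [← one_tmul_eq_zero]
    refine hinj (hmod ?_)
    simp only [map_zero, LinearMap.lTensor_tmul, Submodule.subtype_apply, LinearMap.mem_ker.1 x.2, tmul_zero]
  have htop : I • (⊤ : Submodule A (LinearMap.ker q)) = ⊤ := eq_top_iff.2 fun x _ => hN x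
  have hpow : ∀ k, (I ^ k) • (⊤ : Submodule A (LinearMap.ker q)) = ⊤ := by
    intro k
    induction k with
    | zero => rw [pow_zero, Ideal.one_eq_top, Submodule.top_smul]
    | succ k ih => rw [pow_succ, Submodule.mul_smul, htop, ih]
  rw [← LinearMap.ker_eq_bot, Submodule.eq_bot_iff]
  intro x hx
  have := hpow n
  rw [hn, Ideal.zero_eq_bot, Submodule.bot_smul] at this
  have hx0 : (⟨x, hx⟩ : LinearMap.ker q) ∈ (⊤ : Submodule A (LinearMap.ker q)) := Submodule.mem_top
  rw [← this, Submodule.mem_bot] at hx0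
  exact congrArg Subtype.val hx0

/-- One step of the lifting. -/
theorem flat_step (hI : IsNilpotent I) {X Y Z : Type u} [AddCommGroup X] [Module A X] [AddCommGroup Y]
    [Module A Y] [AddCommGroup Z] [Module A Z] [Module.Flat A Y] (g : X →ₗ[A] Y) (p : Y →ₗ[A] Z)
    (hgp : Function.Exact g p) (hp : Function.Surjective p)
    [Module.Flat (A ⧸ I) ((A ⧸ I) ⊗[A] Z)] (hmod : Function.Injective (g.lTensor (A ⧸ I))) :
    Module.Flat A Z ∧ Function.Injective g ∧ Module.Flat A X := by
  let j := (LinearMap.range g).subtype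
  let q := g.rangeRestrict
  have hq : Function.Surjective q := g.surjective_rangeRestrict
  have hjq : j ∘ₗ q = g := LinearMap.ext fun _ => rfl
  have hjp : Function.Exact j p := fun y => by
    rw [hgp y]
    exact ⟨fun ⟨x, hx⟩ => ⟨⟨y, x, hx⟩, rfl⟩, fun ⟨w, hw⟩ => by
      obtain ⟨x, hx⟩ := w.2
      exact ⟨x, hx.trans hw⟩⟩
  have hjmod : Function.Injective (j.lTensor (A ⧸ I)) := by
    rw [injective_iff_map_eq_zero]
    intro z hz
    obtain ⟨w, rfl⟩ := LinearMap.lTensor_surjective (A ⧸ I) hq z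
    rw [← LinearMap.comp_apply, ← LinearMap.lTensor_comp, hjq] at hz
    rw [hmod (hz.trans (map_zero _).symm), map_zero]
  have hexI : Function.Exact I.subtype (Submodule.mkQ I) := LinearMap.exact_subtype_mkQ I
  haveI hZ : Module.Flat A Z := by
    refine CAlgLow.flat_of_flat_mod_nilpotent hI ?_
    rw [injective_iff_map_eq_zero]
    intro z hz
    obtain ⟨u, rfl⟩ := LinearMap.lTensor_surjective I hp z
    have h1 : p.lTensor A (I.subtype.rTensor Y u) = 0 := by
      rw [← hz, ← LinearMap.comp_apply, ← LinearMap.comp_apply, LinearMap.lTensor_comp_rTensor,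
        LinearMap.rTensor_comp_lTensor]
    obtain ⟨r, hr⟩ := (_root_.lTensor_exact A hjp hp _).1 h1
    have h2 : (Submodule.mkQ I).rTensor (LinearMap.range g) r = 0 := by
      refine hjmod ?_
      rw [map_zero, ← LinearMap.comp_apply, LinearMap.lTensor_comp_rTensor, ← LinearMap.rTensor_comp_lTensor,
        LinearMap.comp_apply, hr, ← LinearMap.comp_apply, ← LinearMap.rTensor_comp, hexI.linearMap_comp_eq_zero,
        LinearMap.rTensor_zero, LinearMap.zero_apply]
    obtain ⟨v, rfl⟩ := (_root_.rTensor_exact _ hexI I.mkQ_surjective _).1 h2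
    have h3 : I.subtype.rTensor Y (u - j.lTensor I v) = 0 := by
      rw [map_sub, ← hr, ← LinearMap.comp_apply, ← LinearMap.comp_apply, LinearMap.lTensor_comp_rTensor,
        LinearMap.rTensor_comp_lTensor, sub_self]
    have h4 := Module.Flat.rTensor_preserves_injective_linearMap (M := Y) I.subtype I.injective_subtype
      (h3.trans (map_zero _).symm)
    rw [sub_eq_zero] at h4
    rw [h4, ← LinearMap.comp_apply, ← LinearMap.lTensor_comp, hjp.linearMap_comp_eq_zero,
      LinearMap.lTensor_zero, LinearMap.zero_apply]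
  haveI : Module.Flat A (LinearMap.range g) := FlatSyz.flat_of_exact j (Submodule.injective_subtype _) p hjp hp
  have hqinj : Function.Injective q := by
    refine injective_of_injective_mod_nilpotent hI q hq ?_
    intro a b hab
    apply hmod
    rw [← hjq, LinearMap.lTensor_comp, LinearMap.comp_apply, LinearMap.comp_apply, hab]
  refine ⟨hZ, ?_, Module.Flat.of_linearEquiv (LinearEquiv.ofBijective q ⟨hqinj, hq⟩)⟩
  rw [← hjq]
  exact (Submodule.injective_subtype _).comp hqinj

/-- A complex of flat modules, exact modulo a nilpotent ideal with flat cokernel modulo it, is exact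
with flat cokernel. -/
theorem exact_of_exact_mod_nilpotent (hI : IsNilpotent I) (K : ℕ → Type u) [∀ n, AddCommGroup (K n)]
    [∀ n, Module A (K n)] [∀ n, Module.Flat A (K n)] (d : ∀ n, K (n + 1) →ₗ[A] K n)
    (hd : ∀ n z, d n (d (n + 1) z) = 0)
    [Module.Flat (A ⧸ I) ((A ⧸ I) ⊗[A] (K 0 ⧸ LinearMap.range (d 0)))]
    (hmod : ∀ n z, d n z ∈ I • (⊤ : Submodule A (K n)) →
      ∃ w, z - d (n + 1) w ∈ I • (⊤ : Submodule A (K (n + 1)))) :
    (∀ n z, d n z = 0 → ∃ w, d (n + 1) w = z) ∧ Module.Flat A (K 0 ⧸ LinearMap.range (d 0)) := by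
  let g : ∀ n, (K (n + 1) ⧸ LinearMap.range (d (n + 1))) →ₗ[A] K n := fun n =>
    (LinearMap.range (d (n + 1))).liftQ (d n) (by rintro _ ⟨w, rfl⟩; exact LinearMap.mem_ker.2 (hd n w))
  have hg : ∀ n, Function.Injective ((g n).lTensor (A ⧸ I)) := by
    intro n
    rw [injective_iff_map_eq_zero]
    intro y hy
    obtain ⟨x, rfl⟩ := exists_one_tmul y
    obtain ⟨z, rfl⟩ := Submodule.mkQ_surjective _ x
    rw [LinearMap.lTensor_tmul, one_tmul_eq_zero] at hy
    obtain ⟨w, hw⟩ := hmod n z hy
    rw [one_tmul_eq_zero]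
    have h1 : Submodule.mkQ (LinearMap.range (d (n + 1))) z =
        Submodule.mkQ (LinearMap.range (d (n + 1))) (z - d (n + 1) w) := by
      rw [map_sub, show Submodule.mkQ (LinearMap.range (d (n + 1))) (d (n + 1) w) = 0 from (Submodule.Quotient.mk_eq_zero _).2 (LinearMap.mem_range_self _ w), sub_zero]
    rw [h1]
    have h2 := Submodule.mem_map_of_mem (f := Submodule.mkQ (LinearMap.range (d (n + 1)))) hw
    rw [Submodule.map_smul''] at h2
    exact Submodule.smul_mono le_rfl le_top h2
  have hex : ∀ n, Function.Exact (g n) (Submodule.mkQ (LinearMap.range (d n))) := fun n y => by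
    rw [Submodule.mkQ_apply, Submodule.Quotient.mk_eq_zero]
    constructor
    · rintro ⟨z, rfl⟩
      exact ⟨Submodule.mkQ _ z, rfl⟩
    · rintro ⟨x, rfl⟩
      obtain ⟨z, rfl⟩ := Submodule.mkQ_surjective _ x
      exact ⟨z, rfl⟩
  have main : ∀ n, Module.Flat A (K n ⧸ LinearMap.range (d n)) ∧ Function.Injective (g n) := by
    intro n
    induction n with
    | zero =>
      obtain ⟨h1, h2, -⟩ := flat_step hI (g 0) _ (hex 0) (Submodule.mkQ_surjective _) (hg 0)
      exact ⟨h1, h2⟩
    | succ n ih =>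
      haveI := ih.1
      obtain ⟨-, -, h3⟩ := flat_step hI (g n) _ (hex n) (Submodule.mkQ_surjective _) (hg n)
      haveI := h3
      obtain ⟨h1, h2, -⟩ := flat_step hI (g (n + 1)) _ (hex (n + 1)) (Submodule.mkQ_surjective _) (hg (n + 1))
      exact ⟨h1, h2⟩
  refine ⟨fun n z hz => ?_, (main 0).1⟩
  have : Submodule.mkQ (LinearMap.range (d (n + 1))) z = 0 := (main n).2 (by rw [map_zero]; exact hz)
  exact (Submodule.Quotient.mk_eq_zero _).1 this

end Groth.Agent.CI2
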