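import Groth.Agent.Lib.CAlgLow.FiniteRes
import Groth.Agent.Lib.FlatSyz.TorDim
import Mathlib.RingTheory.Length
import Mathlib.LinearAlgebra.TensorProduct.Pi

/-!
# The periodic resolution of the residue field of a node
-/

universe u

noncomputable section

open CategoryTheory CategoryTheory.Limits TensorProduct

namespace Groth.Agent.CI2.NodeRes

variable {R : Type u} [CommRing R] (a b : R)

/-- The ranks. -/
def rk : ℕ → ℕ
  | 0 => 1
  | _ + 1 => 2

/-- The differentials. -/
def diff : (n : ℕ) → (Fin (rk (n + 1)) → R) →ₗ[R] (Fin (rk n) → R)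
  | 0 => LinearMap.pi fun _ => a • LinearMap.proj (0 : Fin 2) + b • LinearMap.proj (1 : Fin 2)
  | n + 1 => LinearMap.pi fun i : Fin 2 =>
      (if (i = 0 ↔ Even n) then b else a) • LinearMap.proj i

variable {a b}

theorem diff_zero (v : Fin 2 → R) : diff a b 0 v = fun _ => a * v 0 + b * v 1 := by
  funext i; rfl

theorem diff_succ (n : ℕ) (v : Fin 2 → R) :
    diff a b (n + 1) v = fun i : Fin 2 => (if (i = 0 ↔ Even n) then b else a) * v i := by
  funext i; rfl

theorem exact_diff (hab : a * b = 0) (hanna : ∀ r, r * a = 0 → r ∈ Ideal.span {b})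
    (hannb : ∀ r, r * b = 0 → r ∈ Ideal.span {a})
    (hdis : ∀ r, r ∈ Ideal.span {a} → r ∈ Ideal.span {b} → r = 0) :
    ∀ n, Function.Exact (diff a b (n + 1)) (diff a b n) := by
  classical
  rintro (_ | n)
  · intro (v : Fin 2 → R)
    rw [diff_zero]
    constructor
    · intro h
      have h' : a * v 0 + b * v 1 = 0 := congrFun h (0 : Fin 1)
      have h0 : a * v 0 = 0 := hdis _ (Ideal.mem_span_singleton'.2 ⟨v 0, mul_comm _ _⟩)
        (by rw [eq_neg_of_add_eq_zero_left h']; exact neg_mem (Ideal.mem_span_singleton'.2 ⟨v 1, mul_comm _ _⟩))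
      have h1 : b * v 1 = 0 := by rwa [h0, zero_add] at h'
      obtain ⟨s, hs⟩ := Ideal.mem_span_singleton'.1 (hanna _ (by rwa [mul_comm]))
      obtain ⟨t, ht⟩ := Ideal.mem_span_singleton'.1 (hannb _ (by rwa [mul_comm] : v 1 * b = 0))
      refine ⟨(![s, t] : Fin 2 → R), ?_⟩
      rw [diff_succ]
      funext i
      fin_cases i <;> simp [← hs, ← ht, mul_comm]
    · rintro ⟨w, rfl⟩
      funext i
      rw [diff_succ]
      simp only [Nat.even_iff, Pi.zero_apply]
      simp
      linear_combination (w (0 : Fin 2) + w (1 : Fin 2)) * hab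
  · intro (v : Fin 2 → R)
    rw [diff_succ]
    constructor
    · intro h
      have hi : ∀ i : Fin 2, ∃ s, (if (i = 0 ↔ Even (n + 1)) then b else a) * s = v i := by
        intro i
        have h' := congrFun h i
        by_cases hp : (i = 0 ↔ Even n)
        · rw [if_pos hp] at h'
          rw [if_neg (by rw [Nat.even_add_one]; tauto)]
          obtain ⟨s, hs⟩ := Ideal.mem_span_singleton'.1 (hannb _ (by rw [mul_comm]; exact h'))
          exact ⟨s, by rw [mul_comm]; exact hs⟩
        · rw [if_neg hp] at h'
          rw [if_pos (by rw [Nat.even_add_one]; tauto)]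
          obtain ⟨s, hs⟩ := Ideal.mem_span_singleton'.1 (hanna _ (by rw [mul_comm]; exact h'))
          exact ⟨s, by rw [mul_comm]; exact hs⟩
      choose s hs using hi
      exact ⟨s, by rw [diff_succ]; exact funext hs⟩
    · rintro ⟨w, rfl⟩
      funext i
      rw [diff_succ]
      show _ * (_ * w i) = 0
      by_cases hp : (i = 0 ↔ Even n)
      · rw [if_pos hp, if_neg (by rw [Nat.even_add_one]; tauto)]
        linear_combination w i * hab
      · rw [if_neg hp, if_pos (by rw [Nat.even_add_one]; tauto)]
        linear_combination w i * hab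

variable (a b) in
/-- The complex. -/
def complex (h : ∀ n, Function.Exact (diff a b (n + 1)) (diff a b n)) : ChainComplex (ModuleCat.{u} R) ℕ :=
  ChainComplex.of (fun k => ModuleCat.of R (Fin (rk k) → R)) (fun k => ModuleCat.ofHom (diff a b k))
    (fun k => ModuleCat.hom_ext (h k).linearMap_comp_eq_zero)

theorem complex_d (h : ∀ n, Function.Exact (diff a b (n + 1)) (diff a b n)) (k : ℕ) :
    (complex a b h).d (k + 1) k = ModuleCat.ofHom (diff a b k) :=
  (ChainComplex.of_d (fun k => ModuleCat.of R (Fin (rk k) → R)) (fun k => ModuleCat.ofHom (diff a b k)) k :)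

/-- The periodic resolution. -/
def projRes (h : ∀ n, Function.Exact (diff a b (n + 1)) (diff a b n)) (I : Ideal R) (hI : I = Ideal.span {a, b}) :
    ProjectiveResolution (ModuleCat.of R (R ⧸ I)) :=
  let π : (Fin (rk 0) → R) →ₗ[R] R ⧸ I := I.mkQ ∘ₗ LinearMap.proj (0 : Fin 1)
  have hπd : Function.Exact (diff a b 0) π := by
    intro (v : Fin 1 → R)
    show Submodule.Quotient.mk (v 0) = (0 : R ⧸ I) ↔ _
    rw [Submodule.Quotient.mk_eq_zero, hI, Ideal.mem_span_pair]
    constructor
    · rintro ⟨s, t, hst⟩
      refine ⟨(![s, t] : Fin 2 → R), ?_⟩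
      rw [diff_zero]
      funext i
      have hi : i = (0 : Fin 1) := Subsingleton.elim (α := Fin 1) _ _
      rw [hi, ← hst]
      simp [mul_comm]
    · rintro ⟨w, hw⟩
      exact ⟨w (0 : Fin 2), w (1 : Fin 2), by rw [← hw, diff_zero]; ring⟩
  { complex := complex a b h
    projective := fun i => (IsProjective.iff_projective (R := R) (Fin (rk i) → R)).1 inferInstance
    π := ((complex a b h).toSingle₀Equiv _).symm ⟨ModuleCat.ofHom π, by
      rw [complex_d]; exact ModuleCat.hom_ext hπd.linearMap_comp_eq_zero⟩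
    quasiIso := by
      rw [quasiIso_iff]
      intro i
      cases i with
      | zero =>
        rw [quasiIsoAt_iff_isIso_homologyMap, ConcreteCategory.isIso_iff_bijective]
        refine DMod.homologyMap_bijective_of _ (ChainComplex.prev ℕ 0) ChainComplex.next_nat_zero ?_ ?_
        · intro x _
          obtain ⟨r, hr⟩ := I.mkQ_surjective x
          refine ⟨fun _ => r, 0, by simp, ?_⟩
          rw [ChainComplex.toSingle₀Equiv_symm_apply_f_zero, map_zero, add_zero]
          exact hr
        · intro w y _ hy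
          rw [ChainComplex.toSingle₀Equiv_symm_apply_f_zero] at hy
          have hw : π w = 0 := by
            refine hy.symm.trans ?_
            simp only [HomologicalComplex.single_obj_d]
            rfl
          obtain ⟨v, hv⟩ := (hπd w).1 hw
          exact ⟨v, by rw [complex_d]; exact hv⟩
      | succ i =>
        rw [quasiIsoAt_iff_exactAt' _ _ (ChainComplex.exactAt_succ_single_obj ..), DMod.exactAt_iff_subsingleton,
          DMod.subsingleton_homology_iff (i := i + 2) (k := i) _ (ChainComplex.prev ℕ (i + 1)) (ChainComplex.next_nat_succ i)]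
        intro x hx
        rw [complex_d] at hx
        obtain ⟨v, hv⟩ := (h i x).1 hx
        exact ⟨v, by rw [complex_d]; exact hv⟩ }

theorem mem_diff (n : ℕ) (v : Fin (rk (n + 1)) → R) (i : Fin (rk n)) :
    diff a b n v i ∈ Ideal.span ({a, b} : Set R) := by
  cases n with
  | zero =>
    rw [diff_zero]
    exact Ideal.mem_span_pair.2 ⟨v (0 : Fin 2), v (1 : Fin 2), by ring⟩
  | succ n =>
    rw [diff_succ]
    refine Ideal.mul_mem_right _ _ ?_
    split_ifs
    · exact Ideal.subset_span (by simp)
    · exact Ideal.subset_span (by simp)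

/-- The differentials vanish after tensoring with the residue field. -/
theorem lTensor_diff (n : ℕ) : LinearMap.lTensor (R ⧸ Ideal.span ({a, b} : Set R)) (diff a b n) = 0 := by
  refine TensorProduct.ext' fun m v => ?_
  rw [LinearMap.lTensor_tmul, pi_eq_sum_univ (diff a b n v), TensorProduct.tmul_sum, LinearMap.zero_apply]
  refine Finset.sum_eq_zero fun i _ => ?_
  have : diff a b n v i • m = 0 := by
    obtain ⟨r, rfl⟩ := Submodule.Quotient.mk_surjective _ m
    rw [← Submodule.Quotient.mk_smul, Submodule.Quotient.mk_eq_zero]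
    exact Ideal.mul_mem_right _ _ (mem_diff n v i)
  rw [← TensorProduct.smul_tmul, this, TensorProduct.zero_tmul]

theorem tor_iso (h : ∀ n, Function.Exact (diff a b (n + 1)) (diff a b n)) (i : ℕ) :
    Nonempty ((((Tor (ModuleCat.{u} R) (i + 1)).obj (ModuleCat.of R (R ⧸ Ideal.span ({a, b} : Set R)))).obj
      (ModuleCat.of R (R ⧸ Ideal.span ({a, b} : Set R))) : Type u) ≃ₗ[R]
        (R ⧸ Ideal.span ({a, b} : Set R)) ⊗[R] (Fin 2 → R)) := by
  let K := R ⧸ Ideal.span ({a, b} : Set R)
  let P := projRes h (Ideal.span ({a, b} : Set R)) rfl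
  let F := MonoidalCategory.tensorLeft (ModuleCat.of R K)
  let C := (F.mapHomologicalComplex (ComplexShape.down ℕ)).obj P.complex
  have hd : ∀ p q, C.d p q = 0 := by
    intro p q
    by_cases hpq : (ComplexShape.down ℕ).Rel p q
    · obtain rfl : q + 1 = p := hpq
      show F.map ((complex a b h).d (q + 1) q) = 0
      rw [complex_d]
      exact ModuleCat.hom_ext (lTensor_diff q)
    · exact C.shape p q hpq
  let D := ShortComplex.HomologyData.ofZeros (C.sc (i + 1)) (hd _ _) (hd _ _)
  exact ⟨((P.isoLeftDerivedObj F (i + 1)).trans D.left.homologyIso).toLinearEquiv⟩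

theorem length_tensor (hmax : (Ideal.span ({a, b} : Set R)).IsMaximal) :
    Module.length R ((R ⧸ Ideal.span ({a, b} : Set R)) ⊗[R] (Fin 2 → R)) = 2 := by
  rw [(TensorProduct.piScalarRight R R (R ⧸ Ideal.span ({a, b} : Set R)) (Fin 2)).length_eq]
  haveI : IsSimpleModule R (R ⧸ Ideal.span ({a, b} : Set R)) :=
    isSimpleModule_iff_isCoatom.2 (Ideal.isMaximal_def.1 hmax)
  rw [Module.length_pi_of_fintype, Fin.sum_univ_two, Module.length_eq_one]
  rfl

end Groth.Agent.CI2.NodeRes
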