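import Groth.Agent.Lib.TensorFreeH28.Basic
import Mathlib

/-!
# Modules of positive depth over planar curve singularities: matrix presentations
-/

set_option autoImplicit false
set_option linter.style.haveILetI false
universe u
open CategoryTheory IsLocalRing
open scoped TensorProduct

namespace Groth.Agent.CI2.Planar

/-- The kernel of a free cover of a module of positive depth over a regular local ring of dimension two is free. -/
theorem free_ker {S : Type u} [CommRing S] [IsRegularLocalRing S] (hS : ringKrullDim S = 2)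
    {M : Type u} [AddCommGroup M] [Module S M] {n : ℕ} (p : (Fin n → S) →ₗ[S] M)
    (t : S) (ht : t ∈ maximalIdeal S) (htM : IsSMulRegular M t) : Module.Free S (LinearMap.ker p) := by
  haveI := Groth.Agent.RegLoc.isDomain S
  have hd : (maximalIdeal S).spanFinrank = 2 := by
    have := (isRegularLocalRing_iff S).1 inferInstance
    rw [hS] at this
    exact_mod_cast this
  obtain ⟨x, hx⟩ := Groth.Agent.RegLoc.exists_fin_generators S
  have hreg := Groth.Agent.RegLoc.isRegular_of_span_range _ S x hx rfl
  have key : ∀ a b : S, Ideal.span {a, b} = maximalIdeal S → RingTheory.Sequence.IsWeaklyRegular S [a, b] →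
      Module.Free S (LinearMap.ker p) := by
    intro a b hab hw
    refine Groth.Agent.TensorFreeH28.free_of_isWeaklyRegular 2 S [a, b] rfl ?_ _ ?_
    · rw [← hab, Ideal.ofList_cons, Ideal.ofList_singleton, Ideal.span_insert]
    · obtain ⟨ha, hb⟩ := (RingTheory.Sequence.isWeaklyRegular_cons_iff S a [b]).1 hw
      obtain ⟨hb, -⟩ := (RingTheory.Sequence.isWeaklyRegular_cons_iff _ b []).1 hb
      rw [RingTheory.Sequence.isWeaklyRegular_cons_iff, RingTheory.Sequence.isWeaklyRegular_cons_iff]
      refine ⟨fun u v huv => Subtype.ext (funext fun i => ha (congrFun (congrArg Subtype.val huv) i)), ?_,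
        RingTheory.Sequence.IsWeaklyRegular.nil _ _⟩
      refine IsSMulRegular.of_right_eq_zero_of_smul fun z hz => ?_
      obtain ⟨v, rfl⟩ := Submodule.Quotient.mk_surjective _ z
      rw [← Submodule.Quotient.mk_smul, Submodule.Quotient.mk_eq_zero, Submodule.mem_smul_pointwise_iff_exists] at hz
      obtain ⟨w, -, hw⟩ := hz
      have hcomp : ∀ i, ∃ u : S, v.1 i = a * u := by
        intro i
        have h1 : b • (Submodule.Quotient.mk (v.1 i) : QuotSMulTop a S) = 0 := by
          rw [← Submodule.Quotient.mk_smul, Submodule.Quotient.mk_eq_zero, Submodule.mem_smul_pointwise_iff_exists]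
          exact ⟨w.1 i, trivial, congrFun (congrArg Subtype.val hw) i⟩
        have h2 := hb.right_eq_zero_of_smul h1
        rw [Submodule.Quotient.mk_eq_zero, Submodule.mem_smul_pointwise_iff_exists] at h2
        obtain ⟨u, -, hu⟩ := h2
        exact ⟨u, hu.symm⟩
      choose u hu using hcomp
      have hv : v.1 = a • u := funext hu
      have hwb : w.1 = b • u := funext fun i => ha (by
        have := congrFun (congrArg Subtype.val hw) i
        simp only [Submodule.coe_smul, Pi.smul_apply, smul_eq_mul] at this ⊢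
        rw [this, hu i]; ring)
      have h1 : a • p u = 0 := by rw [← map_smul, ← hv]; exact v.2
      have h2 : b • p u = 0 := by rw [← map_smul, ← hwb]; exact w.2
      have hu0 : u ∈ LinearMap.ker p := by
        rw [← hab] at ht
        obtain ⟨c, d, hcd⟩ := Ideal.mem_span_pair.1 ht
        rw [LinearMap.mem_ker]
        refine htM.right_eq_zero_of_smul ?_
        rw [← hcd, add_smul, mul_smul, mul_smul, h1, h2, smul_zero, smul_zero, add_zero]
      rw [Submodule.Quotient.mk_eq_zero, Submodule.mem_smul_pointwise_iff_exists]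
      exact ⟨⟨u, hu0⟩, trivial, Subtype.ext hv.symm⟩
  revert x
  rw [hd]
  intro x hx hreg
  refine key (x 0) (x 1) ?_ (by simpa using hreg.toIsWeaklyRegular)
  rw [← hx]
  congr 1
  ext y
  simp [Set.mem_range, Fin.exists_fin_two, eq_comm]

/-- A matrix presentation of a module of positive depth over a planar curve singularity. -/
theorem presentation {S : Type u} [CommRing S] [IsRegularLocalRing S] (hS : ringKrullDim S = 2)
    {R : Type u} [CommRing R] [IsLocalRing R] (π : S →+* R) (hπ : Function.Surjective π)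
    {M : Type u} [AddCommGroup M] [Module R M] [Module.Finite R M]
    (x : R) (hx : x ∈ maximalIdeal R) (hxM : IsSMulRegular M x) :
    ∃ (n m : ℕ) (p : (Fin n → R) →ₗ[R] M) (q : (Fin m → R) →ₗ[R] (Fin n → R)), Function.Surjective p ∧
      Function.Exact q p ∧
      ∀ i ∈ Module.annihilator R M, ∃ χ : (Fin n → R) →ₗ[R] (Fin m → R), ∀ v, χ (q v) = i • v := by
  haveI := Groth.Agent.RegLoc.isDomain S
  letI : Module S M := Module.compHom M π
  obtain ⟨n, p, hp⟩ := Module.Finite.exists_fin' R M
  let pS : (Fin n → S) →ₗ[S] M :=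
    { toFun := fun v => p (π ∘ v)
      map_add' := fun a b => by
        rw [← map_add]; congr 1; ext i; simp
      map_smul' := fun s a => by
        show p (π ∘ (s • a)) = π s • p (π ∘ a)
        rw [← map_smul]; congr 1; ext i; simp }
  obtain ⟨t, rfl⟩ := hπ x
  haveI : IsLocalHom π := IsLocalHom.of_surjective π hπ
  haveI := free_ker hS pS t (fun h => hx (h.map π)) (fun a b h => hxM h)
  haveI : Module.Finite S (LinearMap.ker pS) := Module.IsNoetherian.finite _ _
  let B := Module.finBasis S (LinearMap.ker pS)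
  let Φ : Matrix (Fin n) (Fin (Module.finrank S (LinearMap.ker pS))) S := fun i j => (B j).1 i
  have hΦ : ∀ u, Φ.mulVec u = (B.equivFun.symm u).1 := fun u => by
    rw [Module.Basis.equivFun_symm_apply]
    ext i
    simp [Φ, Matrix.mulVec, dotProduct, mul_comm]
  have hΦinj : Function.Injective Φ.mulVec := fun u u' h => by
    rw [hΦ, hΦ] at h
    exact B.equivFun.symm.injective (Subtype.ext h)
  refine ⟨n, _, p, (Φ.map π).mulVecLin, hp, ?_, ?_⟩
  · intro v
    constructor
    · intro hv
      obtain ⟨w, rfl⟩ : ∃ w : Fin n → S, π ∘ w = v :=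
        ⟨fun i => (hπ (v i)).choose, funext fun i => (hπ (v i)).choose_spec⟩
      refine ⟨π ∘ B.equivFun ⟨w, hv⟩, ?_⟩
      funext i
      rw [Matrix.mulVecLin_apply, ← RingHom.map_mulVec, hΦ, LinearEquiv.symm_apply_apply]
      rfl
    · rintro ⟨v, rfl⟩
      obtain ⟨u, rfl⟩ : ∃ u : Fin _ → S, π ∘ u = v :=
        ⟨fun i => (hπ (v i)).choose, funext fun i => (hπ (v i)).choose_spec⟩
      have h1 : (Φ.map π).mulVecLin (π ∘ u) = π ∘ (B.equivFun.symm u).1 := by
        funext i
        rw [Matrix.mulVecLin_apply, ← RingHom.map_mulVec, hΦ]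
        rfl
      rw [h1]
      exact (B.equivFun.symm u).2
  · intro i hi
    obtain ⟨s, rfl⟩ := hπ i
    have hmem : ∀ w : Fin n → S, s • w ∈ LinearMap.ker pS := fun w =>
      (map_smul pS s w).trans (Module.mem_annihilator.1 hi _)
    let χ : (Fin n → S) →ₗ[S] (Fin _ → S) :=
      B.equivFun.toLinearMap ∘ₗ LinearMap.codRestrict (LinearMap.ker pS) (s • LinearMap.id) hmem
    have hχ : ∀ u, χ (Φ.mulVec u) = s • u := fun u => hΦinj (by
      show Φ.mulVec (B.equivFun _) = Φ.mulVec (s • u)
      rw [hΦ, LinearEquiv.symm_apply_apply, Matrix.mulVec_smul]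
      rfl)
    refine ⟨((LinearMap.toMatrix' χ).map π).mulVecLin, fun v => ?_⟩
    obtain ⟨u, rfl⟩ : ∃ u : Fin _ → S, π ∘ u = v :=
      ⟨fun i => (hπ (v i)).choose, funext fun i => (hπ (v i)).choose_spec⟩
    funext j
    have e1 : (Φ.map π).mulVecLin (π ∘ u) = π ∘ Φ.mulVec u := funext fun i => (RingHom.map_mulVec π Φ u i).symm
    rw [e1, Matrix.mulVecLin_apply, ← RingHom.map_mulVec, LinearMap.toMatrix'_mulVec, hχ]
    simp

variable {R : Type u} [CommRing R] [IsLocalRing R]

/-- A power of an element of the maximal ideal is the sum of elements of the two annihilators. -/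
theorem exists_decomp (I J : Ideal R) (k : ℕ) (hIJ : maximalIdeal R ^ k ≤ I ⊔ J) {y : R}
    (hy : y ∈ maximalIdeal R) : ∃ i ∈ I, ∃ j ∈ J, i + j = y ^ k :=
  Submodule.mem_sup.1 (hIJ (Ideal.pow_mem_pow hy k))

end Groth.Agent.CI2.Planar
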