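import Groth.Agent.Lib.CI2.Field
import Groth.Agent.Lib.FlatH4.SliceFlat
import Groth.Prelude.Def_RegImm
import Mathlib

/-!
Local structure of relative complete intersections: flatness and regularity of the defining equations.
-/

set_option autoImplicit false
set_option linter.style.haveILetI false
universe u

open RingTheory.Sequence TensorProduct MvPolynomial

namespace Groth.Agent.CI2

section Quot

variable {P L : Type u} [CommRing P] [CommRing L] [Algebra P L]

/-- The localisation map of a quotient ring. -/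
noncomputable def quotLoc (I : Ideal P) : (P ⧸ I) →ₗ[P] L ⧸ I.map (algebraMap P L) :=
  Submodule.liftQ I ((Ideal.Quotient.mkₐ P (I.map (algebraMap P L))).toLinearMap ∘ₗ Algebra.linearMap P L)
    (fun _ ha => Ideal.Quotient.eq_zero_iff_mem.mpr (Ideal.mem_map_of_mem _ ha))

theorem isLocalizedModule_quotLoc (S : Submonoid P) [IsLocalization S L] (I : Ideal P) :
    IsLocalizedModule S (quotLoc (L := L) I) := by
  let e : (L ⧸ Submodule.localized' L S (Algebra.linearMap P L) I) ≃ₗ[P] L ⧸ I.map (algebraMap P L) :=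
    (Submodule.quotEquivOfEq _ _ (Ideal.localized'_eq_map L S I)).restrictScalars P
  rw [show quotLoc (L := L) I = e.toLinearMap ∘ₗ I.toLocalizedQuotient' L S (Algebra.linearMap P L) from
    Submodule.linearMap_qext _ (LinearMap.ext fun _ => rfl)]
  exact IsLocalizedModule.of_linearEquiv S _ e

end Quot

section Slice

variable {A C : Type u} [CommRing A] [CommRing C] [Algebra A C]

theorem flat_localized_of_flat (q : Ideal C) [q.IsPrime] [Module.Flat A C] :
    Module.Flat A (LocalizedModule q.primeCompl C) :=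
  (FlatH4.flat_localized_iff q).mpr fun J x hx =>
    ⟨1, one_mem _, by rw [one_smul]; exact Module.Flat.lTensor_preserves_injective_linearMap J.subtype J.injective_subtype (hx.trans (map_zero _).symm)⟩

theorem slice_step [Algebra.FinitePresentation A C] (q : Ideal C) [q.IsPrime] (h : C) (hh : h ∈ q)
    [Module.Flat A (LocalizedModule q.primeCompl C)]
    (hreg : ∀ c : C, ∀ t ∉ q, t * h * c ∈ (q.comap (algebraMap A C)).map (algebraMap A C) →
      ∃ s ∉ q, s * c ∈ (q.comap (algebraMap A C)).map (algebraMap A C)) :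
    (∀ c : C, h * c = 0 → ∃ s ∉ q, s * c = 0) ∧
      ∀ (J : Ideal A) (x : (C ⧸ Ideal.span {h}) ⊗[A] J), J.subtype.lTensor (C ⧸ Ideal.span {h}) x = 0 →
        ∃ s ∉ q, s • x = 0 := by
  obtain ⟨f, hf, H⟩ := FlatH4.exists_slice q h hh hreg
  let L := Localization.Away f
  obtain ⟨hnzd, hflat⟩ := H L
  refine ⟨fun c hc => ?_, fun J x hx => ?_⟩
  · have hc' : algebraMap C L c = 0 := by
      refine (mem_nonZeroDivisors_iff_right.mp hnzd) _ ?_
      rw [← map_mul, mul_comm, hc, map_zero]
    obtain ⟨⟨_, n, rfl⟩, hn⟩ := (IsLocalization.map_eq_zero_iff (Submonoid.powers f) L c).mp hc'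
    exact ⟨f ^ n, fun hm => hf (Ideal.IsPrime.mem_of_pow_mem inferInstance n hm), hn⟩
  · let K := Ideal.span {h}
    let L' := L ⧸ K.map (algebraMap C L)
    let ρ : (C ⧸ K) →ₗ[C] L' := quotLoc K
    haveI : IsLocalizedModule (Submonoid.powers f) ρ := isLocalizedModule_quotLoc (Submonoid.powers f) K
    let g₁ := AlgebraTensorModule.rTensor A J ρ
    have h0 : g₁ x = 0 := by
      haveI : Module.Flat A L' := by
        haveI := hflat
        exact Module.Flat.of_linearEquiv ((Submodule.quotEquivOfEq (K.map (algebraMap C L)) (Ideal.span {algebraMap C L h})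
          (by simp only [K, Ideal.map_span, Set.image_singleton])).restrictScalars A)
      apply Module.Flat.lTensor_preserves_injective_linearMap J.subtype J.injective_subtype
      show J.subtype.lTensor _ ((ρ.restrictScalars A).rTensor J x) = J.subtype.lTensor _ 0
      rw [← LinearMap.comp_apply, LinearMap.lTensor_comp_rTensor, ← LinearMap.rTensor_comp_lTensor,
        LinearMap.comp_apply, hx, map_zero, map_zero]
    obtain ⟨⟨_, n, rfl⟩, ht⟩ := (IsLocalizedModule.eq_zero_iff (Submonoid.powers f) g₁).mp h0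
    exact ⟨f ^ n, fun hm => hf (Ideal.IsPrime.mem_of_pow_mem inferInstance n hm), ht⟩

end Slice

section Fibre

variable {R : Type u} [CommRing R] (p : Ideal R) [p.IsPrime] {n : ℕ}

/-- Reduction of polynomials to the residue field at `p`. -/
noncomputable abbrev red : MvPolynomial (Fin n) R →+* MvPolynomial (Fin n) p.ResidueField :=
  MvPolynomial.map (algebraMap R p.ResidueField)

theorem red_eq_zero {z : MvPolynomial (Fin n) R} (hz : red p z = 0) :
    z ∈ p.map (algebraMap R (MvPolynomial (Fin n) R)) := by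
  rw [algebraMap_eq, mem_map_C_iff]
  intro m
  have := congrArg (coeff m) hz
  rw [coeff_map, coeff_zero] at this
  exact Ideal.algebraMap_residueField_eq_zero.mp this

theorem exists_clear (z : MvPolynomial (Fin n) p.ResidueField) :
    ∃ a ∉ p, ∃ w : MvPolynomial (Fin n) R, red p w = algebraMap R p.ResidueField a • z := by
  induction z using MvPolynomial.induction_on' with
  | monomial m x =>
    obtain ⟨⟨y, ⟨s, hs⟩⟩, hys⟩ := IsLocalization.surj (nonZeroDivisors (R ⧸ p)) x
    obtain ⟨y, rfl⟩ := Ideal.Quotient.mk_surjective y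
    obtain ⟨s, rfl⟩ := Ideal.Quotient.mk_surjective s
    refine ⟨s, fun hsp => nonZeroDivisors.ne_zero hs (Ideal.Quotient.eq_zero_iff_mem.mpr hsp), monomial m y, ?_⟩
    rw [map_monomial, smul_monomial]
    congr 1
    rw [smul_eq_mul, mul_comm, IsScalarTower.algebraMap_apply R (R ⧸ p) p.ResidueField s,
      IsScalarTower.algebraMap_apply R (R ⧸ p) p.ResidueField y]
    exact hys.symm
  | add z₁ z₂ h₁ h₂ =>
    obtain ⟨a, ha, w, hw⟩ := h₁
    obtain ⟨b, hb, v, hv⟩ := h₂
    refine ⟨a * b, fun h => (Ideal.IsPrime.mem_or_mem ‹_› h).elim ha hb, C b * w + C a * v, ?_⟩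
    rw [map_add, map_mul, map_mul, map_C, map_C, hw, hv, smul_add, map_mul, mul_smul, mul_smul, smul_comm]
    simp only [smul_eq_C_mul]

theorem exists_clear_ideal (I : Ideal (MvPolynomial (Fin n) R)) {z : MvPolynomial (Fin n) p.ResidueField}
    (hz : z ∈ I.map (red p)) : ∃ a ∉ p, ∃ w ∈ I, red p w = algebraMap R p.ResidueField a • z := by
  induction hz using Submodule.span_induction with
  | mem z hz => obtain ⟨w, hw, rfl⟩ := hz; exact ⟨1, p.ne_top_iff_one.mp (Ideal.IsPrime.ne_top ‹_›), w, hw, by simp⟩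
  | zero => exact ⟨1, p.ne_top_iff_one.mp (Ideal.IsPrime.ne_top ‹_›), 0, I.zero_mem, by simp⟩
  | add x y _ _ hx hy =>
    obtain ⟨a, ha, w, hwI, hw⟩ := hx
    obtain ⟨b, hb, v, hvI, hv⟩ := hy
    refine ⟨a * b, fun h => (Ideal.IsPrime.mem_or_mem ‹_› h).elim ha hb, C b * w + C a * v,
      add_mem (I.mul_mem_left _ hwI) (I.mul_mem_left _ hvI), ?_⟩
    rw [map_add, map_mul, map_mul, map_C, map_C, hw, hv, smul_add, map_mul, mul_smul, mul_smul, smul_comm]
    simp only [smul_eq_C_mul]
  | smul c x _ hx =>
    obtain ⟨a, ha, w, hwI, hw⟩ := hx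
    obtain ⟨b, hb, v, hv⟩ := exists_clear p c
    refine ⟨a * b, fun h => (Ideal.IsPrime.mem_or_mem ‹_› h).elim ha hb, v * w, I.mul_mem_left _ hwI, ?_⟩
    rw [map_mul, hv, hw, map_mul, mul_smul, smul_eq_mul c, smul_mul_assoc, mul_smul_comm, smul_comm]

/-- The prime of the fibre over a prime of the polynomial ring. -/
theorem exists_fibre_prime (q' : Ideal (MvPolynomial (Fin n) R)) [q'.IsPrime] (hp : q'.comap (algebraMap R _) = p) :
    ∃ Q : Ideal (MvPolynomial (Fin n) p.ResidueField), Q.IsPrime ∧ Q.comap (red p) = q' := by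
  let χ : MvPolynomial (Fin n) p.ResidueField →+* q'.ResidueField :=
    eval₂Hom (Ideal.ResidueField.map p q' (algebraMap R _) hp.symm) (fun i => algebraMap (MvPolynomial (Fin n) R) q'.ResidueField (X i))
  have hχ : χ.comp (red p) = algebraMap (MvPolynomial (Fin n) R) q'.ResidueField := by
    refine MvPolynomial.ringHom_ext (fun r => ?_) fun i => ?_
    · simp [χ, Ideal.ResidueField.map_algebraMap, algebraMap_eq]
    · simp [χ]
  refine ⟨RingHom.ker χ, RingHom.ker_isPrime χ, ?_⟩
  ext z
  rw [Ideal.mem_comap, RingHom.mem_ker, ← RingHom.comp_apply, hχ, Ideal.algebraMap_residueField_eq_zero]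

/-- The fibre of a presented algebra. -/
noncomputable def fibreEquiv (I : Ideal (MvPolynomial (Fin n) R)) :
    p.Fiber (MvPolynomial (Fin n) R ⧸ I) ≃+* MvPolynomial (Fin n) p.ResidueField ⧸ I.map (red p) :=
  (Algebra.TensorProduct.tensorQuotientEquiv (R := R) p.ResidueField (MvPolynomial (Fin n) R) p.ResidueField I).toRingEquiv.trans
    (Ideal.quotientEquiv _ _ (algebraTensorAlgEquiv R p.ResidueField).toRingEquiv (by
      rw [← Ideal.map_coe Algebra.TensorProduct.includeRight, Ideal.map_map]
      congr 1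
      refine RingHom.ext fun z => ?_
      exact (algebraTensorAlgEquiv_tmul R p.ResidueField 1 z).trans (one_smul _ _) |>.symm))

end Fibre

section Local

variable {R : Type u} [CommRing R] {n : ℕ}

theorem mem_map_localization {P L : Type u} [CommRing P] [CommRing L] [Algebra P L] (S : Submonoid P)
    [IsLocalization S L] {I : Ideal P} {c : P} :
    algebraMap P L c ∈ I.map (algebraMap P L) ↔ ∃ s ∈ S, s * c ∈ I := by
  constructor
  · intro h
    obtain ⟨⟨⟨d, hd⟩, s⟩, e⟩ := (IsLocalization.mem_map_algebraMap_iff S L).mp h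
    rw [← map_mul, IsLocalization.eq_iff_exists S L] at e
    obtain ⟨t, ht⟩ := e
    exact ⟨t * s, mul_mem t.2 s.2, by rw [show (t : P) * s * c = t * (c * s) by ring, ht]; exact I.mul_mem_left _ hd⟩
  · rintro ⟨s, hs, hsc⟩
    have := Ideal.mem_map_of_mem (algebraMap P L) hsc
    rw [map_mul] at this
    exact (Ideal.unit_mul_mem_iff_mem _ (IsLocalization.map_units L ⟨s, hs⟩)).mp this

/-- Flatness and regularity at a prime at which the fibre is a complete intersection. -/
theorem rel_local (fs : List (MvPolynomial (Fin n) R)) (q' : Ideal (MvPolynomial (Fin n) R)) [q'.IsPrime]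
    (hq' : Ideal.ofList fs ≤ q') (hc : fs.length ≤ n)
    (hdim : ringKrullDim (MvPolynomial (Fin n) (q'.comap (algebraMap R _)).ResidueField ⧸
      Ideal.ofList (fs.map (red (q'.comap (algebraMap R _))))) ≤ ((n - fs.length : ℕ) : WithBot ℕ∞)) :
    ∀ i ≤ fs.length,
      (∀ j < i, ∀ (hj : j < fs.length), ∀ c, c * fs[j] ∈ Ideal.ofList (fs.take j) →
        ∃ s ∉ q', s * c ∈ Ideal.ofList (fs.take j)) ∧
      ∀ (J : Ideal R) (x : (MvPolynomial (Fin n) R ⧸ Ideal.ofList (fs.take i)) ⊗[R] J),
        J.subtype.lTensor _ x = 0 → ∃ s ∉ q', s • x = 0 := by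
  intro i
  induction i with
  | zero =>
    intro _
    refine ⟨fun j hj => absurd hj (Nat.not_lt_zero j), fun J x hx => ⟨1, (Ideal.ne_top_iff_one q').mp (Ideal.IsPrime.ne_top ‹_›), ?_⟩⟩
    haveI : Module.Flat R (MvPolynomial (Fin n) R ⧸ Ideal.ofList (fs.take 0)) := by
      rw [List.take_zero, Ideal.ofList_nil]
      exact Module.Flat.of_linearEquiv (AlgEquiv.quotientBot R (MvPolynomial (Fin n) R)).toLinearEquiv
    rw [one_smul]
    exact Module.Flat.lTensor_preserves_injective_linearMap J.subtype J.injective_subtype (hx.trans (map_zero _).symm)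
  | succ i ih =>
    intro hi
    obtain ⟨hreg0, hflat0⟩ := ih (by omega)
    let p := q'.comap (algebraMap R (MvPolynomial (Fin n) R))
    let I := Ideal.ofList (fs.take i)
    let C' := MvPolynomial (Fin n) R ⧸ I
    let mk := Ideal.Quotient.mk I
    have hIq : I ≤ q' := le_trans (Ideal.span_mono fun x hx => List.take_subset i fs hx) hq'
    let Q := q'.map mk
    haveI : Q.IsPrime := Ideal.map_isPrime_of_surjective Ideal.Quotient.mk_surjective (by rwa [Ideal.mk_ker])
    have hQ : Q.comap mk = q' := by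
      rw [Ideal.comap_map_of_surjective mk Ideal.Quotient.mk_surjective, ← RingHom.ker_eq_comap_bot, Ideal.mk_ker,
        sup_eq_left.mpr hIq]
    have hmemQ : ∀ z, mk z ∈ Q ↔ z ∈ q' := fun z => by rw [← Ideal.mem_comap, hQ]
    haveI : Algebra.FinitePresentation R C' := Algebra.FinitePresentation.quotient
      ⟨((fs.take i).finite_toSet).toFinset, by simp [I]⟩
    haveI : Module.Flat R (LocalizedModule Q.primeCompl C') := by
      refine (FlatH4.flat_localized_iff Q).mpr fun J x hx => ?_
      obtain ⟨s, hs, hsx⟩ := hflat0 J x hx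
      refine ⟨mk s, fun h => hs ((hmemQ s).mp h), ?_⟩
      rwa [show mk s = algebraMap (MvPolynomial (Fin n) R) C' s from rfl, algebraMap_smul]
    have hpC : Q.comap (algebraMap R C') = p := by
      rw [IsScalarTower.algebraMap_eq R (MvPolynomial (Fin n) R) C', ← Ideal.comap_comap, Ideal.Quotient.algebraMap_eq, hQ]
    have hfib : ∀ c, ∀ t ∉ q', t * fs[i] * c ∈ p.map (algebraMap R _) ⊔ I →
        ∃ s ∉ q', s * c ∈ p.map (algebraMap R _) ⊔ I := by
      intro c t ht hmem
      obtain ⟨Qk, hQk, hQkq⟩ := exists_fibre_prime p q' rfl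
      haveI := hQk
      have hImap : I.map (red p) = Ideal.ofList ((fs.map (red p)).take i) := by
        rw [Ideal.map_ofList, List.map_take]
      have hker : (p.map (algebraMap R (MvPolynomial (Fin n) R))).map (red p) = ⊥ := by
        rw [Ideal.map_map, Ideal.map_eq_bot_iff_le_ker]
        intro r hr
        rw [RingHom.mem_ker, RingHom.comp_apply, algebraMap_eq, map_C, Ideal.algebraMap_residueField_eq_zero.mpr hr, map_zero]
      have h1 : red p t * red p fs[i] * red p c ∈ I.map (red p) := by
        have := Ideal.mem_map_of_mem (red p) hmem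
        rwa [Ideal.map_sup, hker, bot_sup_eq, map_mul, map_mul] at this
      have hle : Ideal.ofList (fs.map (red p)) ≤ Qk := by
        rw [← Ideal.map_ofList, Ideal.map_le_iff_le_comap, hQkq]; exact hq'
      have hw := (EmbDef.isWeaklyRegular_self_iff _).mp
        (isWeaklyRegular_localization p.ResidueField (fs.map (red p)) (by simpa using hc) (by rw [List.length_map]; exact hdim) Qk hle)
        i (by simpa using Nat.lt_of_succ_le hi)
        (algebraMap _ (Localization.AtPrime Qk) (red p t * red p c))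
      rw [← List.map_take, ← Ideal.map_ofList, List.getElem_map, List.getElem_map, ← map_mul,
        mem_map_localization Qk.primeCompl, mem_map_localization Qk.primeCompl] at hw
      obtain ⟨s, hs, hsc⟩ := hw ⟨1, one_mem _, by
        rw [one_mul, ← hImap]; convert h1 using 1; ring⟩
      rw [← hImap, ← mul_assoc] at hsc
      obtain ⟨a, ha, w, hw⟩ := exists_clear p (s * red p t)
      obtain ⟨b, hb, v, hvI, hv⟩ := exists_clear_ideal p I hsc
      have hunit : ∀ r, r ∉ p → IsUnit (C (algebraMap R p.ResidueField r) : MvPolynomial (Fin n) p.ResidueField) :=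
        fun r hr => (IsUnit.mk0 _ fun h0 => hr (Ideal.algebraMap_residueField_eq_zero.mp h0)).map C
      refine ⟨C b * w, fun h => ?_, ?_⟩
      · rw [← hQkq, Ideal.mem_comap, map_mul, map_C, hw, smul_eq_C_mul] at h
        have h' := ((Ideal.unit_mul_mem_iff_mem _ (hunit a ha)).mp ((Ideal.unit_mul_mem_iff_mem _ (hunit b hb)).mp h))
        refine (Ideal.IsPrime.mem_or_mem hQk h').elim hs fun htQ => ht ?_
        rw [← hQkq]; exact htQ
      · have hz : red p (C b * w * c - C a * v) = 0 := by
          rw [map_sub, map_mul, map_mul, map_mul, map_C, map_C, hw, hv, smul_eq_C_mul, smul_eq_C_mul]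
          ring
        have := add_mem (Submodule.mem_sup_left (T := I) (red_eq_zero p hz))
          (Submodule.mem_sup_right (S := p.map (algebraMap R (MvPolynomial (Fin n) R))) (I.mul_mem_left (C a) hvI))
        rwa [sub_add_cancel] at this
    have hreg : ∀ c : C', ∀ t ∉ Q, t * mk fs[i] * c ∈ (Q.comap (algebraMap R C')).map (algebraMap R C') →
        ∃ s ∉ Q, s * c ∈ (Q.comap (algebraMap R C')).map (algebraMap R C') := by
      intro c t ht hmem
      obtain ⟨c, rfl⟩ := Ideal.Quotient.mk_surjective c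
      obtain ⟨t, rfl⟩ := Ideal.Quotient.mk_surjective t
      have hmapeq : (Q.comap (algebraMap R C')).map (algebraMap R C') = (p.map (algebraMap R _)).map mk := by
        rw [hpC, Ideal.map_map]; rfl
      rw [hmapeq, ← map_mul, ← map_mul, Ideal.mem_quotient_iff_mem_sup] at hmem
      obtain ⟨s, hs, hsc⟩ := hfib c t (fun h => ht ((hmemQ t).mpr h)) hmem
      refine ⟨mk s, fun h => hs ((hmemQ s).mp h), ?_⟩
      rwa [hmapeq, ← map_mul, Ideal.mem_quotient_iff_mem_sup]
    obtain ⟨h1, h2⟩ := slice_step Q (mk fs[i]) ((hmemQ _).mpr (hq' (Ideal.subset_span (List.getElem_mem _)))) hreg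
    constructor
    · intro j hj hjl c hc'
      rcases Nat.lt_succ_iff_lt_or_eq.mp hj with hlt | rfl
      · exact hreg0 j hlt hjl c hc'
      · obtain ⟨s, hs, hsc⟩ := h1 (mk c) (by rw [← map_mul, Ideal.Quotient.eq_zero_iff_mem, mul_comm]; exact hc')
        obtain ⟨s, rfl⟩ := Ideal.Quotient.mk_surjective s
        exact ⟨s, fun h => hs ((hmemQ s).mpr h), by rw [← Ideal.Quotient.eq_zero_iff_mem, map_mul]; exact hsc⟩
    · intro J x hx
      have hI' : Ideal.ofList (fs.take (i + 1)) = I ⊔ Ideal.span {fs[i]} := by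
        rw [← List.take_concat_get' fs i (by omega), Ideal.ofList_append, Ideal.ofList_singleton]
      have hK : Ideal.span {mk fs[i]} = (Ideal.span {fs[i]}).map mk := by rw [Ideal.map_span, Set.image_singleton]
      let e : (MvPolynomial (Fin n) R ⧸ Ideal.ofList (fs.take (i + 1))) ≃ₐ[MvPolynomial (Fin n) R] (C' ⧸ Ideal.span {mk fs[i]}) :=
        ((Ideal.quotientEquivAlgOfEq (MvPolynomial (Fin n) R) hI').trans (DoubleQuot.quotQuotEquivQuotSupₐ (MvPolynomial (Fin n) R) I (Ideal.span {fs[i]})).symm).trans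
          (Ideal.quotientEquivAlgOfEq (MvPolynomial (Fin n) R) hK.symm)
      let E := AlgebraTensorModule.rTensor R J e.toLinearMap
      have hEinj : Function.Injective E :=
        (AlgebraTensorModule.congr e.toLinearEquiv (LinearEquiv.refl R J)).injective
      obtain ⟨s, hs, hsx⟩ := h2 J (E x) (by
        show J.subtype.lTensor _ ((e.toLinearMap.restrictScalars R).rTensor J x) = 0
        rw [← LinearMap.comp_apply, LinearMap.lTensor_comp_rTensor, ← LinearMap.rTensor_comp_lTensor, LinearMap.comp_apply, hx, map_zero])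
      obtain ⟨s, rfl⟩ := Ideal.Quotient.mk_surjective s
      refine ⟨s, fun h => hs ((hmemQ s).mpr h), hEinj ?_⟩
      rw [map_smul, map_zero, ← hsx]
      exact (algebraMap_smul C' s (E x)).symm

variable (fs : List (MvPolynomial (Fin n) R)) (q' : Ideal (MvPolynomial (Fin n) R)) [q'.IsPrime]
    (hq' : Ideal.ofList fs ≤ q') (hc : fs.length ≤ n)
    (hdim : ringKrullDim (MvPolynomial (Fin n) (q'.comap (algebraMap R _)).ResidueField ⧸
      Ideal.ofList (fs.map (red (q'.comap (algebraMap R _))))) ≤ ((n - fs.length : ℕ) : WithBot ℕ∞))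

include hq' hc hdim in
/-- The equations form a regular sequence at the prime. -/
theorem rel_isWeaklyRegular : IsWeaklyRegular (Localization.AtPrime q') (fs.map (algebraMap _ (Localization.AtPrime q'))) := by
  rw [EmbDef.isWeaklyRegular_self_iff]
  intro j hj a ha
  rw [List.length_map] at hj
  rw [← List.map_take, ← Ideal.map_ofList] at ha ⊢
  rw [List.getElem_map] at ha
  obtain ⟨⟨b, t⟩, hbt⟩ := IsLocalization.surj q'.primeCompl a
  have hmem := Ideal.mul_mem_right (algebraMap _ (Localization.AtPrime q') (t : MvPolynomial (Fin n) R)) _ ha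
  rw [mul_right_comm, hbt, ← map_mul, mem_map_localization q'.primeCompl] at hmem
  obtain ⟨s, hs, hs'⟩ := hmem
  obtain ⟨u, hu, hu'⟩ := (rel_local fs q' hq' hc hdim fs.length le_rfl).1 j hj hj (s * b) (by rwa [mul_assoc])
  rw [← Ideal.unit_mul_mem_iff_mem _ (IsLocalization.map_units (Localization.AtPrime q') t), mul_comm, hbt,
    mem_map_localization q'.primeCompl]
  exact ⟨u * s, fun h => (Ideal.IsPrime.mem_or_mem ‹q'.IsPrime› h).elim hu hs, by rwa [mul_assoc]⟩

include hq' hc hdim in
/-- The successive quotients are flat at the prime. -/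
theorem rel_flat (i : ℕ) (hi : i ≤ fs.length) :
    Module.Flat R (Localization.AtPrime q' ⧸ (Ideal.ofList (fs.take i)).map (algebraMap _ (Localization.AtPrime q'))) := by
  let P := MvPolynomial (Fin n) R
  let L := Localization.AtPrime q'
  let I := Ideal.ofList (fs.take i)
  haveI : Module.Flat R (LocalizedModule q'.primeCompl (P ⧸ I)) :=
    (FlatH4.flat_localized_iff q').mpr fun J x hx =>
      let ⟨s, hs, h⟩ := (rel_local fs q' hq' hc hdim i hi).2 J x hx
      ⟨s, hs, h⟩
  let ρ : (P ⧸ I) →ₗ[P] L ⧸ I.map (algebraMap P L) := quotLoc I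
  haveI : IsLocalizedModule q'.primeCompl ρ := isLocalizedModule_quotLoc q'.primeCompl I
  exact Module.Flat.of_linearEquiv ((IsLocalizedModule.iso q'.primeCompl ρ).symm.restrictScalars R)

end Local

end Groth.Agent.CI2
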