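import Mathlib
import Groth.Prelude.Def_W4bk4bump814p2PDiff

/-!
# The filtration by power differentials
-/

set_option autoImplicit false
set_option linter.style.haveILetI false

universe u v

open MvPolynomial W4bk4bump814p2 Finset

namespace Groth.Agent.CI2.SigmaFil

variable (K : Type u) (A : Type v) [CommRing K] [CommRing A] [Algebra K A] (p : ℕ)

theorem D_aeval {σ : Type*} [Fintype σ] (v : σ → A) (f : MvPolynomial σ ℤ) :
    KaehlerDifferential.D K A (aeval v f) = ∑ k, aeval v (pderiv k f) • KaehlerDifferential.D K A (v k) := by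
  classical
  induction f using MvPolynomial.induction_on with
  | C a => simp
  | add a b ha hb => simp [ha, hb, add_smul, Finset.sum_add_distrib]
  | mul_X f i hf =>
    rw [map_mul, aeval_X, Derivation.leibniz, hf]
    simp only [Derivation.leibniz, pderiv_X, smul_eq_mul, map_add, map_mul, aeval_X, add_smul,
      Finset.sum_add_distrib, Finset.smul_sum, smul_smul]
    congr 1
    rw [Finset.sum_eq_single i]
    · simp
    · intro b _ hb; simp [Ne.symm hb]
    · simp

/-- Witt addition coefficients in the universal ring. -/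
noncomputable def S [Fact p.Prime] : WittVector p (MvPolynomial (Fin 2) ℤ) :=
  WittVector.teichmuller p (X 0) + WittVector.teichmuller p (X 1)

theorem ghost_S [Fact p.Prime] (i : ℕ) :
    ∑ j ∈ range (i + 1), (p : MvPolynomial (Fin 2) ℤ) ^ j * (S p).coeff j ^ p ^ (i - j) =
      X 0 ^ p ^ i + X 1 ^ p ^ i := by
  have h : WittVector.ghostComponent i (S p) = X 0 ^ p ^ i + X 1 ^ p ^ i := by
    rw [S, map_add, WittVector.ghostComponent_teichmuller, WittVector.ghostComponent_teichmuller]
  rw [← h, WittVector.ghostComponent_apply, wittPolynomial_eq_sum_C_mul_X_pow, map_sum]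
  refine Finset.sum_congr rfl fun j _ => ?_
  simp [MvPolynomial.aeval_X]

theorem pderiv_identity [Fact p.Prime] (i : ℕ) (k : Fin 2) :
    ∑ j ∈ range (i + 1), (S p).coeff j ^ (p ^ (i - j) - 1) * pderiv k ((S p).coeff j) =
      (X 0 ^ (p ^ i - 1) * pderiv k (X 0) + X 1 ^ (p ^ i - 1) * pderiv k (X 1) : MvPolynomial (Fin 2) ℤ) := by
  have h0 : ((p : MvPolynomial (Fin 2) ℤ) ^ i) ≠ 0 := pow_ne_zero _ (Nat.cast_ne_zero.2 (Fact.out : p.Prime).pos.ne')
  apply mul_left_cancel₀ h0
  have h := congrArg (pderiv k) (ghost_S p i)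
  simp only [map_sum, map_add, Derivation.leibniz_pow, Derivation.leibniz, smul_eq_mul, nsmul_eq_mul,
    Derivation.map_natCast, mul_zero, add_zero, Nat.cast_pow] at h
  rw [mul_sum, mul_add, ← mul_assoc ((p : MvPolynomial (Fin 2) ℤ) ^ i) (X 0 ^ (p ^ i - 1)),
    ← mul_assoc ((p : MvPolynomial (Fin 2) ℤ) ^ i) (X 1 ^ (p ^ i - 1))]
  refine Eq.trans (Finset.sum_congr rfl fun j hj => ?_) (h.trans ?_)
  · have hji : j ≤ i := Nat.lt_succ_iff.1 (mem_range.1 hj)
    conv_lhs => rw [show i = j + (i - j) by omega, pow_add]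
    rw [show j + (i - j) - j = i - j by omega]
    ring
  · ring

theorem delta_add [Fact p.Prime] (i : ℕ) (x y : A) :
    delta K A p i x + delta K A p i y =
      delta K A p i (x + y) +
        ∑ j ∈ range i, delta K A p (i - (j + 1)) (aeval ![x, y] ((S p).coeff (j + 1))) := by
  have h2 : ∀ k, ∑ j ∈ range (i + 1),
      aeval ![x, y] ((S p).coeff j) ^ (p ^ (i - j) - 1) * aeval ![x, y] (pderiv k ((S p).coeff j)) =
      x ^ (p ^ i - 1) * aeval ![x, y] (pderiv k (X 0 : MvPolynomial (Fin 2) ℤ)) +
        y ^ (p ^ i - 1) * aeval ![x, y] (pderiv k (X 1 : MvPolynomial (Fin 2) ℤ)) := fun k => by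
    have := congrArg (aeval ![x, y]) (pderiv_identity p i k)
    simpa using this
  have h3 : ∑ j ∈ range (i + 1), delta K A p (i - j) (aeval ![x, y] ((S p).coeff j)) =
      delta K A p i x + delta K A p i y := by
    simp only [delta, D_aeval, Finset.smul_sum, smul_smul]
    rw [Finset.sum_comm, Fin.sum_univ_two, ← Finset.sum_smul, ← Finset.sum_smul, h2, h2]
    simp [pderiv_X]
  rw [← h3, Finset.sum_range_succ' , add_comm]
  congr 1
  simp [S, WittVector.add_coeff_zero, WittVector.teichmuller_coeff_zero]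

theorem delta_zero_arg (i : ℕ) : delta K A p i 0 = 0 := by
  simp [delta]

/-- The subgroup generated by the images of the lower power differentials. -/
noncomputable def G (i : ℕ) : AddSubgroup (Ω[A⁄K]) :=
  AddSubgroup.closure (⋃ j ∈ Finset.range i, Set.range (delta K A p j))

theorem delta_mem {i j : ℕ} (h : j < i) (x : A) : delta K A p j x ∈ G K A p i :=
  AddSubgroup.subset_closure (Set.mem_iUnion₂.2 ⟨j, Finset.mem_range.2 h, x, rfl⟩)

theorem G_mono {i j : ℕ} (h : i ≤ j) : G K A p i ≤ G K A p j :=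
  AddSubgroup.closure_mono (Set.biUnion_subset_biUnion_left fun _ hk =>
    Finset.mem_range.2 (lt_of_lt_of_le (Finset.mem_range.1 hk) h))

theorem add_diff_mem [Fact p.Prime] (i : ℕ) (x y : A) :
    delta K A p i (x + y) - delta K A p i x - delta K A p i y ∈ G K A p i := by
  rw [sub_sub, delta_add K A p i x y, sub_add_cancel_left]
  exact neg_mem (sum_mem fun j hj => delta_mem K A p (by have := Finset.mem_range.1 hj; omega) _)

theorem sigma_eq [Fact p.Prime] : ∀ i, sigma K A p i = (G K A p i : Set (Ω[A⁄K])) := by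
  intro i
  induction i with
  | zero => simp [G]
  | succ i ih =>
    rw [sigma_succ]
    let T : AddSubgroup (Ω[A⁄K]) :=
      { carrier := {ω | ∃ x : A, ω - delta K A p i x ∈ G K A p i}
        zero_mem' := ⟨0, by simp [delta_zero_arg]⟩
        add_mem' := by
          rintro a b ⟨x, hx⟩ ⟨y, hy⟩
          refine ⟨x + y, ?_⟩
          have h4 := sub_mem (add_mem hx hy) (add_diff_mem K A p i x y)
          convert h4 using 1
          abel
        neg_mem' := by
          rintro a ⟨x, hx⟩
          refine ⟨-x, ?_⟩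
          have h4 := add_diff_mem K A p i x (-x)
          rw [add_neg_cancel, delta_zero_arg] at h4
          have h5 := sub_mem h4 hx
          convert h5 using 1
          abel }
    have h6 : G K A p (i + 1) ≤ T := by
      refine (AddSubgroup.closure_le _).2 fun ω hω => ?_
      obtain ⟨j, hj, x, rfl⟩ := Set.mem_iUnion₂.1 hω
      rcases lt_or_eq_of_le (Nat.lt_succ_iff.1 (Finset.mem_range.1 hj)) with h | rfl
      · exact ⟨0, by rw [delta_zero_arg, sub_zero]; exact delta_mem K A p h x⟩
      · exact ⟨x, by rw [sub_self]; exact zero_mem _⟩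
    refine Set.ext fun ω => ⟨?_, fun h => ?_⟩
    · rintro ⟨x, hx⟩
      rw [ih] at hx
      have := add_mem (G_mono K A p (Nat.le_succ i) hx) (delta_mem K A p (Nat.lt_succ_self i) x)
      rwa [sub_add_cancel] at this
    · obtain ⟨x, hx⟩ := h6 h
      exact ⟨x, by rw [ih]; exact hx⟩

theorem smul_pow_mem [Fact p.Prime] (i : ℕ) (c : K) {ω : Ω[A⁄K]} (h : ω ∈ G K A p i)
    (hc : ∀ j < i, ∃ d : K, d ^ p ^ j = c) : c • ω ∈ G K A p i := by
  induction h using AddSubgroup.closure_induction with
  | mem w hw =>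
    obtain ⟨j, hj, x, rfl⟩ := Set.mem_iUnion₂.1 hw
    obtain ⟨d, rfl⟩ := hc j (Finset.mem_range.1 hj)
    have h1 : d ^ p ^ j • delta K A p j x = delta K A p j (d • x) := by
      rw [delta, delta, Derivation.map_smul, smul_pow, smul_assoc, smul_comm (x ^ (p ^ j - 1)) d, ← smul_assoc (d ^ (p ^ j - 1)) d]
      rw [smul_eq_mul, ← pow_succ, Nat.sub_add_cancel (Nat.one_le_pow _ _ (Fact.out : p.Prime).pos)]
    rw [h1]
    exact delta_mem K A p (Finset.mem_range.1 hj) _
  | zero => rw [smul_zero]; exact zero_mem _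
  | add a b _ _ ha hb => rw [smul_add]; exact add_mem ha hb
  | neg a _ ha => rw [smul_neg]; exact neg_mem ha

theorem pow_smul_mem [Fact p.Prime] [CharP A p] (i : ℕ) (a : A) {ω : Ω[A⁄K]} (h : ω ∈ G K A p i) :
    a ^ p ^ i • ω ∈ G K A p i := by
  induction h using AddSubgroup.closure_induction with
  | mem w hw =>
    obtain ⟨j, hj, x, rfl⟩ := Set.mem_iUnion₂.1 hw
    have hj' : j < i := Finset.mem_range.1 hj
    have hD : KaehlerDifferential.D K A (a ^ p ^ (i - j)) = 0 := by
      rw [Derivation.leibniz_pow, show i - j = (i - j - 1) + 1 by omega]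
      rw [← Nat.cast_smul_eq_nsmul A, Nat.cast_pow, CharP.cast_eq_zero A p, zero_pow (Nat.succ_ne_zero _), zero_smul]
    have h1 : a ^ p ^ i • delta K A p j x = delta K A p j (a ^ p ^ (i - j) * x) := by
      rw [delta, delta, Derivation.leibniz, hD, smul_zero, add_zero, smul_smul, smul_smul]
      congr 1
      rw [mul_pow, mul_right_comm, ← pow_succ, Nat.sub_add_cancel (Nat.one_le_pow _ _ (Fact.out : p.Prime).pos),
        ← pow_mul, ← pow_add, Nat.sub_add_cancel hj'.le]
    rw [h1]
    exact delta_mem K A p hj' _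
  | zero => rw [smul_zero]; exact zero_mem _
  | add a b _ _ ha hb => rw [smul_add]; exact add_mem ha hb
  | neg a _ ha => rw [smul_neg]; exact neg_mem ha

end Groth.Agent.CI2.SigmaFil
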