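import Mathlib

/-!
# Finite free covers splitting standard étale algebras
-/

set_option autoImplicit false
set_option linter.style.haveILetI false

universe u

open Polynomial

namespace Groth.Agent.CI2.SplitCover

variable {R : Type u} [CommRing R]

/-- A finite free faithfully flat algebra over which a monic polynomial is a product of linear factors. -/
theorem exists_split : ∀ (n : ℕ) (R : Type u) [CommRing R] (f : R[X]), f.Monic → f.natDegree = n →
    ∃ (S : Type u) (_ : CommRing S) (_ : Algebra R S), Module.Finite R S ∧ Module.Free R S ∧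
      Function.Injective (algebraMap R S) ∧
      ∃ s : Multiset S, f.map (algebraMap R S) = (s.map fun a => X - C a).prod := by
  intro n
  induction n with
  | zero =>
    intro R _ f hf hn
    exact ⟨R, inferInstance, inferInstance, inferInstance, inferInstance, Function.injective_id, 0,
      by simp [hf.natDegree_eq_zero.1 hn]⟩
  | succ n ih =>
    intro R _ f hf hn
    rcases subsingleton_or_nontrivial R with hR | hR
    · exact ⟨R, inferInstance, inferInstance, inferInstance, inferInstance, Function.injective_id, 0,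
        Subsingleton.elim _ _⟩
    let R1 := AdjoinRoot f
    have hinj : Function.Injective (algebraMap R R1) := by
      rw [injective_iff_map_eq_zero]
      intro r hr
      by_contra hr0
      exact hf.not_dvd_of_natDegree_lt (C_ne_zero.2 hr0) (by rw [natDegree_C]; omega) (AdjoinRoot.mk_eq_zero.1 hr)
    haveI : Nontrivial R1 := hinj.nontrivial
    haveI : Module.Finite R R1 := hf.finite_adjoinRoot
    haveI : Module.Free R R1 := hf.free_adjoinRoot
    have hroot : (f.map (algebraMap R R1)).IsRoot (AdjoinRoot.root f) := by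
      rw [IsRoot.def, eval_map]
      exact AdjoinRoot.eval₂_root f
    obtain ⟨f1, hf1⟩ := dvd_iff_isRoot.2 hroot
    have hm1 : f1.Monic := (monic_X_sub_C _).of_mul_monic_left (hf1 ▸ hf.map _)
    have hn1 : f1.natDegree = n := by
      have := congrArg natDegree hf1
      rw [hf.natDegree_map, hn, (monic_X_sub_C _).natDegree_mul hm1, natDegree_X_sub_C] at this
      omega
    obtain ⟨S, iS, aS, hfin, hfree, hi, s, hs⟩ := ih R1 f1 hm1 hn1
    letI : Algebra R S := ((algebraMap R1 S).comp (algebraMap R R1)).toAlgebra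
    haveI : IsScalarTower R R1 S := IsScalarTower.of_algebraMap_eq fun _ => rfl
    refine ⟨S, iS, inferInstance, Module.Finite.trans R1 S, Module.Free.trans (S := R1), hi.comp hinj,
      algebraMap R1 S (AdjoinRoot.root f) ::ₘ s, ?_⟩
    rw [IsScalarTower.algebraMap_eq R R1 S, ← Polynomial.map_map, hf1, Polynomial.map_mul, hs, Multiset.map_cons,
      Multiset.prod_cons, Polynomial.map_sub, map_X, map_C]

/-- A common splitting algebra of finitely many monic polynomials. -/
theorem exists_split_list : ∀ (l : List R[X]), (∀ f ∈ l, f.Monic) →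
    ∃ (S : Type u) (_ : CommRing S) (_ : Algebra R S), Module.Finite R S ∧ Module.Free R S ∧
      Function.Injective (algebraMap R S) ∧
      ∀ f ∈ l, ∃ s : Multiset S, f.map (algebraMap R S) = (s.map fun a => X - C a).prod := by
  intro l
  induction l with
  | nil =>
    intro _
    exact ⟨R, inferInstance, inferInstance, inferInstance, inferInstance, Function.injective_id, by simp⟩
  | cons f l ih =>
    intro h
    obtain ⟨S, iS, aS, hfin, hfree, hi, hl⟩ := ih fun g hg => h g (List.mem_cons_of_mem _ hg)
    obtain ⟨T, iT, aT, hfin', hfree', hi', t, ht⟩ := exists_split _ S (f.map (algebraMap R S)) ((h f (by simp)).map _) rfl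
    letI : Algebra R T := ((algebraMap S T).comp (algebraMap R S)).toAlgebra
    haveI : IsScalarTower R S T := IsScalarTower.of_algebraMap_eq fun _ => rfl
    refine ⟨T, iT, inferInstance, Module.Finite.trans S T, Module.Free.trans (S := S), hi'.comp hi, fun g hg => ?_⟩
    rw [IsScalarTower.algebraMap_eq R S T]
    rcases List.mem_cons.1 hg with rfl | hg
    · exact ⟨t, by rw [← Polynomial.map_map]; exact ht⟩
    · obtain ⟨s, hs⟩ := hl g hg
      refine ⟨s.map (algebraMap S T), ?_⟩
      rw [← Polynomial.map_map, hs, Polynomial.map_multiset_prod, Multiset.map_map, Multiset.map_map]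
      simp [Function.comp_def]

theorem surjective_comap {S : Type u} [CommRing S] [Algebra R S] [Module.Finite R S]
    (hi : Function.Injective (algebraMap R S)) : Function.Surjective (PrimeSpectrum.comap (algebraMap R S)) := by
  intro p
  obtain ⟨Q, hQ, hQp⟩ := Ideal.exists_ideal_over_prime_of_isIntegral (S := S) p.asIdeal ⊥
    (by
      intro a ha
      have : a = 0 := (map_eq_zero_iff _ hi).1 ((Submodule.mem_bot S).1 ha)
      rw [this]
      exact zero_mem _)
  exact ⟨⟨Q, hQp.1⟩, PrimeSpectrum.ext hQp.2⟩

theorem fp_of_free {S : Type u} [CommRing S] [Algebra R S] [Module.Finite R S] [Module.Free R S] :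
    Algebra.FinitePresentation R S :=
  haveI := Module.finitePresentation_of_projective R S
  inferInstance

/-- Over a splitting algebra of `f`, primes of a standard étale algebra are dominated. -/
theorem exists_map {S' : Type u} [CommRing S'] [Algebra R S'] (P : StandardEtalePair R) (s : Multiset S')
    (hs : P.f.map (algebraMap R S') = (s.map fun a => X - C a).prod)
    (q : Ideal P.Ring) [q.IsPrime] (q' : Ideal S') [q'.IsPrime] (hq : q'.under R = q.under R) :
    ∃ (g' : S') (_ : g' ∉ q') (φ : P.Ring →ₐ[R] Localization.Away g'),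
      (q'.map (algebraMap S' (Localization.Away g'))).comap φ = q := by
  classical
  let p := q.under R
  haveI : p.IsPrime := inferInstance
  let K := FractionRing (S' ⧸ q')
  let Kb := AlgebraicClosure K
  let k := FractionRing (R ⧸ p)
  let L := FractionRing (P.Ring ⧸ q)
  have hinjK : Function.Injective (algebraMap (S' ⧸ q') Kb) := by
    rw [IsScalarTower.algebraMap_eq (S' ⧸ q') K Kb]
    exact (algebraMap K Kb).injective.comp (IsFractionRing.injective (S' ⧸ q') K)
  have hpq' : ∀ r : R, r ∈ p ↔ algebraMap R Kb r = 0 := fun r => by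
    rw [IsScalarTower.algebraMap_apply R (S' ⧸ q') Kb, map_eq_zero_iff _ hinjK,
      IsScalarTower.algebraMap_apply R S' (S' ⧸ q'), Ideal.Quotient.algebraMap_eq, Ideal.Quotient.eq_zero_iff_mem,
      show p = q'.under R from hq.symm]
    rfl
  have hpq : ∀ r : R, r ∈ p ↔ algebraMap R L r = 0 := fun r => by
    rw [IsScalarTower.algebraMap_apply R (P.Ring ⧸ q) L, map_eq_zero_iff _ (IsFractionRing.injective (P.Ring ⧸ q) L),
      IsScalarTower.algebraMap_apply R P.Ring (P.Ring ⧸ q), Ideal.Quotient.algebraMap_eq, Ideal.Quotient.eq_zero_iff_mem]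
    rfl
  let iL : R ⧸ p →+* L := Ideal.Quotient.lift p (algebraMap R L) fun r hr => (hpq r).1 hr
  let iK : R ⧸ p →+* Kb := Ideal.Quotient.lift p (algebraMap R Kb) fun r hr => (hpq' r).1 hr
  have hiL : Function.Injective iL := RingHom.lift_injective_of_ker_le_ideal p _ fun r hr => (hpq r).2 hr
  have hiK : Function.Injective iK := RingHom.lift_injective_of_ker_le_ideal p _ fun r hr => (hpq' r).2 hr
  letI : Algebra k L := (IsFractionRing.lift hiL).toAlgebra
  letI : Algebra k Kb := (IsFractionRing.lift hiK).toAlgebra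
  haveI : IsScalarTower R k L := IsScalarTower.of_algebraMap_eq fun r => by
    rw [RingHom.algebraMap_toAlgebra, IsScalarTower.algebraMap_apply R (R ⧸ p) k, IsFractionRing.lift_algebraMap]
    rfl
  haveI : IsScalarTower R k Kb := IsScalarTower.of_algebraMap_eq fun r => by
    rw [RingHom.algebraMap_toAlgebra, IsScalarTower.algebraMap_apply R (R ⧸ p) k, IsFractionRing.lift_algebraMap]
    rfl
  let ι : P.Ring →ₐ[R] L := (IsScalarTower.toAlgHom R (P.Ring ⧸ q) L).comp (Ideal.Quotient.mkₐ R q)
  have hι : RingHom.ker ι = q := by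
    ext z
    rw [RingHom.mem_ker]
    show algebraMap (P.Ring ⧸ q) L (Ideal.Quotient.mk q z) = 0 ↔ _
    rw [map_eq_zero_iff _ (IsFractionRing.injective (P.Ring ⧸ q) L), Ideal.Quotient.eq_zero_iff_mem]
  let x : L := ι P.X
  have hx : P.HasMap x := P.hasMap_X.map ι
  have hxint : IsIntegral k x := ⟨P.f.map (algebraMap R k), P.monic_f.map _, by
    rw [eval₂_map, ← IsScalarTower.algebraMap_eq, ← aeval_def]; exact hx.1⟩
  obtain ⟨y, hy⟩ := IsAlgClosed.exists_aeval_eq_zero Kb (minpoly k x) (minpoly.degree_pos hxint).ne'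
  let E := IntermediateField.adjoin k ({x} : Set L)
  haveI : IsScalarTower R E L := IsScalarTower.of_algebraMap_eq fun r => by
    rw [IsScalarTower.algebraMap_apply R k L, IsScalarTower.algebraMap_apply R k E]
    rfl
  let θ : E →ₐ[k] Kb := (IntermediateField.algHomAdjoinIntegralEquiv k hxint).symm
    ⟨y, by rw [mem_aroots]; exact ⟨minpoly.ne_zero hxint, hy⟩⟩
  have hgen : P.HasMap (IntermediateField.AdjoinSimple.gen k x) := by
    have h1 : ∀ h : R[X], algebraMap E L (aeval (IntermediateField.AdjoinSimple.gen k x) h) = aeval x h := fun h => by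
      rw [← aeval_algebraMap_apply, IntermediateField.AdjoinSimple.algebraMap_gen]
    refine ⟨(algebraMap E L).injective ?_, isUnit_iff_ne_zero.2 fun h => hx.2.ne_zero ?_⟩
    · rw [h1, map_zero]; exact hx.1
    · rw [← h1, h, map_zero]
  let χ : P.Ring →ₐ[R] Kb := (θ.restrictScalars R).comp (P.lift _ hgen)
  have hχ : RingHom.ker χ = q := by
    rw [← hι]
    have h2 : ι = ((E.val).restrictScalars R).comp (P.lift _ hgen) := P.hom_ext (by simp [x])
    ext z
    rw [RingHom.mem_ker, RingHom.mem_ker, h2]
    show θ _ = 0 ↔ (P.lift _ hgen z : L) = 0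
    rw [map_eq_zero_iff θ θ.toRingHom.injective, ZeroMemClass.coe_eq_zero]
    exact Iff.rfl
  have hy' : P.HasMap (χ P.X) := P.hasMap_X.map χ
  let ψ : S' →ₐ[R] Kb := IsScalarTower.toAlgHom R S' Kb
  have hψ : RingHom.ker ψ = q' := by
    ext z
    rw [RingHom.mem_ker]
    show algebraMap S' Kb z = 0 ↔ _
    rw [IsScalarTower.algebraMap_apply S' (S' ⧸ q') Kb, map_eq_zero_iff _
      hinjK, Ideal.Quotient.algebraMap_eq, Ideal.Quotient.eq_zero_iff_mem]
  obtain ⟨a, ha, hay⟩ : ∃ a ∈ s, ψ a = χ P.X := by
    have h1 : aeval (χ P.X) P.f = 0 := hy'.1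
    rw [aeval_def, ← eval_map, ← ψ.comp_algebraMap, ← Polynomial.map_map, hs, Polynomial.map_multiset_prod,
      eval_multiset_prod, Multiset.prod_eq_zero_iff] at h1
    simp only [Multiset.mem_map] at h1
    obtain ⟨z, ⟨w, ⟨a, ha, rfl⟩, rfl⟩, hz⟩ := h1
    refine ⟨a, ha, ?_⟩
    simp [sub_eq_zero] at hz
    exact hz.symm
  let g' := aeval a P.g
  have hg' : g' ∉ q' := by
    rw [← hψ, RingHom.mem_ker, ← aeval_algHom_apply, hay]
    exact hy'.2.ne_zero
  let A := Localization.Away g'
  have hfa : aeval a P.f = 0 := by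
    rw [aeval_def, ← eval_map, hs, eval_multiset_prod, Multiset.map_map]
    exact Multiset.prod_eq_zero (Multiset.mem_map.2 ⟨a, ha, by simp⟩)
  have hmapA : P.HasMap (algebraMap S' A a) := by
    refine ⟨?_, ?_⟩
    · rw [aeval_algebraMap_apply, hfa, map_zero]
    · rw [aeval_algebraMap_apply]; exact IsLocalization.Away.algebraMap_isUnit g'
  refine ⟨g', hg', P.lift _ hmapA, ?_⟩
  have hu : IsUnit (ψ g') := by
    rw [isUnit_iff_ne_zero]
    exact fun h => hg' (by rw [← hψ]; exact h)
  let Ψ : A →+* Kb := IsLocalization.Away.lift g' (g := ψ.toRingHom) hu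
  have hΨ : RingHom.ker Ψ = q'.map (algebraMap S' A) := by
    refine (IsLocalization.map_comap (Submonoid.powers g') A (RingHom.ker Ψ)).symm.trans (congrArg (Ideal.map (algebraMap S' A)) ?_)
    refine Eq.trans ?_ hψ
    rw [Ideal.under, RingHom.comap_ker, IsLocalization.Away.lift_comp]
    rfl
  rw [← hΨ, ← hχ]
  ext z
  rw [Ideal.mem_comap, RingHom.mem_ker, RingHom.mem_ker]
  have hΨR : ∀ r, Ψ (algebraMap R A r) = algebraMap R Kb r := fun r => by
    rw [IsScalarTower.algebraMap_apply R S' A, IsLocalization.Away.lift_eq]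
    exact (IsScalarTower.algebraMap_apply R S' Kb r).symm
  let ΨA : A →ₐ[R] Kb := { Ψ with commutes' := hΨR }
  have h3 : ΨA.comp (P.lift _ hmapA) = χ := P.hom_ext (by
    rw [AlgHom.comp_apply, P.lift_X]
    exact (IsLocalization.Away.lift_eq g' hu a).trans hay)
  rw [← h3]
  rfl

end Groth.Agent.CI2.SplitCover
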