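import Groth.Agent.Lib.CI2.SyntScheme
import Groth.Agent.Lib.CI2.NhdIff
import Mathlib

/-!
Syntomic at a point: affine charts, standard syntomic neighbourhoods.
-/

set_option autoImplicit false
set_option linter.style.haveILetI false
universe u

open CategoryTheory AlgebraicGeometry TensorProduct

namespace Groth.Agent.CI2

variable {X S : Scheme.{u}} (f : X ⟶ S)

theorem syntMor_resLE_iff {V : S.Opens} (hV : IsAffineOpen V) {U : X.Opens} (hU : IsAffineOpen U) (e : U ≤ f ⁻¹ᵁ V) :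
    syntMor (f.resLE V U e) ↔ SyntHom (f.appLE V U e).hom := by
  rw [← HasRingHomProperty.Spec_iff (P := syntMor.{u}) (Q := @SyntHom.{u})]
  exact MorphismProperty.arrow_mk_iso_iff syntMor
    (Arrow.isoMk hU.isoSpec hV.isoSpec (Scheme.Opens.toSpecΓ_SpecMap_appLE f V U e))

/-- A syntomic chart can be shrunk inside any affine open of the target. -/
theorem exists_chart (x : X) (V : S.Opens) (hV : IsAffineOpen V) (hx : f x ∈ V) (h : Synt.IsSyntomicAt f x) :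
    ∃ (U : X.affineOpens) (e : U.1 ≤ f ⁻¹ᵁ V), x ∈ U.1 ∧ SyntHom (f.appLE V U.1 e).hom := by
  obtain ⟨U₀, V₀, e₀, hx₀, h₀⟩ := h
  obtain ⟨r₀, r, hr, hfx⟩ := exists_basicOpen_le_affine_inter V₀.2 hV (f x) ⟨e₀ hx₀, hx⟩
  let V₁ : S.Opens := S.basicOpen r
  have hV₁₀ : V₁ ≤ V₀.1 := le_of_eq_of_le hr.symm (S.basicOpen_le r₀)
  obtain ⟨U, hU, hxU, hUle⟩ := exists_isAffineOpen_mem_and_subset (U := U₀.1 ⊓ f ⁻¹ᵁ V₁) (x := x)
    ⟨hx₀, show f x ∈ V₁ by show f x ∈ S.basicOpen r; rw [← hr]; exact hfx⟩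
  have hUU₀ : U ≤ U₀.1 := hUle.trans inf_le_left
  have e₁ : U ≤ f ⁻¹ᵁ V₁ := hUle.trans inf_le_right
  have e : U ≤ f ⁻¹ᵁ V := e₁.trans (f.preimage_mono (S.basicOpen_le r))
  refine ⟨⟨U, hU⟩, e, hxU, ?_⟩
  have hres : Synt.IsSyntomicMor (f.resLE V₀.1 U₀.1 e₀) := (syntMor_resLE_iff f V₀.2 U₀.2 e₀).mpr h₀
  let O : V₀.1.toScheme.Opens := V₀.1.ι ⁻¹ᵁ V₁
  let W : U₀.1.toScheme.Opens := U₀.1.ι ⁻¹ᵁ U
  have hO : V₀.1.ι ''ᵁ O = V₁ := by simpa [O, Scheme.Hom.image_preimage_eq_opensRange_inf] using hV₁₀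
  have hW : U₀.1.ι ''ᵁ W = U := by simpa [W, Scheme.Hom.image_preimage_eq_opensRange_inf] using hUU₀
  have hOa : IsAffineOpen O := by
    rw [← Scheme.Hom.isAffineOpen_iff_of_isOpenImmersion V₀.1.ι, hO]; exact hV.basicOpen r
  have hWa : IsAffineOpen W := by
    rw [← Scheme.Hom.isAffineOpen_iff_of_isOpenImmersion U₀.1.ι, hW]; exact hU
  have heW : W ≤ f.resLE V₀.1 U₀.1 e₀ ⁻¹ᵁ O := (f.le_resLE_preimage_iff e₀ O W).mpr (by rw [hO, hW]; exact e₁)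
  have h1 := (isSyntomicMor_iff_appLE _).mp hres ⟨O, hOa⟩ ⟨W, hWa⟩ heW
  rw [f.resLE_appLE] at h1
  have key : ∀ (A : S.Opens) (B : X.Opens) (hA : A = V₁) (hB : B = U) (eAB : B ≤ f ⁻¹ᵁ A),
      SyntHom (f.appLE A B eAB).hom → SyntHom (f.appLE V₁ U e₁).hom := by
    rintro A B rfl rfl eAB h; exact h
  have h2 := key _ _ hO hW _ h1
  letI : Algebra Γ(S, V₁) Γ(X, U) := (f.appLE V₁ U e₁).hom.toAlgebra
  letI : Algebra Γ(S, V) Γ(X, U) := (f.appLE V U e).hom.toAlgebra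
  letI : Algebra Γ(S, V) Γ(S, V₁) := (S.presheaf.map (homOfLE (S.basicOpen_le r)).op).hom.toAlgebra
  haveI : IsScalarTower Γ(S, V) Γ(S, V₁) Γ(X, U) := IsScalarTower.of_algebraMap_eq' (by
    rw [RingHom.algebraMap_toAlgebra, RingHom.algebraMap_toAlgebra, RingHom.algebraMap_toAlgebra, ← CommRingCat.hom_comp,
      Scheme.Hom.map_appLE])
  haveI : IsLocalization.Away r Γ(S, V₁) := hV.isLocalization_basicOpen r
  exact syntHom_algebraMap.mpr ((isSyntomic_base_iff r Γ(S, V₁) Γ(X, U)).mpr (syntHom_algebraMap.mp h2))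

theorem isSyntomicAt_iff_exists_standard (x : X) (V : S.affineOpens) (hV : f x ∈ V.1) :
    Synt.IsSyntomicAt f x ↔
      ∃ (U : X.affineOpens) (e : U.1 ≤ f ⁻¹ᵁ V.1), x ∈ U.1 ∧ Synt.IsStandardSyntomic (f.resLE V.1 U.1 e) := by
  constructor
  · intro h
    obtain ⟨U, e, hxU, hs⟩ := exists_chart f x V.1 V.2 hV h
    letI : Algebra Γ(S, V.1) Γ(X, U.1) := (f.appLE V.1 U.1 e).hom.toAlgebra
    have hsyn : Synt.IsSyntomic Γ(S, V.1) Γ(X, U.1) := syntHom_algebraMap.mp hs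
    let q : Ideal Γ(X, U.1) := (U.2.primeIdealOf ⟨x, hxU⟩).asIdeal
    let p : Ideal Γ(S, V.1) := q.under _
    obtain ⟨Q, hQ, hQc⟩ : ∃ (Q : Ideal (p.Fiber Γ(X, U.1))) (_ : Q.IsPrime),
        Q.comap (Algebra.TensorProduct.includeRight.toRingHom) = q := by
      let e' := PrimeSpectrum.preimageHomeomorphFiber Γ(S, V.1) Γ(X, U.1) ⟨p, inferInstance⟩
      let w := e' ⟨U.2.primeIdealOf ⟨x, hxU⟩, rfl⟩
      exact ⟨w.asIdeal, w.2, congrArg (fun z : PrimeSpectrum _ => z.asIdeal)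
        (show PrimeSpectrum.comap _ w = _ from congrArg Subtype.val (e'.symm_apply_apply _))⟩
    have h1 : (1 : Γ(X, U.1)) ∉ q := q.ne_top_iff_one.mp (Ideal.IsPrime.ne_top inferInstance)
    obtain ⟨hfp, hfl, hci⟩ := conditions_of_syntomic_away p q Q hQc 1 h1 (isSyntomic_away hsyn 1 _)
    obtain ⟨g, hg, n, c, F, hF, ⟨eF⟩⟩ := exists_relGCI_nhd_of_fp p q Q hQc 1 h1 hfp hfl hci
    let U' : X.Opens := X.basicOpen g
    have hle : U' ≤ U.1 := X.basicOpen_le g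
    have e' : U' ≤ f ⁻¹ᵁ V.1 := hle.trans e
    refine ⟨⟨U', U.2.basicOpen g⟩, e', ?_, ?_⟩
    · have : U.2.fromSpec (U.2.primeIdealOf ⟨x, hxU⟩) ∈ X.basicOpen g := by
        show U.2.primeIdealOf ⟨x, hxU⟩ ∈ U.2.fromSpec ⁻¹ᵁ X.basicOpen g
        rw [U.2.fromSpec_preimage_basicOpen]
        exact hg
      rwa [U.2.fromSpec_primeIdealOf] at this
    haveI : IsLocalization.Away g Γ(X, U') := U.2.isLocalization_basicOpen g
    letI : Algebra Γ(S, V.1) Γ(X, U') := (f.appLE V.1 U' e').hom.toAlgebra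
    haveI : IsScalarTower Γ(S, V.1) Γ(X, U.1) Γ(X, U') := IsScalarTower.of_algebraMap_eq' (by
      show (f.appLE V.1 U' e').hom = (X.presheaf.map (homOfLE hle).op).hom.comp (f.appLE V.1 U.1 e).hom
      rw [← CommRingCat.hom_comp, Scheme.Hom.appLE_map])
    let E : Γ(X, U') ≃ₐ[Γ(S, V.1)] Synt.RelGCIRing Γ(S, V.1) n c F :=
      ((IsLocalization.algEquiv (Submonoid.powers g) Γ(X, U') (Localization.Away g)).restrictScalars Γ(S, V.1)).trans eF
    refine ⟨Γ(S, V.1), inferInstance, n, c, F, hF,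
      (U.2.basicOpen g).isoSpec ≪≫ Scheme.Spec.mapIso E.toRingEquiv.toCommRingCatIso.op.symm, V.2.isoSpec, ?_⟩
    refine Eq.trans ?_ (Scheme.Opens.toSpecΓ_SpecMap_appLE f V.1 U' e')
    simp only [Iso.trans_hom, Category.assoc]
    refine congrArg (fun k => U'.toSpecΓ ≫ k) ?_
    refine (Spec.map_comp _ _).symm.trans (congrArg Spec.map ?_)
    ext a
    exact E.symm.commutes a
  · rintro ⟨U, e, hxU, R, _, n, c, F, hF, e₁, e₂, he⟩
    have h1 : syntMor (Spec.map (CommRingCat.ofHom (algebraMap R (Synt.RelGCIRing R n c F)))) :=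
      (HasRingHomProperty.Spec_iff (P := syntMor.{u}) (Q := @SyntHom.{u})).mpr
        (syntHom_algebraMap.mpr (isSyntomic_of_isRelGCI hF))
    have h2 : syntMor (f.resLE V.1 U.1 e) :=
      (MorphismProperty.arrow_mk_iso_iff syntMor (Arrow.isoMk e₁ e₂ he)).mpr h1
    exact ⟨U, V, e, hxU, (syntMor_resLE_iff f V.2 U.2 e).mp h2⟩

end Groth.Agent.CI2
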