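import Groth.Agent.Lib.CI2.NhdIff
import Mathlib

/-!
Syntomic algebras are locally relative global complete intersections.
-/

set_option autoImplicit false
set_option linter.style.haveILetI false
universe u

open TensorProduct

namespace Groth.Agent.CI2

theorem exists_fibre_point {R S : Type u} [CommRing R] [CommRing S] [Algebra R S] (q : Ideal S) [q.IsPrime] :
    ∃ (Q : Ideal ((q.under R).Fiber S)) (_ : Q.IsPrime),
      Q.comap (Algebra.TensorProduct.includeRight.toRingHom) = q := by
  let e := PrimeSpectrum.preimageHomeomorphFiber R S ⟨q.under R, inferInstance⟩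
  let w := e ⟨⟨q, inferInstance⟩, rfl⟩
  exact ⟨w.asIdeal, w.2, congrArg (fun z : PrimeSpectrum _ => z.asIdeal)
    (show PrimeSpectrum.comap _ w = _ from congrArg Subtype.val (e.symm_apply_apply _))⟩

theorem exists_relGCI_of_isSyntomic {R S : Type u} [CommRing R] [CommRing S] [Algebra R S]
    (h : Synt.IsSyntomic R S) (q : PrimeSpectrum S) :
    ∃ g : S, g ∉ q.asIdeal ∧ ∃ (n c : ℕ) (F : Fin c → MvPolynomial (Fin n) R), Synt.IsRelGCI R n c F ∧
      Nonempty (Localization.Away g ≃ₐ[R] Synt.RelGCIRing R n c F) := by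
  obtain ⟨Q, _, hQ⟩ := exists_fibre_point (R := R) q.asIdeal
  have h1 : (1 : S) ∉ q.asIdeal := q.asIdeal.ne_top_iff_one.mp q.2.ne_top
  obtain ⟨hfp, hfl, hci⟩ := conditions_of_syntomic_away (q.asIdeal.under R) q.asIdeal Q hQ 1 h1 (isSyntomic_away h 1 _)
  exact exists_relGCI_nhd_of_fp (q.asIdeal.under R) q.asIdeal Q hQ 1 h1 hfp hfl hci

end Groth.Agent.CI2
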