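import Mathlib

/-!
# Tame automorphisms acting trivially on the cotangent space
-/

set_option autoImplicit false
set_option linter.style.haveILetI false

universe u

namespace Groth.Agent.CI2.TameLinear

open IsLocalRing

/-- An automorphism of finite order prime to the residue characteristic, trivial on the cotangent space, is trivial. -/
theorem eq_self {A : Type u} [CommRing A] [IsLocalRing A] [IsNoetherianRing A] (σ : A →+* A) (n : ℕ)
    (hn : IsUnit (n : A)) (hper : ∀ a, σ^[n] a = a)
    (h1 : ∀ a, σ a - a ∈ maximalIdeal A) (h2 : ∀ a ∈ maximalIdeal A, σ a - a ∈ maximalIdeal A ^ 2) :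
    ∀ a, σ a = a := by
  have hmap : ∀ i, ∀ x ∈ maximalIdeal A ^ i, σ x - x ∈ maximalIdeal A ^ (i + 1) := by
    intro i
    induction i with
    | zero => intro x _; rw [pow_one]; exact h1 x
    | succ i ih =>
      intro x hx
      rw [pow_succ] at hx
      refine Submodule.mul_induction_on hx (fun a ha b hb => ?_) (fun a b ha hb => ?_)
      ·
        have hσb : σ b ∈ maximalIdeal A := by
          have := add_mem (h1 b) hb; rwa [sub_add_cancel] at this
        have e : σ (a * b) - a * b = (σ a - a) * σ b + a * (σ b - b) := by rw [map_mul]; ring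
        rw [e]
        refine add_mem ?_ ?_
        · rw [pow_succ _ (i + 1)]; exact Ideal.mul_mem_mul (ih a ha) hσb
        · rw [show i + 1 + 1 = i + 2 from rfl, pow_add]; exact Ideal.mul_mem_mul ha (h2 b hb)
      · rw [map_add, add_sub_add_comm]; exact add_mem ha hb
  have hstep : ∀ j, 1 ≤ j → ∀ a, σ a - a ∈ maximalIdeal A ^ j := by
    intro j hj
    induction j, hj using Nat.le_induction with
    | base => intro a; rw [pow_one]; exact h1 a
    | succ j _ ih =>
      intro a
      have key : ∀ l : ℕ, σ^[l] a - a - (l : A) * (σ a - a) ∈ maximalIdeal A ^ (j + 1) := by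
        intro l
        induction l with
        | zero => simp
        | succ l ihl =>
          rw [Function.iterate_succ_apply']
          have h3 := hmap j _ (ih a)
          have h4 : σ (σ^[l] a - a - (l : A) * (σ a - a)) ∈ maximalIdeal A ^ (j + 1) := by
            have := add_mem (Ideal.pow_le_pow_right (Nat.le_succ (j + 1)) (hmap (j + 1) _ ihl)) ihl
            rwa [sub_add_cancel] at this
          rw [map_sub, map_sub, map_mul, map_natCast, map_sub] at h4
          rw [map_sub] at h3
          have e : σ (σ^[l] a) - a - ((l + 1 : ℕ) : A) * (σ a - a) =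
              (σ (σ^[l] a) - σ a - (l : A) * (σ (σ a) - σ a)) + (l : A) * (σ (σ a) - σ a - (σ a - a)) := by
            push_cast; ring
          rw [e]
          exact add_mem h4 (Ideal.mul_mem_left _ _ h3)
      have h5 := key n
      rw [hper, sub_self, zero_sub, neg_mem_iff] at h5
      exact (Ideal.unit_mul_mem_iff_mem _ hn).1 h5
  intro a
  have : σ a - a ∈ ⨅ j : ℕ, maximalIdeal A ^ j := Submodule.mem_iInf _ |>.2 fun j => by
    rcases Nat.eq_zero_or_pos j with rfl | hj
    · simp
    · exact hstep j hj a
  rwa [Ideal.iInf_pow_eq_bot_of_isLocalRing _ (maximalIdeal.isMaximal A).ne_top, Submodule.mem_bot, sub_eq_zero] at this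

end Groth.Agent.CI2.TameLinear
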