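/-
Independence of the regularity of the kernel of a good factorization.
-/
import Groth.Agent.Lib.CI2.AvramovMap

universe u

open RingTheory.Sequence IsLocalRing

set_option linter.style.haveILetI false

namespace Groth.Agent.CI2

/-- Continuous maps out of a completion agree if they agree on the ring. -/
theorem cpl_hom_ext {D T : Type u} [CommRing D] [IsLocalRing D] [IsNoetherianRing D] [CommRing T] [IsLocalRing T]
    [IsNoetherianRing T] (φ₁ φ₂ : EGA4.Cpl D →+* T) [IsLocalHom φ₁] [IsLocalHom φ₂]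
    (h : ∀ a, φ₁ (algebraMap D (EGA4.Cpl D) a) = φ₂ (algebraMap D (EGA4.Cpl D) a)) : φ₁ = φ₂ := by
  refine RingHom.ext fun x => sub_eq_zero.1 ?_
  rw [← Ideal.mem_bot, ← Ideal.iInf_pow_eq_bot_of_isLocalRing (maximalIdeal T) (maximalIdeal.isMaximal T).ne_top]
  refine Ideal.mem_iInf.2 fun n => ?_
  obtain ⟨a, ha⟩ := CplLocH7.exists_sub_mem_pow n x
  have hmem : ∀ (φ : EGA4.Cpl D →+* T), IsLocalHom φ → φ (x - algebraMap D (EGA4.Cpl D) a) ∈ maximalIdeal T ^ n :=
    fun φ hφ => by
      haveI := hφ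
      refine Ideal.pow_right_mono (IsLocalRing.map_maximalIdeal_le φ) n ?_
      rw [← Ideal.map_pow]
      exact Ideal.mem_map_of_mem φ ha
  have e : φ₁ x - φ₂ x = φ₁ (x - algebraMap D (EGA4.Cpl D) a) - φ₂ (x - algebraMap D (EGA4.Cpl D) a) := by
    rw [map_sub, map_sub, h]; ring
  rw [e]
  exact sub_mem (hmem φ₁ ‹_›) (hmem φ₂ ‹_›)

theorem isRegularIdeal_ker_comp_equiv {P S B : Type u} [CommRing P] [CommRing S] [CommRing B]
    (π : P →+* S) (hπ : Function.Surjective π) (g : S →+* B) :
    CInt.IsRegularIdeal (RingHom.ker g) ↔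
      CInt.IsRegularIdeal ((RingHom.ker (g.comp π)).map (Ideal.Quotient.mk (RingHom.ker π))) := by
  let E := RingHom.quotientKerEquivOfSurjective (f := π) hπ
  have hEq : (RingHom.ker g).map (E.symm : S →+* P ⧸ RingHom.ker π) =
      (RingHom.ker (g.comp π)).map (Ideal.Quotient.mk (RingHom.ker π)) := by
    rw [show RingHom.ker (g.comp π) = (RingHom.ker g).comap π from rfl]
    conv_lhs => rw [← Ideal.map_comap_of_surjective π hπ (RingHom.ker g), Ideal.map_map]
    exact congrArg (fun f => Ideal.map f _) (RingHom.ext fun x => E.symm_apply_eq.2 rfl)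
  rw [← hEq]
  refine ⟨fun h => isRegularIdeal_map_equiv E.symm h, fun h => ?_⟩
  have h' := isRegularIdeal_map_equiv E h
  rwa [Ideal.map_map, RingEquiv.comp_symm, Ideal.map_id] at h'

variable {A P S : Type u} [CommRing A] [CommRing P] [CommRing S] [IsNoetherianRing A] [IsNoetherianRing P]
  [IsNoetherianRing S] [IsLocalRing A] [IsLocalRing P] [IsLocalRing S] [Algebra A P] [Algebra A S]
  [IsLocalHom (algebraMap A P)] [Module.Flat A P] [Module.Flat A S]
  [IsRegularLocalRing (P ⧸ (maximalIdeal A).map (algebraMap A P))]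
  [IsRegularLocalRing (S ⧸ (maximalIdeal A).map (algebraMap A S))]
  (π : P →ₐ[A] S) (hπ : Function.Surjective π)

include hπ

/-- A surjection of flat algebras with regular fibres has regular kernel. -/
theorem isRegularIdeal_ker_of_regular_fibres : CInt.IsRegularIdeal (RingHom.ker π.toRingHom) := by
  let K := RingHom.ker π.toRingHom
  let M := (maximalIdeal A).map (algebraMap A P)
  have hM : (maximalIdeal A).map (algebraMap A S) = M.map π.toRingHom := by
    rw [Ideal.map_map]
    exact congrArg (fun f => Ideal.map f (maximalIdeal A)) π.comp_algebraMap.symm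
  have hMm : M ≤ maximalIdeal P := IsLocalRing.map_maximalIdeal_le _
  let πb : P ⧸ M →+* S ⧸ (maximalIdeal A).map (algebraMap A S) :=
    Ideal.quotientMap _ π.toRingHom (Ideal.map_le_iff_le_comap.1 hM.ge)
  have hπb : Function.Surjective πb := fun y => by
    obtain ⟨y, rfl⟩ := Ideal.Quotient.mk_surjective y
    obtain ⟨x, rfl⟩ := hπ y
    exact ⟨Ideal.Quotient.mk _ x, rfl⟩
  have hker : RingHom.ker πb = K.map (Ideal.Quotient.mk M) := by
    have h : (RingHom.ker πb).comap (Ideal.Quotient.mk M) = M ⊔ K := by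
      refine (show _ = ((maximalIdeal A).map (algebraMap A S)).comap π.toRingHom from Ideal.ext fun x => ?_).trans ?_
      · exact Ideal.Quotient.eq_zero_iff_mem
      · rw [hM, Ideal.comap_map_of_surjective' π.toRingHom hπ]
    rw [← Ideal.map_comap_of_surjective _ Ideal.Quotient.mk_surjective (RingHom.ker πb), h, Ideal.map_sup,
      Ideal.map_quotient_self, bot_sup_eq]
  haveI : IsRegularLocalRing ((P ⧸ M) ⧸ RingHom.ker πb) :=
    IsRegularLocalRing.of_ringEquiv (RingHom.quotientKerEquivOfSurjective hπb).symm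
  obtain ⟨l, hl, hlK⟩ := (CIReg6.isRegularLocalRing_iff (RingHom.ker πb)).1 inferInstance
  rw [hker] at hlK
  obtain ⟨ss, hssK, hss⟩ := CIReg6.exists_lift_list (J := M) (K := K) l
    fun z hz => hlK.le (Ideal.subset_span hz)
  have hKne : K ≠ ⊤ := RingHom.ker_ne_top _
  have hKm : K ≤ maximalIdeal P := le_maximalIdeal hKne
  -- flatness of `P ⧸ K` over `A`
  let e := Ideal.quotientKerAlgEquivOfSurjective hπ
  letI : Algebra (A ⧸ (⊥ : Ideal A)) (P ⧸ K) :=
    (Ideal.Quotient.lift (⊥ : Ideal A) (algebraMap A (P ⧸ K)) (fun a ha => by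
      rw [Ideal.mem_bot.1 ha, map_zero])).toAlgebra
  haveI : IsScalarTower A (A ⧸ (⊥ : Ideal A)) (P ⧸ K) := IsScalarTower.of_algebraMap_eq fun _ => rfl
  haveI : Module.Flat A (P ⧸ K) := Module.Flat.of_linearEquiv e.toLinearEquiv
  haveI : Module.Flat (A ⧸ (⊥ : Ideal A)) (P ⧸ K) := by
    refine RingHom.flat_algebraMap_iff.1 ?_
    have h0 : algebraMap (A ⧸ (⊥ : Ideal A)) (P ⧸ K) =
        (algebraMap A (P ⧸ K)).comp (RingEquiv.quotientBot A).toRingHom :=
      Ideal.Quotient.ringHom_ext (RingHom.ext fun a => rfl)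
    rw [h0]
    exact RingHom.Flat.comp (RingHom.Flat.of_bijective (RingEquiv.quotientBot A).bijective)
      (RingHom.flat_algebraMap_iff.2 ‹Module.Flat A (P ⧸ K)›)
  have hbot : (⊥ : Ideal A).map (algebraMap A P) ≤ K := by rw [Ideal.map_bot]; exact bot_le
  have hsK : Ideal.ofList ss ≤ K := Ideal.span_le.2 hssK
  have hle : K ≤ Ideal.ofList ss ⊔ maximalIdeal P • K := fun x hx => by
    have h0 : Ideal.Quotient.mk M x ∈ (Ideal.ofList ss).map (Ideal.Quotient.mk M) := by
      rw [Ideal.map_ofList, hss, hlK]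
      exact Ideal.mem_map_of_mem _ hx
    rw [Ideal.mem_map_iff_of_surjective _ Ideal.Quotient.mk_surjective] at h0
    obtain ⟨y, hy, hyx⟩ := h0
    have h1 := inf_le_of_flat (⊥ : Ideal A) K hbot ⟨sub_mem hx (hsK hy), Ideal.Quotient.eq.1 hyx.symm⟩
    rw [Ideal.map_bot, bot_sup_eq] at h1
    have h2 : x = y + (x - y) := by ring
    rw [h2]
    exact Submodule.add_mem_sup hy h1
  have hKeq : Ideal.ofList ss = K := le_antisymm hsK
    (Submodule.le_of_le_smul_of_le_jacobson_bot (IsNoetherian.noetherian K) (IsLocalRing.maximalIdeal_le_jacobson _) hle)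
  refine ⟨ss, DepthLib.isRegular_of_isWeaklyRegular (I := maximalIdeal P) ?_ (fun x hx => hKm (hssK x hx))
    (by rw [smul_eq_mul, Ideal.mul_top]; exact (maximalIdeal.isMaximal P).ne_top), hKeq⟩
  refine (RegFlat3.regular_flat_of_fibre (A := A) ss P ?_).1
  refine ((Submodule.quotEquivOfEq _ _ (by rw [smul_eq_mul, Ideal.mul_top])).isWeaklyRegular_congr ss).2 ?_
  rw [← CIReg6.isWeaklyRegular_quot_iff, hss]
  exact hl.toIsWeaklyRegular

/-- Regularity of kernels passes along a surjection of good algebras. -/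
theorem isRegularIdeal_ker_comp_iff [IsLocalHom (algebraMap A S)] {B : Type u} [CommRing B] [IsLocalRing B]
    [Algebra A B] (g : S →ₐ[A] B) (hg : Function.Surjective g) :
    CInt.IsRegularIdeal (RingHom.ker (g.toRingHom.comp π.toRingHom)) ↔ CInt.IsRegularIdeal (RingHom.ker g.toRingHom) := by
  let K := RingHom.ker π.toRingHom
  let L := RingHom.ker (g.toRingHom.comp π.toRingHom)
  have hK := isRegularIdeal_ker_of_regular_fibres π hπ
  have hKL : K ≤ L := fun x hx => by
    rw [RingHom.mem_ker, RingHom.comp_apply, RingHom.mem_ker.1 hx, map_zero]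
  have hLm : L ≤ maximalIdeal P := le_maximalIdeal (RingHom.ker_ne_top _)
  rw [isRegularIdeal_ker_comp_equiv π.toRingHom hπ g.toRingHom]
  refine ⟨fun hL => ?_, fun h => CIReg6.isRegularIdeal_of_quotient hKL hLm hK h⟩
  obtain ⟨rs, hrs, hrsL⟩ := hL
  letI : Algebra S B := g.toRingHom.toAlgebra
  haveI : IsScalarTower A S B := IsScalarTower.of_algebraMap_eq fun a => (g.commutes a).symm
  haveI : Module.Finite S B := Module.Finite.of_surjective (Algebra.linearMap S B) hg
  haveI : IsRegularLocalRing (EGA4.FibRing A S) :=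
    (inferInstance : IsRegularLocalRing (S ⧸ (maximalIdeal A).map (algebraMap A S)))
  have h1 := torDim_quotient_of_regular (A := A) rs 0 P hrs.toIsWeaklyRegular (PCMor4.td_of_flat 0)
  let gπ : P →ₐ[A] B := g.comp π
  have hgπ : Function.Surjective gπ := hg.comp hπ
  let e1 : (P ⧸ (Ideal.ofList rs • ⊤ : Submodule P P)) ≃ₗ[A] P ⧸ RingHom.ker gπ :=
    (Submodule.quotEquivOfEq _ _ (by rw [smul_eq_mul, Ideal.mul_top, hrsL]; rfl)).restrictScalars A
  let e2 : (P ⧸ RingHom.ker gπ) ≃ₐ[A] B := Ideal.quotientKerAlgEquivOfSurjective hgπ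
  have h2 := PCMor4.td_equiv (e1.trans e2.toLinearEquiv) h1
  obtain ⟨d, hd⟩ := finiteTorDim_of_regular_fibre (A := A) (B := S) B ((Set.finite_Iic (0 + rs.length)).subset
    fun p hp => by
      by_contra hc
      exact hp (h2 _ p (lt_of_not_ge hc)))
  let E := RingHom.quotientKerEquivOfSurjective (f := π.toRingHom) hπ
  letI : Algebra S (P ⧸ K) := E.symm.toRingHom.toAlgebra
  letI : Algebra (P ⧸ K) B := (g.toRingHom.comp E.toRingHom).toAlgebra
  haveI : IsScalarTower S (P ⧸ K) B := IsScalarTower.of_algebraMap_eq fun s => by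
    change g s = g (E (E.symm s))
    rw [RingEquiv.apply_symm_apply]
  have h3 := torDim_of_bijective (R := S) (S := P ⧸ K) E.symm.bijective d B hd
  letI : Algebra (P ⧸ K) (P ⧸ L) := (Ideal.Quotient.factor hKL).toAlgebra
  haveI : IsScalarTower P (P ⧸ K) (P ⧸ L) := IsScalarTower.of_algebraMap_eq fun _ => rfl
  let eB := RingHom.quotientKerEquivOfSurjective (f := g.toRingHom.comp π.toRingHom) hgπ
  have hlin : ∀ (s : P ⧸ K) (b : B), eB.symm (s • b) = s • eB.symm b := fun s b => by
    rw [Algebra.smul_def, Algebra.smul_def, map_mul]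
    obtain ⟨s, rfl⟩ := Ideal.Quotient.mk_surjective s
    exact congrArg (· * _) (eB.symm_apply_eq.2 rfl)
  let eL : B ≃ₗ[P ⧸ K] P ⧸ L := { eB.symm.toAddEquiv with map_smul' := hlin }
  obtain ⟨-, l, hl, hlr⟩ := Groth.Agent.S2200.result K L hKL (RingHom.ker_ne_top _)
    ⟨d, PCMor4.td_equiv eL h3⟩ ⟨rs, hrsL, hrs⟩
  exact ⟨l, hlr, hl⟩

end Groth.Agent.CI2

namespace Groth.Agent.CI2

theorem isNoetherian_of_surjective_algebraMap {D T : Type u} [CommRing D] [CommRing T] [Algebra D T]
    [IsNoetherianRing T] (h : Function.Surjective (algebraMap D T)) : IsNoetherian D T := by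
  refine ⟨fun N => ?_⟩
  let I : Ideal T :=
    { carrier := N
      add_mem' := fun ha hb => N.add_mem ha hb
      zero_mem' := N.zero_mem
      smul_mem' := fun c x hx => by
        obtain ⟨d, rfl⟩ := h c
        rw [algebraMap_smul]
        exact N.smul_mem d hx }
  have e : I.restrictScalars D = N := SetLike.ext fun _ => Iff.rfl
  rw [← e]
  exact (IsNoetherian.noetherian I).restrictScalars_of_surjective h

/-- A complete local algebra is a quotient of a flat one with regular fibre. -/
theorem exists_flat_regular_cover (A B : Type u) [CommRing A] [CommRing B] [IsNoetherianRing A] [IsNoetherianRing B]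
    [IsLocalRing A] [IsLocalRing B] [IsAdicComplete (maximalIdeal A) A] [IsAdicComplete (maximalIdeal B) B]
    [Algebra A B] [IsLocalHom (algebraMap A B)] :
    ∃ (P : Type u) (_ : CommRing P) (_ : IsNoetherianRing P) (_ : IsLocalRing P) (_ : Algebra A P)
      (_ : Module.Flat A P) (_ : IsLocalHom (algebraMap A P))
      (_ : IsRegularLocalRing (P ⧸ (maximalIdeal A).map (algebraMap A P)))
      (π : P →ₐ[A] B), Function.Surjective π := by
  obtain ⟨R, R', iR, iR', iRr, iRr', ρ, σ, τ, hρ, hσ, hc, hl, hf, hr⟩ :=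
    exists_regular_factorization A B (algebraMap A B)
  letI : Algebra R R' := τ.toAlgebra
  haveI : IsLocalHom (algebraMap R R') := hl
  haveI : Module.Flat R R' := hf
  haveI : IsRegularLocalRing (R' ⧸ (maximalIdeal R).map (algebraMap R R')) := hr
  let I := RingHom.ker ρ
  let J := RingHom.ker σ
  let IS := I.map (algebraMap R R')
  have hle : I ≤ J.comap τ := fun x hx => by
    have h := RingHom.congr_fun hc x
    rw [RingHom.comp_apply, RingHom.comp_apply, RingHom.mem_ker.1 hx, map_zero] at h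
    exact h
  have hIJ : IS ≤ J := Ideal.map_le_iff_le_comap.2 hle
  have hne : IS ≠ ⊤ := ne_top_of_le_ne_top (RingHom.ker_ne_top σ) hIJ
  haveI := RegLoc.isLocalRing_quotient hne
  haveI := RegLoc.isLocalRing_quotient (RingHom.ker_ne_top ρ)
  haveI : Module.Flat (R ⧸ I) (R' ⧸ IS) := Goren15.flat_quotient I
  let eA := RingHom.quotientKerEquivOfSurjective (f := ρ) hρ
  let ι : A →+* R' ⧸ IS := (algebraMap (R ⧸ I) (R' ⧸ IS)).comp eA.symm.toRingHom
  letI : Algebra A (R' ⧸ IS) := ι.toAlgebra
  haveI : Module.Flat A (R' ⧸ IS) := RingHom.flat_algebraMap_iff.1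
    (RingHom.Flat.comp (RingHom.Flat.of_bijective eA.symm.bijective) (RingHom.flat_algebraMap_iff.2 ‹_›))
  have hι : ∀ x : R, ι (ρ x) = Ideal.Quotient.mk IS (τ x) := fun x => by
    change algebraMap (R ⧸ I) (R' ⧸ IS) (eA.symm (eA (Ideal.Quotient.mk I x))) = _
    rw [RingEquiv.symm_apply_apply]
    rfl
  let g0 : R' ⧸ IS →+* B := Ideal.Quotient.lift IS σ hIJ
  let g : R' ⧸ IS →ₐ[A] B :=
    { g0 with
      commutes' := fun a => by
        obtain ⟨x, rfl⟩ := hρ a
        change g0 (ι (ρ x)) = algebraMap A B (ρ x)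
        rw [hι]
        exact RingHom.congr_fun hc x }
  have hg : Function.Surjective g := Ideal.Quotient.lift_surjective_of_surjective _ _ hσ
  haveI : IsLocalHom (algebraMap A (R' ⧸ IS)) := ⟨fun a ha => by
    refine (isUnit_map_iff (algebraMap A B) a).1 ?_
    rw [← g.commutes a]
    exact ha.map g⟩
  have hm : (maximalIdeal A).map (algebraMap A (R' ⧸ IS)) =
      ((maximalIdeal R).map (algebraMap R R')).map (Ideal.Quotient.mk IS) := by
    haveI : IsLocalHom ρ := hρ.isLocalHom
    rw [show maximalIdeal A = (maximalIdeal R).map ρ from (Ideal.map_comap_of_surjective ρ hρ (maximalIdeal A)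
      |>.symm.trans (congrArg _ (IsLocalRing.maximalIdeal_comap ρ))), Ideal.map_map, Ideal.map_map]
    exact congrArg (fun f => Ideal.map f (maximalIdeal R)) (RingHom.ext hι)
  haveI hreg : IsRegularLocalRing ((R' ⧸ IS) ⧸ (maximalIdeal A).map (algebraMap A (R' ⧸ IS))) :=
    IsRegularLocalRing.of_ringEquiv (((DoubleQuot.quotQuotEquivQuotOfLE (I := IS)
      (J := (maximalIdeal R).map (algebraMap R R'))
      (Ideal.map_mono (le_maximalIdeal (RingHom.ker_ne_top ρ)))).symm).trans (Ideal.quotEquivOfEq hm.symm))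
  exact ⟨R' ⧸ IS, inferInstance, inferInstance, inferInstance, inferInstance, inferInstance, inferInstance, hreg, g, hg⟩

variable {A S B : Type u} [CommRing A] [CommRing S] [CommRing B] [IsNoetherianRing A] [IsNoetherianRing S]
  [IsNoetherianRing B] [IsLocalRing A] [IsLocalRing S] [IsLocalRing B] [IsAdicComplete (maximalIdeal B) B]
  [Algebra A S] [Algebra A B] [IsLocalHom (algebraMap A S)]

/-- The map from the completion of a factorization. -/
theorem exists_cpl_factor [IsRegularLocalRing (S ⧸ (maximalIdeal A).map (algebraMap A S))] [Module.Flat A S]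
    (g : S →ₐ[A] B) (hg : Function.Surjective g) :
    ∃ gc : EGA4.Cpl S →ₐ[A] B, Function.Surjective gc ∧ (∀ x, gc (algebraMap S (EGA4.Cpl S) x) = g x) ∧
      IsLocalHom (algebraMap A (EGA4.Cpl S)) ∧ Module.Flat A (EGA4.Cpl S) ∧
      IsRegularLocalRing (EGA4.Cpl S ⧸ (maximalIdeal A).map (algebraMap A (EGA4.Cpl S))) ∧
      (CInt.IsRegularIdeal (RingHom.ker g.toRingHom) ↔ CInt.IsRegularIdeal (RingHom.ker gc.toRingHom)) := by
  haveI := CplLocH7.faithfullyFlat_cpl S
  letI : Algebra S B := g.toRingHom.toAlgebra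
  haveI : IsScalarTower A S B := IsScalarTower.of_algebraMap_eq fun a => (g.commutes a).symm
  have hs : Function.Surjective (algebraMap S B) := hg
  let aB : EGA4.Cpl B ≃ₐ[B] B := (AdicCompletion.ofAlgEquiv (maximalIdeal B)).symm
  let q := FlatDepth.cplQuotHom S B hs
  let f : EGA4.Cpl S →+* B := aB.toRingEquiv.toRingHom.comp q
  have hf : ∀ x, f (algebraMap S (EGA4.Cpl S) x) = g x := fun x => by
    change aB (q (algebraMap S (EGA4.Cpl S) x)) = g x
    rw [FlatDepth.cplQuotHom_algebraMap, IsScalarTower.algebraMap_apply S B (EGA4.Cpl B), AlgEquiv.commutes]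
    rfl
  let gc : EGA4.Cpl S →ₐ[A] B :=
    { f with
      commutes' := fun a => by
        change f (algebraMap A (EGA4.Cpl S) a) = algebraMap A B a
        rw [IsScalarTower.algebraMap_apply A S (EGA4.Cpl S), hf, AlgHom.commutes] }
  have hgc : Function.Surjective gc := aB.surjective.comp (FlatDepth.cplQuotHom_surjective S B hs)
  haveI : IsLocalHom (algebraMap S (EGA4.Cpl S)) := ⟨fun x hx => by
    by_contra hc
    exact (maximalIdeal.isMaximal _).ne_top (Ideal.eq_top_of_isUnit_mem _
      ((CplLocH7.maximalIdeal_cpl S).ge (Ideal.mem_map_of_mem _ hc)) hx)⟩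
  refine ⟨gc, hgc, hf, ?_, Module.Flat.trans A S (EGA4.Cpl S), ?_, ?_⟩
  · rw [IsScalarTower.algebraMap_eq A S (EGA4.Cpl S)]
    infer_instance
  · let F := S ⧸ (maximalIdeal A).map (algebraMap A S)
    haveI : IsRegularLocalRing (EGA4.Cpl F) := (Compl.isRegularLocalRing_adicCompletion_iff F).1 ‹_›
    have hker : RingHom.ker (FlatDepth.cplQuotHom S F Ideal.Quotient.mk_surjective) =
        (maximalIdeal A).map (algebraMap A (EGA4.Cpl S)) := by
      rw [FlatDepth.ker_cplQuotHom, Ideal.Quotient.algebraMap_eq, Ideal.mk_ker, Ideal.map_map,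
        ← IsScalarTower.algebraMap_eq]
    exact IsRegularLocalRing.of_ringEquiv ((RingHom.quotientKerEquivOfSurjective
      (FlatDepth.cplQuotHom_surjective S F Ideal.Quotient.mk_surjective)).symm.trans (Ideal.quotEquivOfEq hker))
  · have hker : RingHom.ker gc.toRingHom = (RingHom.ker g.toRingHom).map (algebraMap S (EGA4.Cpl S)) := by
      refine (RingHom.ker_comp_of_injective q aB.injective).trans ?_
      exact FlatDepth.ker_cplQuotHom S B hs
    rw [hker]
    exact ⟨isRegularIdeal_map, isRegularIdeal_descend⟩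

variable {S' : Type u} [CommRing S'] [IsNoetherianRing S'] [IsLocalRing S'] [Algebra A S']
  [IsLocalHom (algebraMap A S')] [IsLocalHom (algebraMap A B)] [IsAdicComplete (maximalIdeal A) A]
  [Module.Flat A S] [Module.Flat A S']
  [IsRegularLocalRing (S ⧸ (maximalIdeal A).map (algebraMap A S))]
  [IsRegularLocalRing (S' ⧸ (maximalIdeal A).map (algebraMap A S'))]

/-- Regularity of the kernel does not depend on the good factorization. -/
theorem isRegularIdeal_ker_indep (g : S →ₐ[A] B) (g' : S' →ₐ[A] B) (hg : Function.Surjective g)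
    (hg' : Function.Surjective g') :
    CInt.IsRegularIdeal (RingHom.ker g.toRingHom) ↔ CInt.IsRegularIdeal (RingHom.ker g'.toRingHom) := by
  obtain ⟨c, hc, hcg, hl, hflat, hreg, hiff⟩ := exists_cpl_factor g hg
  obtain ⟨c', hc', hcg', hl', hflat', hreg', hiff'⟩ := exists_cpl_factor g' hg'
  haveI := hl
  haveI := hflat
  haveI := hreg
  haveI := hl'
  haveI := hflat'
  haveI := hreg'
  let D : Subalgebra A (S × S') := AlgHom.equalizer (g.comp (AlgHom.fst A S S')) (g'.comp (AlgHom.snd A S S'))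
  let p1 : D →ₐ[A] S := (AlgHom.fst A S S').comp D.val
  let p2 : D →ₐ[A] S' := (AlgHom.snd A S S').comp D.val
  have hp1 : Function.Surjective p1 := fun a => by
    obtain ⟨b, hb⟩ := hg' (g a)
    exact ⟨⟨(a, b), hb.symm⟩, rfl⟩
  have hp2 : Function.Surjective p2 := fun b => by
    obtain ⟨a, ha⟩ := hg (g' b)
    exact ⟨⟨(a, b), ha⟩, rfl⟩
  haveI : IsLocalHom g.toRingHom := hg.isLocalHom
  haveI : IsLocalHom g'.toRingHom := hg'.isLocalHom
  have hunit : ∀ x : D, IsUnit (p1 x) → IsUnit x := fun x hx => by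
    have hx2 : IsUnit (p2 x) := by
      refine (isUnit_map_iff g'.toRingHom _).1 ?_
      rw [show g'.toRingHom (p2 x) = g.toRingHom (p1 x) from x.2.symm]
      exact hx.map _
    obtain ⟨a, ha⟩ := hx.exists_right_inv
    obtain ⟨b, hb⟩ := hx2.exists_right_inv
    have hab : g a = g' b := by
      refine (hx.map g).mul_left_cancel ?_
      rw [← map_mul, ha, map_one, show g (p1 x) = g' (p2 x) from x.2, ← map_mul, hb, map_one]
    exact IsUnit.of_mul_eq_one (⟨(a, b), hab⟩ : D) (Subtype.ext (Prod.ext ha hb))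
  haveI : Nontrivial D := p1.toRingHom.domain_nontrivial
  haveI : IsLocalRing D := IsLocalRing.of_isUnit_or_isUnit_one_sub_self fun x => by
    rcases IsLocalRing.isUnit_or_isUnit_one_sub_self (p1 x) with h | h
    · exact Or.inl (hunit x h)
    · exact Or.inr (hunit _ (by rwa [map_sub, map_one]))
  haveI : IsNoetherianRing D := by
    letI : Algebra D S := p1.toRingHom.toAlgebra
    letI : Algebra D S' := p2.toRingHom.toAlgebra
    haveI : IsNoetherian D S := isNoetherian_of_surjective_algebraMap hp1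
    haveI : IsNoetherian D S' := isNoetherian_of_surjective_algebraMap hp2
    letI : Module D (S × S') := Prod.instModule
    haveI : IsNoetherian D (S × S') := isNoetherian_prod
    let ι : D →ₗ[D] S × S' := (Algebra.linearMap D S).prod (Algebra.linearMap D S')
    exact isNoetherianRing_iff.2 (isNoetherian_of_injective ι fun x y h =>
      Subtype.ext (Prod.ext (congrArg Prod.fst h) (congrArg Prod.snd h)))
  haveI hDl : IsLocalHom (algebraMap A D) := ⟨fun a ha => by
    refine (isUnit_map_iff (algebraMap A S) a).1 ?_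
    rw [← p1.commutes a]
    exact ha.map p1⟩
  haveI := CplLocH7.faithfullyFlat_cpl D
  haveI : IsLocalHom (algebraMap D (EGA4.Cpl D)) := ⟨fun x hx => by
    by_contra hc
    exact (maximalIdeal.isMaximal _).ne_top (Ideal.eq_top_of_isUnit_mem _
      ((CplLocH7.maximalIdeal_cpl D).ge (Ideal.mem_map_of_mem _ hc)) hx)⟩
  haveI : IsLocalHom (algebraMap A (EGA4.Cpl D)) := by
    rw [IsScalarTower.algebraMap_eq A D (EGA4.Cpl D)]
    infer_instance
  obtain ⟨P, iP, iPn, iPl, iPa, iPf, iPh, iPr, π, hπ⟩ := exists_flat_regular_cover A (EGA4.Cpl D)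
  letI : Algebra D S := p1.toRingHom.toAlgebra
  letI : Algebra D S' := p2.toRingHom.toAlgebra
  haveI : IsScalarTower A D S := IsScalarTower.of_algebraMap_eq fun a => (p1.commutes a).symm
  haveI : IsScalarTower A D S' := IsScalarTower.of_algebraMap_eq fun a => (p2.commutes a).symm
  let q1 : EGA4.Cpl D →ₐ[A] EGA4.Cpl S :=
    { FlatDepth.cplQuotHom D S hp1 with
      commutes' := fun a => by
        change FlatDepth.cplQuotHom D S hp1 (algebraMap A (EGA4.Cpl D) a) = _
        rw [IsScalarTower.algebraMap_apply A D (EGA4.Cpl D), FlatDepth.cplQuotHom_algebraMap,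
          ← IsScalarTower.algebraMap_apply] }
  let q2 : EGA4.Cpl D →ₐ[A] EGA4.Cpl S' :=
    { FlatDepth.cplQuotHom D S' hp2 with
      commutes' := fun a => by
        change FlatDepth.cplQuotHom D S' hp2 (algebraMap A (EGA4.Cpl D) a) = _
        rw [IsScalarTower.algebraMap_apply A D (EGA4.Cpl D), FlatDepth.cplQuotHom_algebraMap,
          ← IsScalarTower.algebraMap_apply] }
  have h1 : Function.Surjective q1 := FlatDepth.cplQuotHom_surjective D S hp1
  have h2 : Function.Surjective q2 := FlatDepth.cplQuotHom_surjective D S' hp2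
  haveI : IsLocalHom (c.toRingHom.comp q1.toRingHom) :=
    (show Function.Surjective (c.toRingHom.comp q1.toRingHom) from hc.comp h1).isLocalHom
  haveI : IsLocalHom (c'.toRingHom.comp q2.toRingHom) :=
    (show Function.Surjective (c'.toRingHom.comp q2.toRingHom) from hc'.comp h2).isLocalHom
  have heq : c.toRingHom.comp q1.toRingHom = c'.toRingHom.comp q2.toRingHom := cpl_hom_ext _ _ fun x => by
    change c (FlatDepth.cplQuotHom D S hp1 (algebraMap D (EGA4.Cpl D) x)) =
      c' (FlatDepth.cplQuotHom D S' hp2 (algebraMap D (EGA4.Cpl D) x))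
    rw [FlatDepth.cplQuotHom_algebraMap, FlatDepth.cplQuotHom_algebraMap,
      IsScalarTower.algebraMap_apply D S (EGA4.Cpl S), IsScalarTower.algebraMap_apply D S' (EGA4.Cpl S'), hcg, hcg']
    exact x.2
  rw [hiff, hiff', ← isRegularIdeal_ker_comp_iff (q1.comp π) (h1.comp hπ) c hc,
    ← isRegularIdeal_ker_comp_iff (q2.comp π) (h2.comp hπ) c' hc']
  have e : c.toRingHom.comp (q1.comp π).toRingHom = c'.toRingHom.comp (q2.comp π).toRingHom :=
    congrArg (fun f => f.comp π.toRingHom) heq
  rw [e]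

end Groth.Agent.CI2
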